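import Cfsg.Agent.Lib.Aschbacher.SpanAlgebra

/-!
The algebra spanned by a normal subgroup of an irreducible group, with its centre: primitive central
idempotents, a central field, or a full matrix algebra.
-/

set_option autoImplicit false
set_option linter.unusedSectionVars false

namespace Cfsg.Agent.Aschbacher

open Matrix
open scoped MatrixGroups

variable {ι : Type} [Fintype ι] [DecidableEq ι] {F : Type*} [Field F]

/-- `z` is central in the algebra of `N`. -/
def IsCentralIn (N : Subgroup (GL ι F)) (z : Matrix ι ι F) : Prop :=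
  z ∈ algOf N ∧ ∀ a ∈ algOf N, a * z = z * a

/-- Primitive central idempotents. -/
structure CentralIdempotents (N : Subgroup (GL ι F)) {t : ℕ} (E : Fin t → Matrix ι ι F) : Prop where
  two_le : 2 ≤ t
  central : ∀ i, IsCentralIn N (E i)
  idem : ∀ i, E i * E i = E i
  orth : ∀ i j, i ≠ j → E i * E j = 0
  sum : ∑ i, E i = 1
  ne_zero : ∀ i, E i ≠ 0
  prim : ∀ z, IsCentralIn N z → z * z = z → ∀ i, z * E i = 0 ∨ z * E i = E i

/-- The three shapes of the algebra of `N`. -/
inductive AlgShape (N : Subgroup (GL ι F)) : Prop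
  | idempotents (t : ℕ) (E : Fin t → Matrix ι ι F) (hE : CentralIdempotents N E)
  | field (d : ℕ) (L : Subalgebra F (Matrix ι ι F)) (hd : 2 ≤ d) (hL : Geo.IsFieldSubalgebra d L)
      (hmem : ∀ z, z ∈ L ↔ IsCentralIn N z)
  | full (d : ℕ) (f : Matrix (Fin d) (Fin d) F →ₐ[F] Matrix ι ι F) (hd : 0 < d) (hf : Function.Injective f)
      (hrange : ∀ M, M ∈ spanMat N ↔ ∃ A, f A = M)

/-- A (semilinear) automorphism or anti-automorphism of the algebra permutes the primitive central
idempotents. -/
theorem CentralIdempotents.exists_image {N : Subgroup (GL ι F)} {t : ℕ} {E : Fin t → Matrix ι ι F}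
    (hE : CentralIdempotents N E) {τ τ' : Matrix ι ι F → Matrix ι ι F}
    (hτ : ∀ z, IsCentralIn N z → IsCentralIn N (τ z)) (hτ' : ∀ z, IsCentralIn N z → IsCentralIn N (τ' z))
    (hl : ∀ z, τ (τ' z) = z) (hr : ∀ z, τ' (τ z) = z) (h0 : τ 0 = 0)
    (hmul : ∀ a b, IsCentralIn N a → IsCentralIn N b → τ (a * b) = τ a * τ b) (i : Fin t) :
    ∃ j, τ (E i) = E j := by
  set z := τ (E i) with hz
  have hzc := hτ _ (hE.central i)
  have hzz : z * z = z := by rw [hz, ← hmul _ _ (hE.central i) (hE.central i), hE.idem]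
  obtain ⟨j, hj⟩ : ∃ j, z * E j ≠ 0 := by
    by_contra hcon
    push Not at hcon
    refine hE.ne_zero i ?_
    have h1 : z = 0 := by rw [← mul_one z, ← hE.sum, Finset.mul_sum]; simp [hcon]
    have h2 : E i = τ' z := by rw [hz, hr]
    rw [h2, h1]
    conv_lhs => rw [← h0]
    exact hr 0
  have hj' := (hE.prim z hzc hzz j).resolve_left hj
  refine ⟨j, ?_⟩
  set w := τ' (E j) with hw
  have hwc := hτ' _ (hE.central j)
  have hτw : τ w = E j := hl _
  have hinj : Function.Injective τ := Function.LeftInverse.injective hr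
  have hwi : w * E i = w := hinj (by rw [hmul _ _ hwc (hE.central i), hτw, ← hz, ← (hE.central j).2 z hzc.1, hj'])
  have hww : w * w = w := hinj (by rw [hmul _ _ hwc hwc, hτw, hE.idem])
  rcases hE.prim w hwc hww i with h1 | h1
  · refine absurd ?_ (hE.ne_zero j)
    rw [← hτw, show w = 0 from hwi.symm.trans h1, h0]
  · rw [hz, ← hτw, show w = E i from hwi.symm.trans h1]

theorem CentralIdempotents.injective {N : Subgroup (GL ι F)} {t : ℕ} {E : Fin t → Matrix ι ι F}
    (hE : CentralIdempotents N E) : Function.Injective E := fun i j hij => by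
  by_contra hne
  exact hE.ne_zero i (by rw [← hE.idem i]; exact (congrArg (E i * ·) hij).trans (hE.orth i j hne))

theorem isCentralIn_conj {H N : Subgroup (GL ι F)} (hn : NormalIn H N) {h : GL ι F} (hh : h ∈ H)
    {z : Matrix ι ι F} (hz : IsCentralIn N z) :
    IsCentralIn N ((h : Matrix ι ι F) * z * ((h⁻¹ : GL ι F) : Matrix ι ι F)) := by
  refine ⟨conj_mem_algOf hn hh hz.1, fun a ha => ?_⟩
  have h1 := conj_mem_algOf hn (H.inv_mem hh) ha
  rw [inv_inv] at h1
  have h2 := congrArg (fun M => (h : Matrix ι ι F) * M * ((h⁻¹ : GL ι F) : Matrix ι ι F)) (hz.2 _ h1)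
  simpa [mul_assoc] using h2

theorem CentralIdempotents.perm {H N : Subgroup (GL ι F)} (hn : NormalIn H N) {t : ℕ}
    {E : Fin t → Matrix ι ι F} (hE : CentralIdempotents N E) {h : GL ι F} (hh : h ∈ H) (i : Fin t) :
    ∃ j, (h : Matrix ι ι F) * E i * ((h⁻¹ : GL ι F) : Matrix ι ι F) = E j :=
  hE.exists_image (τ := fun z => (h : Matrix ι ι F) * z * ((h⁻¹ : GL ι F) : Matrix ι ι F))
    (τ' := fun z => ((h⁻¹ : GL ι F) : Matrix ι ι F) * z * (h : Matrix ι ι F))
    (fun _ hz => isCentralIn_conj hn hh hz)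
    (fun _ hz => by simpa using isCentralIn_conj hn (H.inv_mem hh) hz)
    (fun z => by simp [mul_assoc]) (fun z => by simp [mul_assoc]) (by simp)
    (fun a b _ _ => by simp [mul_assoc]) i

set_option maxHeartbeats 400000 in
theorem algOf_shape [Fintype F] [Nonempty ι] {H N : Subgroup (GL ι F)} (hH : Irr H)
    (hn : NormalIn H N) : AlgShape N := by
  classical
  have := isSemisimpleRing_algOf hH hn
  have : Nontrivial (algOf N) := ⟨⟨0, 1, fun h => zero_ne_one (congrArg Subtype.val h)⟩⟩
  obtain ⟨t, D, d, _, _, _, hd, ⟨E⟩⟩ := IsSemisimpleRing.exists_algEquiv_pi_matrix_divisionRing_finite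
    F (algOf N)
  have hcent : ∀ z : algOf N, (∀ a, a * z = z * a) → ∀ i, ∃ x : D i, E z i = Matrix.scalar _ x := by
    intro z hz i
    obtain ⟨x, hx⟩ := Matrix.mem_range_scalar_of_commute_single (M := E z i) fun a b _ => by
      have h1 := congrArg (fun w => E w i) (hz (E.symm (Pi.single i (Matrix.single a b 1))))
      show Matrix.single a b 1 * E z i = E z i * Matrix.single a b 1
      simpa using h1
    exact ⟨x, hx.symm⟩
  rcases t with _ | _ | t
  · exact absurd (E.injective (Subsingleton.elim (E 0) (E 1))) zero_ne_one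
  swap
  · let e : Fin (t + 2) → algOf N := fun i => E.symm (Pi.single i 1)
    have hcentral : ∀ i a, a * e i = e i * a := fun i a => by
      refine E.injective ?_
      rw [map_mul, map_mul, E.apply_symm_apply]
      funext k
      by_cases hk : k = i
      · subst hk; simp
      · simp [hk]
    refine .idempotents (t + 2) (fun i => (e i : Matrix ι ι F)) ⟨by omega,
      fun i => ⟨(e i).2, fun a ha => congrArg Subtype.val (hcentral i ⟨a, ha⟩)⟩, fun i => ?_, fun i j hij => ?_,
      ?_, fun i h => ?_, fun z hz hzz i => ?_⟩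
    · exact congrArg Subtype.val (show e i * e i = e i by rw [← map_mul, ← Pi.single_mul, one_mul])
    · refine congrArg Subtype.val (show e i * e j = 0 from ?_)
      rw [← map_mul, ← map_zero E.symm]
      congr 1
      funext k
      by_cases hk : k = i
      · subst hk; simp [hij]
      · simp [hk]
    · rw [← AddSubmonoidClass.coe_finsetSum, show ∑ i, e i = 1 from ?_, OneMemClass.coe_one]
      rw [← map_sum, ← map_one E.symm]
      congr 1
      exact Finset.univ_sum_single (1 : ∀ i, Matrix (Fin (d i)) (Fin (d i)) (D i))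
    · have h1 := congrFun (E.symm.injective ((show e i = 0 from Subtype.ext h).trans (map_zero E.symm).symm)) i
      simp at h1
    · obtain ⟨z', rfl⟩ : ∃ z' : algOf N, (z' : Matrix ι ι F) = z := ⟨⟨z, hz.1⟩, rfl⟩
      have hz' : ∀ a, a * z' = z' * a := fun a => Subtype.ext (hz.2 _ a.2)
      obtain ⟨x, hx⟩ := hcent z' hz' i
      have hxx : x * x = x := by
        have h1 := congrArg (fun w => E w i) (show z' * z' = z' from Subtype.ext hzz)
        simp only [map_mul, Pi.mul_apply, hx] at h1
        rw [← map_mul] at h1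
        exact Matrix.scalar_inj.1 h1
      have key : z' * e i = 0 ∨ z' * e i = e i := by
        rcases (IsIdempotentElem.iff_eq_zero_or_one.1 hxx : x = 0 ∨ x = 1) with rfl | rfl
        · refine Or.inl (E.injective ?_)
          rw [map_mul, E.apply_symm_apply, map_zero]
          funext k
          by_cases hk : k = i
          · subst hk; simp [hx]
          · simp [hk]
        · refine Or.inr (E.injective ?_)
          rw [map_mul, E.apply_symm_apply]
          funext k
          by_cases hk : k = i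
          · subst hk; simp [hx]
          · simp [hk]
      exact key.imp (fun h => congrArg Subtype.val h) (fun h => congrArg Subtype.val h)
  have : Finite (D 0) := Module.finite_of_finite F
  let _ : Field (D 0) := littleWedderburn (D 0)
  have : NeZero (d 0) := hd 0
  let proj : algOf N →ₐ[F] Matrix (Fin (d 0)) (Fin (d 0)) (D 0) :=
    (Pi.evalAlgHom F (fun i => Matrix (Fin (d i)) (Fin (d i)) (D i)) 0).comp E.toAlgHom
  have hproj : Function.Bijective proj := by
    refine ⟨fun a b hab => E.injective (funext fun i => ?_), fun M => ⟨E.symm (Pi.single 0 M), by simp [proj]⟩⟩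
    obtain rfl : i = 0 := Fin.fin_one_eq_zero i
    exact hab
  let Ψ := AlgEquiv.ofBijective proj hproj
  let sc : D 0 →ₐ[F] Matrix (Fin (d 0)) (Fin (d 0)) (D 0) :=
    (Algebra.ofId (D 0) (Matrix (Fin (d 0)) (Fin (d 0)) (D 0))).restrictScalars F
  let c : D 0 →ₐ[F] Matrix ι ι F := (algOf N).val.comp (Ψ.symm.toAlgHom.comp sc)
  have hc : Function.Injective c := fun x y h => by
    exact Matrix.scalar_inj.1 (Ψ.symm.injective (Subtype.ext h))
  by_cases hL : Module.finrank F (D 0) = 1
  · have hbij : Function.Bijective (algebraMap F (D 0)) := by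
      refine ⟨(algebraMap F (D 0)).injective, fun x => ?_⟩
      obtain ⟨a, ha⟩ := (finrank_eq_one_iff_of_nonzero' (1 : D 0) one_ne_zero).1 hL x
      exact ⟨a, by rw [Algebra.algebraMap_eq_smul_one, ha]⟩
    let mm : Matrix (Fin (d 0)) (Fin (d 0)) F →ₐ[F] Matrix (Fin (d 0)) (Fin (d 0)) (D 0) :=
      (Algebra.ofId F (D 0)).mapMatrix
    refine .full (d 0) ((algOf N).val.comp (Ψ.symm.toAlgHom.comp mm)) (Nat.pos_of_ne_zero (NeZero.ne _)) ?_
      fun M => ⟨fun h => ?_, ?_⟩
    · intro A B hAB
      exact Matrix.map_injective hbij.1 (Ψ.symm.injective (Subtype.ext hAB))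
    · refine ⟨(Ψ ⟨M, mem_algOf.2 h⟩).map (fun x => (Equiv.ofBijective _ hbij).symm x), ?_⟩
      show ((Ψ.symm (mm ((Ψ ⟨M, mem_algOf.2 h⟩).map fun x => (Equiv.ofBijective _ hbij).symm x)) :
        algOf N) : Matrix ι ι F) = M
      rw [show mm ((Ψ ⟨M, mem_algOf.2 h⟩).map fun x => (Equiv.ofBijective _ hbij).symm x) =
        Ψ ⟨M, mem_algOf.2 h⟩ from
          Matrix.ext fun a b => (Equiv.ofBijective _ hbij).apply_symm_apply _, Ψ.symm_apply_apply]
    · rintro ⟨A, rfl⟩
      exact mem_algOf.1 (Subtype.prop _)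
  · have hd2 : 2 ≤ Module.finrank F (D 0) := by
      have := Module.finrank_pos (R := F) (M := D 0)
      omega
    refine .field _ c.range hd2 ⟨?_, ?_, ?_⟩ fun z => ⟨?_, fun hz => ?_⟩
    · rintro _ ⟨x, rfl⟩ _ ⟨y, rfl⟩
      show c x * c y = c y * c x
      rw [← map_mul, ← map_mul, mul_comm]
    · rintro _ ⟨x, rfl⟩ hne
      have hx0 : x ≠ 0 := fun h => hne (by rw [h]; exact map_zero c)
      exact ⟨c x⁻¹, ⟨x⁻¹, rfl⟩, by
        show c x * c x⁻¹ = 1
        rw [← map_mul, mul_inv_cancel₀ hx0, map_one]⟩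
    · exact (AlgEquiv.ofInjective c hc).toLinearEquiv.finrank_eq.symm
    · rintro ⟨x, rfl⟩
      refine ⟨Subtype.prop _, fun a ha => congrArg Subtype.val
        (show (⟨a, ha⟩ : algOf N) * Ψ.symm (sc x) = Ψ.symm (sc x) * ⟨a, ha⟩ from Ψ.injective ?_)⟩
      rw [map_mul, map_mul, Ψ.apply_symm_apply]
      exact (Matrix.scalar_commute x (fun y => mul_comm _ _) _).eq.symm
    · obtain ⟨z', rfl⟩ : ∃ z' : algOf N, (z' : Matrix ι ι F) = z := ⟨⟨z, hz.1⟩, rfl⟩
      obtain ⟨x, hx⟩ := hcent z' (fun a => Subtype.ext (hz.2 _ a.2)) 0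
      refine ⟨x, congrArg Subtype.val (show Ψ.symm (sc x) = z' from Ψ.injective ?_)⟩
      rw [Ψ.apply_symm_apply]
      exact hx.symm

end Cfsg.Agent.Aschbacher
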