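import Mathlib
import Cfsg.Prelude.Def_GeometricClasses

/-!
Linear groups as subgroups of `GL ι F` acting on `ι → F`: invariant subspaces, translates, scalars,
absolute irreducibility, the normaliser conditions used for the geometric classes.
-/

set_option autoImplicit false

namespace Cfsg.Agent.Aschbacher

open Matrix
open scoped MatrixGroups

variable {ι : Type} [Fintype ι] [DecidableEq ι] {F : Type*} [Field F]

/-- `W` is mapped into itself by every element of `N`. -/
def Invariant (N : Subgroup (GL ι F)) (W : Submodule F (ι → F)) : Prop :=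
  ∀ x ∈ N, ∀ w ∈ W, (x : Matrix ι ι F) *ᵥ w ∈ W

/-- `N` is normalised by every element of `H`. -/
def NormalIn {G : Type*} [Group G] (H N : Subgroup G) : Prop :=
  ∀ h ∈ H, ∀ x ∈ N, h * x * h⁻¹ ∈ N

/-- `N` is abelian. -/
def Abelian {G : Type*} [Group G] (N : Subgroup G) : Prop :=
  ∀ x ∈ N, ∀ y ∈ N, x * y = y * x

/-- `N` acts irreducibly. -/
abbrev Irr (N : Subgroup (GL ι F)) : Prop := Geo.ActsIrreducibly (Geo.matrixSet N)

/-- `N` acts absolutely irreducibly. -/
abbrev AbsIrr (N : Subgroup (GL ι F)) : Prop := Geo.ActsAbsolutelyIrreducibly (Geo.matrixSet N)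

/-- The image of `W` under `g`. -/
def translate (g : GL ι F) (W : Submodule F (ι → F)) : Submodule F (ι → F) :=
  W.map (Matrix.toLin' (g : Matrix ι ι F))

theorem mulVec_inv (g : GL ι F) (v : ι → F) :
    (g : Matrix ι ι F) *ᵥ (((g⁻¹ : GL ι F) : Matrix ι ι F) *ᵥ v) = v := by
  rw [Matrix.mulVec_mulVec, ← Units.val_mul, mul_inv_cancel, Units.val_one, Matrix.one_mulVec]

theorem inv_mulVec (g : GL ι F) (v : ι → F) :
    ((g⁻¹ : GL ι F) : Matrix ι ι F) *ᵥ ((g : Matrix ι ι F) *ᵥ v) = v := by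
  rw [Matrix.mulVec_mulVec, ← Units.val_mul, inv_mul_cancel, Units.val_one, Matrix.one_mulVec]

theorem mulVec_injective (g : GL ι F) : Function.Injective ((g : Matrix ι ι F) *ᵥ ·) :=
  Function.LeftInverse.injective (g := (((g⁻¹ : GL ι F) : Matrix ι ι F) *ᵥ ·)) (inv_mulVec g)

theorem mulVec_mul (g h : GL ι F) (v : ι → F) :
    ((g * h : GL ι F) : Matrix ι ι F) *ᵥ v =
      (g : Matrix ι ι F) *ᵥ ((h : Matrix ι ι F) *ᵥ v) := by
  rw [Units.val_mul, Matrix.mulVec_mulVec]

theorem mulVec_eq_zero_iff (g : GL ι F) {v : ι → F} : (g : Matrix ι ι F) *ᵥ v = 0 ↔ v = 0 :=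
  ⟨fun h => mulVec_injective g (by simpa using h), fun h => by simp [h]⟩

theorem mem_translate {g : GL ι F} {W : Submodule F (ι → F)} {v : ι → F} :
    v ∈ translate g W ↔ ∃ w ∈ W, (g : Matrix ι ι F) *ᵥ w = v := by
  simp [translate, Submodule.mem_map]

theorem finrank_translate (g : GL ι F) (W : Submodule F (ι → F)) :
    Module.finrank F (translate g W) = Module.finrank F W := by
  refine (Submodule.equivMapOfInjective _ ?_ W).finrank_eq.symm
  intro u v h
  exact mulVec_injective g (by simpa using h)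

theorem Invariant.translate {H N : Subgroup (GL ι F)} (hn : NormalIn H N) {h : GL ι F} (hh : h ∈ H)
    {W : Submodule F (ι → F)} (hW : Invariant N W) : Invariant N (translate h W) := by
  intro x hx v hv
  obtain ⟨w, hw, rfl⟩ := mem_translate.1 hv
  refine mem_translate.2 ⟨_, hW _ (hn h⁻¹ (H.inv_mem hh) x hx) w hw, ?_⟩
  rw [← mulVec_mul, ← mulVec_mul]
  congr 2
  group

theorem Invariant.inf {N : Subgroup (GL ι F)} {U W : Submodule F (ι → F)} (hU : Invariant N U)
    (hW : Invariant N W) : Invariant N (U ⊓ W) :=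
  fun x hx v hv => ⟨hU x hx v hv.1, hW x hx v hv.2⟩

theorem Invariant.sup {N : Subgroup (GL ι F)} {U W : Submodule F (ι → F)} (hU : Invariant N U)
    (hW : Invariant N W) : Invariant N (U ⊔ W) := by
  intro x hx v hv
  obtain ⟨u, hu, w, hw, rfl⟩ := Submodule.mem_sup.1 hv
  rw [Matrix.mulVec_add]
  exact Submodule.add_mem_sup (hU x hx u hu) (hW x hx w hw)

theorem invariant_bot (N : Subgroup (GL ι F)) : Invariant N ⊥ :=
  fun x _ v hv => by rw [(Submodule.mem_bot F).1 hv, Matrix.mulVec_zero]; exact Submodule.zero_mem _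

theorem invariant_top (N : Subgroup (GL ι F)) : Invariant N ⊤ := fun _ _ _ _ => Submodule.mem_top

theorem irr_iff {N : Subgroup (GL ι F)} :
    Irr N ↔ ∀ W, Invariant N W → W = ⊥ ∨ W = ⊤ := by
  constructor
  · intro h W hW
    refine h W ?_
    rintro s ⟨x, hx, rfl⟩ v hv
    obtain ⟨w, hw, rfl⟩ := Submodule.mem_map.1 hv
    simpa using hW x hx w hw
  · intro h W hW
    refine h W fun x hx w hw => ?_
    have := hW _ ⟨x, hx, rfl⟩ (Submodule.mem_map_of_mem hw)
    simpa using this

/-- An element mapping `W` into itself stabilises it. -/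
theorem mem_subspaceStabilizer {g : GL ι F} {W : Submodule F (ι → F)}
    (h : ∀ w ∈ W, (g : Matrix ι ι F) *ᵥ w ∈ W) : g ∈ Geo.subspaceStabilizer W := by
  have hle : Aschbacher.translate g W ≤ W := by
    intro v hv
    obtain ⟨w, hw, rfl⟩ := mem_translate.1 hv
    exact h w hw
  have he : Aschbacher.translate g W = W :=
    Submodule.eq_of_le_of_finrank_eq hle (finrank_translate g W)
  intro v
  refine ⟨fun hv => h v hv, fun hv => ?_⟩
  have hv' : (g : Matrix ι ι F) *ᵥ v ∈ Aschbacher.translate g W := by rw [he]; exact hv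
  obtain ⟨w, hw, hwv⟩ := mem_translate.1 hv'
  rwa [mulVec_injective g hwv] at hw

theorem mem_scalars_of_smul_one {g : GL ι F} {c : F} (h : (g : Matrix ι ι F) = c • 1) :
    g ∈ Geo.scalars ι F := by
  rcases isEmpty_or_nonempty ι with hι | hι
  · rw [Units.ext (Subsingleton.elim (g : Matrix ι ι F) (1 : GL ι F))]
    exact one_mem _
  refine (Geo.mem_scalars_iff g).2 ⟨Units.mk0 c ?_, h⟩
  rintro rfl
  rw [zero_smul] at h
  exact g.ne_zero h

theorem scalar_comm {z : GL ι F} (hz : z ∈ Geo.scalars ι F) (g : GL ι F) : z * g = g * z := by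
  obtain ⟨c, hc⟩ := (Geo.mem_scalars_iff z).1 hz
  refine Units.ext ?_
  rw [Units.val_mul, Units.val_mul, hc, smul_mul_assoc, one_mul, mul_smul_comm, mul_one]

theorem abelian_of_le_scalars {N : Subgroup (GL ι F)} (h : N ≤ Geo.scalars ι F) : Abelian N :=
  fun x hx y _ => scalar_comm (h hx) y

/-- An element commuting with an absolutely irreducible group is a scalar. -/
theorem AbsIrr.scalar_of_comm {N : Subgroup (GL ι F)} (hN : AbsIrr N) {g : GL ι F}
    (h : ∀ x ∈ N, g * x = x * g) : g ∈ Geo.scalars ι F := by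
  obtain ⟨c, hc⟩ := hN.2 (g : Matrix ι ι F) (by
    rintro s ⟨x, hx, rfl⟩
    simpa using congrArg Units.val (h x hx))
  exact mem_scalars_of_smul_one hc

/-- An abelian absolutely irreducible group consists of scalars. -/
theorem AbsIrr.le_scalars_of_abelian {N : Subgroup (GL ι F)} (hN : AbsIrr N) (ha : Abelian N) :
    N ≤ Geo.scalars ι F :=
  fun x hx => hN.scalar_of_comm fun y hy => ha x hx y hy

theorem Irr.mono {N M : Subgroup (GL ι F)} (hN : Irr N) (h : N ≤ M) : Irr M :=
  irr_iff.2 fun W hW => irr_iff.1 hN W fun x hx => hW x (h hx)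

theorem AbsIrr.mono {N M : Subgroup (GL ι F)} (hN : AbsIrr N) (h : N ≤ M) : AbsIrr M :=
  ⟨Irr.mono hN.1 h, fun A hA => hN.2 A fun s ⟨x, hx, hs⟩ => hA s ⟨x, h hx, hs⟩⟩

/-- To lie in the normaliser of a subalgebra it is enough to map it into itself. -/
theorem mem_subalgebraNormalizer {K : Subalgebra F (Matrix ι ι F)} {g : GL ι F}
    (h : ∀ k ∈ K, (g : Matrix ι ι F) * k * ((g⁻¹ : GL ι F) : Matrix ι ι F) ∈ K) :
    g ∈ Geo.subalgebraNormalizer K := by
  let f : Matrix ι ι F →ₗ[F] Matrix ι ι F :=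
    (LinearMap.mulRight F ((g⁻¹ : GL ι F) : Matrix ι ι F)).comp (LinearMap.mulLeft F (g : Matrix ι ι F))
  have hf : Function.Injective f := by
    intro a b hab
    simp only [f, LinearMap.comp_apply, LinearMap.mulLeft_apply, LinearMap.mulRight_apply] at hab
    have := congrArg (fun m => ((g⁻¹ : GL ι F) : Matrix ι ι F) * m * (g : Matrix ι ι F)) hab
    simpa [← mul_assoc, ← Units.val_mul] using this
  have he : K.toSubmodule.map f = K.toSubmodule :=
    Submodule.eq_of_le_of_finrank_eq (by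
      intro m hm
      obtain ⟨k, hk, rfl⟩ := Submodule.mem_map.1 hm
      exact h k hk)
      (Submodule.equivMapOfInjective f hf K.toSubmodule).finrank_eq.symm
  intro k
  refine ⟨h k, fun hk => ?_⟩
  have hk' : f k ∈ K.toSubmodule.map f := by rw [he]; exact hk
  obtain ⟨k', hk'', heq⟩ := Submodule.mem_map.1 hk'
  rwa [hf heq] at hk''

end Cfsg.Agent.Aschbacher
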