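import Cfsg.Agent.Lib.Aschbacher.Transvection

/-!
Invariant sesquilinear forms and rational structures of absolutely irreducible groups are unique up to a
scalar, so the normaliser of such a group lies in the similarity group, resp. the subfield group.
-/

set_option autoImplicit false

namespace Cfsg.Agent.Aschbacher

open Matrix
open scoped MatrixGroups

variable {ι : Type} [Fintype ι] [DecidableEq ι] {F : Type*} [Field F]

/-- Linear in the first, `σ`-semilinear in the second argument. -/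
structure IsSesq (σ : F →+* F) (f : (ι → F) → (ι → F) → F) : Prop where
  add_left : ∀ x y v, f (x + y) v = f x v + f y v
  smul_left : ∀ (c : F) x v, f (c • x) v = c * f x v
  add_right : ∀ v x y, f v (x + y) = f v x + f v y
  smul_right : ∀ (c : F) v x, f v (c • x) = σ c * f v x

theorem IsSesq.of_bilinear {f : (ι → F) → (ι → F) → F} (h : Geo.IsBilinearForm f) :
    IsSesq (RingHom.id F) f :=
  ⟨h.add_left, h.smul_left, h.add_right, h.smul_right⟩

theorem IsSesq.of_unitary {σ : F ≃+* F} {f : (ι → F) → (ι → F) → F} (h : Geo.IsUnitaryForm σ f) :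
    IsSesq σ.toRingHom f where
  add_left := h.add_left
  smul_left := h.smul_left
  add_right v x y := by rw [h.herm, h.add_left, map_add, ← h.herm, ← h.herm]
  smul_right c v x := by rw [h.herm, h.smul_left, map_mul, ← h.herm]; rfl

theorem IsSesq.zero_right {σ : F →+* F} {f : (ι → F) → (ι → F) → F} (h : IsSesq σ f) (v : ι → F) :
    f v 0 = 0 := by
  simpa using h.smul_right 0 v 0

theorem IsSesq.zero_left {σ : F →+* F} {f : (ι → F) → (ι → F) → F} (h : IsSesq σ f) (v : ι → F) :
    f 0 v = 0 := by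
  simpa using h.smul_left 0 0 v

/-- `g` is `f` with `u` replaced by `A u`, for a unique matrix `A`. -/
theorem IsSesq.exists_matrix {σ : F →+* F} {f g : (ι → F) → (ι → F) → F} (hf : IsSesq σ f)
    (hnd : Geo.IsNondegenerateForm f) (hg : IsSesq σ g) :
    ∃ A : Matrix ι ι F, ∀ u v, g u v = f (A *ᵥ u) v := by
  let Φ : ∀ {k : (ι → F) → (ι → F) → F}, IsSesq σ k → ((ι → F) →ₗ[F] (ι → F)) := fun {k} hk =>
    { toFun := fun u i => k u (Pi.single i 1)
      map_add' := fun x y => funext fun i => hk.add_left _ _ _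
      map_smul' := fun c x => funext fun i => hk.smul_left _ _ _ }
  have hexp : ∀ {k : (ι → F) → (ι → F) → F}, IsSesq σ k →
      ∀ u v, k u v = ∑ i, σ (v i) * k u (Pi.single i 1) := by
    intro k hk u v
    let Lk : (ι → F) →+ F := { toFun := k u, map_zero' := hk.zero_right u, map_add' := hk.add_right u }
    conv_lhs => rw [pi_eq_sum_univ' v]
    change Lk _ = _
    rw [map_sum]
    exact Finset.sum_congr rfl fun i _ => hk.smul_right _ _ _
  have hinj : Function.Injective (Φ hf) := by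
    rw [injective_iff_map_eq_zero]
    intro u hu
    by_contra h0
    obtain ⟨x, hx⟩ := (hnd u h0).2
    refine hx ?_
    rw [hexp hf]
    exact Finset.sum_eq_zero fun i _ => by rw [show f u (Pi.single i 1) = 0 from congrFun hu i, mul_zero]
  let e := LinearEquiv.ofBijective (Φ hf) ⟨hinj, LinearMap.injective_iff_surjective.1 hinj⟩
  refine ⟨LinearMap.toMatrix' (e.symm.toLinearMap ∘ₗ Φ hg), fun u v => ?_⟩
  rw [LinearMap.toMatrix'_mulVec, LinearMap.comp_apply, LinearEquiv.coe_coe]
  generalize hu' : e.symm (Φ hg u) = u'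
  have : Φ hf u' = Φ hg u := by rw [← hu']; exact e.apply_symm_apply _
  rw [hexp hg, hexp hf]
  exact Finset.sum_congr rfl fun i _ => by
    rw [show f u' (Pi.single i 1) = g u (Pi.single i 1) from congrFun this i]

/-- Invariant forms of an absolutely irreducible group are proportional. -/
theorem AbsIrr.form_unique {N : Subgroup (GL ι F)} (hN : AbsIrr N) {σ : F →+* F}
    {f g : (ι → F) → (ι → F) → F} (hf : IsSesq σ f) (hnd : Geo.IsNondegenerateForm f)
    (hg : IsSesq σ g) (hfN : Geo.FixesForm (Geo.matrixSet N) f)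
    (hgN : Geo.FixesForm (Geo.matrixSet N) g) : ∃ c : F, ∀ u v, g u v = c * f u v := by
  obtain ⟨A, hA⟩ := hf.exists_matrix hnd hg
  obtain ⟨c, hc⟩ := hN.2 A (by
    rintro s ⟨x, hx, rfl⟩
    refine Matrix.ext_of_mulVec_single fun i => ?_
    simp only [← Matrix.mulVec_mulVec]
    generalize (Pi.single i (1 : F) : ι → F) = u
    by_contra hne
    obtain ⟨w, hw⟩ := (hnd _ (sub_ne_zero.2 hne)).2
    obtain ⟨v, rfl⟩ : ∃ v, (x : Matrix ι ι F) *ᵥ v = w := ⟨_, mulVec_inv x w⟩
    apply hw
    have h1 : f (A *ᵥ ((x : Matrix ι ι F) *ᵥ u)) ((x : Matrix ι ι F) *ᵥ v) =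
        f ((x : Matrix ι ι F) *ᵥ (A *ᵥ u)) ((x : Matrix ι ι F) *ᵥ v) := by
      rw [← hA, hgN _ ⟨x, hx, rfl⟩, hA, hfN _ ⟨x, hx, rfl⟩]
    rw [sub_eq_add_neg, ← neg_one_smul F ((x : Matrix ι ι F) *ᵥ (A *ᵥ u)), hf.add_left, hf.smul_left,
      h1]
    ring)
  exact ⟨c, fun u v => by rw [hA, hc, Matrix.smul_mulVec, Matrix.one_mulVec, hf.smul_left]⟩

/-- The normaliser of an absolutely irreducible group fixing a form consists of similarities. -/
theorem AbsIrr.le_similarityGroup [Nonempty ι] {N : Subgroup (GL ι F)} (hN : AbsIrr N) {σ : F →+* F}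
    {f : (ι → F) → (ι → F) → F} (hf : IsSesq σ f) (hnd : Geo.IsNondegenerateForm f)
    (hfN : Geo.FixesForm (Geo.matrixSet N) f) {H : Subgroup (GL ι F)} (hn : NormalIn H N) :
    H ≤ Geo.similarityGroup f := by
  intro h hh
  obtain ⟨c, hc⟩ := hN.form_unique hf hnd
    (g := fun u v => f ((h : Matrix ι ι F) *ᵥ u) ((h : Matrix ι ι F) *ᵥ v))
    ⟨fun x y v => by rw [Matrix.mulVec_add, hf.add_left],
      fun c x v => by rw [Matrix.mulVec_smul, hf.smul_left],
      fun v x y => by rw [Matrix.mulVec_add, hf.add_right],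
      fun c v x => by rw [Matrix.mulVec_smul, hf.smul_right]⟩ hfN (by
      rintro s ⟨x, hx, rfl⟩ u v
      have hcomm : ∀ w, (h : Matrix ι ι F) *ᵥ ((x : Matrix ι ι F) *ᵥ w) =
          ((h * x * h⁻¹ : GL ι F) : Matrix ι ι F) *ᵥ ((h : Matrix ι ι F) *ᵥ w) := by
        intro w
        rw [← mulVec_mul, ← mulVec_mul, inv_mul_cancel_right]
      show f _ _ = f _ _
      rw [hcomm, hcomm, hfN _ ⟨_, hn h hh x hx, rfl⟩])
  have hc0 : c ≠ 0 := by
    rintro rfl
    obtain ⟨i⟩ := ‹Nonempty ι›
    have hv0 : (Pi.single i 1 : ι → F) ≠ 0 := fun hv => by simpa using congrFun hv i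
    obtain ⟨x, hx⟩ := (hnd _ hv0).2
    apply hx
    have := hc (((h⁻¹ : GL ι F) : Matrix ι ι F) *ᵥ Pi.single i 1) (((h⁻¹ : GL ι F) : Matrix ι ι F) *ᵥ x)
    simpa only [mulVec_inv, zero_mul] using this
  exact ⟨Units.mk0 c hc0, hc⟩

theorem polar_self {Q : (ι → F) → F} (hQ : Geo.IsNondegenerateQuadraticForm Q) (v : ι → F) :
    QuadraticMap.polar Q v v = 2 * Q v := by
  rw [QuadraticMap.polar, ← two_smul F v, hQ.smul]
  ring

theorem two_ne_zero_of_odd [Fintype F] (h : Odd (Fintype.card F)) : (2 : F) ≠ 0 := by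
  intro h2
  have hdvd : addOrderOf (1 : F) ∣ Fintype.card F := by
    rw [← Nat.card_eq_fintype_card]; exact addOrderOf_dvd_natCard 1
  have h2' : addOrderOf (1 : F) ∣ 2 := addOrderOf_dvd_of_nsmul_eq_zero (by rw [nsmul_one, Nat.cast_ofNat, h2])
  rcases (Nat.dvd_prime Nat.prime_two).1 h2' with h1 | h1
  · exact one_ne_zero (AddMonoid.addOrderOf_eq_one_iff.1 h1)
  · rw [h1] at hdvd
    exact (Nat.not_even_iff_odd.2 h) (even_iff_two_dvd.2 hdvd)

theorem quadSimilarity_le_similarity {Q : (ι → F) → F} :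
    Geo.quadSimilarityGroup Q ≤ Geo.similarityGroup (QuadraticMap.polar Q) := by
  rintro g ⟨c, hc⟩
  refine ⟨c, fun u v => ?_⟩
  simp only [QuadraticMap.polar, ← Matrix.mulVec_add, hc]
  ring

theorem AbsIrr.le_quadSimilarityGroup [Fintype F] [Nonempty ι] (hodd : Odd (Fintype.card F))
    {N : Subgroup (GL ι F)} (hN : AbsIrr N) {Q : (ι → F) → F}
    (hQ : Geo.IsNondegenerateQuadraticForm Q) (hQN : Geo.FixesQuadForm (Geo.matrixSet N) Q)
    {H : Subgroup (GL ι F)} (hn : NormalIn H N) : H ≤ Geo.quadSimilarityGroup Q := by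
  intro h hh
  obtain ⟨c, hc⟩ := hN.le_similarityGroup (IsSesq.of_bilinear hQ.polar_bilinear) hQ.nondegenerate
    (fun s hs u v => by
      simp only [QuadraticMap.polar, ← Matrix.mulVec_add, hQN s hs]) hn hh
  refine ⟨c, fun v => mul_left_cancel₀ (two_ne_zero_of_odd hodd) ?_⟩
  rw [← polar_self hQ, hc, polar_self hQ]
  ring

theorem specialLinear_not_le_similarityGroup (hι : 3 ≤ Fintype.card ι) {σ : F →+* F}
    {f : (ι → F) → (ι → F) → F} (hf : IsSesq σ f) (hnd : Geo.IsNondegenerateForm f) :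
    ¬ Geo.specialLinear ι F ≤ Geo.similarityGroup f := by
  intro hle
  obtain ⟨i⟩ : Nonempty ι := Fintype.card_pos_iff.1 (by omega)
  let v : ι → F := Pi.single i 1
  have hv0 : v ≠ 0 := fun hv => by simpa [v] using congrFun hv i
  obtain ⟨z, hz⟩ := (hnd v hv0).1
  let φ : (ι → F) →ₗ[F] F :=
    { toFun := fun x => f x v, map_add' := fun x y => hf.add_left x y v
      map_smul' := fun c x => hf.smul_left c x v }
  let U : Submodule F (ι → F) := Submodule.span F {v, z}
  obtain ⟨w, hw, hwU⟩ : ∃ w ∈ LinearMap.ker φ, w ∉ U := by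
    by_contra hcon
    push Not at hcon
    have h2 : Module.finrank F U ≤ 2 := by
      classical
      refine (finrank_span_le_card (R := F) ({v, z} : Set (ι → F))).trans ?_
      simp only [Set.toFinset_insert, Set.toFinset_singleton]
      exact Finset.card_le_two
    have h3 := LinearMap.finrank_range_add_finrank_ker φ
    rw [Module.finrank_fintype_fun_eq_card] at h3
    have h4 : Module.finrank F (LinearMap.range φ) ≤ 1 :=
      (Submodule.finrank_le _).trans (by simp)
    have hlt : LinearMap.ker φ < U := lt_of_le_of_ne hcon fun he => hz <| by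
      have hzU : z ∈ LinearMap.ker φ := he ▸ Submodule.subset_span (by simp)
      exact hzU
    have := Submodule.finrank_lt_finrank_of_lt hlt
    omega
  obtain ⟨g, ψ, hg, hgu, hψU, hψw⟩ :=
    exists_transvection (U := U) (z := z) (Submodule.subset_span (by simp)) hwU
  obtain ⟨c, hc⟩ := hle hg
  have hgv : (g : Matrix ι ι F) *ᵥ v = v := by
    rw [hgu, hψU v (Submodule.subset_span (by simp)), zero_smul, add_zero]
  have h1 := hc w v
  have hwv : f w v = 0 := hw
  rw [hgu w, hψw, one_smul, hgv, hf.add_left, hwv, zero_add, mul_zero] at h1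
  exact hz h1

/-- The standard form in the coordinates of a basis. -/
noncomputable def basisForm (b : Module.Basis ι F (ι → F)) (σ : F →+* F) (u v : ι → F) : F :=
  ∑ i, b.repr u i * σ (b.repr v i)

theorem basisForm_isSesq (b : Module.Basis ι F (ι → F)) (σ : F →+* F) :
    IsSesq σ (basisForm b σ) where
  add_left x y v := by simp [basisForm, add_mul, Finset.sum_add_distrib]
  smul_left c x v := by simp [basisForm, mul_assoc, Finset.mul_sum]
  add_right v x y := by simp [basisForm, mul_add, Finset.sum_add_distrib]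
  smul_right c v x := by simp [basisForm, mul_left_comm, Finset.mul_sum]

theorem basisForm_single_right (b : Module.Basis ι F (ι → F)) (σ : F →+* F) (u : ι → F) (i : ι) :
    basisForm b σ u (b i) = b.repr u i := by
  simp only [basisForm, Module.Basis.repr_self]
  rw [Finset.sum_eq_single i] <;> simp +contextual [Finsupp.single_apply, eq_comm]

theorem basisForm_single_left (b : Module.Basis ι F (ι → F)) (σ : F →+* F) (u : ι → F) (i : ι) :
    basisForm b σ (b i) u = σ (b.repr u i) := by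
  simp only [basisForm, Module.Basis.repr_self]
  rw [Finset.sum_eq_single i] <;> simp +contextual [Finsupp.single_apply, eq_comm]

theorem basisForm_nondegenerate (b : Module.Basis ι F (ι → F)) (σ : F →+* F) :
    Geo.IsNondegenerateForm (basisForm b σ) := by
  intro v hv
  obtain ⟨i, hi⟩ : ∃ i, b.repr v i ≠ 0 := by
    by_contra hc
    push Not at hc
    exact hv (by rw [← b.sum_repr v]; simp [hc])
  exact ⟨⟨b i, by rwa [basisForm_single_left, ne_eq, map_eq_zero]⟩,
    ⟨b i, by rwa [basisForm_single_right]⟩⟩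

/-- Monomial matrices with `c * σ c = 1` preserve the standard form. -/
theorem basisForm_preserved (b : Module.Basis ι F (ι → F)) (σ : F →+* F) {g : GL ι F}
    {π : Equiv.Perm ι} {c : ι → F} (hg : ∀ i, (g : Matrix ι ι F) *ᵥ b i = c i • b (π i))
    (hc : ∀ i, c i * σ (c i) = 1) (u v : ι → F) :
    basisForm b σ ((g : Matrix ι ι F) *ᵥ u) ((g : Matrix ι ι F) *ᵥ v) = basisForm b σ u v := by
  have hr : ∀ w i, b.repr ((g : Matrix ι ι F) *ᵥ w) (π i) = c i * b.repr w i := by
    intro w i
    conv_lhs => rw [← b.sum_repr w, Matrix.mulVec_sum]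
    simp only [Matrix.mulVec_smul, hg, smul_smul, map_sum, map_smul, Module.Basis.repr_self,
      Finsupp.smul_single, smul_eq_mul, mul_one, Finsupp.finsetSum_apply]
    rw [Finset.sum_eq_single i] <;> simp +contextual [Finsupp.single_apply, mul_comm]
  unfold basisForm
  rw [← Equiv.sum_comp π]
  refine Finset.sum_congr rfl fun i _ => ?_
  rw [hr, hr, map_mul, mul_mul_mul_comm, hc, one_mul]

theorem basisForm_isUnitary (b : Module.Basis ι F (ι → F)) (σ : F ≃+* F)
    (hne : σ ≠ RingEquiv.refl F) (hinv : ∀ a, σ (σ a) = a) :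
    Geo.IsUnitaryForm σ (basisForm b σ.toRingHom) where
  ne_refl := hne
  involutive := hinv
  add_left := (basisForm_isSesq b _).add_left
  smul_left := (basisForm_isSesq b _).smul_left
  herm v w := by
    simp only [basisForm, map_sum, map_mul, RingEquiv.toRingHom_eq_coe, RingHom.coe_coe]
    exact Finset.sum_congr rfl fun i _ => by rw [hinv, mul_comm]
  nondegenerate := basisForm_nondegenerate b _

theorem basisQuad_spec (b : Module.Basis ι F (ι → F)) (h2 : (2 : F) ≠ 0) :
    Geo.IsNondegenerateQuadraticForm (fun v => basisForm b (RingHom.id F) v v) := by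
  have hs := basisForm_isSesq b (RingHom.id F)
  have hsymm : ∀ u v, basisForm b (RingHom.id F) v u = basisForm b (RingHom.id F) u v :=
    fun u v => Finset.sum_congr rfl fun i _ => mul_comm _ _
  have hp : ∀ u v, QuadraticMap.polar (fun v => basisForm b (RingHom.id F) v v) u v =
      2 * basisForm b (RingHom.id F) u v := by
    intro u v
    simp only [QuadraticMap.polar, hs.add_left, hs.add_right, hsymm u v]
    ring
  refine ⟨fun c v => ?_, ⟨fun x y v => ?_, fun c x v => ?_, fun v x y => ?_, fun c v x => ?_⟩, ?_⟩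
  · simp only [hs.smul_left, hs.smul_right, RingHom.id_apply]; ring
  · simp only [hp, hs.add_left, mul_add]
  · simp only [hp, hs.smul_left]; ring
  · simp only [hp, hs.add_right, mul_add]
  · simp only [hp, hs.smul_right, RingHom.id_apply]; ring
  · intro v hv
    obtain ⟨⟨x, hx⟩, y, hy⟩ := basisForm_nondegenerate b (RingHom.id F) v hv
    exact ⟨⟨x, by rw [hp]; exact mul_ne_zero h2 hx⟩, ⟨y, by rw [hp]; exact mul_ne_zero h2 hy⟩⟩

/-! ### Rational structures -/

theorem mem_subfield_of_pow_eq [Fintype F] {F₀ : Subfield F} {x : F}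
    (hx : x ^ Nat.card F₀ = x) : x ∈ F₀ := by
  classical
  by_contra hmem
  haveI : Fintype F₀ := Fintype.ofFinite _
  set q₀ := Fintype.card F₀
  have hq : 1 < q₀ := Fintype.one_lt_card
  let p : Polynomial F := Polynomial.X ^ q₀ - Polynomial.X
  have hpdeg : p.natDegree = q₀ := FiniteField.X_pow_card_sub_X_natDegree_eq F hq
  have hp0 : p ≠ 0 := FiniteField.X_pow_card_sub_X_ne_zero F hq
  let S : Finset F := insert x ((Finset.univ : Finset F₀).image Subtype.val)
  have hS : ∀ y ∈ S, p.eval y = 0 := by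
    intro y hy
    have : y ^ q₀ = y := by
      rcases Finset.mem_insert.1 hy with rfl | hy
      · simpa [q₀, Nat.card_eq_fintype_card] using hx
      · obtain ⟨a, -, rfl⟩ := Finset.mem_image.1 hy
        exact_mod_cast congrArg Subtype.val (FiniteField.pow_card a)
    simp [p, this]
  have hcard : q₀ < S.card := by
    rw [Finset.card_insert_of_notMem (by simpa using fun h : x ∈ F₀ => hmem h),
      Finset.card_image_of_injective _ Subtype.val_injective, Finset.card_univ]
    omega
  exact hp0 (Polynomial.eq_zero_of_natDegree_lt_card_of_eval_eq_zero' p S hS (hpdeg ▸ hcard))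

/-- The normaliser of an absolutely irreducible group realised over `F₀` lies in the subfield group. -/
theorem AbsIrr.le_subfieldSubgroup [Fintype F] [Nonempty ι] {N : Subgroup (GL ι F)} (hN : AbsIrr N)
    {F₀ : Subfield F} {B : GL ι F}
    (hB : ∀ s ∈ Geo.matrixSet N, ∀ i j,
      ((B : Matrix ι ι F) * s * ((B⁻¹ : GL ι F) : Matrix ι ι F)) i j ∈ F₀)
    {H : Subgroup (GL ι F)} (hn : NormalIn H N) : H ≤ Geo.subfieldSubgroup F₀ B⁻¹ := by
  classical
  intro h hh
  haveI : Fintype F₀ := Fintype.ofFinite _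
  let φ : F →ₐ[F₀] F := FiniteField.frobeniusAlgHom F₀ F
  have hφ : ∀ {y : F}, y ∈ F₀ → φ y = y := fun {y} hy => φ.commutes ⟨y, hy⟩
  have hφfix : ∀ {y : F}, φ y = y → y ∈ F₀ := fun {y} hy => mem_subfield_of_pow_eq (by
    simpa [φ, Nat.card_eq_fintype_card] using hy)
  let Φ : GL ι F →* GL ι F := Matrix.GeneralLinearGroup.map φ.toRingHom
  have hΦfix : ∀ x ∈ N, Φ (B * x * B⁻¹) = B * x * B⁻¹ := by
    intro x hx
    refine Units.ext (Matrix.ext fun i j => ?_)
    show φ _ = _
    refine hφ ?_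
    simpa using hB _ ⟨x, hx, rfl⟩ i j
  set h' := B * h * B⁻¹ with hh'
  have hcomm : ∀ x ∈ N, B⁻¹ * (h'⁻¹ * Φ h') * B * x = x * (B⁻¹ * (h'⁻¹ * Φ h') * B) := by
    intro x hx
    have h1 := hΦfix _ (hn h hh x hx)
    rw [show B * (h * x * h⁻¹) * B⁻¹ = h' * (B * x * B⁻¹) * h'⁻¹ by simp [h', mul_assoc], map_mul,
      map_mul, map_inv, hΦfix x hx] at h1
    have h2 : h'⁻¹ * Φ h' * (B * x * B⁻¹) = B * x * B⁻¹ * (h'⁻¹ * Φ h') := by
      rw [mul_inv_eq_iff_eq_mul] at h1
      rw [mul_assoc h'⁻¹, h1]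
      simp only [mul_assoc, inv_mul_cancel_left]
    calc B⁻¹ * (h'⁻¹ * Φ h') * B * x = B⁻¹ * (h'⁻¹ * Φ h' * (B * x * B⁻¹)) * B := by
          simp [mul_assoc]
      _ = B⁻¹ * (B * x * B⁻¹ * (h'⁻¹ * Φ h')) * B := by rw [h2]
      _ = x * (B⁻¹ * (h'⁻¹ * Φ h') * B) := by simp [mul_assoc]
  have hsc' : h'⁻¹ * Φ h' ∈ Geo.scalars ι F := by
    simpa [mul_assoc] using Geo.scalars_normal.conj_mem _ (hN.scalar_of_comm hcomm) B
  obtain ⟨l, hl⟩ := (Geo.mem_scalars_iff _).1 hsc'
  have hl' : ∀ i j, φ ((h' : Matrix ι ι F) i j) = (l : F) * (h' : Matrix ι ι F) i j := by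
    intro i j
    have h1 : (Φ h' : Matrix ι ι F) = (l : F) • (h' : Matrix ι ι F) := by
      conv_lhs => rw [← mul_inv_cancel_left h' (Φ h'), Units.val_mul, hl, mul_smul_comm, mul_one]
    exact congrFun (congrFun h1 i) j
  obtain ⟨i₀, j₀, hne⟩ : ∃ i j, (h' : Matrix ι ι F) i j ≠ 0 := by
    by_contra hc
    push Not at hc
    exact h'.ne_zero (Matrix.ext hc)
  set a := (h' : Matrix ι ι F) i₀ j₀
  have hmem : ∀ i j, (h' : Matrix ι ι F) i j / a ∈ F₀ := fun i j => hφfix (by
    rw [map_div₀, hl', hl', mul_div_mul_left _ _ l.ne_zero])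
  let M : Matrix ι ι F₀ := fun i j => ⟨_, hmem i j⟩
  have hM : M.map F₀.subtype = a⁻¹ • (h' : Matrix ι ι F) := by
    ext i j
    show (h' : Matrix ι ι F) i j / a = _
    rw [Matrix.smul_apply, smul_eq_mul, div_eq_inv_mul]
  have hMdet : M.det ≠ 0 := by
    intro h0
    have h1 := congrArg F₀.subtype h0
    rw [map_zero, RingHom.map_det] at h1
    change (M.map F₀.subtype).det = 0 at h1
    rw [hM, Matrix.det_smul] at h1
    exact mul_ne_zero (pow_ne_zero _ (inv_ne_zero hne)) (Matrix.GeneralLinearGroup.det h').ne_zero h1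
  let g₀ : GL ι F₀ := Matrix.GeneralLinearGroup.mkOfDetNeZero M hMdet
  let z : GL ι F := Units.map (Matrix.scalar ι : F →+* Matrix ι ι F).toMonoidHom (Units.mk0 a hne)
  have hgz : Matrix.GeneralLinearGroup.map F₀.subtype g₀ * z = h' := by
    refine Units.ext ?_
    rw [Units.val_mul]
    show M.map F₀.subtype * Matrix.scalar ι a = _
    rw [hM, Matrix.scalar_apply, ← Matrix.smul_one_eq_diagonal, Matrix.mul_smul, mul_one, smul_smul,
      mul_inv_cancel₀ hne, one_smul]
  refine ⟨h', ?_, by simp [h', mul_assoc]⟩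
  rw [← hgz]
  exact Subgroup.mul_mem _ (Subgroup.mem_sup_left ⟨g₀, rfl⟩) (Subgroup.mem_sup_right ⟨_, rfl⟩)

/-- Every proper subfield of a finite field lies in one of prime index. -/
theorem exists_prime_index [Fintype F] {F₁ : Subfield F} (h : F₁ ≠ ⊤) :
    ∃ (F₀ : Subfield F) (r : ℕ), F₁ ≤ F₀ ∧ r.Prime ∧ Fintype.card F = Nat.card F₀ ^ r := by
  classical
  haveI : Fintype F₁ := Fintype.ofFinite _
  haveI : IsGalois F₁ F := inferInstance
  have hd : Module.finrank F₁ F ≠ 1 := by
    intro h1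
    apply h
    refine eq_top_iff.2 fun x _ => ?_
    obtain ⟨c, hc⟩ := (finrank_eq_one_iff_of_nonzero' (1 : F) one_ne_zero).1 h1 x
    rw [← hc]
    show (c : F) * 1 ∈ F₁
    rw [mul_one]; exact c.2
  obtain ⟨r, hr, hrd⟩ := Nat.exists_prime_and_dvd hd
  haveI : Fact r.Prime := ⟨hr⟩
  obtain ⟨s, hs⟩ := exists_prime_orderOf_dvd_card' (G := F ≃ₐ[F₁] F) r
    (by rw [IsGalois.card_aut_eq_finrank]; exact hrd)
  let K : IntermediateField F₁ F := IntermediateField.fixedField (Subgroup.zpowers s)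
  haveI : Fintype K := Fintype.ofFinite _
  refine ⟨K.toSubfield, r, fun x hx => K.algebraMap_mem ⟨x, hx⟩, hr, ?_⟩
  rw [Module.card_eq_pow_finrank (K := K) (V := F), IntermediateField.finrank_fixedField_eq_card,
    Nat.card_zpowers, hs, ← Nat.card_eq_fintype_card]
  rfl

/-- A basis in which all entries lie in `F₀` gives a realisation over `F₀`. -/
theorem realisableOver_of_basis {F₀ : Subfield F} (b : Module.Basis ι F (ι → F)) {N : Subgroup (GL ι F)}
    (h : ∀ x ∈ N, ∀ i j, b.repr ((x : Matrix ι ι F) *ᵥ b j) i ∈ F₀) :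
    Geo.RealisableOver F₀ (Geo.matrixSet N) := by
  let T : Matrix ι ι F := LinearMap.toMatrix' b.equivFun.toLinearMap
  let T' : Matrix ι ι F := LinearMap.toMatrix' b.equivFun.symm.toLinearMap
  refine ⟨⟨T, T', by simp [T, T', ← LinearMap.toMatrix'_comp],
    by simp [T, T', ← LinearMap.toMatrix'_comp]⟩, ?_⟩
  rintro s ⟨x, hx, rfl⟩ i j
  show (T * (x : Matrix ι ι F) * T') i j ∈ F₀
  rw [show (T * (x : Matrix ι ι F) * T') i j =
      ((T * (x : Matrix ι ι F) * T') *ᵥ Pi.single j 1) i by simp]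
  have h1 : T' *ᵥ Pi.single j 1 = b j := by
    simp only [T', LinearMap.toMatrix'_mulVec, LinearEquiv.coe_coe, Module.Basis.equivFun_symm_apply]
    simp [Pi.single_apply]
  rw [← Matrix.mulVec_mulVec, h1, ← Matrix.mulVec_mulVec, LinearMap.toMatrix'_mulVec,
    LinearEquiv.coe_coe, Module.Basis.equivFun_apply]
  exact h x hx i j

end Cfsg.Agent.Aschbacher
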