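import Cfsg.Agent.Lib.Aschbacher.Forms

/-!
In odd dimension there is no non-degenerate alternating form.
-/

set_option autoImplicit false

namespace Cfsg.Agent.Aschbacher

open Matrix
open scoped MatrixGroups

variable {ι : Type} [Fintype ι] [DecidableEq ι]

/-- An alternating matrix of odd size has determinant zero, in every characteristic. -/
theorem det_alternating_eq_zero {R : Type*} [CommRing R] (G : Matrix ι ι R)
    (h0 : ∀ i, G i i = 0) (hskew : ∀ i j, G j i = - G i j) (hodd : Odd (Fintype.card ι)) :
    G.det = 0 := by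
  classical
  rw [Matrix.det_apply]
  refine Finset.sum_involution (fun (σ : Equiv.Perm ι) _ => σ⁻¹) ?_ ?_ (fun _ _ => Finset.mem_univ _)
    (fun σ _ => inv_inv σ)
  · intro σ _
    have : ∏ i, G (σ⁻¹ i) i = -∏ i, G (σ i) i := by
      rw [← Equiv.prod_comp σ (fun i => G (σ⁻¹ i) i)]
      simp only [Equiv.Perm.inv_def, Equiv.symm_apply_apply]
      rw [Finset.prod_congr rfl fun i _ => hskew (σ i) i, Finset.prod_neg, Finset.card_univ,
        hodd.neg_one_pow, neg_one_mul]
    rw [this, Equiv.Perm.sign_inv, smul_neg, add_neg_cancel]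
  · intro σ _ hne heq
    have h2 : σ ^ 2 ^ 1 = 1 := by
      rw [pow_one, pow_two]
      conv_lhs => arg 1; rw [← heq]
      exact inv_mul_cancel σ
    obtain ⟨a, ha⟩ := Equiv.Perm.exists_fixed_point_of_prime (p := 2) (n := 1)
      (fun h => (Nat.not_even_iff_odd.2 hodd) (even_iff_two_dvd.2 h)) h2
    exact hne (by rw [Finset.prod_eq_zero (Finset.mem_univ a) (by rw [ha]; exact h0 a), smul_zero])

variable {F : Type*} [Field F]

theorem det_gram_ne_zero {σ : F →+* F} {f : (ι → F) → (ι → F) → F} (hf : IsSesq σ f)
    (hnd : Geo.IsNondegenerateForm f) : (Geo.gramMatrix f).det ≠ 0 := by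
  intro h
  obtain ⟨v, hv0, hv⟩ := Matrix.exists_vecMul_eq_zero_iff.2 h
  obtain ⟨x, hx⟩ := (hnd v hv0).2
  apply hx
  have hvj : ∀ j, f v (Pi.single j 1) = 0 := by
    intro j
    let φ : (ι → F) →ₗ[F] F :=
      { toFun := fun u => f u (Pi.single j 1), map_add' := fun a b => hf.add_left a b _
        map_smul' := fun c a => hf.smul_left c a _ }
    have h1 := congrFun hv j
    change φ v = 0
    rw [pi_eq_sum_univ' v, map_sum]
    simp only [map_smul, smul_eq_mul]
    exact h1
  let ψ : (ι → F) →+ F :=
    { toFun := f v, map_zero' := hf.zero_right v, map_add' := hf.add_right v }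
  change ψ x = 0
  rw [pi_eq_sum_univ' x, map_sum]
  exact Finset.sum_eq_zero fun i _ => by
    change f v (x i • Pi.single i 1) = 0
    rw [hf.smul_right, hvj, mul_zero]

theorem no_alternating_form (hodd : Odd (Fintype.card ι)) {f : (ι → F) → (ι → F) → F}
    (hb : Geo.IsBilinearForm f) (halt : ∀ v, f v v = 0) (hnd : Geo.IsNondegenerateForm f) : False := by
  refine det_gram_ne_zero (IsSesq.of_bilinear hb) hnd
    (det_alternating_eq_zero _ (fun i => halt _) (fun i j => ?_) hodd)
  have h := halt (Pi.single i (1 : F) + Pi.single j 1)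
  rw [hb.add_left, hb.add_right, hb.add_right, halt, halt] at h
  show f (Pi.single j 1) (Pi.single i 1) = - f (Pi.single i 1) (Pi.single j 1)
  linear_combination h

theorem no_symplectic (hodd : Odd (Fintype.card ι)) {f : (ι → F) → (ι → F) → F}
    (hf : Geo.IsSymplecticForm f) : False :=
  no_alternating_form hodd hf.bilinear hf.alternating hf.nondegenerate

/-- In odd dimension and even characteristic there is no quadratic form with non-degenerate polar. -/
theorem odd_card_of_quadratic [Fintype F] (hodd : Odd (Fintype.card ι)) {Q : (ι → F) → F}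
    (hQ : Geo.IsNondegenerateQuadraticForm Q) : Odd (Fintype.card F) := by
  by_contra hev
  have h2 : (2 : F) = 0 := by
    haveI : CharP F 2 := ringChar.of_eq (FiniteField.even_card_iff_char_two.2
      (Nat.even_iff.1 (Nat.not_odd_iff_even.1 hev)))
    exact CharTwo.two_eq_zero
  exact no_alternating_form hodd hQ.polar_bilinear
    (fun v => by rw [polar_self hQ, h2, zero_mul]) hQ.nondegenerate

end Cfsg.Agent.Aschbacher
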