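import Cfsg.Agent.Lib.Aschbacher.Structure
import Cfsg.Agent.Lib.Aschbacher.Forms
import Cfsg.Agent.Lib.Aschbacher.OddDim

/-!
Frames as decompositions, Frobenius powers, and the number theory of symplectic type groups.
-/

set_option autoImplicit false

namespace Cfsg.Agent.Aschbacher

open Matrix
open scoped MatrixGroups

variable {F : Type*} [Field F]

theorem eq_inf_of_maximal {G : Type*} [Group G] {K H M : Subgroup G} (hH : Geo.IsMaximalIn K H)
    (hle : H ≤ M) (hK : ¬ K ≤ M) : H = M ⊓ K := by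
  rcases hH.2 (M ⊓ K) (le_inf hle hH.1.le) inf_le_right with h | h
  · exact h.symm
  · exact absurd (h.ge.trans inf_le_left) hK

section Frame

variable {n : ℕ}

/-- The lines of a basis. -/
def lines (b : Module.Basis (Fin n) F (Fin n → F)) : Fin n → Submodule F (Fin n → F) :=
  fun i => Submodule.span F {b i}

theorem lines_isMDecomposition (hn : 2 ≤ n) (b : Module.Basis (Fin n) F (Fin n → F)) :
    Geo.IsMDecomposition 1 (lines b) where
  two_le := hn
  pos := one_pos
  finrank_eq i := finrank_span_singleton (b.ne_zero i)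
  indep := b.linearIndependent.iSupIndep_span_singleton
  iSup_eq_top := by
    rw [← b.span_eq, Submodule.span_range_eq_iSup]
    rfl

theorem frame_coeff_ne_zero {ι : Type} [Fintype ι] [DecidableEq ι] (b : Module.Basis ι F (ι → F))
    {g : GL ι F} {i j : ι} {c : F} (h : (g : Matrix ι ι F) *ᵥ b i = c • b j) : c ≠ 0 := by
  rintro rfl
  rw [zero_smul] at h
  exact b.ne_zero i ((mulVec_eq_zero_iff g).1 h)

theorem mem_decompositionStabilizer_lines (b : Module.Basis (Fin n) F (Fin n → F)) {g : GL (Fin n) F}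
    (h : ∃ σ : Equiv.Perm (Fin n), ∀ i, ∃ c : F, (g : Matrix (Fin n) (Fin n) F) *ᵥ b i = c • b (σ i)) :
    g ∈ Geo.decompositionStabilizer (lines b) := by
  obtain ⟨σ, hσ⟩ := h
  refine ⟨σ, fun i => ?_⟩
  obtain ⟨c, hc⟩ := hσ i
  simp only [lines]
  rw [Submodule.map_span, Set.image_singleton, Matrix.toLin'_apply, hc,
    Submodule.span_singleton_smul_eq (frame_coeff_ne_zero b hc).isUnit]

theorem not_le_decompositionStabilizer_lines (hn : 2 ≤ n) (b : Module.Basis (Fin n) F (Fin n → F)) :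
    ¬ Geo.specialLinear (Fin n) F ≤ Geo.decompositionStabilizer (lines b) := by
  intro hle
  refine specialLinear_not_le_frameStabilizer (by rwa [Fintype.card_fin]) b fun g hg i => ?_
  obtain ⟨σ, hσ⟩ := hle hg
  have h1 : (g : Matrix (Fin n) (Fin n) F) *ᵥ b i ∈ lines b (σ i) := by
    rw [← hσ i]
    exact Submodule.mem_map.2 ⟨b i, Submodule.mem_span_singleton_self _, Matrix.toLin'_apply _ _⟩
  obtain ⟨c, hc⟩ := Submodule.mem_span_singleton.1 h1
  exact ⟨σ i, c, hc.symm⟩

/-- A non-scalar group diagonal in a basis forces more than two scalars. -/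
theorem three_le_of_diag [Fintype F] {ι : Type} [Fintype ι] [DecidableEq ι]
    (b : Module.Basis ι F (ι → F)) {A : Subgroup (GL ι F)}
    (hdiag : ∀ x ∈ A, ∀ i, ∃ c : F, (x : Matrix ι ι F) *ᵥ b i = c • b i)
    (hns : ¬ A ≤ Geo.scalars ι F) : 3 ≤ Fintype.card F := by
  classical
  by_contra hlt
  apply hns
  intro x hx
  have hunit : ∀ c : F, c ≠ 0 → c = 1 := by
    intro c hc
    by_contra hc1
    apply hlt
    calc 3 = ({0, 1, c} : Finset F).card := by
          rw [Finset.card_insert_of_notMem, Finset.card_insert_of_notMem, Finset.card_singleton]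
          · simp [Ne.symm hc1]
          · simp [Ne.symm hc]
      _ ≤ Fintype.card F := Finset.card_le_univ _
  have h1 : x = 1 := by
    refine Units.ext (Matrix.toLin'.injective (b.ext fun i => ?_))
    obtain ⟨c, hc⟩ := hdiag x hx i
    rw [Matrix.toLin'_apply, Matrix.toLin'_apply, hc, hunit c (frame_coeff_ne_zero b hc), one_smul,
      Units.val_one, Matrix.one_mulVec]
  rw [h1]
  exact one_mem _

end Frame

section Frobenius

variable [Fintype F] (p : ℕ) [hp : Fact p.Prime] [CharP F p]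

/-- The `p^k`-power automorphism. -/
noncomputable def frob (k : ℕ) : F ≃+* F :=
  RingEquiv.ofBijective (iterateFrobenius F p k)
    ⟨(iterateFrobenius F p k).injective,
      Finite.injective_iff_surjective.1 (iterateFrobenius F p k).injective⟩

theorem frob_apply (k : ℕ) (a : F) : frob p k a = a ^ p ^ k := iterateFrobenius_def p k a

theorem frob_involutive {k : ℕ} (hk : Fintype.card F = p ^ (2 * k)) (a : F) :
    frob p k (frob p k a) = a := by
  rw [frob_apply, frob_apply, ← pow_mul, ← pow_add, ← two_mul, ← hk, FiniteField.pow_card]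

theorem exists_pow_ne_self {d : ℕ} (hd : 0 < d) (hlt : p ^ d < Fintype.card F) :
    ∃ a : F, a ^ p ^ d ≠ a := by
  classical
  by_contra hcon
  push Not at hcon
  obtain ⟨g, hg⟩ := IsCyclic.exists_ofOrder_eq_natCard (α := Fˣ)
  rw [Nat.card_units, Nat.card_eq_fintype_card] at hg
  have hpd : 1 < p ^ d := Nat.one_lt_pow hd.ne' hp.out.one_lt
  have h1 : g ^ (p ^ d - 1) = 1 := by
    refine mul_right_cancel (b := g) ?_
    rw [← pow_succ, Nat.sub_add_cancel hpd.le, one_mul]
    exact Units.ext (by simpa using hcon (g : F))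
  have := Nat.le_of_dvd (by omega) (orderOf_dvd_of_pow_eq_one h1)
  omega

/-- The fixed field of the `p^d`-power map. -/
noncomputable def fixedBy (d : ℕ) : Subfield F :=
  RingHom.eqLocusField (iterateFrobenius F p d) (RingHom.id F)

theorem mem_fixedBy {d : ℕ} {a : F} : a ∈ fixedBy p d ↔ a ^ p ^ d = a := by
  show iterateFrobenius F p d a = RingHom.id F a ↔ _
  rw [iterateFrobenius_def, RingHom.id_apply]

theorem fixedBy_ne_top {d : ℕ} (hd : 0 < d) (hlt : p ^ d < Fintype.card F) :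
    fixedBy (F := F) p d ≠ ⊤ := by
  intro h
  obtain ⟨a, ha⟩ := exists_pow_ne_self (F := F) p hd hlt
  have hmem : a ∈ fixedBy (F := F) p d := by rw [h]; trivial
  exact ha ((mem_fixedBy p).1 hmem)

omit [CharP F p] in
/-- The degree `e` of a field generated by a primitive `n`-th root of unity divides `n - 1`. -/
theorem minimal_dvd {n e : ℕ} (hn : n.Prime) (hnp : n ≠ p) (he : 0 < e) (hdvd : n ∣ p ^ e - 1)
    (hmin : ∀ d, 0 < d → d < e → ¬ n ∣ p ^ d - 1) : e ∣ n - 1 := by
  have hcop : Nat.Coprime p n := (Nat.coprime_primes hp.out hn).2 (Ne.symm hnp)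
  have hf : n ∣ p ^ (n - 1) - 1 := by
    have h := Nat.ModEq.pow_totient hcop
    rw [Nat.totient_prime hn] at h
    exact (Nat.modEq_iff_dvd' (Nat.one_le_pow _ _ hp.out.pos)).1 h.symm
  have hg : n ∣ p ^ Nat.gcd e (n - 1) - 1 := by
    rw [← Nat.pow_sub_one_gcd_pow_sub_one]
    exact Nat.dvd_gcd hdvd hf
  have hle : e ≤ Nat.gcd e (n - 1) := by
    by_contra hlt
    exact hmin _ (Nat.gcd_pos_of_pos_left _ he) (Nat.lt_of_not_le hlt) hg
  have : Nat.gcd e (n - 1) = e :=
    le_antisymm (Nat.le_of_dvd he (Nat.gcd_dvd_left _ _)) hle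
  exact this ▸ Nat.gcd_dvd_right _ _

end Frobenius

/-- A symplectic type group either is realised over a proper subfield, or `ω` generates the field. -/
theorem SymplecticData.field_cases [Fintype F] {ι : Type} [Fintype ι] [DecidableEq ι]
    {N : Subgroup (GL ι F)} {ω : F} (h : SymplecticData N ω) :
    (∃ F₁ : Subfield F, F₁ ≠ ⊤ ∧ Geo.RealisableOver F₁ (Geo.matrixSet N)) ∨
    ∀ F₁ : Subfield F, F₁ ≠ ⊤ → ω ∉ F₁ := by
  by_cases hc : ∀ F₁ : Subfield F, F₁ ≠ ⊤ → ω ∉ F₁
  · exact Or.inr hc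
  push Not at hc
  obtain ⟨F₁, hF₁, hω⟩ := hc
  obtain ⟨b, hb, -⟩ := h.monomial
  refine Or.inl ⟨F₁, hF₁, realisableOver_of_basis b fun x hx i j => ?_⟩
  obtain ⟨π, k, hk⟩ := hb x hx
  rw [hk, map_smul, Module.Basis.repr_self, Finsupp.smul_single, smul_eq_mul, mul_one,
    Finsupp.single_apply]
  split
  · exact pow_mem hω _
  · exact zero_mem _

/-- The minimal field condition from `ω` generating the field. -/
theorem SymplecticData.minimal [Fintype F] {ι : Type} [Fintype ι] [DecidableEq ι]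
    {N : Subgroup (GL ι F)} {ω : F} (h : SymplecticData N ω) {p e : ℕ} [hp : Fact p.Prime] [CharP F p]
    (hcard : Fintype.card F = p ^ e) (hgen : ∀ F₁ : Subfield F, F₁ ≠ ⊤ → ω ∉ F₁) :
    Fintype.card ι ∣ p ^ e - 1 ∧
      (∀ d, 0 < d → d < e → ¬ Fintype.card ι ∣ p ^ d - 1) ∧ Fintype.card ι ≠ p := by
  have hn : (Fintype.card ι).Prime := h.symplecticType.prime
  have hω0 : ω ≠ 0 := h.primitive.ne_zero hn.ne_zero
  refine ⟨h.primitive.dvd_of_pow_eq_one _ ?_, fun d hd hde hdvd => ?_, fun he => ?_⟩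
  · rw [← hcard]; exact FiniteField.pow_card_sub_one_eq_one ω hω0
  · refine hgen (fixedBy p d) (fixedBy_ne_top p hd (hcard ▸ Nat.pow_lt_pow_right hp.out.one_lt hde))
      ((mem_fixedBy p).2 ?_)
    obtain ⟨k, hk⟩ := hdvd
    have hpd : 1 ≤ p ^ d := Nat.one_le_pow _ _ hp.out.pos
    rw [show p ^ d = Fintype.card ι * k + 1 by omega, pow_succ, pow_mul, h.primitive.pow_eq_one,
      one_pow, one_mul]
  · haveI : NeZero (Fintype.card ι) := ⟨hn.ne_zero⟩
    have hne : NeZero ((Fintype.card ι : ℕ) : F) := h.primitive.neZero'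
    exact hne.out (by rw [he]; exact CharP.cast_eq_zero F p)

/-- `SL` does not normalise a group of symplectic type. -/
theorem not_normalized_by_specialLinear {ι : Type} [Fintype ι] [DecidableEq ι]
    (hodd : Odd (Fintype.card ι)) {N : Subgroup (GL ι F)} {ω : F} (hN : SymplecticData N ω) :
    ¬ Geo.specialLinear ι F ≤ Geo.subgroupNormalizer N := by
  intro hle
  have hp := hN.symplecticType.prime
  obtain ⟨b, -, x, hx, l, hl, hxb⟩ := hN.monomial
  obtain ⟨i, j, hij⟩ := Fintype.exists_pair_of_one_lt_card hp.one_lt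
  let U : Submodule F (ι → F) := Submodule.span F (b '' {k | k ≠ i})
  have hU : ∀ k, k ≠ i → b k ∈ U := fun k hk => Submodule.subset_span ⟨k, hk, rfl⟩
  have hiU : b i ∉ U := fun h => b.linearIndependent.notMem_span_image (by simp) h
  obtain ⟨g, φ, hg, hgu, hφU, hφi⟩ := exists_transvection (hU j hij.symm) hiU
  have hgk : ∀ k, k ≠ i → (g : Matrix ι ι F) *ᵥ b k = b k := fun k hk => by
    rw [hgu, hφU _ (hU k hk), zero_smul, add_zero]
  have hgi : (g : Matrix ι ι F) *ᵥ b i = b i + b j := by rw [hgu, hφi, one_smul]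
  have hgk' : ∀ k, k ≠ i → ((g⁻¹ : GL ι F) : Matrix ι ι F) *ᵥ b k = b k := fun k hk => by
    conv_lhs => rw [← hgk k hk]
    exact inv_mulVec g _
  have hgi' : ((g⁻¹ : GL ι F) : Matrix ι ι F) *ᵥ b i = b i - b j := by
    have h1 := inv_mulVec g (b i)
    rw [hgi, Matrix.mulVec_add, hgk' j hij.symm] at h1
    exact eq_sub_of_add_eq h1
  have hl0 : ∀ k, l k ≠ 0 := fun k => frame_coeff_ne_zero b (hxb k)
  have hx' : ∀ k, ((x⁻¹ : GL ι F) : Matrix ι ι F) *ᵥ b k = (l k)⁻¹ • b k := by
    intro k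
    have h1 := inv_mulVec x (b k)
    rw [hxb, Matrix.mulVec_smul] at h1
    conv_rhs => rw [← h1, smul_smul, inv_mul_cancel₀ (hl0 k), one_smul]
  set μ := l j * (l i)⁻¹ with hμ
  have hcN : g * x * g⁻¹ * x⁻¹ ∈ N :=
    N.mul_mem ((Subgroup.mem_normalizer_iff.1 (hle hg) x).1 hx) (N.inv_mem hx)
  have hci : ((g * x * g⁻¹ * x⁻¹ : GL ι F) : Matrix ι ι F) *ᵥ b i = b i + (1 - μ) • b j := by
    simp only [mulVec_mul, hx', Matrix.mulVec_smul, hgi', Matrix.mulVec_sub, hxb, hgi, hgk j hij.symm,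
      smul_sub, smul_smul, smul_add, inv_mul_cancel₀ (hl0 i), one_smul, hμ, sub_smul]
    rw [mul_comm (l i)⁻¹ (l j)]
    abel
  have hcj : ((g * x * g⁻¹ * x⁻¹ : GL ι F) : Matrix ι ι F) *ᵥ b j = b j := by
    simp only [mulVec_mul, hx', Matrix.mulVec_smul, hgk' j hij.symm, hxb, hgk j hij.symm, smul_smul,
      inv_mul_cancel₀ (hl0 j), one_smul]
  generalize g * x * g⁻¹ * x⁻¹ = c at hcN hci hcj
  have hck : ∀ m : ℕ, ((c ^ m : GL ι F) : Matrix ι ι F) *ᵥ b i =
      b i + ((m : F) * (1 - μ)) • b j := by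
    intro m
    induction m with
    | zero => simp
    | succ m ih =>
      rw [pow_succ', mulVec_mul, ih, Matrix.mulVec_add, Matrix.mulVec_smul, hci, hcj, Nat.cast_succ,
        add_assoc, ← add_smul]
      congr 2
      ring
  have hc1 : c ^ Fintype.card ι = 1 := by
    have h1 := Monoid.pow_exponent_eq_one (⟨c, hcN⟩ : N)
    rw [hN.symplecticType.exponent_eq, Nat.coprime_two_left.2 hodd, mul_one] at h1
    simpa using congrArg Subtype.val h1
  have h2 := hck (Fintype.card ι)
  rw [hc1, Units.val_one, Matrix.one_mulVec, left_eq_add, smul_eq_zero] at h2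
  rcases (mul_eq_zero.1 (h2.resolve_right (b.ne_zero j))) with h3 | h3
  · haveI : NeZero (Fintype.card ι) := ⟨hp.ne_zero⟩
    have hne : NeZero ((Fintype.card ι : ℕ) : F) := hN.primitive.neZero'
    exact hne.out h3
  · refine hij (hl ?_)
    rw [sub_eq_zero, hμ] at h3
    exact eq_of_div_eq_one (by rw [div_eq_mul_inv]; exact h3.symm) |>.symm

end Cfsg.Agent.Aschbacher
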