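import Cfsg.Agent.Lib.Aschbacher.Basic

/-!
Burnside's theorem: an absolutely irreducible group spans the matrix algebra.
-/

set_option autoImplicit false

namespace Cfsg.Agent.Aschbacher

open Matrix
open scoped MatrixGroups

variable {ι : Type} [Fintype ι] [DecidableEq ι] {F : Type*} [Field F]

/-- The span of the matrices of `N`. -/
def spanMat (N : Subgroup (GL ι F)) : Submodule F (Matrix ι ι F) :=
  Submodule.span F (Geo.matrixSet N)

theorem mem_spanMat {N : Subgroup (GL ι F)} {x : GL ι F} (hx : x ∈ N) :
    (x : Matrix ι ι F) ∈ spanMat N :=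
  Submodule.subset_span ⟨x, hx, rfl⟩

theorem mul_mem_spanMat {N : Subgroup (GL ι F)} {x : GL ι F} (hx : x ∈ N) {M : Matrix ι ι F}
    (hM : M ∈ spanMat N) : (x : Matrix ι ι F) * M ∈ spanMat N := by
  induction hM using Submodule.span_induction with
  | mem y hy =>
    obtain ⟨y, hy, rfl⟩ := hy
    exact Submodule.subset_span ⟨x * y, N.mul_mem hx hy, rfl⟩
  | zero => rw [mul_zero]; exact Submodule.zero_mem _
  | add a b _ _ iha ihb => rw [mul_add]; exact Submodule.add_mem _ iha ihb
  | smul c a _ ih => rw [mul_smul_comm]; exact Submodule.smul_mem _ c ih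

theorem mul_mem_spanMat' {N : Subgroup (GL ι F)} {x : GL ι F} (hx : x ∈ N) {M : Matrix ι ι F}
    (hM : M ∈ spanMat N) : M * (x : Matrix ι ι F) ∈ spanMat N := by
  induction hM using Submodule.span_induction with
  | mem y hy =>
    obtain ⟨y, hy, rfl⟩ := hy
    exact Submodule.subset_span ⟨y * x, N.mul_mem hy hx, rfl⟩
  | zero => rw [zero_mul]; exact Submodule.zero_mem _
  | add a b _ _ iha ihb => rw [add_mul]; exact Submodule.add_mem _ iha ihb
  | smul c a _ ih => rw [smul_mul_assoc]; exact Submodule.smul_mem _ c ih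

/-- Density: finitely many independent vectors can be moved anywhere by the span. -/
theorem AbsIrr.exists_mulVec_eq {N : Subgroup (GL ι F)} (hN : AbsIrr N) :
    ∀ (k : ℕ) (v : Fin k → ι → F), LinearIndependent F v →
      ∀ w : Fin k → ι → F, ∃ a ∈ spanMat N, ∀ i, a *ᵥ v i = w i := by
  classical
  intro k
  induction k with
  | zero => exact fun v _ w => ⟨0, Submodule.zero_mem _, fun i => i.elim0⟩
  | succ k ih =>
    intro v hv w
    have hv' : LinearIndependent F (fun i : Fin k => v i.castSucc) :=
      hv.comp _ (Fin.castSucc_injective k)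
    let U : Submodule F (ι → F) :=
      { carrier := {u | ∃ a ∈ spanMat N, (∀ i : Fin k, a *ᵥ v i.castSucc = 0) ∧ a *ᵥ v (Fin.last k) = u}
        zero_mem' := ⟨0, Submodule.zero_mem _, fun i => Matrix.zero_mulVec _, Matrix.zero_mulVec _⟩
        add_mem' := by
          rintro u u' ⟨a, ha, ha0, hau⟩ ⟨b, hb, hb0, hbu⟩
          exact ⟨a + b, Submodule.add_mem _ ha hb,
            fun i => by rw [Matrix.add_mulVec, ha0, hb0, add_zero], by rw [Matrix.add_mulVec, hau, hbu]⟩
        smul_mem' := by
          rintro c u ⟨a, ha, ha0, hau⟩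
          exact ⟨c • a, Submodule.smul_mem _ c ha,
            fun i => by rw [Matrix.smul_mulVec, ha0, smul_zero], by rw [Matrix.smul_mulVec, hau]⟩ }
    have hU : Invariant N U := by
      rintro x hx u ⟨a, ha, ha0, hau⟩
      exact ⟨(x : Matrix ι ι F) * a, mul_mem_spanMat hx ha,
        fun i => by rw [← Matrix.mulVec_mulVec, ha0, Matrix.mulVec_zero],
        by rw [← Matrix.mulVec_mulVec, hau]⟩
    rcases irr_iff.1 hN.1 U hU with hbot | htop
    swap
    · obtain ⟨a, ha, hav⟩ := ih _ hv' (fun i => w i.castSucc)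
      obtain ⟨b, hb, hb0, hbu⟩ : w (Fin.last k) - a *ᵥ v (Fin.last k) ∈ U := htop ▸ Submodule.mem_top
      refine ⟨a + b, Submodule.add_mem _ ha hb, fun i => ?_⟩
      induction i using Fin.lastCases with
      | last => rw [Matrix.add_mulVec, hbu, add_sub_cancel]
      | cast i => rw [Matrix.add_mulVec, hb0, add_zero, hav]
    exfalso
    have hker : ∀ a ∈ spanMat N, (∀ i : Fin k, a *ᵥ v i.castSucc = 0) → a *ᵥ v (Fin.last k) = 0 := by
      intro a ha ha0
      have : a *ᵥ v (Fin.last k) ∈ U := ⟨a, ha, ha0, rfl⟩
      rwa [hbot, Submodule.mem_bot] at this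
    have hwell : ∀ a ∈ spanMat N, ∀ b ∈ spanMat N,
        (∀ i : Fin k, a *ᵥ v i.castSucc = b *ᵥ v i.castSucc) →
        a *ᵥ v (Fin.last k) = b *ᵥ v (Fin.last k) := by
      intro a ha b hb hab
      have := hker (a - b) (Submodule.sub_mem _ ha hb) fun i => by rw [Matrix.sub_mulVec, hab, sub_self]
      rwa [Matrix.sub_mulVec, sub_eq_zero] at this
    choose g hg hgv using fun (j : Fin k) (u : ι → F) => ih _ hv' (Pi.single j u)
    -- the coordinate maps commute with `N`, so are scalars
    have hcoord : ∀ j : Fin k, ∃ c : F, ∀ u, g j u *ᵥ v (Fin.last k) = c • u := by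
      intro j
      let L : (ι → F) →ₗ[F] (ι → F) :=
        { toFun := fun u => g j u *ᵥ v (Fin.last k)
          map_add' := fun u u' => by
            rw [← Matrix.add_mulVec]
            refine hwell _ (hg j _) _ (Submodule.add_mem _ (hg j u) (hg j u')) fun i => ?_
            rw [Matrix.add_mulVec, hgv, hgv, hgv, ← Pi.add_apply, Pi.single_add]
          map_smul' := fun c u => by
            rw [RingHom.id_apply, ← Matrix.smul_mulVec]
            refine hwell _ (hg j _) _ (Submodule.smul_mem _ c (hg j u)) fun i => ?_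
            rw [Matrix.smul_mulVec, hgv, hgv, ← Pi.smul_apply, ← Pi.single_smul] }
      obtain ⟨c, hc⟩ := hN.2 (LinearMap.toMatrix' L) (by
        rintro s ⟨x, hx, rfl⟩
        refine Matrix.ext_of_mulVec_single fun i => ?_
        generalize (Pi.single i (1 : F) : ι → F) = u
        simp only [← Matrix.mulVec_mulVec, LinearMap.toMatrix'_mulVec]
        show g j _ *ᵥ v (Fin.last k) = (x : Matrix ι ι F) *ᵥ (g j u *ᵥ v (Fin.last k))
        rw [Matrix.mulVec_mulVec]
        refine hwell _ (hg j _) _ (mul_mem_spanMat hx (hg j u)) fun i' => ?_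
        rw [← Matrix.mulVec_mulVec, hgv, hgv]
        by_cases hij : i' = j
        · subst hij; rw [Pi.single_eq_same, Pi.single_eq_same]
        · rw [Pi.single_eq_of_ne hij, Pi.single_eq_of_ne hij, Matrix.mulVec_zero])
      refine ⟨c, fun u => ?_⟩
      have h1 := congrArg (· *ᵥ u) hc
      simpa [Matrix.smul_mulVec, LinearMap.toMatrix'_mulVec, L] using h1
    choose c hc using hcoord
    have hsum : v (Fin.last k) = ∑ j, c j • v j.castSucc := by
      have h1 : (1 : Matrix ι ι F) ∈ spanMat N := mem_spanMat N.one_mem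
      have h2 := hwell 1 h1 (∑ j, g j (v j.castSucc)) (Submodule.sum_mem _ fun j _ => hg j _)
        fun i => by
          rw [Matrix.one_mulVec, Matrix.sum_mulVec]
          simp only [hgv]
          rw [Finset.sum_pi_single]
          simp
      rw [Matrix.one_mulVec, Matrix.sum_mulVec] at h2
      simp only [hc] at h2
      exact h2
    exact hv.notMem_span_image (s := {i : Fin (k + 1) | i ≠ Fin.last k}) (x := Fin.last k) (by simp)
      (hsum ▸ Submodule.sum_mem _ fun j _ => Submodule.smul_mem _ _
        (Submodule.subset_span ⟨j.castSucc, Fin.castSucc_ne_last j, rfl⟩))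

/-- Burnside's theorem. -/
theorem AbsIrr.spanMat_eq_top {N : Subgroup (GL ι F)} (hN : AbsIrr N) : spanMat N = ⊤ := by
  classical
  let e := (Fintype.equivFin ι).symm
  refine eq_top_iff.2 fun M _ => ?_
  obtain ⟨a, ha, hav⟩ := hN.exists_mulVec_eq _ (fun i => Pi.single (e i) (1 : F))
    (by
      have h := (Pi.basisFun F ι).linearIndependent.comp e e.injective
      simpa [Function.comp_def] using h) (fun i => M *ᵥ Pi.single (e i) 1)
  rwa [show M = a from Matrix.ext_of_mulVec_single fun j => by
    have := hav (e.symm j)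
    rw [e.apply_symm_apply] at this
    exact this.symm]

/-- A group spanning the matrix algebra is absolutely irreducible. -/
theorem absIrr_of_spanMat [Nonempty ι] {N : Subgroup (GL ι F)} (h : spanMat N = ⊤) : AbsIrr N := by
  classical
  refine ⟨irr_iff.2 fun W hW => ?_, fun M hM => ?_⟩
  · by_contra hcon
    push Not at hcon
    obtain ⟨w, hw, hw0⟩ := (Submodule.ne_bot_iff W).1 hcon.1
    obtain ⟨i, hi⟩ := Function.ne_iff.1 hw0
    refine hcon.2 (eq_top_iff.2 fun u _ => ?_)
    have hall : ∀ M : Matrix ι ι F, M *ᵥ w ∈ W := fun M => by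
      have hM : M ∈ spanMat N := h ▸ Submodule.mem_top
      induction hM using Submodule.span_induction with
      | mem y hy => obtain ⟨y, hy, rfl⟩ := hy; exact hW y hy w hw
      | zero => rw [Matrix.zero_mulVec]; exact W.zero_mem
      | add a b _ _ iha ihb => rw [Matrix.add_mulVec]; exact W.add_mem iha ihb
      | smul c a _ ih => rw [Matrix.smul_mulVec]; exact W.smul_mem c ih
    have := hall (Matrix.of fun a b => if b = i then u a * (w i)⁻¹ else 0)
    convert this using 1
    funext a
    have hi' : w i ≠ 0 := hi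
    simp [Matrix.mulVec, dotProduct, hi']
  · have hall : ∀ A : Matrix ι ι F, Commute A M := fun A => by
      have hA : A ∈ spanMat N := h ▸ Submodule.mem_top
      induction hA using Submodule.span_induction with
      | mem y hy => exact (hM y hy).symm
      | zero => exact Commute.zero_left M
      | add a b _ _ iha ihb => exact iha.add_left ihb
      | smul c a _ ih => exact ih.smul_left c
    obtain ⟨c, hc⟩ := Matrix.mem_range_scalar_of_commute_single (M := M) fun i j _ => hall _
    exact ⟨c, by rw [← hc, Matrix.scalar_apply, Matrix.smul_one_eq_diagonal]⟩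

end Cfsg.Agent.Aschbacher
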