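import Cfsg.Agent.Lib.Aschbacher.Density
import Cfsg.Agent.Lib.Aschbacher.Forms
import Cfsg.Agent.Lib.Field.Descent

/-!
Twists of an absolutely irreducible group are detected by traces: conjugacy of representations with the
same trace, realisation over the fixed field of traces, invariant bilinear and unitary forms.
-/

set_option autoImplicit false

namespace Cfsg.Agent.Aschbacher

open Matrix
open scoped MatrixGroups

variable {ι : Type} [Fintype ι] [DecidableEq ι] {F : Type*} [Field F]

theorem eq_zero_of_trace_mul {M : Matrix ι ι F} (h : ∀ X : Matrix ι ι F, (M * X).trace = 0) : M = 0 := by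
  ext i j
  have := h (Matrix.single j i 1)
  simpa [Matrix.trace, Matrix.mul_apply, Matrix.single, ite_and] using this

/-- Two representations of an absolutely irreducible group with the same trace are conjugate. -/
theorem AbsIrr.exists_intertwiner [Nonempty ι] {N : Subgroup (GL ι F)} (hN : AbsIrr N)
    (φ : N →* GL ι F) (hφ : Submodule.span F (Set.range fun x : N => (φ x : Matrix ι ι F)) = ⊤)
    (htr : ∀ x : N, (φ x : Matrix ι ι F).trace = ((x : GL ι F) : Matrix ι ι F).trace) :
    ∃ A : GL ι F, ∀ x : N, φ x = A * (x : GL ι F) * A⁻¹ := by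
  classical
  set f : N → Matrix ι ι F := fun x => ((x : GL ι F) : Matrix ι ι F) with hf
  set f' : N → Matrix ι ι F := fun x => (φ x : Matrix ι ι F) with hf'
  have hfspan : Submodule.span F (Set.range f) = ⊤ := by
    rw [← hN.spanMat_eq_top]
    refine congrArg (Submodule.span F) (Set.ext fun M => ⟨?_, ?_⟩)
    · rintro ⟨x, rfl⟩; exact ⟨x, x.2, rfl⟩
    · rintro ⟨x, hx, rfl⟩; exact ⟨⟨x, hx⟩, rfl⟩
  let c := Finsupp.linearCombination F f
  let c' := Finsupp.linearCombination F f'
  have hc : Function.Surjective c := by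
    rw [← LinearMap.range_eq_top, Finsupp.range_linearCombination, hfspan]
  have hker : ∀ l, c l = 0 → c' l = 0 := by
    intro l hl
    refine eq_zero_of_trace_mul fun X => ?_
    have hX : X ∈ Submodule.span F (Set.range f') := hφ ▸ Submodule.mem_top
    induction hX using Submodule.span_induction with
    | mem y hy =>
      obtain ⟨y, rfl⟩ := hy
      have key : (c' l * f' y).trace = (c l * f y).trace := by
        simp only [c, c', Finsupp.linearCombination_apply, Finsupp.sum, Finset.sum_mul, Matrix.trace_sum,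
          smul_mul_assoc, Matrix.trace_smul]
        refine Finset.sum_congr rfl fun z _ => ?_
        rw [show f' z * f' y = f' (z * y) by simp only [hf', map_mul, Units.val_mul],
          show f z * f y = f (z * y) by simp only [hf, Subgroup.coe_mul, Units.val_mul]]
        exact congrArg _ (htr (z * y))
      rw [key, hl, zero_mul, Matrix.trace_zero]
    | zero => rw [mul_zero, Matrix.trace_zero]
    | add a b _ _ iha ihb => rw [mul_add, Matrix.trace_add, iha, ihb, add_zero]
    | smul t a _ ih => rw [mul_smul_comm, Matrix.trace_smul, ih, smul_zero]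
  obtain ⟨g, hg⟩ := LinearMap.exists_rightInverse_of_surjective c (LinearMap.range_eq_top.2 hc)
  let Φ : Matrix ι ι F →ₗ[F] Matrix ι ι F := c'.comp g
  have hΦ : ∀ x : N, Φ (f x) = f' x := by
    intro x
    have h1 : c (g (f x) - Finsupp.single x 1) = 0 := by
      rw [map_sub, ← LinearMap.comp_apply c g, hg, LinearMap.id_apply]
      simp [c]
    have h2 := hker _ h1
    rw [map_sub, sub_eq_zero] at h2
    show c' (g (f x)) = _
    rw [h2]
    simp [c']
  have hΦmul : ∀ (x : N) M, Φ (f x * M) = f' x * Φ M := by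
    intro x M
    have hM : M ∈ Submodule.span F (Set.range f) := hfspan ▸ Submodule.mem_top
    induction hM using Submodule.span_induction with
    | mem y hy =>
      obtain ⟨y, rfl⟩ := hy
      rw [show f x * f y = f (x * y) by simp only [hf, Subgroup.coe_mul, Units.val_mul], hΦ, hΦ]
      simp only [hf', map_mul, Units.val_mul]
    | zero => simp
    | add a b _ _ iha ihb => rw [mul_add, map_add, iha, ihb, map_add, mul_add]
    | smul t a _ ih => rw [mul_smul_comm, map_smul, ih, map_smul, mul_smul_comm]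
  have hΦinj : Function.Injective Φ := by
    refine LinearMap.injective_iff_surjective.2 (LinearMap.range_eq_top.1 (eq_top_iff.2 ?_))
    rw [← hφ, Submodule.span_le]
    rintro _ ⟨x, rfl⟩
    exact ⟨f x, hΦ x⟩
  obtain ⟨i₀⟩ := ‹Nonempty ι›
  have hne : Φ (Matrix.single i₀ i₀ 1) ≠ 0 := fun h0 => by
    have h1 := congrFun (congrFun (hΦinj (h0.trans (map_zero Φ).symm)) i₀) i₀
    simp at h1
  obtain ⟨w, hw⟩ : ∃ w, Φ (Matrix.single i₀ i₀ 1) *ᵥ w ≠ 0 := by
    by_contra hcon
    push Not at hcon
    exact hne (Matrix.ext_of_mulVec_single fun j => by rw [hcon, Matrix.zero_mulVec])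
  let L : (ι → F) →ₗ[F] (ι → F) :=
    { toFun := fun u => Φ (Matrix.vecMulVec u (Pi.single i₀ 1)) *ᵥ w
      map_add' := fun u v => by rw [Matrix.add_vecMulVec, map_add, Matrix.add_mulVec]
      map_smul' := fun t u => by
        rw [Matrix.smul_vecMulVec, map_smul, Matrix.smul_mulVec, RingHom.id_apply] }
  have hLx : ∀ (x : N) u, L (f x *ᵥ u) = f' x *ᵥ L u := fun x u => by
    show Φ (Matrix.vecMulVec (f x *ᵥ u) _) *ᵥ w = f' x *ᵥ (Φ _ *ᵥ w)
    rw [Matrix.mulVec_mulVec, ← hΦmul, Matrix.mul_vecMulVec]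
  have hLne : L (Pi.single i₀ 1) ≠ 0 := by
    show Φ _ *ᵥ w ≠ 0
    rwa [show Matrix.vecMulVec (Pi.single i₀ (1 : F)) (Pi.single i₀ 1) = Matrix.single i₀ i₀ 1 by
      ext a b
      by_cases ha : a = i₀ <;> by_cases hb : b = i₀ <;>
        simp [Matrix.vecMulVec, Matrix.single, ha, hb, Ne.symm]]
  have hLinj : Function.Injective L := by
    rw [← LinearMap.ker_eq_bot]
    refine (irr_iff.1 hN.1 _ fun x hx u hu => ?_).resolve_right fun h => hLne ?_
    · rw [LinearMap.mem_ker] at hu ⊢
      have := hLx ⟨x, hx⟩ u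
      rw [hu, Matrix.mulVec_zero] at this
      exact this
    · exact LinearMap.mem_ker.1 (h ▸ Submodule.mem_top)
  have hdet : (LinearMap.toMatrix' L).det ≠ 0 := by
    intro h0
    obtain ⟨u, hu, hu0⟩ := Matrix.exists_mulVec_eq_zero_iff.2 h0
    rw [LinearMap.toMatrix'_mulVec] at hu0
    exact hu (hLinj (hu0.trans (map_zero L).symm))
  refine ⟨Matrix.GeneralLinearGroup.mkOfDetNeZero _ hdet, fun x => ?_⟩
  rw [eq_mul_inv_iff_mul_eq]
  refine Units.ext (Matrix.ext_of_mulVec_single fun j => ?_)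
  rw [Units.val_mul, Units.val_mul, ← Matrix.mulVec_mulVec, ← Matrix.mulVec_mulVec]
  show f' x *ᵥ (LinearMap.toMatrix' L *ᵥ _) = LinearMap.toMatrix' L *ᵥ (f x *ᵥ _)
  rw [LinearMap.toMatrix'_mulVec, LinearMap.toMatrix'_mulVec, hLx]

/-- The twist of a spanning set by a field automorphism spans. -/
theorem AbsIrr.span_map {N : Subgroup (GL ι F)} (hN : AbsIrr N) (σ : F ≃+* F) :
    Submodule.span F (Set.range fun x : N => ((x : GL ι F) : Matrix ι ι F).map σ) = ⊤ := by
  refine eq_top_iff.2 fun M _ => ?_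
  have hM : M.map σ.symm ∈ spanMat N := hN.spanMat_eq_top ▸ Submodule.mem_top
  have : ∀ M, M ∈ spanMat N →
      M.map σ ∈ Submodule.span F (Set.range fun x : N => ((x : GL ι F) : Matrix ι ι F).map σ) := by
    intro M hM
    induction hM using Submodule.span_induction with
    | mem y hy => obtain ⟨y, hy, rfl⟩ := hy; exact Submodule.subset_span ⟨⟨y, hy⟩, rfl⟩
    | zero => rw [Matrix.map_zero _ (map_zero σ)]; exact Submodule.zero_mem _
    | add a b _ _ iha ihb => rw [Matrix.map_add _ (map_add σ)]; exact Submodule.add_mem _ iha ihb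
    | smul c a _ ih =>
      rw [show (c • a).map σ = σ c • a.map σ from Matrix.ext fun i j => map_mul σ _ _]
      exact Submodule.smul_mem _ _ ih
  have h2 := this _ hM
  rwa [Matrix.map_map, show (⇑σ ∘ ⇑σ.symm) = id from funext σ.apply_symm_apply, Matrix.map_id] at h2

/-- The inverse transpose, twisted by a field automorphism. -/
def twistDual (N : Subgroup (GL ι F)) (σ : F ≃+* F) : N →* GL ι F :=
  (Matrix.GeneralLinearGroup.map σ.toRingHom).comp
    { toFun := fun x =>
        { val := (((x⁻¹ : N) : GL ι F) : Matrix ι ι F)ᵀ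
          inv := ((x : GL ι F) : Matrix ι ι F)ᵀ
          val_inv := by
            rw [← Matrix.transpose_mul, ← Units.val_mul, ← Subgroup.coe_mul, mul_inv_cancel]
            simp
          inv_val := by
            rw [← Matrix.transpose_mul, ← Units.val_mul, ← Subgroup.coe_mul, inv_mul_cancel]
            simp }
      map_one' := Units.ext (by simp)
      map_mul' := fun x y => Units.ext (by simp [_root_.mul_inv_rev]) }

theorem AbsIrr.span_twistDual {N : Subgroup (GL ι F)} (hN : AbsIrr N) (σ : F ≃+* F) :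
    Submodule.span F (Set.range fun x : N => (twistDual N σ x : Matrix ι ι F)) = ⊤ := by
  refine eq_top_iff.2 fun M _ => ?_
  have h1 := hN.span_map σ
  have hM : Mᵀ ∈ Submodule.span F (Set.range fun x : N => ((x : GL ι F) : Matrix ι ι F).map σ) :=
    h1 ▸ Submodule.mem_top
  have : ∀ A, A ∈ Submodule.span F (Set.range fun x : N => ((x : GL ι F) : Matrix ι ι F).map σ) →
      Aᵀ ∈ Submodule.span F (Set.range fun x : N => (twistDual N σ x : Matrix ι ι F)) := by
    intro A hA
    induction hA using Submodule.span_induction with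
    | mem y hy =>
      obtain ⟨y, rfl⟩ := hy
      refine Submodule.subset_span ⟨y⁻¹, ?_⟩
      show (((y⁻¹⁻¹ : N) : GL ι F) : Matrix ι ι F)ᵀ.map σ = _
      rw [inv_inv, Matrix.transpose_map]
    | zero => rw [Matrix.transpose_zero]; exact Submodule.zero_mem _
    | add a b _ _ iha ihb => rw [Matrix.transpose_add]; exact Submodule.add_mem _ iha ihb
    | smul c a _ ih => rw [Matrix.transpose_smul]; exact Submodule.smul_mem _ _ ih
  simpa using this _ hM

/-- Absolutely irreducible groups are realised over a field containing their traces. -/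
theorem AbsIrr.realisable_fixed [Fintype F] {n : ℕ} (hn : 0 < n) {N : Subgroup (GL (Fin n) F)}
    (hN : AbsIrr N) (σ : F ≃+* F)
    (htr : ∀ x ∈ N, σ ((x : Matrix (Fin n) (Fin n) F).trace) = (x : Matrix (Fin n) (Fin n) F).trace)
    {F₀ : Subfield F} (hF₀ : ∀ a, σ a = a → a ∈ F₀) :
    Geo.RealisableOver F₀ (Geo.matrixSet N) := by
  classical
  have : Nonempty (Fin n) := ⟨⟨0, hn⟩⟩
  let φ : N →* GL (Fin n) F := (Matrix.GeneralLinearGroup.map σ.toRingHom).comp N.subtype
  obtain ⟨A, hA⟩ := hN.exists_intertwiner φ (hN.span_map σ) fun x => by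
    show (((x : GL (Fin n) F) : Matrix (Fin n) (Fin n) F).map σ).trace = _
    rw [← htr x x.2]
    simp [Matrix.trace, map_sum]
  have : Finite (F ≃+* F) := Finite.of_injective (fun e : F ≃+* F => (⇑e : F → F)) DFunLike.coe_injective
  set r := orderOf σ with hr
  have hr0 : 0 < r := orderOf_pos σ
  set g : GL (Fin n) F := A⁻¹ with hgdef
  have hσx : ∀ x ∈ N, g * FieldExt.glMap σ x * g⁻¹ = x := fun x hx => by
    have : FieldExt.glMap σ x = A * x * A⁻¹ := hA ⟨x, hx⟩
    rw [this, hgdef]; group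
  have hk : ∀ k, ∀ x ∈ N,
      FieldExt.twistNorm σ g k * FieldExt.glMap (σ ^ k) x * (FieldExt.twistNorm σ g k)⁻¹ = x := by
    intro k x hx
    induction k with
    | zero => simp [FieldExt.glMap_one]
    | succ k ih =>
      rw [FieldExt.twistNorm_succ, pow_succ', FieldExt.glMap_mul]
      calc g * FieldExt.glMap σ (FieldExt.twistNorm σ g k) * FieldExt.glMap σ (FieldExt.glMap (σ ^ k) x) *
            (g * FieldExt.glMap σ (FieldExt.twistNorm σ g k))⁻¹
          = g * FieldExt.glMap σ (FieldExt.twistNorm σ g k * FieldExt.glMap (σ ^ k) x *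
              (FieldExt.twistNorm σ g k)⁻¹) * g⁻¹ := by
            rw [map_mul, map_mul, map_inv]; group
        _ = x := by rw [ih, hσx x hx]
  obtain ⟨c, hc⟩ := (Geo.mem_scalars_iff _).1 (hN.scalar_of_comm fun x hx => by
    have := hk r x hx
    rw [pow_orderOf_eq_one, FieldExt.glMap_one, mul_inv_eq_iff_eq_mul] at this
    exact this)
  have hT : FieldExt.twistNorm σ g r = Matrix.GeneralLinearGroup.scalar (Fin n) c := Units.ext (by
    rw [hc, Matrix.smul_one_eq_diagonal]; simp [Matrix.GeneralLinearGroup.coe_scalar])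
  have hσc : σ (c : F) = c := by
    have h1 := FieldExt.twistNorm_add σ g r 1
    have h2 : FieldExt.twistNorm σ g (r + 1) = g * FieldExt.glMap σ (FieldExt.twistNorm σ g r) :=
      FieldExt.twistNorm_succ σ g r
    have h3 : FieldExt.twistNorm σ g 1 = g := by
      rw [FieldExt.twistNorm_succ, FieldExt.twistNorm_zero, map_one, mul_one]
    rw [h2, pow_orderOf_eq_one, FieldExt.glMap_one, h3, hT] at h1
    have h4 := congrArg Units.val h1
    rw [Units.val_mul, Units.val_mul, Matrix.GeneralLinearGroup.coe_scalar, FieldExt.glMap_val,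
      Matrix.GeneralLinearGroup.coe_scalar] at h4
    rw [show (Matrix.scalar (Fin n) (c : F)).map σ = Matrix.scalar (Fin n) (σ (c : F)) from
      by ext i j; by_cases h : i = j <;> simp [h]] at h4
    have h5 : ((g⁻¹ : GL (Fin n) F) : Matrix (Fin n) (Fin n) F) * g.val = 1 := Units.inv_mul g
    have h6 := congrArg (((g⁻¹ : GL (Fin n) F) : Matrix (Fin n) (Fin n) F) * ·)
      (h4.trans (Matrix.scalar_commute (c : F) (mul_comm _) g.val).eq)
    simp only [← mul_assoc, h5, one_mul] at h6
    simpa using congrFun (congrFun h6 ⟨0, hn⟩) ⟨0, hn⟩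
  obtain ⟨z, hz⟩ := FieldExt.exists_prod_eq σ hr0 rfl c⁻¹ (by
    rw [Units.val_inv_eq_inv_val, map_inv₀, hσc])
  set g' := g * Matrix.GeneralLinearGroup.scalar (Fin n) z with hg'
  have hT' : FieldExt.twistNorm σ g' r = 1 := by
    rw [hg', FieldExt.twistNorm_mul_scalar, hT, hz, ← map_mul, mul_inv_cancel, map_one]
  obtain ⟨h, hh⟩ := FieldExt.exists_descent σ hr0 rfl g' hT'
  refine ⟨h⁻¹, ?_⟩
  rintro s ⟨x, hx, rfl⟩ i j
  refine hF₀ _ ?_
  have hsc : Matrix.GeneralLinearGroup.scalar (Fin n) z ∈ Geo.scalars (Fin n) F :=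
    (Geo.mem_scalars_iff _).2 ⟨z, by simp [Matrix.GeneralLinearGroup.coe_scalar, Matrix.smul_one_eq_diagonal]⟩
  have hx' : g' * FieldExt.glMap σ x * g'⁻¹ = x := by
    rw [hg', _root_.mul_inv_rev, show g * Matrix.GeneralLinearGroup.scalar (Fin n) z * FieldExt.glMap σ x *
      ((Matrix.GeneralLinearGroup.scalar (Fin n) z)⁻¹ * g⁻¹) =
      g * (Matrix.GeneralLinearGroup.scalar (Fin n) z * FieldExt.glMap σ x *
        (Matrix.GeneralLinearGroup.scalar (Fin n) z)⁻¹) * g⁻¹ by group,
      scalar_comm hsc, mul_inv_cancel_right, hσx x hx]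
  have hfix : FieldExt.glMap σ (h⁻¹ * x * h) = h⁻¹ * x * h := by
    have e : FieldExt.glMap σ h = g'⁻¹ * h := by rw [eq_inv_mul_iff_mul_eq, hh]
    rw [map_mul, map_mul, map_inv, e]
    conv_rhs => rw [← hx']
    group
  have := congrArg (fun m : GL (Fin n) F => (m : Matrix (Fin n) (Fin n) F) i j) hfix
  simp only [FieldExt.glMap_val, Matrix.map_apply, Units.val_mul] at this
  simpa only [inv_inv] using this

/-- A matrix invariant under an absolutely irreducible group is hermitian up to a scalar. -/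
theorem AbsIrr.herm_of_invariant [Nonempty ι] {N : Subgroup (GL ι F)} (hN : AbsIrr N) (σ : F ≃+* F)
    (hinv : ∀ a, σ (σ a) = a) {A : Matrix ι ι F} (hA : A.det ≠ 0)
    (hAN : ∀ x ∈ N, (x : Matrix ι ι F)ᵀ * A * (x : Matrix ι ι F).map σ = A) :
    ∃ l : F, (A.map σ)ᵀ = l • A ∧ l * σ l = 1 := by
  classical
  set A' := (A.map σ)ᵀ with hA'
  have hσ2 : ∀ M : Matrix ι ι F, (M.map σ).map σ = M := fun M => Matrix.ext fun i j => hinv _
  have hAN' : ∀ x ∈ N, (x : Matrix ι ι F)ᵀ * A' * (x : Matrix ι ι F).map σ = A' := by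
    intro x hx
    have h := congrArg (fun M : Matrix ι ι F => (M.map σ)ᵀ) (hAN x hx)
    simp only [Matrix.map_mul, Matrix.transpose_mul, hσ2, Matrix.transpose_map,
      Matrix.transpose_transpose] at h
    rw [mul_assoc]
    simpa only [hA', Matrix.transpose_map] using h
  set Ai := A⁻¹ with hAi
  have hAu : IsUnit A.det := isUnit_iff_ne_zero.2 hA
  obtain ⟨c, hc⟩ := hN.2 ((Ai * A').map σ) (by
    rintro s ⟨x, hx, rfl⟩
    simp only
    have h1 : ((x⁻¹ : GL ι F) : Matrix ι ι F)ᵀ * A = A * (x : Matrix ι ι F).map σ := by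
      conv_lhs => rw [← hAN x hx, ← mul_assoc, ← mul_assoc, ← Matrix.transpose_mul, Units.mul_inv,
        Matrix.transpose_one, one_mul]
    have h1' : ((x⁻¹ : GL ι F) : Matrix ι ι F)ᵀ * A' = A' * (x : Matrix ι ι F).map σ := by
      conv_lhs => rw [← hAN' x hx, ← mul_assoc, ← mul_assoc, ← Matrix.transpose_mul, Units.mul_inv,
        Matrix.transpose_one, one_mul]
    have h2 : Ai * A' * (x : Matrix ι ι F).map σ = (x : Matrix ι ι F).map σ * (Ai * A') := by
      calc Ai * A' * (x : Matrix ι ι F).map σ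
          = Ai * (((x⁻¹ : GL ι F) : Matrix ι ι F)ᵀ * A') := by rw [h1', mul_assoc]
        _ = Ai * (((x⁻¹ : GL ι F) : Matrix ι ι F)ᵀ * A) * (Ai * A') := by
            simp only [mul_assoc, hAi, Matrix.mul_nonsing_inv_cancel_left _ _ hAu]
        _ = _ := by simp only [h1, hAi, Matrix.nonsing_inv_mul_cancel_left _ _ hAu]
    have h3 := congrArg (fun M : Matrix ι ι F => M.map σ) h2
    simpa only [Matrix.map_mul, hσ2] using h3)
  have h1 : A' = σ c • A := by
    have h2 : Ai * A' = σ c • (1 : Matrix ι ι F) := by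
      rw [← hσ2 (Ai * A'), hc]
      ext i j
      by_cases h : i = j <;> simp [h]
    rw [← Matrix.mul_nonsing_inv_cancel_left A A' hAu, ← hAi, h2, mul_smul_comm, mul_one]
  refine ⟨σ c, h1, ?_⟩
  obtain ⟨i, j, hij⟩ : ∃ i j, A i j ≠ 0 := by
    by_contra hcon
    push Not at hcon
    exact hA (by rw [show A = 0 from Matrix.ext hcon, Matrix.det_zero])
  have e1 : σ (A j i) = σ c * A i j := congrFun (congrFun h1 i) j
  have e2 : σ (A i j) = σ c * A j i := congrFun (congrFun h1 j) i
  have h4 : A i j * 1 = A i j * (σ c * σ (σ c)) := by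
    calc A i j * 1 = σ (σ c * A j i) := by rw [mul_one, ← e2, hinv]
      _ = σ (σ c) * (σ c * A i j) := by rw [map_mul, e1]
      _ = _ := by ring
  exact (mul_left_cancel₀ hij h4).symm

/-- A sesquilinear invariant form from an anti-twist of the trace. -/
theorem AbsIrr.exists_sesq_form [Nonempty ι] {N : Subgroup (GL ι F)} (hN : AbsIrr N) (σ : F ≃+* F)
    (hinv : ∀ a, σ (σ a) = a)
    (htr : ∀ x ∈ N, σ (((x⁻¹ : GL ι F) : Matrix ι ι F).trace) = (x : Matrix ι ι F).trace) :
    ∃ A : Matrix ι ι F, A.det ≠ 0 ∧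
      ∀ x ∈ N, (x : Matrix ι ι F)ᵀ * A * (x : Matrix ι ι F).map σ = A := by
  classical
  obtain ⟨B, hB⟩ := hN.exists_intertwiner (twistDual N σ) (hN.span_twistDual σ) fun x => by
    show ((((x⁻¹ : N) : GL ι F) : Matrix ι ι F)ᵀ.map σ).trace = _
    rw [← htr x x.2]
    simp [Matrix.trace, map_sum]
  refine ⟨(B : Matrix ι ι F).map σ, ?_, fun x hx => ?_⟩
  · exact (Matrix.GeneralLinearGroup.det (Matrix.GeneralLinearGroup.map σ.toRingHom B)).ne_zero
  have h1 : twistDual N σ ⟨x, hx⟩ * B = B * x := by rw [hB]; group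
  have h2 : ((x⁻¹ : GL ι F) : Matrix ι ι F)ᵀ.map σ * (B : Matrix ι ι F) =
      (B : Matrix ι ι F) * (x : Matrix ι ι F) := congrArg Units.val h1
  have h3 := congrArg (fun M : Matrix ι ι F => M.map σ) h2
  simp only [Matrix.map_mul, Matrix.map_map] at h3
  rw [show (⇑σ ∘ ⇑σ : F → F) = id from funext hinv, Matrix.map_id] at h3
  rw [mul_assoc, ← h3, ← mul_assoc, ← Matrix.transpose_mul, Units.inv_mul, Matrix.transpose_one, one_mul]

end Cfsg.Agent.Aschbacher
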