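import Cfsg.Agent.Lib.Aschbacher.Structure
import Cfsg.Agent.Lib.Aschbacher.Common
import Cfsg.Agent.Lib.Aschbacher.Density
import Cfsg.Agent.Lib.Aschbacher.Twist

/-!
Absolutely irreducible groups that are abelian modulo scalars: the elements of exponent `r` or `4`, traces
and orders.
-/

set_option autoImplicit false

namespace Cfsg.Agent.Aschbacher

open Matrix
open scoped MatrixGroups

variable {ι : Type} [Fintype ι] [DecidableEq ι] {F : Type*} [Field F]

theorem mul_pow_of_comm {G : Type*} [Group G] {x y C : G} (hC : ∀ g, C * g = g * C)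
    (h : y * x = C * (x * y)) (N : ℕ) : (x * y) ^ N = C ^ N.choose 2 * (x ^ N * y ^ N) := by
  have hCN : ∀ (k : ℕ) g, C ^ k * g = g * C ^ k := fun k g =>
    ((show Commute C g from hC g).pow_left k).eq
  have h1 : ∀ k : ℕ, y ^ k * x = C ^ k * (x * y ^ k) := by
    intro k
    induction k with
    | zero => simp
    | succ k ih =>
      rw [pow_succ' y k, mul_assoc, ih, ← mul_assoc, ← hCN k y, mul_assoc, ← mul_assoc y x, h, pow_succ C k]
      simp only [mul_assoc]
  induction N with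
  | zero => simp
  | succ N ih =>
    rw [pow_succ, ih, Nat.choose_succ_succ', Nat.choose_one_right, pow_add, pow_succ x N, pow_succ y N]
    calc C ^ N.choose 2 * (x ^ N * y ^ N) * (x * y)
        = C ^ N.choose 2 * (x ^ N * (y ^ N * x) * y) := by simp only [mul_assoc]
      _ = C ^ N.choose 2 * (x ^ N * (C ^ N * (x * y ^ N)) * y) := by rw [h1]
      _ = C ^ N.choose 2 * (C ^ N * x ^ N * (x * y ^ N) * y) := by rw [hCN N (x ^ N)]; simp only [mul_assoc]
      _ = C ^ N * C ^ N.choose 2 * (x ^ N * x * (y ^ N * y)) := by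
        rw [← mul_assoc, ← mul_assoc, ← mul_assoc, hCN N (C ^ N.choose 2)]
        simp only [mul_assoc]

theorem scalar_of_pow_of_pow_succ {S : Subgroup (GL ι F)} {x : GL ι F} {a : ℤ}
    (h2 : x ^ 2 ∈ S) (h : x ^ (2 * a + 1) ∈ S) : x ∈ S := by
  have h3 : x = x ^ (2 * a + 1) * ((x ^ (2 : ℕ)) ^ a)⁻¹ := by
    rw [← zpow_natCast x 2, ← _root_.zpow_mul, ← _root_.zpow_neg, ← _root_.zpow_add]
    conv_lhs => rw [← zpow_one x]
    congr 1
    push_cast
    ring
  rw [h3]
  exact S.mul_mem h (S.inv_mem (S.zpow_mem h2 a))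

/-- The standing hypotheses: `M` is absolutely irreducible, abelian modulo scalars and minimal among the
non-scalar normal subgroups of `H`. -/
structure ClassTwo (H M : Subgroup (GL ι F)) : Prop where
  le : M ≤ H
  normal : NormalIn H M
  absIrr : AbsIrr M
  not_le : ¬ M ≤ Geo.scalars ι F
  comm : ∀ x ∈ M, ∀ y ∈ M, x * y * x⁻¹ * y⁻¹ ∈ Geo.scalars ι F
  all_absIrr : ∀ A, A ≤ H → NormalIn H A → ¬ A ≤ Geo.scalars ι F → AbsIrr A
  minimal : ∀ K, K ≤ M → NormalIn H K → ¬ K ≤ Geo.scalars ι F → K ⊔ (H ⊓ Geo.scalars ι F) = M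

namespace ClassTwo

variable {H M : Subgroup (GL ι F)} (h : ClassTwo H M)
include h

theorem exists_noncomm : ∃ x ∈ M, ∃ y ∈ M, x * y ≠ y * x := by
  by_contra hcon
  push Not at hcon
  exact h.not_le (h.absIrr.le_scalars_of_abelian hcon)

theorem exists_comm {x y : GL ι F} (hx : x ∈ M) (hy : y ∈ M) :
    ∃ C, C ∈ Geo.scalars ι F ∧ C ∈ M ∧ y * x = C * (x * y) :=
  ⟨y * x * y⁻¹ * x⁻¹, h.comm y hy x hx,
    M.mul_mem (M.mul_mem (M.mul_mem hy hx) (M.inv_mem hy)) (M.inv_mem hx), by group⟩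

/-- Some prime power map sends `M` into the scalars. -/
theorem exists_prime [Finite F] : ∃ r, r.Prime ∧ ∀ x ∈ M, x ^ r ∈ Geo.scalars ι F := by
  let π := QuotientGroup.mk' (Geo.scalars ι F)
  obtain ⟨x, hx, hxs⟩ := SetLike.not_le_iff_exists.1 h.not_le
  have hord : orderOf (π x) ≠ 1 := fun h1 => hxs ((QuotientGroup.eq_one_iff x).1 (orderOf_eq_one_iff.1 h1))
  obtain ⟨r, hr, hrd⟩ := Nat.exists_prime_and_dvd hord
  have hπ : ∀ a ∈ M, ∀ b ∈ M, Commute (π a) (π b) := fun a ha b hb => by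
    show π a * π b = π b * π a
    rw [← commutatorElement_eq_one_iff_mul_comm, ← map_commutatorElement]
    exact (QuotientGroup.eq_one_iff _).2 (h.comm a ha b hb)
  let K : Subgroup (GL ι F) :=
    { carrier := {a | a ∈ M ∧ π a ^ r = 1}
      one_mem' := ⟨M.one_mem, by simp⟩
      mul_mem' := fun {a b} ha hb =>
        ⟨M.mul_mem ha.1 hb.1, by rw [map_mul, (hπ a ha.1 b hb.1).mul_pow, ha.2, hb.2, one_mul]⟩
      inv_mem' := fun {a} ha => ⟨M.inv_mem ha.1, by rw [map_inv, inv_pow, ha.2, inv_one]⟩ }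
  refine ⟨r, hr, fun a ha => ?_⟩
  have hKn : NormalIn H K := fun g hg a ha => ⟨h.normal g hg a ha.1, by
    rw [map_mul, map_mul, map_inv, conj_pow, ha.2, mul_one, mul_inv_cancel]⟩
  have hKs : ¬ K ≤ Geo.scalars ι F := fun hle => by
    obtain ⟨c, hc⟩ := hrd
    have hmem : x ^ c ∈ K := ⟨M.pow_mem hx c, by
      rw [map_pow, ← pow_mul, mul_comm, ← hc, pow_orderOf_eq_one]⟩
    have h1 : π x ^ c = 1 := by
      rw [← map_pow]; exact (QuotientGroup.eq_one_iff _).2 (hle hmem)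
    have h2 := orderOf_dvd_of_pow_eq_one h1
    rw [hc] at h2
    rcases Nat.eq_zero_or_pos c with rfl | hc0
    · rw [mul_zero] at hc; exact absurd hc (orderOf_pos (π x)).ne'
    · exact absurd (Nat.le_of_dvd hc0 h2) (_root_.not_le.2 (lt_mul_of_one_lt_left hc0 hr.one_lt))
  have hMK : M ≤ K := by
    rw [← h.minimal K (fun a ha => ha.1) hKn hKs]
    refine sup_le le_rfl fun z hz => ⟨?_, by
      rw [show π z = 1 from (QuotientGroup.eq_one_iff z).2 hz.2, one_pow]⟩
    rw [← h.minimal K (fun a ha => ha.1) hKn hKs]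
    exact Subgroup.mem_sup_right hz
  have := (hMK ha).2
  rw [← map_pow] at this
  exact (QuotientGroup.eq_one_iff _).1 this

set_option linter.unusedSectionVars false in
theorem comm_pow_eq_one {r : ℕ} (hr : ∀ x ∈ M, x ^ r ∈ Geo.scalars ι F) {x y C : GL ι F}
    (hx : x ∈ M) (hC : C ∈ Geo.scalars ι F) (hxy : y * x = C * (x * y)) : C ^ r = 1 := by
  have h1 : y * x * y⁻¹ = C * x := by rw [hxy]; group
  have h2 : y * x ^ r * y⁻¹ = C ^ r * x ^ r := by
    rw [← conj_pow, h1, (show Commute C x from scalar_comm hC x).mul_pow]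
  rw [← scalar_comm (hr x hx) y, mul_inv_cancel_right] at h2
  exact mul_eq_right.1 h2.symm

theorem trace_eq_zero {x : GL ι F} (hx : x ∈ M) (hxs : x ∉ Geo.scalars ι F) :
    (x : Matrix ι ι F).trace = 0 := by
  by_contra ht
  refine hxs (h.absIrr.scalar_of_comm fun y hy => ?_)
  obtain ⟨C, hC, -, hxy⟩ := h.exists_comm hx hy
  obtain ⟨c, hc⟩ := (Geo.mem_scalars_iff C).1 hC
  have h1 : y * x * y⁻¹ = C * x := by rw [hxy]; group
  have h2 : ((y * x * y⁻¹ : GL ι F) : Matrix ι ι F).trace = (x : Matrix ι ι F).trace := by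
    rw [Units.val_mul, Units.val_mul, Matrix.trace_units_conj]
  rw [h1, Units.val_mul, hc, smul_mul_assoc, one_mul, Matrix.trace_smul, smul_eq_mul,
    mul_left_eq_self₀] at h2
  have hC1 : C = 1 := Units.ext (by rw [hc, h2.resolve_right ht]; simp)
  rw [hC1, one_mul] at hxy
  exact hxy.symm

/-- The scalars in `M` contain a primitive `r`-th root of unity. -/
theorem exists_root [Nonempty ι] {r : ℕ} (hrp : r.Prime) (hr : ∀ x ∈ M, x ^ r ∈ Geo.scalars ι F) :
    ∃ (W : GL ι F) (ω : F), W ∈ M ∧ (W : Matrix ι ι F) = ω • 1 ∧ IsPrimitiveRoot ω r := by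
  obtain ⟨x, hx, y, hy, hxy⟩ := h.exists_noncomm
  obtain ⟨C, hC, hCM, hCxy⟩ := h.exists_comm hx hy
  obtain ⟨c, hc⟩ := (Geo.mem_scalars_iff C).1 hC
  refine ⟨C, c, hCM, hc, ?_⟩
  have hcr : (c : F) ^ r = 1 := by
    have h1 := congrArg Units.val (h.comm_pow_eq_one hr hx hC hCxy)
    rw [Units.val_pow_eq_pow_val, hc, smul_pow, one_pow, Units.val_one] at h1
    obtain ⟨i⟩ := ‹Nonempty ι›
    simpa using congrFun (congrFun h1 i) i
  rw [IsPrimitiveRoot.iff_orderOf]
  have := Fact.mk hrp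
  refine orderOf_eq_prime hcr fun h1 => hxy ?_
  have hC1 : C = 1 := Units.ext (by rw [hc, h1]; simp)
  rw [hCxy, hC1, one_mul]

/-- A non-scalar element of order dividing `r` (`r` odd), resp. `4` (`r = 2`). -/
theorem exists_small [Finite F] [Nonempty ι] {r : ℕ} (hrp : r.Prime)
    (hr : ∀ x ∈ M, x ^ r ∈ Geo.scalars ι F) :
    ∃ u ∈ M, u ∉ Geo.scalars ι F ∧ u ^ (if r = 2 then 4 else r) = 1 := by
  classical
  have hcyc : IsCyclic (Geo.scalars ι F) :=
    isCyclic_of_surjective _ ((Units.map (Matrix.scalar ι : F →+* Matrix ι ι F).toMonoidHom).rangeRestrict_surjective)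
  have hcyc' : IsCyclic (M ⊓ Geo.scalars ι F : Subgroup (GL ι F)) :=
    isCyclic_of_injective (Subgroup.inclusion inf_le_right) (Subgroup.inclusion_injective _)
  obtain ⟨⟨ζ, hζ⟩, hgen⟩ := hcyc'.exists_generator
  have hpow : ∀ x ∈ M, x ∈ Geo.scalars ι F → ∃ i : ℤ, x = ζ ^ i := fun x hx hxs => by
    obtain ⟨i, hi⟩ := hgen ⟨x, hx, hxs⟩
    exact ⟨i, by simpa using (congrArg Subtype.val hi).symm⟩
  have hζc : ∀ g : GL ι F, Commute ζ g := fun g => scalar_comm hζ.2 g
  have hadj : ∀ w ∈ M, w ∉ Geo.scalars ι F → ∀ a : ℤ, w ^ r = ζ ^ ((r : ℤ) * a) →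
      ∃ u ∈ M, u ∉ Geo.scalars ι F ∧ u ^ r = 1 := by
    intro w hw hws a ha
    refine ⟨w * (ζ ^ a)⁻¹, M.mul_mem hw (M.inv_mem (M.zpow_mem hζ.1 a)), fun hs => hws ?_, ?_⟩
    · have := (Geo.scalars ι F).mul_mem hs ((Geo.scalars ι F).zpow_mem hζ.2 a)
      rwa [inv_mul_cancel_right] at this
    · rw [(((hζc w).zpow_left a).inv_left).symm.mul_pow, ha, inv_pow, ← zpow_natCast (ζ ^ a), ← _root_.zpow_mul,
        mul_comm a, mul_inv_cancel]
  obtain ⟨x, hx, y, hy, hxy⟩ := h.exists_noncomm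
  have hxs : x ∉ Geo.scalars ι F := fun hs => hxy (scalar_comm hs y)
  have hws : ∀ k : ℕ, x ^ k * y ∉ Geo.scalars ι F := fun k hs => hxy <| by
    have h1 : Commute (x ^ k * y) x := scalar_comm hs x
    have h2 : Commute ((x ^ k)⁻¹ * (x ^ k * y)) x :=
      ((Commute.refl x).pow_left k).inv_left.mul_left h1
    rw [inv_mul_cancel_left] at h2
    exact h2.eq.symm
  obtain ⟨i, hi⟩ := hpow _ (M.pow_mem hx r) (hr x hx)
  obtain ⟨j, hj⟩ := hpow _ (M.pow_mem hy r) (hr y hy)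
  by_cases h2 : r = 2
  · subst h2
    simp only [if_true]
    have hsq : ∀ u : GL ι F, u ^ 2 = 1 → u ^ 4 = 1 := fun u hu => by
      rw [show 4 = 2 * 2 from rfl, pow_mul, hu, one_pow]
    rcases Int.even_or_odd i with ⟨a, ha⟩ | ⟨a, ha⟩
    · obtain ⟨u, hu, hus, hu1⟩ := hadj x hx hxs a (by rw [hi, ha]; congr 1; push_cast; ring)
      exact ⟨u, hu, hus, hsq u hu1⟩
    rcases Int.even_or_odd j with ⟨b, hb⟩ | ⟨b, hb⟩
    · have hys : y ∉ Geo.scalars ι F := fun hs => hxy (scalar_comm hs x).symm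
      obtain ⟨u, hu, hus, hu1⟩ := hadj y hy hys b (by rw [hj, hb]; congr 1; push_cast; ring)
      exact ⟨u, hu, hus, hsq u hu1⟩
    obtain ⟨C, hC, hCM, hCxy⟩ := h.exists_comm hx hy
    obtain ⟨g, hg⟩ := hpow C hCM hC
    rcases Int.even_or_odd g with ⟨c, hc⟩ | ⟨c, hc⟩
    · have h1 : (x * y) ^ 2 = ζ ^ ((2 : ℕ) * (c + a + b + 1) : ℤ) := by
        rw [mul_pow_of_comm (scalar_comm hC) hCxy, show (2 : ℕ).choose 2 = 1 from rfl, pow_one, hi, hj, hg,
          ← _root_.zpow_add, ← _root_.zpow_add, ha, hb, hc]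
        congr 1
        push_cast
        ring
      have hxy' : x * y ∉ Geo.scalars ι F := by simpa using hws 1
      obtain ⟨u, hu, hus, hu1⟩ := hadj _ (M.mul_mem hx hy) hxy' _ h1
      exact ⟨u, hu, hus, hsq u hu1⟩
    · refine ⟨x ^ g, M.zpow_mem hx g, fun hs => hxs ?_, ?_⟩
      · exact scalar_of_pow_of_pow_succ (a := c) (hr x hx) (hc ▸ hs)
      · have hC2 : C ^ 2 = 1 := h.comm_pow_eq_one hr hx hC hCxy
        have e : (x ^ g) ^ 4 = ((ζ ^ g) ^ 2) ^ i := by
          rw [← zpow_natCast (x ^ g) 4, ← zpow_natCast (ζ ^ g) 2, ← _root_.zpow_mul, ← _root_.zpow_mul, ← _root_.zpow_mul,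
            show g * ((4 : ℕ) : ℤ) = ((2 : ℕ) : ℤ) * (g * 2) by push_cast; ring, _root_.zpow_mul, zpow_natCast, hi,
            ← _root_.zpow_mul]
          congr 1
          push_cast
          ring
        rw [e, ← hg, hC2, _root_.one_zpow]
  · simp only [if_neg h2]
    have hr2 : 2 < r := lt_of_le_of_ne hrp.two_le (Ne.symm h2)
    by_cases hi0 : (r : ℤ) ∣ i
    · obtain ⟨a, rfl⟩ := hi0
      exact hadj x hx hxs a hi
    have := Fact.mk hrp
    obtain ⟨k, a, hk⟩ : ∃ (k : ℕ) (a : ℤ), (k : ℤ) * i + j = (r : ℤ) * a := by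
      refine ⟨((-(j : ZMod r)) * (i : ZMod r)⁻¹).val, ?_⟩
      refine (ZMod.intCast_zmod_eq_zero_iff_dvd _ r).1 ?_
      push_cast
      rw [ZMod.natCast_zmod_val, mul_assoc, inv_mul_cancel₀ fun h0 =>
        hi0 ((ZMod.intCast_zmod_eq_zero_iff_dvd i r).1 h0)]
      ring
    obtain ⟨C, hC, -, hCxy⟩ := h.exists_comm (M.pow_mem hx k) hy
    refine hadj (x ^ k * y) (M.mul_mem (M.pow_mem hx k) hy) (hws k) a ?_
    obtain ⟨c, hc⟩ := hrp.dvd_choose_self two_ne_zero hr2
    rw [mul_pow_of_comm (scalar_comm hC) hCxy, hc, pow_mul, h.comm_pow_eq_one hr (M.pow_mem hx k) hC hCxy,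
      one_pow, one_mul, ← pow_mul, mul_comm k, pow_mul, hi, hj, ← hk, _root_.zpow_add, mul_comm (k : ℤ), _root_.zpow_mul,
      zpow_natCast]

end ClassTwo

/-- An absolutely irreducible group whose non-scalar elements have trace zero has `n ^ 2` cosets modulo
scalars. -/
theorem card_of_traceless [Finite F] [Nonempty ι] {R : Subgroup (GL ι F)} (hR : AbsIrr R)
    (ht : ∀ x ∈ R, x ∉ Geo.scalars ι F → (x : Matrix ι ι F).trace = 0) :
    (Fintype.card ι : F) ≠ 0 ∧
      Nat.card R = Fintype.card ι ^ 2 * Nat.card ((Geo.scalars ι F).subgroupOf R) := by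
  classical
  have hn0 : (Fintype.card ι : F) ≠ 0 := by
    intro h0
    have hall : ∀ X : Matrix ι ι F, ((1 : Matrix ι ι F) * X).trace = 0 := fun X => by
      have hX : X ∈ spanMat R := hR.spanMat_eq_top ▸ Submodule.mem_top
      rw [one_mul]
      induction hX using Submodule.span_induction with
      | mem y hy =>
        obtain ⟨y, hy, rfl⟩ := hy
        by_cases hs : y ∈ Geo.scalars ι F
        · obtain ⟨c, hc⟩ := (Geo.mem_scalars_iff y).1 hs
          simp [hc, h0]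
        · exact ht y hy hs
      | zero => exact Matrix.trace_zero ι F
      | add a b _ _ iha ihb => rw [Matrix.trace_add, iha, ihb, add_zero]
      | smul c a _ ih => rw [Matrix.trace_smul, ih, smul_zero]
    exact one_ne_zero (α := Matrix ι ι F) (eq_zero_of_trace_mul hall)
  refine ⟨hn0, ?_⟩
  set S := (Geo.scalars ι F).subgroupOf R
  have : Fintype (R ⧸ S) := Fintype.ofFinite _
  let f : R ⧸ S → Matrix ι ι F := fun q => ((q.out : R) : GL ι F).val
  have hli : LinearIndependent F f := by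
    rw [Fintype.linearIndependent_iff]
    intro g hg q₀
    set y : GL ι F := ((q₀.out : R) : GL ι F)
    have h1 := congrArg (fun X => (X * ((y⁻¹ : GL ι F) : Matrix ι ι F)).trace) hg
    simp only [zero_mul, Matrix.trace_zero, Finset.sum_mul, Matrix.trace_sum, smul_mul_assoc,
      Matrix.trace_smul, smul_eq_mul] at h1
    rw [Finset.sum_eq_single q₀ (fun q _ hq => ?_) (fun hn => absurd (Finset.mem_univ q₀) hn)] at h1
    · have h2 : f q₀ * ((y⁻¹ : GL ι F) : Matrix ι ι F) = 1 := by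
        show (y : Matrix ι ι F) * _ = 1
        exact y.mul_inv
      rw [h2, Matrix.trace_one] at h1
      exact (mul_eq_zero.1 h1).resolve_right hn0
    rw [show f q * ((y⁻¹ : GL ι F) : Matrix ι ι F) = (((q.out : R) : GL ι F) * y⁻¹).val from rfl,
      ht _ (R.mul_mem q.out.2 (R.inv_mem q₀.out.2)) fun hs => hq ?_, mul_zero]
    rw [← QuotientGroup.out_eq' q, ← QuotientGroup.out_eq' q₀, eq_comm, QuotientGroup.eq]
    show ((q₀.out : R) : GL ι F)⁻¹ * ((q.out : R) : GL ι F) ∈ Geo.scalars ι F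
    have h3 := Geo.scalars_normal.conj_mem _ hs y⁻¹
    simpa [y, mul_assoc] using h3
  have hsp : ⊤ ≤ Submodule.span F (Set.range f) := by
    rw [← hR.spanMat_eq_top, spanMat, Submodule.span_le]
    rintro _ ⟨x, hx, rfl⟩
    obtain ⟨s, hs⟩ := QuotientGroup.mk_out_eq_mul S ⟨x, hx⟩
    obtain ⟨c, hc⟩ := (Geo.mem_scalars_iff _).1 s.2
    have h1 : f (QuotientGroup.mk ⟨x, hx⟩) = (c : F) • (x : Matrix ι ι F) := by
      show (((Quotient.out _ : R) : GL ι F) : Matrix ι ι F) = _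
      rw [hs, Subgroup.coe_mul, Units.val_mul, show (((s : R) : GL ι F) : Matrix ι ι F) = (c : F) • 1 from hc,
        mul_smul_comm, mul_one]
    have h2 : (x : Matrix ι ι F) = (c : F)⁻¹ • f (QuotientGroup.mk ⟨x, hx⟩) := by
      rw [h1, smul_smul, inv_mul_cancel₀ c.ne_zero, one_smul]
    show (x : Matrix ι ι F) ∈ _
    rw [h2]
    exact Submodule.smul_mem _ _ (Submodule.subset_span ⟨_, rfl⟩)
  have hcard := Module.finrank_eq_card_basis (Module.Basis.mk hli hsp)
  rw [Module.finrank_matrix, Module.finrank_self, mul_one, ← pow_two, ← Nat.card_eq_fintype_card,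
    ← Nat.card_eq_fintype_card (α := R ⧸ S)] at hcard
  rw [Subgroup.card_eq_card_quotient_mul_card_subgroup S, ← hcard, Nat.card_eq_fintype_card]

end Cfsg.Agent.Aschbacher
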