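import Cfsg.Agent.Lib.Aschbacher.OddDim
import Cfsg.Agent.Lib.Aschbacher.Twist

/-!
The possible outcomes for a subgroup of `SL_n(q)`, and how invariant forms give them.
-/

set_option autoImplicit false

namespace Cfsg.Agent.Aschbacher

open Matrix
open scoped MatrixGroups

section Matrix

variable {ι : Type} [Fintype ι] [DecidableEq ι] {F : Type*} [Field F]

/-- The sesquilinear form with matrix `A`. -/
def matForm (σ : F → F) (A : Matrix ι ι F) (u v : ι → F) : F := u ⬝ᵥ (A *ᵥ (σ ∘ v))

omit [DecidableEq ι] in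
theorem matForm_isSesq (σ : F →+* F) (A : Matrix ι ι F) : IsSesq σ (matForm σ A) where
  add_left x y v := by simp [matForm, add_dotProduct]
  smul_left c x v := by simp [matForm, smul_dotProduct]
  add_right v x y := by
    show _ ⬝ᵥ _ = _
    rw [show σ ∘ (x + y) = (σ ∘ x) + (σ ∘ y) from funext fun i => map_add σ _ _, Matrix.mulVec_add,
      dotProduct_add]
    rfl
  smul_right c v x := by
    show _ ⬝ᵥ _ = _
    rw [show σ ∘ (c • x) = σ c • (σ ∘ x) from funext fun i => map_mul σ _ _, Matrix.mulVec_smul,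
      dotProduct_smul]
    rfl

omit [DecidableEq ι] in
theorem matForm_conj (σ : F →+* F) (A x : Matrix ι ι F) (u v : ι → F) :
    matForm σ A (x *ᵥ u) (x *ᵥ v) = matForm σ (xᵀ * A * x.map σ) u v := by
  simp only [matForm]
  rw [show σ ∘ (x *ᵥ v) = x.map σ *ᵥ (σ ∘ v) from funext fun i => RingHom.map_mulVec σ x v i,
    Matrix.mulVec_mulVec, mul_assoc, ← Matrix.mulVec_mulVec (M := xᵀ), Matrix.dotProduct_mulVec u xᵀ,
    Matrix.vecMul_transpose]

omit [DecidableEq ι] in
theorem matForm_transpose (A : Matrix ι ι F) (u v : ι → F) :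
    matForm id Aᵀ u v = matForm id A v u := by
  simp only [matForm, Function.id_comp]
  rw [Matrix.mulVec_transpose, Matrix.dotProduct_mulVec, dotProduct_comm]

omit [DecidableEq ι] in
theorem matForm_smul (σ : F → F) (c : F) (A : Matrix ι ι F) (u v : ι → F) :
    matForm σ (c • A) u v = c * matForm σ A u v := by
  simp [matForm, Matrix.smul_mulVec, dotProduct_smul]

theorem matForm_nondegenerate (σ : F ≃+* F) {A : Matrix ι ι F} (hA : A.det ≠ 0) :
    Geo.IsNondegenerateForm (matForm σ.toRingHom A) := by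
  intro v hv
  constructor
  · by_contra hcon
    push Not at hcon
    have h0 : A *ᵥ (σ.toRingHom ∘ v) = 0 := funext fun i => by
      simpa [matForm] using hcon (Pi.single i 1)
    exact hv (funext fun i => σ.injective
      ((congrFun (Matrix.eq_zero_of_mulVec_eq_zero hA h0) i).trans (map_zero σ).symm))
  · by_contra hcon
    push Not at hcon
    have h0 : v ᵥ* A = 0 := funext fun i => by
      have h1 := hcon (Pi.single i 1)
      simp only [matForm] at h1
      rw [show σ.toRingHom ∘ (Pi.single i (1 : F) : ι → F) = Pi.single i 1 from funext fun k => by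
        by_cases hk : k = i
        · subst hk; simp
        · simp [hk], Matrix.dotProduct_mulVec, dotProduct_single, mul_one] at h1
      exact h1
    exact hv (Matrix.eq_zero_of_vecMul_eq_zero hA h0)

theorem matForm_bilinear (A : Matrix ι ι F) : Geo.IsBilinearForm (matForm id A) :=
  let h := matForm_isSesq (RingHom.id F) A
  ⟨h.add_left, h.smul_left, h.add_right, h.smul_right⟩

/-- A skew matrix with zero diagonal gives a symplectic form. -/
theorem matForm_symplectic {A : Matrix ι ι F} (hA : A.det ≠ 0) (hskew : Aᵀ = -A) (hdiag : ∀ i, A i i = 0) :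
    Geo.IsSymplecticForm (matForm id A) := by
  classical
  have hs : ∀ v w, matForm id A v w = - matForm id A w v := by
    intro v w
    rw [← matForm_transpose A v w, hskew]
    simp [matForm, Matrix.neg_mulVec]
  refine ⟨matForm_bilinear A, hs, fun v => ?_, matForm_nondegenerate (RingEquiv.refl F) hA⟩
  simp only [matForm, Function.id_comp, dotProduct, Matrix.mulVec, Finset.mul_sum]
  rw [← Fintype.sum_prod_type' fun i j => v i * (A i j * v j)]
  refine Finset.sum_involution (fun p _ => p.swap) (fun p _ => ?_) (fun p _ hne heq => hne ?_)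
    (fun p _ => Finset.mem_univ _) (fun p _ => Prod.swap_swap p)
  · have h : A p.2 p.1 = - A p.1 p.2 := congrFun (congrFun hskew p.1) p.2
    simp only [Prod.fst_swap, Prod.snd_swap, h]
    ring
  · obtain ⟨i, j⟩ := p
    have hij : j = i := congrArg Prod.fst heq
    subst hij
    simp [hdiag]

/-- A symmetric matrix gives a quadratic form in odd characteristic. -/
theorem matForm_quadratic (h2 : (2 : F) ≠ 0) {A : Matrix ι ι F} (hA : A.det ≠ 0) (hsymm : Aᵀ = A) :
    Geo.IsNondegenerateQuadraticForm (fun v => matForm id A v v) := by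
  have hs := matForm_bilinear A
  have hsy : ∀ u v, matForm id A v u = matForm id A u v := fun u v => by
    rw [← matForm_transpose A u v, hsymm]
  have hp : ∀ u v, QuadraticMap.polar (fun v => matForm id A v v) u v = 2 * matForm id A u v := by
    intro u v
    simp only [QuadraticMap.polar, hs.add_left, hs.add_right, hsy u v]
    ring
  refine ⟨fun c v => ?_, ⟨fun x y v => ?_, fun c x v => ?_, fun v x y => ?_, fun c v x => ?_⟩, ?_⟩
  · simp only [hs.smul_left, hs.smul_right]; ring
  · simp only [hp, hs.add_left, mul_add]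
  · simp only [hp, hs.smul_left]; ring
  · simp only [hp, hs.add_right, mul_add]
  · simp only [hp, hs.smul_right]; ring
  · intro v hv
    obtain ⟨⟨x, hx⟩, y, hy⟩ := matForm_nondegenerate (RingEquiv.refl F) hA v hv
    exact ⟨⟨x, by rw [hp]; exact mul_ne_zero h2 hx⟩, ⟨y, by rw [hp]; exact mul_ne_zero h2 hy⟩⟩

/-- A hermitian matrix gives a unitary form. -/
theorem matForm_unitary (σ : F ≃+* F) (hne : σ ≠ RingEquiv.refl F) (hinv : ∀ a, σ (σ a) = a)
    {A : Matrix ι ι F} (hA : A.det ≠ 0) (hherm : (A.map σ)ᵀ = A) :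
    Geo.IsUnitaryForm σ (matForm σ.toRingHom A) where
  ne_refl := hne
  involutive := hinv
  add_left := (matForm_isSesq _ A).add_left
  smul_left := (matForm_isSesq _ A).smul_left
  herm v w := by
    simp only [matForm, RingEquiv.toRingHom_eq_coe, RingHom.coe_coe, dotProduct, Matrix.mulVec,
      Finset.mul_sum, map_sum, map_mul, Function.comp_apply, hinv]
    rw [Finset.sum_comm]
    refine Finset.sum_congr rfl fun i _ => Finset.sum_congr rfl fun j _ => ?_
    rw [show σ (A i j) = A j i from congrFun (congrFun hherm j) i]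
    ring
  nondegenerate := matForm_nondegenerate σ hA

end Matrix

variable {n : ℕ} {F : Type*} [Field F] [Fintype F]

/-- The geometric classes that occur in the proof, with their numerical conditions, or the residual
class. -/
inductive LinearOutcome (H : Subgroup (GL (Fin n) F)) : Prop
  | reducible (W : Submodule F (Fin n → F)) (h0 : W ≠ ⊥) (h1 : W ≠ ⊤)
      (hle : H ≤ Geo.subspaceStabilizer W)
  | imprimitive (t m : ℕ) (D : Fin t → Submodule F (Fin n → F)) (hD : Geo.IsMDecomposition m D)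
      (hle : H ≤ Geo.decompositionStabilizer D)
  | field (r : ℕ) (K : Subalgebra F (Matrix (Fin n) (Fin n) F)) (hr : r.Prime)
      (hK : Geo.IsFieldSubalgebra r K) (hle : H ≤ Geo.subalgebraNormalizer K)
  | tensor (n₁ n₂ : ℕ) (e : Fin n ≃ Fin n₁ × Fin n₂) (P : GL (Fin n) F) (h2 : 2 ≤ n₁) (hlt : n₁ < n₂)
      (hle : H ≤ Geo.tensorProductSubgroup n₁ n₂ e P)
  | subfield (F₀ : Subfield F) (r : ℕ) (P : GL (Fin n) F) (hr : r.Prime)
      (hcard : Fintype.card F = Nat.card F₀ ^ r) (hle : H ≤ Geo.subfieldSubgroup F₀ P)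
  | symplecticType (r k : ℕ) (R : Subgroup (GL (Fin n) F)) (hn : n = r ^ k)
      (hR : Geo.IsLinearSymplecticTypeData r R)
      (hcl : ∀ x ∈ R, ∀ y ∈ R, x * y * x⁻¹ * y⁻¹ ∈ Geo.scalars (Fin n) F)
      (hle : H ≤ Geo.subgroupNormalizer R)
  | tensorPower (m t : ℕ) (e : Fin n ≃ (Fin t → Fin m)) (P : GL (Fin n) F) (hm : 3 ≤ m) (ht : 2 ≤ t)
      (hle : H ≤ Geo.tensorWreathSubgroup m t e P)
  | symplectic (f : (Fin n → F) → (Fin n → F) → F) (hf : Geo.IsSymplecticForm f) (hn : Even n)
      (hle : H ≤ Geo.similarityGroup f)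
  | unitary (σ : F ≃+* F) (f : (Fin n → F) → (Fin n → F) → F) (hf : Geo.IsUnitaryForm σ f)
      (hle : H ≤ Geo.similarityGroup f)
  | quadratic (Q : (Fin n → F) → F) (hQ : Geo.IsNondegenerateQuadraticForm Q)
      (hodd : Odd (Fintype.card F)) (hle : H ≤ Geo.quadSimilarityGroup Q)
  | residual (h : Geo.InLinearResidualClass H)

theorem odd_card_of_two_ne_zero (h : (2 : F) ≠ 0) : Odd (Fintype.card F) := by
  rw [← Nat.not_even_iff_odd]
  intro h1
  have : CharP F 2 := ringChar.of_eq (FiniteField.even_card_iff_char_two.2 (Nat.even_iff.1 h1))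
  exact h CharTwo.two_eq_zero

omit [Fintype F] in
theorem even_of_symplectic {f : (Fin n → F) → (Fin n → F) → F} (hf : Geo.IsSymplecticForm f) : Even n := by
  by_contra h
  exact no_symplectic (by rw [Fintype.card_fin]; exact Nat.not_even_iff_odd.1 h) hf

theorem LinearOutcome.of_symplectic {H : Subgroup (GL (Fin n) F)} {A : Matrix (Fin n) (Fin n) F}
    (hA : A.det ≠ 0) (hskew : Aᵀ = -A) (hdiag : ∀ i, A i i = 0)
    (hle : H ≤ Geo.similarityGroup (matForm id A)) : LinearOutcome H :=
  .symplectic _ (matForm_symplectic hA hskew hdiag) (even_of_symplectic (matForm_symplectic hA hskew hdiag))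
    hle

theorem LinearOutcome.of_quadratic {H : Subgroup (GL (Fin n) F)} {A : Matrix (Fin n) (Fin n) F}
    (h2 : (2 : F) ≠ 0) (hA : A.det ≠ 0) (hsymm : Aᵀ = A)
    (hle : H ≤ Geo.similarityGroup (matForm id A)) : LinearOutcome H := by
  refine .quadratic _ (matForm_quadratic h2 hA hsymm) (odd_card_of_two_ne_zero h2) fun g hg => ?_
  obtain ⟨c, hc⟩ := hle hg
  exact ⟨c, fun v => hc v v⟩

/-- An absolutely irreducible normal subgroup with an invariant bilinear form, odd characteristic. -/
theorem LinearOutcome.of_bilinear [NeZero n] (h2 : (2 : F) ≠ 0) {H N : Subgroup (GL (Fin n) F)}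
    (hN : AbsIrr N) (hn : NormalIn H N) {A : Matrix (Fin n) (Fin n) F} (hA : A.det ≠ 0)
    (hAN : ∀ x ∈ N, (x : Matrix (Fin n) (Fin n) F)ᵀ * A * (x : Matrix (Fin n) (Fin n) F) = A) :
    LinearOutcome H := by
  obtain ⟨l, hl, hll⟩ := hN.herm_of_invariant (RingEquiv.refl F) (fun a => rfl) hA
    (fun x hx => by simpa using hAN x hx)
  have hle : H ≤ Geo.similarityGroup (matForm id A) := by
    refine hN.le_similarityGroup (matForm_isSesq (RingHom.id F) A)
      (matForm_nondegenerate (RingEquiv.refl F) hA) ?_ hn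
    rintro s ⟨x, hx, rfl⟩ u v
    rw [matForm_conj]
    simp [hAN x hx]
  have hl' : Aᵀ = l • A := by simpa using hl
  rcases mul_self_eq_one_iff.1 (show l * l = 1 from hll) with rfl | rfl
  · exact .of_quadratic h2 hA (by simpa using hl') hle
  · refine .of_symplectic hA (by simpa using hl') (fun i => ?_) hle
    have h : A i i = - A i i := by simpa using congrFun (congrFun hl' i) i
    exact (mul_eq_zero.1 (show (2 : F) * A i i = 0 by linear_combination h)).resolve_left h2

/-- An absolutely irreducible normal subgroup with an invariant sesquilinear form. -/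
theorem LinearOutcome.of_sesq [NeZero n] {H N : Subgroup (GL (Fin n) F)} (hN : AbsIrr N)
    (hn : NormalIn H N) (σ : F ≃+* F) (hne : σ ≠ RingEquiv.refl F) (hinv : ∀ a, σ (σ a) = a)
    {A : Matrix (Fin n) (Fin n) F} (hA : A.det ≠ 0)
    (hAN : ∀ x ∈ N, (x : Matrix (Fin n) (Fin n) F)ᵀ * A * (x : Matrix (Fin n) (Fin n) F).map σ = A) :
    LinearOutcome H := by
  obtain ⟨l, hl, hll⟩ := hN.herm_of_invariant σ hinv hA hAN
  obtain ⟨w, hw⟩ : ∃ w : F, w + l * σ w ≠ 0 := by
    by_contra hcon
    push Not at hcon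
    have h1 : l = -1 := by have := hcon 1; rw [map_one, mul_one] at this; linear_combination this
    refine hne (RingEquiv.ext fun a => ?_)
    have := hcon a
    rw [h1] at this
    show σ a = a
    linear_combination -this
  set μ := w + l * σ w with hμ
  have hB : (μ • A).det ≠ 0 := by
    rw [Matrix.det_smul]; exact mul_ne_zero (pow_ne_zero _ hw) hA
  have hherm : ((μ • A).map σ)ᵀ = μ • A := by
    have h1 : σ μ * l = μ := by
      rw [hμ, map_add, map_mul, hinv]
      linear_combination w * hll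
    have h2 : ((μ • A).map σ)ᵀ = σ μ • (A.map σ)ᵀ := Matrix.ext fun i j => map_mul σ _ _
    rw [h2, hl, smul_smul, h1]
  have hU := matForm_unitary σ hne hinv hB hherm
  refine .unitary σ _ hU (hN.le_similarityGroup (IsSesq.of_unitary hU) hU.nondegenerate ?_ hn)
  rintro s ⟨x, hx, rfl⟩ u v
  rw [matForm_conj]
  congr 1
  rw [mul_smul_comm, smul_mul_assoc]
  congr 1
  exact hAN x hx

/-- An absolutely irreducible normal subgroup realised over a proper subfield. -/
theorem LinearOutcome.of_realisable [NeZero n] {H N : Subgroup (GL (Fin n) F)} (hN : AbsIrr N)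
    (hn : NormalIn H N) {F₁ : Subfield F} (hF₁ : F₁ ≠ ⊤) (h : Geo.RealisableOver F₁ (Geo.matrixSet N)) :
    LinearOutcome H := by
  obtain ⟨B, hB⟩ := h
  obtain ⟨F₀, r, hle, hr, hcard⟩ := exists_prime_index hF₁
  exact .subfield F₀ r B⁻¹ hr hcard (hN.le_subfieldSubgroup (fun s hs i j => hle (hB s hs i j)) hn)

/-- The outcomes are members of the geometric classes. -/
theorem LinearOutcome.inLinearClass (hn : 3 ≤ n) {H : Subgroup (GL (Fin n) F)} (h : LinearOutcome H) :
    (∃ M, Geo.InLinearClass n F M ∧ H ≤ M) ∨ Geo.InLinearResidualClass H := by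
  cases h with
  | reducible W h0 h1 hle => exact Or.inl ⟨_, Or.inl ⟨W, h0, h1, rfl⟩, hle⟩
  | imprimitive t m D hD hle =>
    exact Or.inl ⟨_, Or.inr <| Or.inr <| Or.inr <| Or.inl ⟨t, m, D, hD, rfl⟩, hle⟩
  | field r K hr hK hle =>
    exact Or.inl ⟨_, Or.inr <| Or.inr <| Or.inr <| Or.inr <| Or.inl ⟨r, K, hr, hK, rfl⟩, hle⟩
  | tensor n₁ n₂ e P h2 hlt hle =>
    exact Or.inl ⟨_, Or.inr <| Or.inr <| Or.inr <| Or.inr <| Or.inr <| Or.inl
      ⟨n₁, n₂, e, P, h2, hlt, rfl⟩, hle⟩
  | subfield F₀ r P hr hcard hle =>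
    exact Or.inl ⟨_, Or.inr <| Or.inr <| Or.inr <| Or.inr <| Or.inr <| Or.inr <| Or.inl
      ⟨F₀, r, P, hr, hcard, rfl⟩, hle⟩
  | symplecticType r k R _ hR _ hle =>
    exact Or.inl ⟨_, Or.inr <| Or.inr <| Or.inr <| Or.inr <| Or.inr <| Or.inr <| Or.inr <| Or.inl
      ⟨r, R, hR, rfl⟩, hle⟩
  | tensorPower m t e P hm ht hle =>
    exact Or.inl ⟨_, Or.inr <| Or.inr <| Or.inr <| Or.inr <| Or.inr <| Or.inr <| Or.inr <| Or.inr <| Or.inl
      ⟨m, t, e, P, hm, ht, rfl⟩, hle⟩
  | symplectic f hf hn2 hle =>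
    exact Or.inl ⟨_, Or.inr <| Or.inr <| Or.inr <| Or.inr <| Or.inr <| Or.inr <| Or.inr <| Or.inr <| Or.inr
      <| Or.inl ⟨f, hf, hn2, by obtain ⟨k, rfl⟩ := hn2; omega, rfl⟩, hle⟩
  | unitary σ f hf hle =>
    exact Or.inl ⟨_, Or.inr <| Or.inr <| Or.inr <| Or.inr <| Or.inr <| Or.inr <| Or.inr <| Or.inr <| Or.inr
      <| Or.inr <| Or.inl ⟨σ, f, hf, hn, rfl⟩, hle⟩
  | quadratic Q hQ hodd hle =>
    exact Or.inl ⟨_, Or.inr <| Or.inr <| Or.inr <| Or.inr <| Or.inr <| Or.inr <| Or.inr <| Or.inr <| Or.inr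
      <| Or.inr <| Or.inr ⟨Q, hQ, hodd, hn, rfl⟩, hle⟩
  | residual h => exact Or.inr h

end Cfsg.Agent.Aschbacher
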