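import Cfsg.Agent.Lib.Aschbacher.ClassTwo
import Cfsg.Agent.Lib.Aschbacher.LinearOutcome

/-!
The abelian-modulo-scalars case of the subgroup structure of `SL_n(q)`: a subfield, a form, or the
normaliser of a group of symplectic type.
-/

set_option autoImplicit false

namespace Cfsg.Agent.Aschbacher

open Matrix
open scoped MatrixGroups

variable {n : ℕ} {F : Type*} [Field F] [Fintype F]

/-- The elements of exponent `z` in a class two group, `z = r` odd or `z = 4`. -/
structure SmallPart (H M R : Subgroup (GL (Fin n) F)) (r z : ℕ) : Prop where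
  prime : r.Prime
  cases : (r ≠ 2 ∧ z = r) ∨ (r = 2 ∧ z = 4)
  le : R ≤ M
  normal : NormalIn H R
  absIrr : AbsIrr R
  pow_eq_one : ∀ x ∈ R, x ^ z = 1
  trace : ∀ x ∈ R, x ∉ Geo.scalars (Fin n) F → (x : Matrix (Fin n) (Fin n) F).trace = 0
  mem : ∀ x ∈ M, x ^ z = 1 → x ∈ R

theorem ClassTwo.exists_smallPart [NeZero n] {H M : Subgroup (GL (Fin n) F)} (h : ClassTwo H M) {r : ℕ}
    (hrp : r.Prime) (hr : ∀ x ∈ M, x ^ r ∈ Geo.scalars (Fin n) F) :
    ∃ R, SmallPart H M R r (if r = 2 then 4 else r) := by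
  classical
  set z := if r = 2 then 4 else r with hz
  obtain ⟨u, hu, hus, hu1⟩ := h.exists_small hrp hr
  rw [← hz] at hu1
  let R : Subgroup (GL (Fin n) F) :=
    { carrier := {x | x ∈ M ∧ x ^ z = 1}
      one_mem' := ⟨M.one_mem, one_pow _⟩
      inv_mem' := fun {x} hx => ⟨M.inv_mem hx.1, by rw [inv_pow, hx.2, inv_one]⟩
      mul_mem' := fun {x y} hx hy => ⟨M.mul_mem hx.1 hy.1, by
        obtain ⟨C, hC, -, hxy⟩ := h.exists_comm hx.1 hy.1
        have hCr := h.comm_pow_eq_one hr hx.1 hC hxy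
        rw [mul_pow_of_comm (scalar_comm hC) hxy, hx.2, hy.2, mul_one, mul_one]
        by_cases h2 : r = 2
        · rw [hz, if_pos h2, show (4 : ℕ).choose 2 = r * 3 by rw [h2]; rfl, pow_mul, hCr, one_pow]
        · obtain ⟨c, hc⟩ := hrp.dvd_choose_self two_ne_zero (lt_of_le_of_ne hrp.two_le (Ne.symm h2))
          rw [hz, if_neg h2, hc, pow_mul, hCr, one_pow]⟩ }
  have hRn : NormalIn H R := fun g hg x hx => ⟨h.normal g hg x hx.1, by
    rw [conj_pow, hx.2, mul_one, mul_inv_cancel]⟩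
  have hRH : R ≤ H := fun x hx => h.le hx.1
  refine ⟨R, hrp, ?_, fun x hx => hx.1, hRn,
    h.all_absIrr R hRH hRn fun hle => hus (hle ⟨hu, hu1⟩), fun x hx => hx.2,
    fun x hx hxs => h.trace_eq_zero hx.1 hxs, fun x hx hxz => ⟨hx, hxz⟩⟩
  by_cases h2 : r = 2
  · exact Or.inr ⟨h2, if_pos h2⟩
  · exact Or.inl ⟨h2, if_neg h2⟩

namespace SmallPart

variable [NeZero n] {H M R : Subgroup (GL (Fin n) F)} {r z : ℕ} (h : SmallPart H M R r z)
include h

omit [Fintype F] in
theorem scalar_eq {x : GL (Fin n) F} (hx : x ∈ R) (hxs : x ∈ Geo.scalars (Fin n) F) :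
    ∃ a : F, a ^ z = 1 ∧ (x : Matrix (Fin n) (Fin n) F) = a • 1 := by
  obtain ⟨c, hc⟩ := (Geo.mem_scalars_iff x).1 hxs
  refine ⟨c, ?_, hc⟩
  have h1 := congrArg Units.val (h.pow_eq_one x hx)
  rw [Units.val_pow_eq_pow_val, hc, smul_pow, one_pow, Units.val_one] at h1
  simpa using congrFun (congrFun h1 0) 0

omit [Fintype F] in
/-- The trace of an element is zero or `n` times a `z`-th root of unity. -/
theorem sigma_trace (σ : F ≃+* F) {x : GL (Fin n) F} (hx : x ∈ R) :
    ((∀ a : F, a ^ z = 1 → σ a = a) →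
      σ (x : Matrix (Fin n) (Fin n) F).trace = (x : Matrix (Fin n) (Fin n) F).trace) ∧
    ((∀ a : F, a ^ z = 1 → a * σ a = 1) →
      σ ((x⁻¹ : GL (Fin n) F) : Matrix (Fin n) (Fin n) F).trace = (x : Matrix (Fin n) (Fin n) F).trace) := by
  by_cases hs : x ∈ Geo.scalars (Fin n) F
  · obtain ⟨a, ha, hxa⟩ := h.scalar_eq hx hs
    obtain ⟨b, hb, hxb⟩ := h.scalar_eq (R.inv_mem hx) ((Geo.scalars (Fin n) F).inv_mem hs)
    have hab : a * b = 1 := by
      have h1 : (x : Matrix (Fin n) (Fin n) F) * ((x⁻¹ : GL (Fin n) F) : Matrix (Fin n) (Fin n) F) = 1 :=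
        x.mul_inv
      rw [hxa, hxb, smul_mul_assoc, one_mul, smul_smul] at h1
      simpa using congrFun (congrFun h1 0) 0
    refine ⟨fun hσ => ?_, fun hσ => ?_⟩
    · rw [hxa, Matrix.trace_smul, Matrix.trace_one, smul_eq_mul, map_mul, hσ a ha, map_natCast]
    · rw [hxa, hxb, Matrix.trace_smul, Matrix.trace_smul, Matrix.trace_one, smul_eq_mul, smul_eq_mul,
        map_mul, map_natCast]
      congr 1
      calc σ b = a * b * σ b := by rw [hab, one_mul]
        _ = a * (b * σ b) := mul_assoc _ _ _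
        _ = a := by rw [hσ b hb, mul_one]
  · rw [h.trace x hx hs, h.trace x⁻¹ (R.inv_mem hx) fun hi => hs (by
      simpa using (Geo.scalars (Fin n) F).inv_mem hi)]
    simp

theorem data (hn : 3 ≤ n) (hMH : M ≤ H) (hab : ∀ A, A ≤ H → NormalIn H A → Abelian A → A ≤ Geo.scalars (Fin n) F)
    {U : GL (Fin n) F} {u : F} (hU : U ∈ M) (hUu : (U : Matrix (Fin n) (Fin n) F) = u • 1)
    (hu : IsPrimitiveRoot u z) {p e : ℕ} (hcond : r ≠ p ∧ Geo.IsMinimalFieldFor z p e F)
    (he : if r = 2 then e = 1 else Odd e) :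
    ∃ k, n = r ^ k ∧ Geo.IsLinearSymplecticTypeData r R := by
  classical
  have hUR : U ∈ R := h.mem U hU (Units.ext (by
    rw [Units.val_pow_eq_pow_val, hUu, smul_pow, one_pow, hu.pow_eq_one, one_smul, Units.val_one]))
  have hUord : orderOf U = z := by
    rw [← orderOf_units, hUu, show (u • (1 : Matrix (Fin n) (Fin n) F)) = Matrix.scalar (Fin n) u by
      rw [Matrix.scalar_apply, Matrix.smul_one_eq_diagonal],
      show orderOf (Matrix.scalar (Fin n) u) = orderOf u from orderOf_injective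
        (Matrix.scalar (Fin n) : F →+* Matrix (Fin n) (Fin n) F).toMonoidHom
        (fun a b hab => Matrix.scalar_inj.1 hab) u,
      ← hu.eq_orderOf]
  have hr0 := h.prime.pos
  have hz0 : 0 < z := by rcases h.cases with ⟨-, rfl⟩ | ⟨-, rfl⟩ <;> omega
  have : NeZero z := ⟨hz0.ne'⟩
  set S := (Geo.scalars (Fin n) F).subgroupOf R with hS
  have hSeq : S = Subgroup.zpowers (⟨U, hUR⟩ : R) := by
    refine le_antisymm (fun x hx => ?_) (Subgroup.zpowers_le.2 (mem_scalars_of_smul_one hUu))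
    obtain ⟨a, ha, hxa⟩ := h.scalar_eq x.2 hx
    obtain ⟨i, -, hi⟩ := hu.eq_pow_of_pow_eq_one ha
    refine ⟨i, Subtype.ext (Units.ext ?_)⟩
    show ((⟨U, hUR⟩ : R) ^ (i : ℤ) : R).1.val = _
    rw [zpow_natCast, SubgroupClass.coe_pow, Units.val_pow_eq_pow_val, hUu, smul_pow, one_pow, hi, hxa]
  have hScard : Nat.card S = z := by
    rw [hSeq, Nat.card_zpowers, ← hUord]
    exact Subgroup.orderOf_coe (⟨U, hUR⟩ : R) |>.symm
  obtain ⟨-, hcard⟩ := card_of_traceless h.absIrr h.trace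
  rw [Fintype.card_fin, ← hS, hScard] at hcard
  have hcenter : Subgroup.center R = S := by
    refine le_antisymm (fun x hx => h.absIrr.scalar_of_comm fun y hy =>
      (congrArg Subtype.val (Subgroup.mem_center_iff.1 hx ⟨y, hy⟩)).symm) fun x hx => ?_
    exact Subgroup.mem_center_iff.2 fun y => Subtype.ext (scalar_comm hx (y : GL (Fin n) F)).symm
  have hpg : IsPGroup r R := by
    intro x
    refine ⟨2, Subtype.ext ?_⟩
    rw [SubgroupClass.coe_pow, OneMemClass.coe_one]
    rcases h.cases with ⟨-, hz⟩ | ⟨h2, hz⟩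
    · rw [pow_two r, pow_mul, ← hz, h.pow_eq_one x x.2, one_pow]
    · rw [h2, show (2 : ℕ) ^ 2 = z by rw [hz]; rfl, h.pow_eq_one x x.2]
  have := Fact.mk h.prime
  obtain ⟨a, ha⟩ := IsPGroup.iff_card.1 hpg
  obtain ⟨k2, -, hk2⟩ := (Nat.dvd_prime_pow h.prime).1 ⟨z, (ha.symm.trans hcard)⟩
  obtain ⟨k, -, hk⟩ := (Nat.dvd_prime_pow h.prime).1 (show n ∣ r ^ k2 by rw [← hk2]; exact dvd_pow_self n two_ne_zero)
  have hk1 : 1 ≤ k := by
    rcases Nat.eq_zero_or_pos k with rfl | hk0
    · rw [pow_zero] at hk; omega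
    · exact hk0
  have hexp : Monoid.exponent R = z := by
    refine Nat.dvd_antisymm (Monoid.exponent_dvd_of_forall_pow_eq_one fun x =>
      Subtype.ext (by simpa using h.pow_eq_one x x.2)) ?_
    rw [← hUord, ← Subgroup.orderOf_mk U hUR]
    exact Monoid.order_dvd_exponent _
  have hst : Geo.IsSymplecticTypeGroup r R := by
    refine ⟨h.prime, hpg, fun A hA hAc => ?_, ?_⟩
    · have hle : A ≤ S := by
        let A' : Subgroup (GL (Fin n) F) := A.map R.subtype
        have hA' : A' ≤ Geo.scalars (Fin n) F := by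
          refine hab A' (Subgroup.map_le_iff_le_comap.2 fun g _ => hMH (h.le g.2)) ?_ ?_
          · intro g hg x hx
            obtain ⟨a', ha', rfl⟩ := hx
            let f : R ≃* R :=
              { toFun := fun z => ⟨g * z * g⁻¹, h.normal g hg z z.2⟩
                invFun := fun z => ⟨g⁻¹ * z * g, by simpa using h.normal g⁻¹ (H.inv_mem hg) z z.2⟩
                left_inv := fun z => Subtype.ext (by simp [mul_assoc])
                right_inv := fun z => Subtype.ext (by simp [mul_assoc])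
                map_mul' := fun z w => Subtype.ext (by simp [mul_assoc]) }
            refine ⟨f a', ?_, rfl⟩
            have := hA.fixed f
            rw [← this] at ha'
            exact ha'
          · rintro g ⟨a', ha', rfl⟩ g' ⟨b', hb', rfl⟩
            exact congrArg (fun z : A => ((z : R) : GL (Fin n) F)) (mul_comm' (⟨a', ha'⟩ : A) ⟨b', hb'⟩)
        exact fun x hx => hA' ⟨x, hx, rfl⟩
      have : IsCyclic S := by rw [hSeq]; infer_instance
      exact isCyclic_of_injective (Subgroup.inclusion hle) (Subgroup.inclusion_injective _)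
    · rw [hexp]
      rcases h.cases with ⟨h2, hz⟩ | ⟨h2, hz⟩
      · rw [hz, Nat.coprime_two_left.2 (h.prime.odd_of_ne_two h2), mul_one]
      · rw [hz, h2]; rfl
  refine ⟨k, hk, hst, h.absIrr, p, e, hcond.1, ?_, ?_⟩
  · rw [hcenter, hScard]; exact hcond.2
  rw [hcenter, hScard]
  rcases h.cases with ⟨h2, hz⟩ | ⟨h2, hz⟩
  · refine Or.inl ⟨h.prime.odd_of_ne_two h2, by simpa [h2] using he, hz, k, hk1, ?_⟩
    rw [hcard, hk, hz]
    ring
  · refine Or.inr (Or.inl ⟨h2, by simpa [h2] using he, hz, ?_, k, ?_⟩)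
    · rw [Fintype.card_fin, hk, h2]
      rw [hk, h2] at hn
      match k, hk1, hn with
      | 1, _, hn => norm_num at hn
      | k + 2, _, _ =>
        calc 4 = 2 ^ 2 := rfl
          _ ≤ 2 ^ (k + 2) := Nat.pow_le_pow_right two_pos (by omega)
    · rw [hcard, hk, hz, h2]
      ring

end SmallPart

theorem four_dvd_sq_sub_one {p : ℕ} (hp : Odd p) : 4 ∣ p ^ 2 - 1 := by
  obtain ⟨a, rfl⟩ := hp
  exact ⟨a * (a + 1), by rw [show (2 * a + 1) ^ 2 = 4 * (a * (a + 1)) + 1 by ring, Nat.add_sub_cancel]⟩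

theorem ClassTwo.outcome [NeZero n] (hn : 3 ≤ n) {H M : Subgroup (GL (Fin n) F)} (h : ClassTwo H M) :
    LinearOutcome H := by
  classical
  have hab : ∀ A, A ≤ H → NormalIn H A → Abelian A → A ≤ Geo.scalars (Fin n) F := by
    intro A hle hA ha
    by_contra hns
    exact hns ((h.all_absIrr A hle hA hns).le_scalars_of_abelian ha)
  obtain ⟨r, hrp, hr⟩ := h.exists_prime
  obtain ⟨W, ω, hW, hWω, hω⟩ := h.exists_root hrp hr
  have : NeZero r := ⟨hrp.ne_zero⟩
  have hrF : (r : F) ≠ 0 := hω.neZero'.ne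
  obtain ⟨p, hpC⟩ := CharP.exists F
  have := hpC
  obtain ⟨e, hpp, hcard⟩ := FiniteField.card F p
  have : Fact p.Prime := ⟨hpp⟩
  have hrp' : r ≠ p := by
    rintro rfl
    exact hrF (CharP.cast_eq_zero F r)
  obtain ⟨R, hR⟩ := h.exists_smallPart hrp hr
  set z := if r = 2 then 4 else r with hz
  by_cases hno : r = 2 ∧ ∀ X ∈ M, ∀ a : F, (X : Matrix (Fin n) (Fin n) F) = a • 1 → a * a ≠ -1
  · -- an invariant bilinear form
    obtain ⟨h2, hno⟩ := hno
    have h2F : (2 : F) ≠ 0 := by rw [h2] at hrF; exact_mod_cast hrF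
    obtain ⟨A, hA, hAR⟩ := hR.absIrr.exists_sesq_form (RingEquiv.refl F) (fun a => rfl) fun x hx => by
      by_cases hs : x ∈ Geo.scalars (Fin n) F
      · obtain ⟨a, ha, hxa⟩ := hR.scalar_eq hx hs
        rw [show z = 4 from if_pos h2] at ha
        have ha2 : a * a = 1 := by
          rcases mul_self_eq_one_iff.1 (show a * a * (a * a) = 1 by rw [← ha]; ring) with h1 | h1
          · exact h1
          · exact absurd h1 (hno x (hR.le hx) a hxa)
        have hinv : ((x⁻¹ : GL (Fin n) F) : Matrix (Fin n) (Fin n) F) = a • 1 := by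
          refine Units.inv_eq_of_mul_eq_one_right ?_
          rw [hxa, smul_mul_smul_comm, ha2, one_smul, mul_one]
        rw [hxa, hinv]
        rfl
      · rw [hR.trace x hx hs, hR.trace x⁻¹ (R.inv_mem hx) fun hi => hs (by
          simpa using (Geo.scalars (Fin n) F).inv_mem hi)]
        rfl
    exact .of_bilinear h2F hR.absIrr hR.normal hA fun x hx => by simpa using hAR x hx
  obtain ⟨U, u, hU, hUu, hu⟩ : ∃ (U : GL (Fin n) F) (u : F), U ∈ M ∧
      (U : Matrix (Fin n) (Fin n) F) = u • 1 ∧ IsPrimitiveRoot u z := by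
    by_cases h2 : r = 2
    · push Not at hno
      obtain ⟨X, hX, a, hXa, haa⟩ := hno h2
      refine ⟨X, a, hX, hXa, ?_⟩
      have hne : (-1 : F) ≠ 1 := fun h1 => hrF (by rw [h2, Nat.cast_ofNat]; linear_combination -h1)
      rw [hz, if_pos h2, IsPrimitiveRoot.iff_orderOf, show (4 : ℕ) = 2 ^ (1 + 1) from rfl]
      refine orderOf_eq_prime_pow (fun h1 => hne ?_) ?_
      · rw [← haa, ← pow_two]
        simpa using h1
      · rw [show (2 : ℕ) ^ (1 + 1) = 2 * 2 from rfl, pow_mul, pow_two a, haa, neg_one_sq]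
    · exact ⟨W, ω, hW, hWω, by rwa [hz, if_neg h2]⟩
  have hz0 : z ≠ 0 := by
    rw [hz]; split
    · norm_num
    · exact hrp.ne_zero
  have hu0 : u ≠ 0 := hu.ne_zero hz0
  have hdvd : z ∣ p ^ (e : ℕ) - 1 := by
    refine hu.dvd_of_pow_eq_one _ ?_
    rw [← hcard]
    exact FiniteField.pow_card_sub_one_eq_one u hu0
  have hroot : ∀ a : F, a ^ z = 1 → ∀ d, z ∣ p ^ d - 1 → a ^ p ^ d = a := by
    intro a ha d hd
    obtain ⟨c, hc⟩ := hd
    have hpd : 1 ≤ p ^ d := Nat.one_le_pow _ _ hpp.pos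
    rw [show p ^ d = z * c + 1 by omega, pow_succ, pow_mul, ha, one_pow, one_mul]
  by_cases hsub : ∃ d, 0 < d ∧ d < (e : ℕ) ∧ z ∣ p ^ d - 1
  · -- a subfield
    obtain ⟨d, hd0, hde, hd⟩ := hsub
    have hlt : p ^ d < Fintype.card F := hcard ▸ Nat.pow_lt_pow_right hpp.one_lt hde
    refine .of_realisable hR.absIrr hR.normal (fixedBy_ne_top p hd0 hlt)
      (hR.absIrr.realisable_fixed (by omega) (frob p d) (fun x hx => (hR.sigma_trace (frob p d) hx).1
        fun a ha => by rw [frob_apply]; exact hroot a ha d hd) fun a ha => (mem_fixedBy p).2 ?_)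
    rwa [frob_apply] at ha
  push Not at hsub
  rcases Nat.even_or_odd (e : ℕ) with ⟨k, hk⟩ | heodd
  · -- a unitary form
    have hk0 : 0 < k := by have := e.pos; omega
    have hcardk : Fintype.card F = p ^ (2 * k) := by rw [hcard, hk, two_mul]
    have hplus : z ∣ p ^ k + 1 := by
      have hdvd2 : z ∣ (p ^ k + 1) * (p ^ k - 1) := by
        rw [← Nat.sq_sub_sq, one_pow, ← pow_mul, mul_comm k, two_mul, ← hk]
        exact hdvd
      have hnot := hsub k hk0 (by omega)
      rw [hz] at hdvd2 hnot ⊢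
      by_cases h2 : r = 2
      · rw [if_pos h2] at hnot ⊢
        have hpodd : Odd (p ^ k) := (hpp.odd_of_ne_two fun h' => hrp' (h2.trans h'.symm)).pow
        obtain ⟨c, hc⟩ := hpodd
        omega
      · rw [if_neg h2] at hdvd2 hnot ⊢
        exact (hrp.dvd_mul.1 hdvd2).resolve_right hnot
    have hinv : ∀ a : F, a ^ z = 1 → a * a ^ p ^ k = 1 := by
      intro a ha
      obtain ⟨c, hc⟩ := hplus
      rw [← pow_succ', hc, pow_mul, ha, one_pow]
    have hne : frob (F := F) p k ≠ RingEquiv.refl F := by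
      intro hrefl
      obtain ⟨a, ha⟩ := exists_pow_ne_self (F := F) p hk0 (hcardk ▸ Nat.pow_lt_pow_right hpp.one_lt (by omega))
      exact ha (by simpa [frob_apply] using RingEquiv.congr_fun hrefl a)
    obtain ⟨A, hA, hAR⟩ := hR.absIrr.exists_sesq_form (frob p k) (frob_involutive p hcardk) fun x hx =>
      (hR.sigma_trace (frob p k) hx).2 fun a ha => by rw [frob_apply]; exact hinv a ha
    exact .of_sesq hR.absIrr hR.normal (frob p k) hne (frob_involutive p hcardk) hA hAR
  · -- symplectic type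
    have he1 : r = 2 → (e : ℕ) = 1 := fun h2 => by
      by_contra hne
      have h3 : 2 < (e : ℕ) := by obtain ⟨c, hc⟩ := heodd; omega
      refine hsub 2 two_pos h3 ?_
      rw [hz, if_pos h2]
      exact four_dvd_sq_sub_one (hpp.odd_of_ne_two fun h' => hrp' (h2.trans h'.symm))
    obtain ⟨k, hk, hdata⟩ := hR.data hn h.le hab hU hUu hu (p := p) (e := (e : ℕ))
      ⟨hrp', hpp, hpC, hcard, hdvd, hsub⟩ (by split_ifs with h2 <;> [exact he1 h2; exact heodd])
    refine .symplecticType r k R hk hdata (fun x hx y hy => h.comm x (hR.le hx) y (hR.le hy)) fun g hg => ?_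
    show g ∈ Subgroup.normalizer (R : Set (GL (Fin n) F))
    rw [Subgroup.mem_normalizer_iff]
    exact fun x => ⟨fun hx => hR.normal g hg x hx, fun hx => by
      simpa [mul_assoc] using hR.normal g⁻¹ (H.inv_mem hg) _ hx⟩

end Cfsg.Agent.Aschbacher
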