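import Cfsg.Agent.Lib.Aschbacher.Basic

/-!
Normal subgroups of an irreducible linear group of prime degree: absolutely irreducible, or abelian and
either scalar, monomial (diagonal in a basis permuted by the big group) or inside a field of degree `n`.
-/

set_option autoImplicit false

namespace Cfsg.Agent.Aschbacher

open Matrix
open scoped MatrixGroups

variable {ι : Type} [Fintype ι] [DecidableEq ι] {F : Type*} [Field F]

/-- A basis of common eigenvectors of `N` whose lines are permuted by `H`. -/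
def Frame (H N : Subgroup (GL ι F)) : Prop :=
  ∃ b : Module.Basis ι F (ι → F),
    (∀ x ∈ N, ∀ i, ∃ c : F, (x : Matrix ι ι F) *ᵥ b i = c • b i) ∧
    (∀ h ∈ H, ∃ σ : Equiv.Perm ι, ∀ i, ∃ c : F, (h : Matrix ι ι F) *ᵥ b i = c • b (σ i)) ∧
    ∀ i j, (∀ x ∈ N, ∃ c : F, (x : Matrix ι ι F) *ᵥ b i = c • b i ∧
      (x : Matrix ι ι F) *ᵥ b j = c • b j) → i = j

/-- The centraliser of `N`, a field of degree `card ι` containing `N` and normalised by `H`. -/
def FieldCase (H N : Subgroup (GL ι F)) : Prop :=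
  ∃ K : Subalgebra F (Matrix ι ι F), Geo.IsFieldSubalgebra (Fintype.card ι) K ∧
    H ≤ Geo.subalgebraNormalizer K ∧ (∀ x ∈ N, (x : Matrix ι ι F) ∈ K) ∧
      ∀ M : Matrix ι ι F, (∀ x ∈ N, (x : Matrix ι ι F) * M = M * x) → M ∈ K

/-- A minimal non-zero invariant subspace of a normal subgroup of an irreducible group has dimension
dividing the degree. -/
theorem exists_minimal_invariant [Nonempty ι] {H N : Subgroup (GL ι F)} (hH : Irr H)
    (hn : NormalIn H N) :
    ∃ W, Invariant N W ∧ W ≠ ⊥ ∧ Module.finrank F W ∣ Fintype.card ι ∧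
      (∀ U, Invariant N U → U ≠ ⊥ → Module.finrank F W ≤ Module.finrank F U) := by
  classical
  have hex : ∃ d, ∃ W : Submodule F (ι → F),
      Invariant N W ∧ W ≠ ⊥ ∧ Module.finrank F W = d :=
    ⟨_, ⊤, invariant_top N, top_ne_bot, rfl⟩
  obtain ⟨W, hW, hW0, hWd⟩ := Nat.find_spec hex
  have hmin : ∀ U, Invariant N U → U ≠ ⊥ → Module.finrank F W ≤ Module.finrank F U :=
    fun U hU hU0 => hWd ▸ Nat.find_min' hex ⟨U, hU, hU0, rfl⟩
  refine ⟨W, hW, hW0, ?_, hmin⟩
  -- invariant subspaces of dimension a multiple of `dim W`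
  let S : Set (Submodule F (ι → F)) :=
    {U | Invariant N U ∧ Module.finrank F W ∣ Module.finrank F U}
  obtain ⟨U, ⟨hU, hUd⟩, hUmax⟩ :=
    wellFounded_gt.has_min S ⟨⊥, invariant_bot N, by simp⟩
  by_cases hUtop : U = ⊤
  · subst hUtop
    simpa [Module.finrank_fintype_fun_eq_card] using hUd
  exfalso
  have hsome : ∃ h ∈ H, ¬ translate h W ≤ U := by
    by_contra hcon
    push Not at hcon
    let V : Submodule F (ι → F) :=
      Submodule.span F {v | ∃ h ∈ H, v ∈ translate h W}
    have hVU : V ≤ U := Submodule.span_le.2 fun v ⟨h, hh, hv⟩ => hcon h hh hv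
    have hV : Invariant H V := by
      intro g hg v hv
      induction hv using Submodule.span_induction with
      | mem x hx =>
        obtain ⟨h, hh, hx⟩ := hx
        obtain ⟨w, hw, rfl⟩ := mem_translate.1 hx
        exact Submodule.subset_span ⟨g * h, H.mul_mem hg hh,
          mem_translate.2 ⟨w, hw, by rw [mulVec_mul]⟩⟩
      | zero => rw [Matrix.mulVec_zero]; exact Submodule.zero_mem _
      | add x y _ _ ihx ihy => rw [Matrix.mulVec_add]; exact Submodule.add_mem _ ihx ihy
      | smul c x _ ih => rw [Matrix.mulVec_smul]; exact Submodule.smul_mem _ c ih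
    rcases irr_iff.1 hH V hV with h0 | h1
    · obtain ⟨w, hw, hw0⟩ := (Submodule.ne_bot_iff W).1 hW0
      have hwV : w ∈ V := Submodule.subset_span ⟨1, H.one_mem,
        mem_translate.2 ⟨w, hw, by simp⟩⟩
      exact hw0 ((Submodule.mem_bot F).1 (h0 ▸ hwV))
    · exact hUtop (top_le_iff.1 (h1 ▸ hVU))
  obtain ⟨h, hh, hhU⟩ := hsome
  have hT := hW.translate hn hh
  have hinf : translate h W ⊓ U = ⊥ := by
    by_contra hne
    have h1 := hmin _ (hT.inf hU) hne
    have h2 : translate h W ⊓ U = translate h W :=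
      Submodule.eq_of_le_of_finrank_le inf_le_left (by rw [finrank_translate]; exact h1)
    exact hhU (h2 ▸ inf_le_right)
  refine hUmax (U ⊔ translate h W) ⟨hU.sup hT, ?_⟩ (lt_of_le_of_ne le_sup_left fun he => hhU ?_)
  · have hsum := Submodule.finrank_sup_add_finrank_inf_eq (translate h W) U
    rw [hinf, finrank_bot, add_zero, sup_comm, finrank_translate] at hsum
    rw [hsum]
    exact dvd_add dvd_rfl hUd
  · rw [he]; exact le_sup_right

/-- A normal subgroup with a common eigenvector is scalar or gives a frame. -/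
theorem frame_of_eigenvector (hp : (Fintype.card ι).Prime) {H N : Subgroup (GL ι F)} (hH : Irr H)
    (hn : NormalIn H N) {v : ι → F} (hv : v ≠ 0)
    (hev : ∀ x ∈ N, ∃ c : F, (x : Matrix ι ι F) *ᵥ v = c • v) :
    N ≤ Geo.scalars ι F ∨ Frame H N := by
  classical
  let S : Set (ι → F) := (fun h : GL ι F => (h : Matrix ι ι F) *ᵥ v) '' H
  have hSev : ∀ w ∈ S, ∀ x ∈ N, ∃ c : F, (x : Matrix ι ι F) *ᵥ w = c • w := by
    rintro w ⟨h, hh, rfl⟩ x hx
    obtain ⟨c, hc⟩ := hev _ (hn h⁻¹ (H.inv_mem hh) x hx)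
    refine ⟨c, ?_⟩
    simp only
    rw [← Matrix.mulVec_smul, ← hc, ← mulVec_mul, ← mulVec_mul]
    congr 2
    group
  have hspan : Submodule.span F S = ⊤ := by
    refine ((irr_iff.1 hH _ ?_).resolve_left ?_)
    · intro g hg w hw
      induction hw using Submodule.span_induction with
      | mem x hx =>
        obtain ⟨h, hh, rfl⟩ := hx
        exact Submodule.subset_span ⟨g * h, H.mul_mem hg hh, mulVec_mul g h v⟩
      | zero => rw [Matrix.mulVec_zero]; exact Submodule.zero_mem _
      | add x y _ _ ihx ihy => rw [Matrix.mulVec_add]; exact Submodule.add_mem _ ihx ihy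
      | smul c x _ ih => rw [Matrix.mulVec_smul]; exact Submodule.smul_mem _ c ih
    · intro h0
      have : v ∈ Submodule.span F S :=
        Submodule.subset_span ⟨1, H.one_mem, by simp⟩
      exact hv ((Submodule.mem_bot F).1 (h0 ▸ this))
  obtain ⟨t, htS, hts, hli⟩ := exists_linearIndependent F S
  let bt : Module.Basis t F (ι → F) :=
    Module.Basis.mk hli (by rw [Subtype.range_coe_subtype, Set.ofPred_mem_eq, hts, hspan])
  haveI : Fintype t := FiniteDimensional.fintypeBasisIndex bt
  let e : t ≃ ι := bt.indexEquiv (Pi.basisFun F ι)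
  let b : Module.Basis ι F (ι → F) := bt.reindex e
  have hbS : ∀ i, b i ∈ S := fun i => by
    rw [Module.Basis.reindex_apply, Module.Basis.mk_apply]
    exact htS (e.symm i).2
  choose χ hχ using fun i => hSev (b i) (hbS i)
  -- character of the `i`-th vector
  let χ' : ι → (N → F) := fun i x => χ i x x.2
  have hχ' : ∀ i (x : N), ((x : GL ι F) : Matrix ι ι F) *ᵥ b i = χ' i x • b i := fun i x => hχ i x x.2
  -- eigenspaces
  let E : (N → F) → Submodule F (ι → F) := fun ψ =>
    { carrier := {w | ∀ x : N, ((x : GL ι F) : Matrix ι ι F) *ᵥ w = ψ x • w}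
      zero_mem' := fun x => by simp
      add_mem' := fun {u w} hu hw x => by rw [Matrix.mulVec_add, hu x, hw x, smul_add]
      smul_mem' := fun c w hw x => by rw [Matrix.mulVec_smul, hw x, smul_comm] }
  have hEmem : ∀ ψ, ∀ w ∈ E ψ, ∀ j, b.repr w j ≠ 0 → χ' j = ψ := by
    intro ψ w hw j hj
    funext x
    have h1 : b.repr (((x : GL ι F) : Matrix ι ι F) *ᵥ w) j = χ' j x * b.repr w j := by
      conv_lhs => rw [← b.sum_repr w, Matrix.mulVec_sum]
      simp only [Matrix.mulVec_smul, hχ', smul_smul]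
      rw [map_sum, Finsupp.finsetSum_apply, Finset.sum_eq_single j]
      · simp [mul_comm]
      · intro k _ hk; simp [Finsupp.single_apply, hk]
      · simp
    rw [hw x, map_smul] at h1
    simp only [Finsupp.smul_apply, smul_eq_mul] at h1
    exact (mul_right_cancel₀ hj h1).symm
  have hEspan : ∀ ψ, E ψ = Submodule.span F (b '' {j | χ' j = ψ}) := by
    intro ψ
    refine le_antisymm (fun w hw => ?_) (Submodule.span_le.2 ?_)
    · rw [← b.sum_repr w]
      refine Submodule.sum_mem _ fun j _ => ?_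
      by_cases hj : b.repr w j = 0
      · simp [hj]
      · exact Submodule.smul_mem _ _ (Submodule.subset_span ⟨j, hEmem ψ w hw j hj, rfl⟩)
    · rintro _ ⟨j, rfl, rfl⟩ x
      exact hχ' j x
  have hEcard : ∀ i, Module.finrank F (E (χ' i)) =
      (Finset.univ.filter fun j => χ' j = χ' i).card := by
    intro i
    rw [hEspan, Set.image_eq_range]
    have := finrank_span_eq_card (R := F)
      (b := fun j : {j // χ' j = χ' i} => b j) (b.linearIndependent.comp _ Subtype.val_injective)
    refine this.trans ?_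
    exact Fintype.card_subtype _
  -- all eigenspaces of the basis characters have the same dimension
  obtain ⟨i₀⟩ : Nonempty ι := Fintype.card_pos_iff.1 hp.pos
  have hle : ∀ i k, Module.finrank F (E (χ' k)) ≤ Module.finrank F (E (χ' i)) := by
    intro i k
    obtain ⟨hi, hhi, hbi⟩ := hbS i
    obtain ⟨hk, hhk, hbk⟩ := hbS k
    simp only at hbi hbk
    have hgk : ((hi * hk⁻¹ : GL ι F) : Matrix ι ι F) *ᵥ b k = b i := by
      rw [← hbk, ← mulVec_mul, inv_mul_cancel_right, hbi]
    have hg : hi * hk⁻¹ ∈ H := H.mul_mem hhi (H.inv_mem hhk)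
    generalize hi * hk⁻¹ = g at hgk hg
    rw [← finrank_translate g (E (χ' k))]
    refine Submodule.finrank_mono fun w hw x => ?_
    obtain ⟨u, hu, rfl⟩ := mem_translate.1 hw
    let x' : N := ⟨g⁻¹ * (x : GL ι F) * g, by simpa using hn g⁻¹ (H.inv_mem hg) x x.2⟩
    have hx' : ∀ w : ι → F, ((x : GL ι F) : Matrix ι ι F) *ᵥ ((g : Matrix ι ι F) *ᵥ w) =
        (g : Matrix ι ι F) *ᵥ (((x' : GL ι F) : Matrix ι ι F) *ᵥ w) := by
      intro w
      rw [← mulVec_mul, ← mulVec_mul]
      congr 2
      simp [x', mul_assoc]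
    rw [hx', hu x', Matrix.mulVec_smul]
    have h1 := hx' (b k)
    rw [hgk, hχ', hχ', Matrix.mulVec_smul, hgk] at h1
    rw [smul_left_injective F (b.ne_zero i) h1]
  set d := Module.finrank F (E (χ' i₀)) with hd
  have hdiv : d ∣ Fintype.card ι := by
    have hfib : ∀ ψ ∈ Finset.univ.image χ', (Finset.univ.filter fun j => χ' j = ψ).card = d := by
      intro ψ hψ
      obtain ⟨i, _, rfl⟩ := Finset.mem_image.1 hψ
      rw [← hEcard]
      exact le_antisymm (hle i₀ i) (hle i i₀)
    have := Finset.card_eq_sum_card_image χ' (Finset.univ : Finset ι)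
    rw [Finset.card_univ] at this
    rw [this, Finset.sum_congr rfl hfib, Finset.sum_const, smul_eq_mul]
    exact dvd_mul_left _ _
  rcases hp.eq_one_or_self_of_dvd d hdiv with h1 | h1
  · right
    have hinjχ : Function.Injective χ' := by
      intro i j hij
      have hc : (Finset.univ.filter fun k => χ' k = χ' i).card = 1 := by
        rw [← hEcard]; exact le_antisymm ((hle i₀ i).trans h1.le) (h1 ▸ hle i i₀)
      exact Finset.card_le_one.1 hc.le i (by simp) j (by simp [hij])
    refine ⟨b, fun x hx i => ⟨_, hχ i x hx⟩, fun h hh => ?_, fun i j hij => hinjχ (funext fun x => ?_)⟩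
    swap
    · obtain ⟨c, hci, hcj⟩ := hij x x.2
      rw [hχ'] at hci hcj
      rw [smul_left_injective F (b.ne_zero i) hci, smul_left_injective F (b.ne_zero j) hcj]
    have key : ∀ i, ∃ (j : ι) (c : F), (h : Matrix ι ι F) *ᵥ b i = c • b j := by
      intro i
      have hne : (h : Matrix ι ι F) *ᵥ b i ≠ 0 := fun h0 => b.ne_zero i ((mulVec_eq_zero_iff h).1 h0)
      obtain ⟨j, hj⟩ : ∃ j, b.repr ((h : Matrix ι ι F) *ᵥ b i) j ≠ 0 := by
        by_contra hc
        push Not at hc
        exact hne (by rw [← b.sum_repr ((h : Matrix ι ι F) *ᵥ b i)]; simp [hc])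
      let ψ : N → F := fun x => χ' i ⟨h⁻¹ * (x : GL ι F) * h, by
        simpa using hn h⁻¹ (H.inv_mem hh) x x.2⟩
      have hw : (h : Matrix ι ι F) *ᵥ b i ∈ E ψ := by
        intro x
        rw [← Matrix.mulVec_smul, ← hχ', ← mulVec_mul, ← mulVec_mul]
        congr 2
        simp [mul_assoc]
      refine ⟨j, b.repr ((h : Matrix ι ι F) *ᵥ b i) j, ?_⟩
      conv_lhs => rw [← b.sum_repr ((h : Matrix ι ι F) *ᵥ b i)]
      refine Finset.sum_eq_single j (fun k _ hk => ?_) (by simp)
      by_contra hne'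
      have hk0 : b.repr ((h : Matrix ι ι F) *ᵥ b i) k ≠ 0 := fun h0 => hne' (by simp [h0])
      exact hk (hinjχ ((hEmem ψ _ hw k hk0).trans (hEmem ψ _ hw j hj).symm))
    choose j c hjc using key
    have hinj : Function.Injective j := by
      intro i k hik
      have hci : c i ≠ 0 := fun h0 => b.ne_zero i <| (mulVec_eq_zero_iff h).1 <| by
        rw [hjc, h0, zero_smul]
      have : (h : Matrix ι ι F) *ᵥ (b k - (c k * (c i)⁻¹) • b i) = 0 := by
        rw [Matrix.mulVec_sub, Matrix.mulVec_smul, hjc, hjc, hik, smul_smul, mul_assoc,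
          inv_mul_cancel₀ hci, mul_one, sub_self]
      rw [mulVec_eq_zero_iff, sub_eq_zero] at this
      by_contra hne
      have h2 := congrArg (fun w => b.repr w k) this
      simp [Finsupp.single_apply, hne] at h2
    exact ⟨Equiv.ofBijective j (Finite.injective_iff_bijective.1 hinj), fun i => ⟨c i, hjc i⟩⟩
  · left
    have hE : E (χ' i₀) = ⊤ := Submodule.eq_top_of_finrank_eq (by
      rw [Module.finrank_fintype_fun_eq_card]; exact h1)
    intro x hx
    refine mem_scalars_of_smul_one (c := χ' i₀ ⟨x, hx⟩) (Matrix.ext_of_mulVec_single fun i => ?_)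
    have hmem : Pi.single i (1 : F) ∈ E (χ' i₀) := by rw [hE]; trivial
    have := hmem ⟨x, hx⟩
    rw [this, Matrix.smul_mulVec, Matrix.one_mulVec]

/-- An irreducible normal subgroup is absolutely irreducible or lies in a field of degree `n`. -/
theorem field_of_irr [Finite F] (hp : (Fintype.card ι).Prime) {H N : Subgroup (GL ι F)}
    (hn : NormalIn H N) (hN : Irr N) : AbsIrr N ∨ FieldCase H N := by
  classical
  by_cases hab : ∀ A : Matrix ι ι F, (∀ s ∈ Geo.matrixSet N, A * s = s * A) →
      ∃ c : F, A = c • (1 : Matrix ι ι F)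
  · exact Or.inl ⟨hN, hab⟩
  push Not at hab
  obtain ⟨A, hA, hAns⟩ := hab
  haveI hne : Nonempty ι := Fintype.card_pos_iff.1 hp.pos
  let C : Subalgebra F (Matrix ι ι F) := Subalgebra.centralizer F (Geo.matrixSet N)
  have hC : ∀ {c : Matrix ι ι F}, c ∈ C ↔ ∀ x ∈ N, (x : Matrix ι ι F) * c = c * x := by
    intro c
    rw [Subalgebra.mem_centralizer_iff]
    exact ⟨fun h x hx => h _ ⟨x, hx, rfl⟩, fun h s ⟨x, hx, hs⟩ => hs ▸ h x hx⟩
  have hinjC : ∀ c ∈ C, c ≠ 0 → ∀ w : ι → F, c *ᵥ w = 0 → w = 0 := by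
    intro c hc hc0 w hw
    let K : Submodule F (ι → F) := LinearMap.ker (Matrix.toLin' c)
    have hK : Invariant N K := by
      intro x hx v hv
      simp only [K, LinearMap.mem_ker, Matrix.toLin'_apply] at hv ⊢
      rw [Matrix.mulVec_mulVec, ← hC.1 hc x hx, ← Matrix.mulVec_mulVec, hv, Matrix.mulVec_zero]
    rcases irr_iff.1 hN K hK with h | h
    · have : w ∈ K := by simp [K, hw]
      exact (Submodule.mem_bot F).1 (h ▸ this)
    · refine absurd (Matrix.ext_of_mulVec_single fun i => ?_) hc0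
      have : Pi.single i (1 : F) ∈ K := by rw [h]; trivial
      rw [Matrix.zero_mulVec]
      exact (Matrix.toLin'_apply c _).symm.trans (LinearMap.mem_ker.1 this)
  haveI : NoZeroDivisors C := ⟨fun {a b} hab => by
    by_cases ha : a = 0
    · exact Or.inl ha
    · refine Or.inr (Subtype.ext (Matrix.ext_of_mulVec_single fun i => ?_))
      have ha' : (a : Matrix ι ι F) ≠ 0 := fun h => ha (Subtype.ext h)
      have := hinjC _ a.2 ha' ((b : Matrix ι ι F) *ᵥ Pi.single i 1) (by
        rw [Matrix.mulVec_mulVec, ← Subalgebra.coe_mul, hab, Subalgebra.coe_zero, Matrix.zero_mulVec])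
      rw [Subalgebra.coe_zero, Matrix.zero_mulVec]
      exact this⟩
  haveI : Nontrivial C := ⟨⟨0, 1, fun h => one_ne_zero (congrArg Subtype.val h).symm⟩⟩
  haveI : IsDomain C := NoZeroDivisors.to_isDomain _
  have hfield : IsField C := Finite.isDomain_to_isField C
  -- the degree of the field
  have hdeg : Module.finrank F C = Fintype.card ι := by
    let cv : (v : ι → F) → C →ₗ[F] (ι → F) := fun v =>
      { toFun := fun c => (c : Matrix ι ι F) *ᵥ v
        map_add' := fun a b => by simp [Matrix.add_mulVec]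
        map_smul' := fun r a => by simp [Matrix.smul_mulVec] }
    let S : Set (Submodule F (ι → F)) :=
      {U | (∀ c ∈ C, ∀ u ∈ U, c *ᵥ u ∈ U) ∧ Module.finrank F C ∣ Module.finrank F U}
    obtain ⟨U, ⟨hU, hUd⟩, hUmax⟩ := wellFounded_gt.has_min S
      ⟨⊥, fun c _ u hu => by rw [(Submodule.mem_bot F).1 hu, Matrix.mulVec_zero]; simp, by simp⟩
    have hUtop : U = ⊤ := by
      by_contra hne
      obtain ⟨v, -, hv⟩ := SetLike.exists_of_lt (lt_top_iff_ne_top.2 hne)
      have hinj : Function.Injective (cv v) := by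
        rw [injective_iff_map_eq_zero]
        intro c hc
        by_contra h0
        exact hv (hinjC c c.2 (fun h => h0 (Subtype.ext h)) v hc ▸ U.zero_mem)
      have hdisj : LinearMap.range (cv v) ⊓ U = ⊥ := by
        rw [Submodule.eq_bot_iff]
        rintro _ ⟨⟨c, rfl⟩, hcU⟩
        by_contra h0
        have hc0 : c ≠ 0 := fun h => h0 (by rw [h, map_zero])
        obtain ⟨c', hc'⟩ := hfield.mul_inv_cancel hc0
        rw [hfield.mul_comm] at hc'
        have h2 : (c' : Matrix ι ι F) *ᵥ ((c : Matrix ι ι F) *ᵥ v) ∈ U := hU _ c'.2 _ hcU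
        rw [Matrix.mulVec_mulVec, ← Subalgebra.coe_mul, hc', Subalgebra.coe_one,
          Matrix.one_mulVec] at h2
        exact hv h2
      refine hUmax (U ⊔ LinearMap.range (cv v)) ⟨?_, ?_⟩
        (lt_of_le_of_ne le_sup_left fun he => hv ?_)
      · intro c hc w hw
        obtain ⟨u, hu, z, ⟨a, rfl⟩, rfl⟩ := Submodule.mem_sup.1 hw
        rw [Matrix.mulVec_add]
        exact Submodule.add_mem_sup (hU c hc u hu)
          ⟨⟨c, hc⟩ * a, by simp [cv, Matrix.mulVec_mulVec]⟩
      · have := Submodule.finrank_sup_add_finrank_inf_eq (LinearMap.range (cv v)) U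
        rw [hdisj, finrank_bot, add_zero, sup_comm, LinearMap.finrank_range_of_inj hinj] at this
        rw [this]
        exact dvd_add dvd_rfl hUd
      · rw [he]
        exact Submodule.mem_sup_right ⟨1, by simp [cv]⟩
    subst hUtop
    rw [finrank_top, Module.finrank_fintype_fun_eq_card] at hUd
    refine ((hp.eq_one_or_self_of_dvd _ hUd).resolve_left fun h1 => ?_)
    obtain ⟨c, hc⟩ := (finrank_eq_one_iff_of_nonzero' (1 : C) one_ne_zero).1 h1
      ⟨A, hC.2 fun x hx => (hA _ ⟨x, hx, rfl⟩).symm⟩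
    exact hAns c (congrArg Subtype.val hc).symm
  have hmul : ∀ a ∈ C, ∀ b ∈ C, a * b = b * a := fun a ha b hb =>
    congrArg Subtype.val (hfield.mul_comm ⟨a, ha⟩ ⟨b, hb⟩)
  refine Or.inr ⟨C, ⟨hmul, fun a ha ha0 => ?_, hdeg⟩, ?_, ?_, fun M hM => hC.2 hM⟩
  · obtain ⟨c', hc'⟩ :=
      hfield.mul_inv_cancel (a := (⟨a, ha⟩ : C)) fun h => ha0 (congrArg Subtype.val h)
    exact ⟨c', c'.2, congrArg Subtype.val hc'⟩
  · intro h hh
    refine mem_subalgebraNormalizer fun k hk => hC.2 fun x hx => ?_
    have h1 := hC.1 hk _ (hn h⁻¹ (H.inv_mem hh) x hx)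
    simp only [inv_inv, Units.val_mul] at h1
    have := congrArg (fun m => (h : Matrix ι ι F) * m * ((h⁻¹ : GL ι F) : Matrix ι ι F)) h1
    simpa [mul_assoc] using this
  · -- `x v₀ = c v₀` for some `c ∈ C`, hence `x = c`
    intro x hx
    obtain ⟨i₀⟩ := hne
    let v₀ : ι → F := Pi.single i₀ 1
    let cv : C →ₗ[F] (ι → F) :=
      { toFun := fun c => (c : Matrix ι ι F) *ᵥ v₀
        map_add' := fun a b => by simp [Matrix.add_mulVec]
        map_smul' := fun r a => by simp [Matrix.smul_mulVec] }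
    have hv₀ : v₀ ≠ 0 := fun h => by simpa [v₀] using congrFun h i₀
    have hinj : Function.Injective cv := by
      rw [injective_iff_map_eq_zero]
      intro c hc
      by_contra h0
      exact hv₀ (hinjC c c.2 (fun h => h0 (Subtype.ext h)) v₀ hc)
    have hsurj : LinearMap.range cv = ⊤ := Submodule.eq_top_of_finrank_eq (by
      rw [LinearMap.finrank_range_of_inj hinj, hdeg, Module.finrank_fintype_fun_eq_card])
    obtain ⟨c, hc⟩ := LinearMap.range_eq_top.1 hsurj ((x : Matrix ι ι F) *ᵥ v₀)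
    have hxe : (x : Matrix ι ι F) = c := by
      refine Matrix.ext_of_mulVec_single fun i => ?_
      obtain ⟨a, ha⟩ := LinearMap.range_eq_top.1 hsurj (Pi.single i 1)
      rw [← ha]
      simp only [cv, LinearMap.coe_mk, AddHom.coe_mk] at hc ⊢
      rw [Matrix.mulVec_mulVec, hC.1 a.2 x hx, ← Matrix.mulVec_mulVec, ← hc,
        Matrix.mulVec_mulVec, Matrix.mulVec_mulVec, hmul _ a.2 _ c.2]
    rw [hxe]; exact c.2

/-- Normal subgroups of an irreducible group of prime degree over a finite field. -/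
theorem trichotomy [Finite F] (hp : (Fintype.card ι).Prime) {H N : Subgroup (GL ι F)} (hH : Irr H)
    (hn : NormalIn H N) :
    AbsIrr N ∨ (Abelian N ∧ (N ≤ Geo.scalars ι F ∨ Frame H N ∨ FieldCase H N)) := by
  haveI : Nonempty ι := Fintype.card_pos_iff.1 hp.pos
  obtain ⟨W, hW, hW0, hWd, hmin⟩ := exists_minimal_invariant hH hn
  rcases hp.eq_one_or_self_of_dvd _ hWd with h1 | h1
  · obtain ⟨v, hv, hv0⟩ := (Submodule.ne_bot_iff W).1 hW0
    have hev : ∀ x ∈ N, ∃ c : F, (x : Matrix ι ι F) *ᵥ v = c • v := by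
      intro x hx
      obtain ⟨c, hc⟩ := (finrank_eq_one_iff_of_nonzero' (⟨v, hv⟩ : W)
        (fun h => hv0 (congrArg Subtype.val h))).1 h1 ⟨_, hW x hx v hv⟩
      exact ⟨c, (congrArg Subtype.val hc).symm⟩
    rcases frame_of_eigenvector hp hH hn hv0 hev with h | h
    · exact Or.inr ⟨abelian_of_le_scalars h, Or.inl h⟩
    · refine Or.inr ⟨?_, Or.inr (Or.inl h)⟩
      obtain ⟨b, hb, -, -⟩ := h
      intro x hx y hy
      have hlin : Matrix.toLin' ((x * y : GL ι F) : Matrix ι ι F) =
          Matrix.toLin' ((y * x : GL ι F) : Matrix ι ι F) := b.ext fun i => by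
        obtain ⟨c, hc⟩ := hb x hx i
        obtain ⟨d, hd⟩ := hb y hy i
        simp only [Matrix.toLin'_apply, mulVec_mul, hc, hd, Matrix.mulVec_smul, smul_smul, mul_comm]
      exact Units.ext (Matrix.toLin'.injective hlin)
  · have hN : Irr N := irr_iff.2 fun U hU => by
      by_cases hU0 : U = ⊥
      · exact Or.inl hU0
      · exact Or.inr (Submodule.eq_top_of_finrank_eq (le_antisymm (Submodule.finrank_le _)
          (by rw [Module.finrank_fintype_fun_eq_card, ← h1]; exact hmin U hU hU0)))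
    rcases field_of_irr hp hn hN with h | h
    · exact Or.inl h
    · refine Or.inr ⟨?_, Or.inr (Or.inr h)⟩
      obtain ⟨K, hK, -, hNK, -⟩ := h
      exact fun x hx y hy => Units.ext (by
        simpa using hK.comm _ (hNK x hx) _ (hNK y hy))

end Cfsg.Agent.Aschbacher
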