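import Cfsg.Agent.Lib.Aschbacher.Basic

/-!
Systems of matrix units: a representation of `M_m(F)` is `M ↦ M ⊗ 1`, commuting representations generating
an irreducible algebra form a tensor power, and automorphisms of `M_m(F)` are inner.
-/

set_option autoImplicit false

namespace Cfsg.Agent.Aschbacher

open Matrix
open scoped MatrixGroups Kronecker

variable {ι : Type} [Fintype ι] [DecidableEq ι] {F : Type*} [Field F]
variable {κ : Type} [Fintype κ] [DecidableEq κ]

/-- Matrices in the coordinates given by the columns of `P`, indexed through `e`. -/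
def coordEquiv (e : ι ≃ κ) (P : GL ι F) : Matrix κ κ F ≃ₐ[F] Matrix ι ι F :=
  (Matrix.reindexAlgEquiv F F e.symm).trans
    (AlgEquiv.ofAlgHom
      { toFun := fun M => (P : Matrix ι ι F) * M * ((P⁻¹ : GL ι F) : Matrix ι ι F)
        map_one' := by simp
        map_mul' := fun a b => by simp [mul_assoc]
        map_zero' := by simp
        map_add' := fun a b => by simp [mul_add, add_mul]
        commutes' := fun c => by simp [Algebra.algebraMap_eq_smul_one] }
      { toFun := fun M => ((P⁻¹ : GL ι F) : Matrix ι ι F) * M * (P : Matrix ι ι F)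
        map_one' := by simp
        map_mul' := fun a b => by simp [mul_assoc]
        map_zero' := by simp
        map_add' := fun a b => by simp [mul_add, add_mul]
        commutes' := fun c => by simp [Algebra.algebraMap_eq_smul_one] }
      (AlgHom.ext fun M => by simp [mul_assoc])
      (AlgHom.ext fun M => by simp [mul_assoc]))

theorem coordEquiv_apply (e : ι ≃ κ) (P : GL ι F) (M : Matrix κ κ F) :
    coordEquiv e P M = (P : Matrix ι ι F) * M.submatrix e e * ((P⁻¹ : GL ι F) : Matrix ι ι F) := rfl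

/-- The same on invertible matrices. -/
def coordGL (e : ι ≃ κ) (P : GL ι F) : GL κ F ≃* GL ι F := Units.mapEquiv (coordEquiv e P).toMulEquiv

theorem coordGL_val (e : ι ≃ κ) (P : GL ι F) (g : GL κ F) :
    (coordGL e P g : Matrix ι ι F) = coordEquiv e P (g : Matrix κ κ F) := rfl

theorem coordGL_eq (e : ι ≃ κ) (P : GL ι F) (g : GL κ F) :
    coordGL e P g = P * Geo.glReindex e.symm g * P⁻¹ := Units.ext rfl

theorem exists_coord_of_basis (e : ι ≃ κ) (b : Module.Basis κ F (ι → F)) :
    ∃ P : GL ι F, ∀ (M : Matrix κ κ F) (y : κ), coordEquiv e P M *ᵥ b y = ∑ z, M z y • b z := by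
  let c := b.reindex e.symm
  let T : Matrix ι ι F := LinearMap.toMatrix' c.equivFun.symm.toLinearMap
  let T' : Matrix ι ι F := LinearMap.toMatrix' c.equivFun.toLinearMap
  let P : GL ι F := ⟨T, T', by simp [T, T', ← LinearMap.toMatrix'_comp],
    by simp [T, T', ← LinearMap.toMatrix'_comp]⟩
  refine ⟨P, fun M y => ?_⟩
  have h1 : T *ᵥ Pi.single (e.symm y) 1 = b y := by
    simp only [T, LinearMap.toMatrix'_mulVec, LinearEquiv.coe_coe, Module.Basis.equivFun_symm_apply]
    simp [Pi.single_apply, c]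
  rw [coordEquiv_apply, ← Matrix.mulVec_mulVec, ← Matrix.mulVec_mulVec]
  show T *ᵥ (M.submatrix e e *ᵥ (T' *ᵥ b y)) = _
  have h2 : T' *ᵥ b y = Pi.single (e.symm y) 1 := by
    rw [← h1]; exact inv_mulVec P _
  rw [h2, Matrix.mulVec_single_one]
  simp only [T, LinearMap.toMatrix'_mulVec, LinearEquiv.coe_coe, Module.Basis.equivFun_symm_apply]
  rw [← Equiv.sum_comp e.symm]
  simp [c]

omit [Fintype κ] [DecidableEq κ] in
theorem eq_of_mulVec_basis (b : Module.Basis κ F (ι → F)) {A B : Matrix ι ι F}
    (h : ∀ y, A *ᵥ b y = B *ᵥ b y) : A = B :=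
  Matrix.toLin'.injective (b.ext fun y => by simpa using h y)

section Block

variable {m : ℕ}

theorem mul_single_eq_sum (M : Matrix (Fin m) (Fin m) F) (a c : Fin m) :
    M * Matrix.single a c 1 = ∑ d, M d a • Matrix.single d c (1 : F) := by
  ext i j
  simp only [Matrix.mul_apply, Matrix.single_apply, Matrix.sum_apply, Matrix.smul_apply, smul_eq_mul]
  by_cases hc : c = j <;> simp [hc]

variable [NeZero m]

/-- A representation of the full matrix algebra has a basis on which it is `M ⊗ 1`. -/
theorem exists_block_basis (φ : Matrix (Fin m) (Fin m) F →ₐ[F] Matrix ι ι F) :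
    ∃ (k : ℕ) (b : Module.Basis (Fin m × Fin k) F (ι → F)),
      ∀ M p, φ M *ᵥ b p = ∑ q, (M ⊗ₖ (1 : Matrix (Fin k) (Fin k) F)) q p • b q := by
  classical
  let S : Fin m → Fin m → Matrix (Fin m) (Fin m) F := fun a b => Matrix.single a b 1
  let R := LinearMap.range (Matrix.toLin' (φ (S 0 0)))
  let v := Module.finBasis F R
  let k := Module.finrank F R
  let f : Fin m × Fin k → ι → F := fun p => φ (S p.1 0) *ᵥ (v p.2 : ι → F)
  have hfix : ∀ w ∈ R, φ (S 0 0) *ᵥ w = w := by
    rintro _ ⟨u, rfl⟩
    rw [Matrix.toLin'_apply, Matrix.mulVec_mulVec, ← map_mul, show S 0 0 * S 0 0 = S 0 0 from by simp [S]]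
  have hli : LinearIndependent F f := by
    rw [Fintype.linearIndependent_iff]
    intro g hg ⟨a, j⟩
    have h1 := congrArg (φ (S 0 a) *ᵥ ·) hg
    simp only [f, Matrix.mulVec_zero, Matrix.mulVec_sum, Matrix.mulVec_smul, Matrix.mulVec_mulVec,
      ← map_mul, Fintype.sum_prod_type] at h1
    rw [Finset.sum_eq_single a (fun c _ hc => Finset.sum_eq_zero fun l _ => by
      rw [show S 0 a * S c 0 = 0 from by simp [S, Ne.symm hc], map_zero, Matrix.zero_mulVec,
        smul_zero]) (fun h => absurd (Finset.mem_univ a) h)] at h1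
    simp only [show S 0 a * S a 0 = S 0 0 from by simp [S], hfix _ (v _).2] at h1
    exact Fintype.linearIndependent_iff.1
      (v.linearIndependent.map' R.subtype (Submodule.ker_subtype R)) (fun l => g (a, l)) h1 j
  have hsp : ⊤ ≤ Submodule.span F (Set.range f) := by
    intro u _
    have h1 : u = ∑ a, φ (S a 0) *ᵥ (φ (S 0 a) *ᵥ u) := by
      simp only [Matrix.mulVec_mulVec, ← map_mul, ← Matrix.sum_mulVec, ← map_sum]
      rw [show (∑ a, S a 0 * S 0 a) = 1 from by simp [S, Matrix.sum_single_one], map_one, Matrix.one_mulVec]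
    rw [h1]
    refine Submodule.sum_mem _ fun a _ => ?_
    have hR : φ (S 0 a) *ᵥ u ∈ R := ⟨φ (S 0 a) *ᵥ u, by
      rw [Matrix.toLin'_apply, Matrix.mulVec_mulVec, ← map_mul, show S 0 0 * S 0 a = S 0 a from by simp [S]]⟩
    have h2 := v.sum_repr ⟨_, hR⟩
    rw [show φ (S 0 a) *ᵥ u = ∑ l, v.repr ⟨_, hR⟩ l • (v l : ι → F) from
      (congrArg Subtype.val h2).symm.trans (by simp only [Submodule.coe_sum, Submodule.coe_smul]), Matrix.mulVec_sum]
    exact Submodule.sum_mem _ fun l _ => by
      rw [Matrix.mulVec_smul]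
      exact Submodule.smul_mem _ _ (Submodule.subset_span ⟨(a, l), rfl⟩)
  refine ⟨k, Module.Basis.mk hli hsp, fun M ⟨a, l⟩ => ?_⟩
  simp only [Module.Basis.coe_mk, f, Matrix.mulVec_mulVec, ← map_mul, S, mul_single_eq_sum, map_sum,
    map_smul, Matrix.sum_mulVec, Matrix.smul_mulVec, Fintype.sum_prod_type, Matrix.kroneckerMap_apply,
    Matrix.one_apply, mul_ite, mul_one, mul_zero, ite_smul, zero_smul, Finset.sum_ite_eq',
    Finset.mem_univ, if_true]

/-- A representation of the full matrix algebra is `M ⊗ 1`. -/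
theorem exists_block_coord (φ : Matrix (Fin m) (Fin m) F →ₐ[F] Matrix ι ι F) :
    ∃ (k : ℕ) (e : ι ≃ Fin m × Fin k) (P : GL ι F),
      ∀ M, φ M = coordEquiv e P (M ⊗ₖ (1 : Matrix (Fin k) (Fin k) F)) := by
  obtain ⟨k, b, hb⟩ := exists_block_basis φ
  let e : ι ≃ Fin m × Fin k := (Pi.basisFun F ι).indexEquiv b
  obtain ⟨P, hP⟩ := exists_coord_of_basis e b
  exact ⟨k, e, P, fun M => eq_of_mulVec_basis b fun p => by rw [hb, hP]⟩

/-- Automorphisms of the matrix algebra are inner. -/
theorem exists_inner (ψ : Matrix (Fin m) (Fin m) F →ₐ[F] Matrix (Fin m) (Fin m) F) :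
    ∃ s : GL (Fin m) F, ∀ M, ψ M = (s : Matrix _ _ F) * M * ((s⁻¹ : GL (Fin m) F) : Matrix _ _ F) := by
  obtain ⟨k, b, hb⟩ := exists_block_basis ψ
  have hk : k = 1 := by
    have h := Module.finrank_eq_card_basis b
    simp only [Module.finrank_fintype_fun_eq_card, Fintype.card_prod, Fintype.card_fin] at h
    exact (Nat.mul_eq_left (NeZero.ne m)).1 h.symm
  subst hk
  let b' := b.reindex (Equiv.prodUnique (Fin m) (Fin 1))
  obtain ⟨s, hs⟩ := exists_coord_of_basis (Equiv.refl (Fin m)) b'
  refine ⟨s, fun M => eq_of_mulVec_basis b' fun a => ?_⟩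
  have h1 := hs M a
  rw [coordEquiv_apply] at h1
  simp only [Equiv.coe_refl, Matrix.submatrix_id_id] at h1
  rw [h1, Module.Basis.reindex_apply, hb, Fintype.sum_prod_type]
  simp [b']

end Block

section Pure

variable {m t : ℕ}

/-- The tensor product of `t` matrices. -/
def pureMat : (Fin t → Matrix (Fin m) (Fin m) F) →* Matrix (Fin t → Fin m) (Fin t → Fin m) F where
  toFun f := Matrix.of fun x y => ∏ i, f i (x i) (y i)
  map_one' := by
    ext x y
    simp only [Matrix.of_apply, Pi.one_apply, Matrix.one_apply]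
    by_cases h : x = y
    · simp [h]
    · obtain ⟨i, hi⟩ := Function.ne_iff.1 h
      rw [if_neg h, Finset.prod_eq_zero (Finset.mem_univ i) (if_neg hi)]
  map_mul' f g := by
    ext x y
    simp only [Matrix.mul_apply, Matrix.of_apply, Pi.mul_apply, ← Finset.prod_mul_distrib]
    exact Fintype.prod_sum fun i a => f i (x i) a * g i a (y i)

theorem pureMat_apply (f : Fin t → Matrix (Fin m) (Fin m) F) (x y : Fin t → Fin m) :
    pureMat f x y = ∏ i, f i (x i) (y i) := rfl

theorem pureMat_mulSingle_apply (i : Fin t) (M : Matrix (Fin m) (Fin m) F) (z x : Fin t → Fin m) :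
    pureMat (Pi.mulSingle i M) z x = ∑ a, if z = Function.update x i a then M a (x i) else 0 := by
  classical
  rw [pureMat_apply]
  by_cases h : z = Function.update x i (z i)
  · rw [Finset.sum_eq_single (z i) (fun a _ ha => if_neg fun he => ha (by rw [he, Function.update_self]))
      (fun hn => absurd (Finset.mem_univ _) hn), if_pos h,
      Finset.prod_eq_single i (fun j _ hj => ?_) (fun hn => absurd (Finset.mem_univ _) hn),
      Pi.mulSingle_eq_same]
    rw [Pi.mulSingle_eq_of_ne hj, h, Function.update_of_ne hj, Matrix.one_apply_eq]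
  · rw [Finset.sum_eq_zero fun a _ => if_neg fun he => h (by rw [he, Function.update_self])]
    obtain ⟨j, hj⟩ := Function.ne_iff.1 h
    have hji : j ≠ i := by rintro rfl; exact hj (by rw [Function.update_self])
    rw [Function.update_of_ne hji] at hj
    exact Finset.prod_eq_zero (Finset.mem_univ j) (by rw [Pi.mulSingle_eq_of_ne hji, Matrix.one_apply_ne hj])

variable [NeZero m] [Nonempty ι]

/-- A vector fixed by the first diagonal matrix unit of each representation. -/
theorem exists_common_fixed (φ : Fin t → Matrix (Fin m) (Fin m) F →ₐ[F] Matrix ι ι F)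
    (hcomm : Pairwise fun i j => ∀ M M', Commute (φ i M) (φ j M')) (s : Finset (Fin t)) :
    ∃ v : ι → F, v ≠ 0 ∧ ∀ i ∈ s, φ i (Matrix.single 0 0 1) *ᵥ v = v := by
  classical
  induction s using Finset.induction with
  | empty =>
    exact ⟨fun _ => 1, fun h => one_ne_zero (congrFun h (Classical.arbitrary ι)), by simp⟩
  | insert i s hi ih =>
    obtain ⟨v, hv0, hv⟩ := ih
    have h1 : v = ∑ a : Fin m, φ i (Matrix.single a 0 1) *ᵥ (φ i (Matrix.single 0 a 1) *ᵥ v) := by
      simp only [Matrix.mulVec_mulVec, ← map_mul, ← Matrix.sum_mulVec, ← map_sum,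
        Matrix.single_mul_single_same, mul_one, Matrix.sum_single_one, map_one, Matrix.one_mulVec]
    obtain ⟨a, ha⟩ : ∃ a, φ i (Matrix.single 0 a 1) *ᵥ v ≠ 0 := by
      by_contra hc
      push Not at hc
      exact hv0 (by rw [h1]; simp [hc])
    refine ⟨_, ha, fun j hj => ?_⟩
    rcases Finset.mem_insert.1 hj with rfl | hj
    · rw [Matrix.mulVec_mulVec, ← map_mul, Matrix.single_mul_single_same, mul_one]
    · rw [Matrix.mulVec_mulVec, (hcomm (ne_of_mem_of_not_mem hj hi) _ _).eq, ← Matrix.mulVec_mulVec,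
        hv j hj]

/-- The product of a commuting family of representations. -/
def pureProd (φ : Fin t → Matrix (Fin m) (Fin m) F →ₐ[F] Matrix ι ι F)
    (hcomm : Pairwise fun i j => ∀ M M', Commute (φ i M) (φ j M')) :
    (Fin t → Matrix (Fin m) (Fin m) F) →* Matrix ι ι F :=
  MonoidHom.noncommPiCoprod (fun i => (φ i : Matrix (Fin m) (Fin m) F →* Matrix ι ι F)) hcomm

omit [NeZero m] [Nonempty ι] in
theorem pureProd_mulSingle (φ : Fin t → Matrix (Fin m) (Fin m) F →ₐ[F] Matrix ι ι F)
    (hcomm : Pairwise fun i j => ∀ M M', Commute (φ i M) (φ j M')) (i : Fin t)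
    (M : Matrix (Fin m) (Fin m) F) : pureProd φ hcomm (Pi.mulSingle i M) = φ i M := by
  exact MonoidHom.noncommPiCoprod_mulSingle
    (ϕ := fun i => (φ i : Matrix (Fin m) (Fin m) F →* Matrix ι ι F)) (hcomm := hcomm) i M

theorem pureProd_update (φ : Fin t → Matrix (Fin m) (Fin m) F →ₐ[F] Matrix ι ι F)
    (hcomm : Pairwise fun i j => ∀ M M', Commute (φ i M) (φ j M'))
    (f : Fin t → Matrix (Fin m) (Fin m) F) (i : Fin t) (M : Matrix (Fin m) (Fin m) F) :
    pureProd φ hcomm (Function.update f i M) =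
      φ i M * pureProd φ hcomm (Function.update f i 1) := by
  rw [← pureProd_mulSingle φ hcomm, ← map_mul]
  congr 1
  funext j
  by_cases hj : j = i
  · subst hj; simp
  · simp [Function.update_of_ne hj, Pi.mulSingle_eq_of_ne hj]

omit [NeZero m] [Nonempty ι] in
theorem pureProd_fix (φ : Fin t → Matrix (Fin m) (Fin m) F →ₐ[F] Matrix ι ι F)
    (hcomm : Pairwise fun i j => ∀ M M', Commute (φ i M) (φ j M'))
    (f : Fin t → Matrix (Fin m) (Fin m) F) {v : ι → F} (h : ∀ i, φ i (f i) *ᵥ v = v) :
    pureProd φ hcomm f *ᵥ v = v :=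
  Finset.noncommProd_induction Finset.univ (fun i => φ i (f i))
    (fun i _ j _ hij => hcomm hij _ _) (fun M => M *ᵥ v = v)
    (fun a b ha hb => by rw [← Matrix.mulVec_mulVec, hb, ha]) (Matrix.one_mulVec v) (fun i _ => h i)

theorem exists_pure_basis (φ : Fin t → Matrix (Fin m) (Fin m) F →ₐ[F] Matrix ι ι F)
    (hcomm : Pairwise fun i j => ∀ M M', Commute (φ i M) (φ j M'))
    (hirr : ∀ W : Submodule F (ι → F), (∀ i M, ∀ w ∈ W, φ i M *ᵥ w ∈ W) → W = ⊥ ∨ W = ⊤) :
    ∃ B : Module.Basis (Fin t → Fin m) F (ι → F),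
      ∀ i M x, φ i M *ᵥ B x = ∑ a, M a (x i) • B (Function.update x i a) := by
  classical
  obtain ⟨v, hv0, hv⟩ := exists_common_fixed φ hcomm Finset.univ
  set Φ := pureProd φ hcomm with hΦ
  have hfix : Φ (fun _ => Matrix.single 0 0 1) *ᵥ v = v :=
    pureProd_fix φ hcomm _ fun i => hv i (Finset.mem_univ i)
  let b : (Fin t → Fin m) → ι → F := fun x => Φ (fun i => Matrix.single (x i) 0 1) *ᵥ v
  have hact : ∀ i M x, φ i M *ᵥ b x = ∑ a, M a (x i) • b (Function.update x i a) := by
    intro i M x
    have h1 : Pi.mulSingle i M * (fun j => Matrix.single (x j) (0 : Fin m) (1 : F)) =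
        Function.update (fun j => Matrix.single (x j) (0 : Fin m) (1 : F)) i (M * Matrix.single (x i) 0 1) := by
      funext j
      by_cases hj : j = i
      · subst hj; simp
      · simp [Function.update_of_ne hj, Pi.mulSingle_eq_of_ne hj]
    have h2 : ∀ a, (fun j => Matrix.single (Function.update x i a j) (0 : Fin m) (1 : F)) =
        Function.update (fun j => Matrix.single (x j) (0 : Fin m) (1 : F)) i (Matrix.single a 0 1) := by
      intro a
      funext j
      by_cases hj : j = i
      · subst hj; simp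
      · simp [Function.update_of_ne hj]
    simp only [b, Matrix.mulVec_mulVec, h2]
    rw [← pureProd_mulSingle φ hcomm, ← hΦ, ← map_mul, h1, hΦ, pureProd_update, mul_single_eq_sum,
      map_sum, Finset.sum_mul, Matrix.sum_mulVec]
    refine Finset.sum_congr rfl fun a _ => ?_
    rw [map_smul, smul_mul_assoc, Matrix.smul_mulVec, ← pureProd_update]
  have hli : LinearIndependent F b := by
    rw [Fintype.linearIndependent_iff]
    intro g hg y
    have h1 := congrArg (Φ (fun i => Matrix.single 0 (y i) 1) *ᵥ ·) hg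
    simp only [Matrix.mulVec_zero, Matrix.mulVec_sum, Matrix.mulVec_smul, b, Matrix.mulVec_mulVec,
      ← map_mul] at h1
    rw [Finset.sum_eq_single y (fun x _ hx => ?_) (fun h => absurd (Finset.mem_univ y) h),
      show (fun i => Matrix.single 0 (y i) 1) * (fun i => Matrix.single (y i) 0 1) =
        fun _ : Fin t => Matrix.single (0 : Fin m) 0 (1 : F) from funext fun i => by simp,
      hfix, smul_eq_zero] at h1
    · exact h1.resolve_right hv0
    obtain ⟨i, hi⟩ := Function.ne_iff.1 hx
    generalize hf : (fun i => Matrix.single (0 : Fin m) (y i) (1 : F)) *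
      (fun i => Matrix.single (x i) (0 : Fin m) (1 : F)) = f
    rw [← Function.update_eq_self i f, hΦ, pureProd_update, show f i = 0 from by
      rw [← hf]; simp [Ne.symm hi], map_zero, zero_mul, Matrix.zero_mulVec, smul_zero]
  have hsp : ⊤ ≤ Submodule.span F (Set.range b) := by
    refine ((hirr _ fun i M w hw => ?_).resolve_left fun h => hv0 ?_).ge
    · induction hw using Submodule.span_induction with
      | mem y hy =>
        obtain ⟨x, rfl⟩ := hy
        rw [hact]
        exact Submodule.sum_mem _ fun a _ => Submodule.smul_mem _ _ (Submodule.subset_span ⟨_, rfl⟩)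
      | zero => rw [Matrix.mulVec_zero]; exact Submodule.zero_mem _
      | add y z _ _ ihy ihz => rw [Matrix.mulVec_add]; exact Submodule.add_mem _ ihy ihz
      | smul c y _ ih => rw [Matrix.mulVec_smul]; exact Submodule.smul_mem _ c ih
    · have h1 : b (fun _ => 0) ∈ Submodule.span F (Set.range b) := Submodule.subset_span ⟨_, rfl⟩
      rw [h, Submodule.mem_bot] at h1
      exact hfix.symm.trans h1
  refine ⟨Module.Basis.mk hli hsp, fun i M x => ?_⟩
  simp only [Module.Basis.mk_apply]
  exact hact i M x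

/-- Commuting representations of `M_m(F)` with no common invariant subspace form a tensor power. -/
theorem exists_pure_coord (φ : Fin t → Matrix (Fin m) (Fin m) F →ₐ[F] Matrix ι ι F)
    (hcomm : Pairwise fun i j => ∀ M M', Commute (φ i M) (φ j M'))
    (hirr : ∀ W : Submodule F (ι → F), (∀ i M, ∀ w ∈ W, φ i M *ᵥ w ∈ W) → W = ⊥ ∨ W = ⊤) :
    ∃ (e : ι ≃ (Fin t → Fin m)) (P : GL ι F),
      ∀ i M, φ i M = coordEquiv e P (pureMat (Pi.mulSingle i M)) := by
  obtain ⟨B, hB⟩ := exists_pure_basis φ hcomm hirr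
  let e : ι ≃ (Fin t → Fin m) := (Pi.basisFun F ι).indexEquiv B
  obtain ⟨P, hP⟩ := exists_coord_of_basis e B
  refine ⟨e, P, fun i M => eq_of_mulVec_basis B fun x => ?_⟩
  rw [hP, hB]
  simp only [pureMat_mulSingle_apply, Finset.sum_smul, ite_smul, zero_smul]
  rw [Finset.sum_comm]
  simp

end Pure

end Cfsg.Agent.Aschbacher
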