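import Cfsg.Agent.Lib.Aschbacher.LinearOutcome
import Cfsg.Agent.Lib.Aschbacher.MatrixUnits

/-!
The normaliser of `M_m ⊗ 1` and of a tensor power of `M_m`; tensor powers of two-dimensional spaces carry
a form.
-/

set_option autoImplicit false

namespace Cfsg.Agent.Aschbacher

open Matrix
open scoped MatrixGroups Kronecker

variable {F : Type*} [Field F] {ι : Type} [Fintype ι] [DecidableEq ι] {κ : Type} [Fintype κ] [DecidableEq κ]

theorem mem_tensorProductSubgroup {m k : ℕ} (e : ι ≃ Fin m × Fin k) (P : GL ι F)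
    {g : GL (Fin m × Fin k) F} (hg : g ∈ Geo.kroneckerSubgroup m k F) :
    coordGL e P g ∈ Geo.tensorProductSubgroup m k e P :=
  ⟨_, ⟨g, hg, rfl⟩, (coordGL_eq e P g).symm⟩

theorem mem_tensorWreathSubgroup {m t : ℕ} (e : ι ≃ (Fin t → Fin m)) (P : GL ι F)
    {g : GL (Fin t → Fin m) F} (hg : g ∈ Geo.tensorWreathStandard m t F) :
    coordGL e P g ∈ Geo.tensorWreathSubgroup m t e P :=
  ⟨_, ⟨g, hg, rfl⟩, (coordGL_eq e P g).symm⟩

/-- A map of matrix algebras whose image is preserved by conjugation. -/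
theorem exists_conj_lift {m : ℕ} (f f' : Matrix (Fin m) (Fin m) F →ₐ[F] Matrix κ κ F)
    (hf' : Function.Injective f') (g : GL κ F)
    (hg : ∀ A, ∃ B, (g : Matrix κ κ F) * f A * ((g⁻¹ : GL κ F) : Matrix κ κ F) = f' B) :
    ∃ ψ : Matrix (Fin m) (Fin m) F →ₐ[F] Matrix (Fin m) (Fin m) F,
      ∀ A, (g : Matrix κ κ F) * f A * ((g⁻¹ : GL κ F) : Matrix κ κ F) = f' (ψ A) := by
  let E := AlgEquiv.ofInjective f' hf'
  let θ : Matrix (Fin m) (Fin m) F →ₐ[F] f'.range :=
    ((coordEquiv (Equiv.refl κ) g).toAlgHom.comp f).codRestrict _ fun A => by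
      obtain ⟨B, hB⟩ := hg A
      exact ⟨B, by simpa [coordEquiv_apply] using hB.symm⟩
  refine ⟨E.symm.toAlgHom.comp θ, fun A => ?_⟩
  have h1 : E (E.symm (θ A)) = θ A := E.apply_symm_apply _
  have h2 := congrArg Subtype.val h1
  have h3 : ((θ A : f'.range) : Matrix κ κ F) =
      (g : Matrix κ κ F) * f A * ((g⁻¹ : GL κ F) : Matrix κ κ F) := rfl
  exact h3.symm.trans h2.symm

/-- `M ↦ M ⊗ 1`. -/
def kronOne (m k : ℕ) :
    Matrix (Fin m) (Fin m) F →ₐ[F] Matrix (Fin m × Fin k) (Fin m × Fin k) F where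
  toFun M := M ⊗ₖ (1 : Matrix (Fin k) (Fin k) F)
  map_one' := Matrix.one_kronecker_one
  map_mul' a b := by rw [← Matrix.mul_kronecker_mul, one_mul]
  map_zero' := Matrix.zero_kronecker _
  map_add' a b := Matrix.add_kronecker _ _ _
  commutes' c := by
    rw [Algebra.algebraMap_eq_smul_one, Algebra.algebraMap_eq_smul_one, Matrix.smul_kronecker,
      Matrix.one_kronecker_one]

/-- The commutant of `M_m ⊗ 1`. -/
theorem eq_one_kronecker {m k : ℕ} [NeZero m] {X : Matrix (Fin m × Fin k) (Fin m × Fin k) F}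
    (h : ∀ M, X * kronOne m k M = kronOne m k M * X) :
    X = (1 : Matrix (Fin m) (Fin m) F) ⊗ₖ Matrix.of (fun j l => X (0, j) (0, l)) := by
  ext ⟨a, j⟩ ⟨c, l⟩
  have h1 := congrFun (congrFun (h (Matrix.single c 0 1)) (a, j)) (0, l)
  simp only [kronOne, AlgHom.coe_mk, RingHom.coe_mk, MonoidHom.coe_mk, OneHom.coe_mk, Matrix.mul_apply,
    Matrix.kroneckerMap_apply, Fintype.sum_prod_type, Matrix.single_apply, Matrix.one_apply] at h1
  simp only [Matrix.kroneckerMap_apply, Matrix.one_apply, Matrix.of_apply]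
  by_cases hac : a = c
  · subst hac; simpa using h1
  · simpa [hac, Ne.symm hac] using h1

/-- A group preserving `M_m ⊗ 1` stabilises the tensor decomposition. -/
theorem le_tensorProductSubgroup {m k : ℕ} [NeZero m] [NeZero k] (e : ι ≃ Fin m × Fin k) (P : GL ι F)
    {H : Subgroup (GL ι F)}
    (hH : ∀ h ∈ H, ∀ A, ∃ B, (h : Matrix ι ι F) * coordEquiv e P (kronOne m k A) *
      ((h⁻¹ : GL ι F) : Matrix ι ι F) = coordEquiv e P (kronOne m k B)) :
    H ≤ Geo.tensorProductSubgroup m k e P := by
  intro h hh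
  obtain ⟨g, rfl⟩ := (coordGL e P).surjective h
  refine mem_tensorProductSubgroup e P ?_
  have hinj : Function.Injective (kronOne (F := F) m k) := by
    intro A B hAB
    ext a b
    have := congrFun (congrFun hAB (a, 0)) (b, 0)
    simpa [kronOne] using this
  obtain ⟨ψ, hψ⟩ := exists_conj_lift (kronOne m k) (kronOne m k) hinj g fun A => by
    obtain ⟨B, hB⟩ := hH _ hh A
    refine ⟨B, (coordEquiv e P).injective ?_⟩
    rw [map_mul, map_mul, ← hB, ← map_inv, coordGL_val, coordGL_val]
  obtain ⟨s, hs⟩ := exists_inner ψ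
  let S : GL (Fin m × Fin k) F := Units.map (kronOne (F := F) m k : _ →* _) s
  have hS : ∀ A, (S : Matrix _ _ F) * kronOne m k A * ((S⁻¹ : GL (Fin m × Fin k) F) : Matrix _ _ F) =
      kronOne m k (ψ A) := fun A => by
    rw [hs, map_mul, map_mul]; rfl
  have hcomm : ∀ A, ((S⁻¹ * g : GL (Fin m × Fin k) F) : Matrix _ _ F) * kronOne m k A =
      kronOne m k A * ((S⁻¹ * g : GL (Fin m × Fin k) F) : Matrix _ _ F) := fun A => by
    have h1 := (hψ A).trans (hS A).symm
    have h2 := congrArg (fun M => ((S⁻¹ : GL (Fin m × Fin k) F) : Matrix _ _ F) * M *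
      (g : Matrix _ _ F)) h1
    simp only [mul_assoc, Units.inv_mul, mul_one, Units.inv_mul_cancel_left] at h2
    rw [Units.val_mul, mul_assoc, h2]
  set B : Matrix (Fin k) (Fin k) F :=
    Matrix.of fun j l => ((S⁻¹ * g : GL (Fin m × Fin k) F) : Matrix (Fin m × Fin k) (Fin m × Fin k) F)
      ((0 : Fin m), j) ((0 : Fin m), l) with hB
  have hX := eq_one_kronecker hcomm
  have hdet : B.det ≠ 0 := fun h0 => by
    have h1 := (Matrix.GeneralLinearGroup.det (S⁻¹ * g)).ne_zero
    rw [Matrix.GeneralLinearGroup.val_det_apply, hX, Matrix.det_kronecker, h0, zero_pow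
      (by simpa using NeZero.ne m), mul_zero] at h1
    exact h1 rfl
  refine ⟨s, Matrix.GeneralLinearGroup.mkOfDetNeZero B hdet, ?_⟩
  rw [show (g : Matrix (Fin m × Fin k) (Fin m × Fin k) F) =
    (S : Matrix _ _ F) * ((S⁻¹ * g : GL (Fin m × Fin k) F) : Matrix _ _ F) by simp, hX]
  show ((s : Matrix (Fin m) (Fin m) F) ⊗ₖ (1 : Matrix (Fin k) (Fin k) F)) * _ = _
  rw [← Matrix.mul_kronecker_mul, mul_one, one_mul]
  rfl

theorem comm_of_conj_eq {S g : GL κ F} {A : Matrix κ κ F}
    (h : (g : Matrix κ κ F) * A * ((g⁻¹ : GL κ F) : Matrix κ κ F) =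
      (S : Matrix κ κ F) * A * ((S⁻¹ : GL κ F) : Matrix κ κ F)) :
    ((S⁻¹ * g : GL κ F) : Matrix κ κ F) * A = A * ((S⁻¹ * g : GL κ F) : Matrix κ κ F) := by
  have h2 := congrArg (fun M => ((S⁻¹ : GL κ F) : Matrix κ κ F) * M * (g : Matrix κ κ F)) h
  simp only [mul_assoc, Units.inv_mul, mul_one, Units.inv_mul_cancel_left] at h2
  rw [Units.val_mul, mul_assoc, h2]

/-! ### Tensor powers -/

variable {m t : ℕ}

/-- The `i`-th factor of a tensor power. -/
def slotHom (i : Fin t) : Matrix (Fin m) (Fin m) F →ₐ[F] Matrix (Fin t → Fin m) (Fin t → Fin m) F :=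
  AlgHom.ofLinearMap
    { toFun := fun M => pureMat (Pi.mulSingle i M)
      map_add' := fun A B => by
        ext z x
        simp only [pureMat_mulSingle_apply, Matrix.add_apply, ← Finset.sum_add_distrib]
        exact Finset.sum_congr rfl fun a _ => by split_ifs <;> simp
      map_smul' := fun c A => by
        ext z x
        simp only [pureMat_mulSingle_apply, Matrix.smul_apply, smul_eq_mul, Finset.mul_sum,
          RingHom.id_apply, mul_ite, mul_zero] }
    (by simp only [LinearMap.coe_mk, AddHom.coe_mk, Pi.mulSingle_one, map_one])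
    (fun A B => by simp only [LinearMap.coe_mk, AddHom.coe_mk, Pi.mulSingle_mul, map_mul])

theorem slotHom_apply (i : Fin t) (M : Matrix (Fin m) (Fin m) F) :
    slotHom i M = pureMat (Pi.mulSingle i M) := rfl

theorem slotHom_injective (i : Fin t) [NeZero m] :
    Function.Injective (slotHom (F := F) (m := m) i) := by
  intro A B h
  ext a b
  have h1 := congrFun (congrFun h (Function.update 0 i a)) (Function.update 0 i b)
  simp only [slotHom_apply, pureMat_mulSingle_apply, Function.update_idem, Function.update_self] at h1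
  rw [Finset.sum_eq_single a (fun c _ hc => if_neg fun he => hc (by
      have := congrFun he i
      simpa using this.symm)) (by simp),
    Finset.sum_eq_single a (fun c _ hc => if_neg fun he => hc (by
      have := congrFun he i
      simpa using this.symm)) (by simp)] at h1
  simpa using h1

theorem pureMat_single [DecidableEq (Fin t → Fin m)] (x y : Fin t → Fin m) :
    pureMat (fun i => Matrix.single (x i) (y i) (1 : F)) = Matrix.single x y 1 := by
  ext z w
  simp only [pureMat_apply, Matrix.single_apply]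
  by_cases h : x = z ∧ y = w
  · obtain ⟨rfl, rfl⟩ := h; simp
  · rw [if_neg h]
    obtain ⟨i, hi⟩ : ∃ i, ¬ (x i = z i ∧ y i = w i) := by
      by_contra hc
      push Not at hc
      exact h ⟨funext fun i => (hc i).1, funext fun i => (hc i).2⟩
    exact Finset.prod_eq_zero (Finset.mem_univ i) (if_neg hi)

/-- A matrix commuting with every factor is scalar. -/
theorem scalar_of_commute_slots {X : Matrix (Fin t → Fin m) (Fin t → Fin m) F}
    (h : ∀ i M, X * slotHom i M = slotHom i M * X) : ∃ c : F, X = c • 1 := by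
  classical
  have hall : ∀ f, Commute X (pureMat f) := by
    intro f
    have hs : ∀ s : Finset (Fin t), Commute X (pureMat fun i => if i ∈ s then f i else 1) := by
      intro s
      induction s using Finset.induction with
      | empty =>
        rw [show (fun i => if i ∈ (∅ : Finset (Fin t)) then f i else 1) = 1 from funext fun i => by simp,
          map_one]
        exact Commute.one_right X
      | insert j s hj ih =>
        rw [show (fun i => if i ∈ insert j s then f i else 1) =
          Pi.mulSingle j (f j) * fun i => if i ∈ s then f i else 1 from funext fun i => by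
            by_cases hij : i = j
            · subst hij; simp [hj]
            · simp [hij], map_mul]
        exact Commute.mul_right (h j (f j)) ih
    simpa using hs Finset.univ
  obtain ⟨c, hc⟩ := Matrix.mem_range_scalar_of_commute_single (M := X) fun x y _ => by
    show Commute (Matrix.single x y 1) X
    rw [← pureMat_single]
    exact (hall _).symm
  exact ⟨c, by rw [← hc, Matrix.scalar_apply, Matrix.smul_one_eq_diagonal]⟩

/-- The pure tensor of invertible matrices. -/
def pureGL : (Fin t → GL (Fin m) F) →* GL (Fin t → Fin m) F :=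
  (Units.map pureMat).comp
    { toFun := fun s =>
        { val := fun i => (s i : Matrix (Fin m) (Fin m) F)
          inv := fun i => ((s i)⁻¹ : GL (Fin m) F)
          val_inv := funext fun i => (s i).mul_inv
          inv_val := funext fun i => (s i).inv_mul }
      map_one' := Units.ext (funext fun i => rfl)
      map_mul' := fun a b => Units.ext (funext fun i => rfl) }

theorem pureGL_mem (s : Fin t → GL (Fin m) F) : pureGL s ∈ Geo.tensorWreathStandard m t F :=
  Subgroup.subset_closure (Or.inl ⟨s, fun _ _ => rfl⟩)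

theorem pureGL_conj_slot (s : Fin t → GL (Fin m) F) (i : Fin t) (A : Matrix (Fin m) (Fin m) F) :
    (pureGL s).val * slotHom i A * ((pureGL s)⁻¹).val =
      slotHom i ((s i).val * A * ((s i)⁻¹).val) := by
  rw [slotHom_apply, slotHom_apply]
  show pureMat (fun j => (s j).val) * _ * pureMat (fun j => ((s j)⁻¹).val) = _
  rw [← map_mul, ← map_mul]
  congr 1
  funext j
  by_cases hj : j = i
  · subst hj; simp
  · simp [Pi.mulSingle_eq_of_ne hj]

/-- A permutation of the factors. -/
def permGL (σ : Equiv.Perm (Fin t)) : GL (Fin t → Fin m) F where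
  val := Matrix.of fun x y => if y = x ∘ σ then 1 else 0
  inv := Matrix.of fun x y => if y = x ∘ σ.symm then 1 else 0
  val_inv := by
    ext x y
    simp only [Matrix.mul_apply, Matrix.of_apply, ite_mul, one_mul, zero_mul, Finset.sum_ite_eq',
      Finset.mem_univ, if_true, Matrix.one_apply]
    simp [Function.comp_assoc, eq_comm]
  inv_val := by
    ext x y
    simp only [Matrix.mul_apply, Matrix.of_apply, ite_mul, one_mul, zero_mul, Finset.sum_ite_eq',
      Finset.mem_univ, if_true, Matrix.one_apply]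
    simp [Function.comp_assoc, eq_comm]

theorem permGL_mem (σ : Equiv.Perm (Fin t)) :
    (permGL σ : GL (Fin t → Fin m) F) ∈ Geo.tensorWreathStandard m t F :=
  Subgroup.subset_closure (Or.inr ⟨σ, fun _ _ => rfl⟩)

theorem permGL_conj_slot (σ : Equiv.Perm (Fin t)) (i : Fin t) (M : Matrix (Fin m) (Fin m) F) :
    ((permGL σ : GL (Fin t → Fin m) F) : Matrix _ _ F) * slotHom i M *
      (((permGL σ)⁻¹ : GL (Fin t → Fin m) F) : Matrix _ _ F) = slotHom (σ i) M := by
  ext x w
  have h1 : ∀ z : Fin t → Fin m, w = z ∘ σ.symm ↔ z = w ∘ σ := fun z => by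
    constructor <;> rintro rfl <;> funext j <;> simp
  simp only [permGL, Units.inv_mk, Matrix.mul_apply, Matrix.of_apply, ite_mul, one_mul, zero_mul,
    Finset.sum_ite_eq', Finset.mem_univ, if_true, mul_ite, mul_one, mul_zero, h1]
  rw [slotHom_apply, slotHom_apply, pureMat_apply, pureMat_apply,
    ← Equiv.prod_comp σ (fun j => (Pi.mulSingle (σ i) M : Fin t → Matrix (Fin m) (Fin m) F) j (x j) (w j))]
  refine Finset.prod_congr rfl fun j _ => ?_
  simp only [Function.comp_apply]
  by_cases hj : j = i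
  · subst hj; simp
  · rw [Pi.mulSingle_eq_of_ne hj, Pi.mulSingle_eq_of_ne fun h => hj (σ.injective h)]

theorem scalar_mem_wreath [NeZero t] {X : GL (Fin t → Fin m) F} {c : F}
    (hX : (X : Matrix (Fin t → Fin m) (Fin t → Fin m) F) = c • 1) :
    X ∈ Geo.tensorWreathStandard m t F := by
  rcases eq_or_ne c 0 with rfl | hc
  · rcases isEmpty_or_nonempty (Fin t → Fin m) with he | he
    · rw [show X = 1 from Units.ext (Subsingleton.elim _ _)]
      exact one_mem _
    · exact absurd (by rw [hX, zero_smul]) X.ne_zero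
  let s : GL (Fin m) F := Units.map (algebraMap F (Matrix (Fin m) (Fin m) F) : F →* _) (Units.mk0 c hc)
  have h1 : X = pureGL (Pi.mulSingle (0 : Fin t) s) := Units.ext <| by
    rw [hX]
    have h2 : (pureGL (Pi.mulSingle (0 : Fin t) s) : GL (Fin t → Fin m) F).val =
        slotHom 0 (algebraMap F (Matrix (Fin m) (Fin m) F) c) := by
      rw [slotHom_apply]
      show pureMat (fun j => ((Pi.mulSingle (0 : Fin t) s : Fin t → GL (Fin m) F) j).val) = _
      congr 1
      funext j
      by_cases hj : j = 0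
      · subst hj; simp [s]
      · simp [Pi.mulSingle_eq_of_ne hj]
    rw [h2, AlgHom.commutes, Algebra.algebraMap_eq_smul_one]
  rw [h1]
  exact pureGL_mem _

/-- A group permuting the factor algebras stabilises the tensor power decomposition. -/
theorem le_tensorWreathSubgroup [NeZero m] [NeZero t] (e : ι ≃ (Fin t → Fin m)) (P : GL ι F)
    {H : Subgroup (GL ι F)}
    (hH : ∀ h ∈ H, ∃ π : Equiv.Perm (Fin t), ∀ i A, ∃ B,
      (h : Matrix ι ι F) * coordEquiv e P (slotHom i A) * ((h⁻¹ : GL ι F) : Matrix ι ι F) =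
        coordEquiv e P (slotHom (π i) B)) :
    H ≤ Geo.tensorWreathSubgroup m t e P := by
  intro h hh
  obtain ⟨g, rfl⟩ := (coordGL e P).surjective h
  refine mem_tensorWreathSubgroup e P ?_
  obtain ⟨π, hπ⟩ := hH _ hh
  have h0 : ∀ i A, ∃ B, (g : Matrix _ _ F) * slotHom i A * ((g⁻¹ : GL (Fin t → Fin m) F) : Matrix _ _ F) =
      slotHom (π i) B := fun i A => by
    obtain ⟨B, hB⟩ := hπ i A
    refine ⟨B, (coordEquiv e P).injective ?_⟩
    rw [map_mul, map_mul, ← hB, ← map_inv, coordGL_val, coordGL_val]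
  choose ψ hψ using fun i => exists_conj_lift (slotHom i) (slotHom (π i)) (slotHom_injective _) g (h0 i)
  choose s hs using fun i => exists_inner (ψ i)
  let S : GL (Fin t → Fin m) F := permGL π * pureGL s
  have hcomm : ∀ i A, ((S⁻¹ * g : GL (Fin t → Fin m) F) : Matrix (Fin t → Fin m) (Fin t → Fin m) F) *
      slotHom i A =
      slotHom i A * ((S⁻¹ * g : GL (Fin t → Fin m) F) : Matrix (Fin t → Fin m) (Fin t → Fin m) F) :=
    fun i A => comm_of_conj_eq (by
      rw [hψ i A, ← permGL_conj_slot π i, hs i A, ← pureGL_conj_slot s i A]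
      simp only [S, Units.val_mul, _root_.mul_inv_rev, mul_assoc])
  obtain ⟨c, hc⟩ := scalar_of_commute_slots hcomm
  rw [show g = S * (S⁻¹ * g) by group]
  exact Subgroup.mul_mem _ (Subgroup.mul_mem _ (permGL_mem π) (pureGL_mem s)) (scalar_mem_wreath hc)

/-- A product of two equal factors is a tensor square. -/
theorem tensorProductSubgroup_le_wreath (e : ι ≃ Fin m × Fin m) (P : GL ι F) :
    Geo.tensorProductSubgroup m m e P ≤
      Geo.tensorWreathSubgroup m 2 (e.trans (finTwoArrowEquiv (Fin m)).symm) P := by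
  rintro _ ⟨_, ⟨g, ⟨a, b, hg⟩, rfl⟩, rfl⟩
  refine ⟨_, ⟨Geo.glReindex (finTwoArrowEquiv (Fin m)).symm g,
    Subgroup.subset_closure (Or.inl ⟨![a, b], fun x y => ?_⟩), rfl⟩, congrArg _ (Units.ext ?_)⟩
  · show (g : Matrix _ _ F) (x 0, x 1) (y 0, y 1) = _
    rw [hg]
    simp [Fin.prod_univ_two]
  · ext i j
    simp [Geo.glReindex]

/-! ### Tensor powers of a two-dimensional space -/

/-- The alternating matrix of size two. -/
def eps : Matrix (Fin 2) (Fin 2) F := !![0, 1; -1, 0]

theorem transpose_mul_eps_mul (s : Matrix (Fin 2) (Fin 2) F) : sᵀ * eps * s = s.det • eps := by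
  rw [Matrix.det_fin_two]
  ext i j
  fin_cases i <;> fin_cases j <;> simp [eps, Matrix.mul_apply, Fin.sum_univ_two] <;> ring

theorem pureMat_smul (f : Fin t → Matrix (Fin m) (Fin m) F) (c : Fin t → F) :
    pureMat (fun i => c i • f i) = (∏ i, c i) • pureMat f := by
  ext x y
  simp [pureMat_apply, Finset.prod_mul_distrib]

theorem pureMat_transpose (f : Fin t → Matrix (Fin m) (Fin m) F) :
    (pureMat f)ᵀ = pureMat (fun i => (f i)ᵀ) := rfl

/-- The similitudes of the bilinear form with matrix `A`. -/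
theorem mem_similarityGroup_matForm {A : Matrix κ κ F} {g : GL κ F} {c : F} (hc : c ≠ 0)
    (h : (g : Matrix κ κ F)ᵀ * A * (g : Matrix κ κ F) = c • A) :
    g ∈ Geo.similarityGroup (matForm id A) := by
  refine ⟨Units.mk0 c hc, fun u v => ?_⟩
  rw [show matForm id A = matForm (RingHom.id F) A from rfl, matForm_conj]
  simp [h, matForm_smul]

theorem similitude_of_mem {A : Matrix κ κ F} {g : GL κ F} (hg : g ∈ Geo.similarityGroup (matForm id A)) :
    ∃ c : F, c ≠ 0 ∧ (g : Matrix κ κ F)ᵀ * A * (g : Matrix κ κ F) = c • A := by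
  obtain ⟨c, hc⟩ := hg
  refine ⟨c, c.ne_zero, Matrix.ext fun i j => ?_⟩
  have h1 := hc (Pi.single i 1) (Pi.single j 1)
  rw [show matForm id A = matForm (RingHom.id F) A from rfl, matForm_conj] at h1
  simpa [matForm] using h1

theorem wreath_two_le_similarityGroup :
    Geo.tensorWreathStandard 2 t F ≤
      Geo.similarityGroup (matForm id (pureMat fun _ : Fin t => (eps : Matrix (Fin 2) (Fin 2) F))) := by
  refine (Subgroup.closure_le _).2 ?_
  rintro g (⟨gs, hgs⟩ | ⟨σ, hσ⟩)
  · refine mem_similarityGroup_matForm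
      (c := ∏ i, (gs i : Matrix (Fin 2) (Fin 2) F).det)
      (Finset.prod_ne_zero_iff.2 fun i _ => (Matrix.GeneralLinearGroup.det (gs i)).ne_zero) ?_
    rw [show (g : Matrix _ _ F) = pureMat fun i => (gs i : Matrix (Fin 2) (Fin 2) F) from Matrix.ext hgs,
      pureMat_transpose, ← map_mul, ← map_mul, ← pureMat_smul]
    congr 1
    funext i
    exact transpose_mul_eps_mul _
  · refine mem_similarityGroup_matForm (c := 1) one_ne_zero ?_
    rw [one_smul]
    ext x w
    have h1 : ∀ z : Fin t → Fin 2, x = z ∘ σ ↔ z = x ∘ σ.symm := fun z => by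
      constructor <;> rintro rfl <;> funext j <;> simp
    have h2 : ∀ z : Fin t → Fin 2, w = z ∘ σ ↔ z = w ∘ σ.symm := fun z => by
      constructor <;> rintro rfl <;> funext j <;> simp
    simp only [Matrix.mul_apply, Matrix.transpose_apply, hσ, h1, h2, ite_mul, one_mul, zero_mul,
      Finset.sum_ite_eq', Finset.mem_univ, if_true, mul_ite, mul_one, mul_zero]
    simp only [pureMat_apply, Function.comp_apply]
    exact Equiv.prod_comp σ.symm fun j => eps (x j) (w j)

/-- A tensor power of a two-dimensional space carries a symplectic or quadratic form. -/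
theorem LinearOutcome.of_wreath_two {n : ℕ} [Fintype F] [NeZero t] (e : Fin n ≃ (Fin t → Fin 2))
    (P : GL (Fin n) F) {H : Subgroup (GL (Fin n) F)} (hle : H ≤ Geo.tensorWreathSubgroup 2 t e P) :
    LinearOutcome H := by
  set G : Matrix (Fin t → Fin 2) (Fin t → Fin 2) F := pureMat fun _ => eps with hG
  set Q : Matrix (Fin n) (Fin n) F := ((P⁻¹ : GL (Fin n) F) : Matrix (Fin n) (Fin n) F) with hQ
  set A : Matrix (Fin n) (Fin n) F := Qᵀ * G.submatrix e e * Q with hA
  have hGdet : G.det ≠ 0 := by
    refine fun h0 => ?_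
    have h1 : G * pureMat (fun _ => -eps) = 1 := by
      rw [hG, ← map_mul, ← map_one (pureMat (m := 2) (t := t) (F := F))]
      congr 1
      funext i
      ext a b
      fin_cases a <;> fin_cases b <;> simp [eps, Matrix.mul_apply, Fin.sum_univ_two]
    have h2 := congrArg Matrix.det h1
    rw [Matrix.det_mul, h0, zero_mul, Matrix.det_one] at h2
    exact zero_ne_one h2
  have hdet : A.det ≠ 0 := by
    rw [hA, Matrix.det_mul, Matrix.det_mul, Matrix.det_transpose, Matrix.det_submatrix_equiv_self]
    have := (Matrix.GeneralLinearGroup.det P⁻¹).ne_zero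
    exact mul_ne_zero (mul_ne_zero this hGdet) this
  have hsim : H ≤ Geo.similarityGroup (matForm id A) := by
    refine hle.trans ?_
    rintro _ ⟨_, ⟨g, hg, rfl⟩, rfl⟩
    obtain ⟨c, hc0, hc⟩ := similitude_of_mem (wreath_two_le_similarityGroup hg)
    refine mem_similarityGroup_matForm hc0 ?_
    rw [show (MulAut.conj P).toMonoidHom ((Geo.glReindex e.symm).toMonoidHom g) = coordGL e P g from
      (coordGL_eq e P g).symm, coordGL_val, coordEquiv_apply, hA, Matrix.transpose_mul,
      Matrix.transpose_mul, ← hQ]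
    have h1 : (P : Matrix (Fin n) (Fin n) F)ᵀ * Qᵀ = 1 := by
      rw [← Matrix.transpose_mul, hQ, Units.inv_mul, Matrix.transpose_one]
    have h2 : Q * (P : Matrix (Fin n) (Fin n) F) = 1 := by rw [hQ, Units.inv_mul]
    calc Qᵀ * (((g : Matrix _ _ F).submatrix e e)ᵀ * (P : Matrix (Fin n) (Fin n) F)ᵀ) *
          (Qᵀ * G.submatrix e e * Q) * ((P : Matrix (Fin n) (Fin n) F) * (g : Matrix _ _ F).submatrix e e * Q)
        = Qᵀ * (((g : Matrix _ _ F).submatrix e e)ᵀ * ((P : Matrix (Fin n) (Fin n) F)ᵀ * Qᵀ) *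
            G.submatrix e e * ((Q * (P : Matrix (Fin n) (Fin n) F)) * (g : Matrix _ _ F).submatrix e e)) * Q := by
          simp only [mul_assoc]
      _ = Qᵀ * ((g : Matrix _ _ F)ᵀ * G * (g : Matrix _ _ F)).submatrix e e * Q := by
          rw [h1, h2, mul_one, one_mul, Matrix.transpose_submatrix, Matrix.submatrix_mul_equiv,
            Matrix.submatrix_mul_equiv]
      _ = c • (Qᵀ * G.submatrix e e * Q) := by
          rw [hc, show (c • G).submatrix e e = c • G.submatrix e e from rfl, mul_smul_comm, smul_mul_assoc]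
  have hGT : Gᵀ = (-1 : F) ^ t • G := by
    rw [hG, pureMat_transpose]
    have : ∀ i : Fin t, (eps : Matrix (Fin 2) (Fin 2) F)ᵀ = (-1 : F) • eps := fun i => by
      ext a b
      fin_cases a <;> fin_cases b <;> simp [eps]
    rw [funext this, pureMat_smul, Finset.prod_const, Finset.card_univ, Fintype.card_fin]
  have hAT : Aᵀ = (-1 : F) ^ t • A := by
    rw [hA, Matrix.transpose_mul, Matrix.transpose_mul, Matrix.transpose_transpose, ← mul_assoc,
      Matrix.transpose_submatrix, hGT]
    show Qᵀ * ((-1 : F) ^ t • G.submatrix e e) * Q = _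
    rw [mul_smul_comm, smul_mul_assoc]
  by_cases hsk : (-1 : F) ^ t = -1
  · have hAsk : Aᵀ = -A := by rw [hAT, hsk, neg_smul, one_smul]
    refine .of_symplectic hdet hAsk (fun i => ?_) hsim
    let u : (Fin t → Fin 2) → F := fun z => Q (e.symm z) i
    have hsum : A i i = ∑ p : (Fin t → Fin 2) × (Fin t → Fin 2), u p.1 * (G p.1 p.2 * u p.2) := by
      rw [hA, Fintype.sum_prod_type, Matrix.mul_assoc]
      simp only [Matrix.mul_apply, Matrix.transpose_apply, Matrix.submatrix_apply, Finset.mul_sum]
      rw [← Equiv.sum_comp e.symm]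
      refine Finset.sum_congr rfl fun a _ => ?_
      rw [← Equiv.sum_comp e.symm]
      simp [u]
    rw [hsum]
    refine Finset.sum_involution (fun p _ => p.swap) (fun p _ => ?_) (fun p _ hne heq => hne ?_)
      (fun p _ => Finset.mem_univ _) (fun p _ => Prod.swap_swap p)
    · have h : G p.2 p.1 = - G p.1 p.2 := by
        have h' := congrFun (congrFun hGT p.1) p.2
        rw [hsk] at h'
        simpa using h'
      simp only [Prod.fst_swap, Prod.snd_swap, h]
      ring
    · obtain ⟨a, b⟩ := p
      have hab : b = a := congrArg Prod.fst heq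
      subst hab
      have hz : ∀ z : Fin 2, (eps : Matrix (Fin 2) (Fin 2) F) z z = 0 := fun z => by
        fin_cases z <;> simp [eps]
      dsimp only
      rw [hG, pureMat_apply, Finset.prod_eq_zero (Finset.mem_univ (0 : Fin t)) (hz (b 0)), zero_mul,
        mul_zero]
  · have h1 : (-1 : F) ^ t = 1 := (neg_one_pow_eq_or F t).resolve_right hsk
    have h2 : (2 : F) ≠ 0 := fun h => hsk (by rw [h1]; linear_combination h)
    exact .of_quadratic h2 hdet (by rw [hAT, h1, one_smul]) hsim

end Cfsg.Agent.Aschbacher
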