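import Cfsg.Agent.Lib.Aschbacher.SpanAlgebra
import Cfsg.Agent.Lib.Aschbacher.TensorNormal

/-!
A normal subgroup of an irreducible linear group is absolutely irreducible, scalar, or gives a decomposition,
a field or a tensor decomposition.
-/

set_option autoImplicit false

namespace Cfsg.Agent.Aschbacher

open Matrix
open scoped MatrixGroups Kronecker

variable {F : Type*} [Field F] {ι : Type} [Fintype ι] [DecidableEq ι]

/-- The two factors of a tensor decomposition may be exchanged. -/
theorem tensorProductSubgroup_le_swap {m k : ℕ} (e : ι ≃ Fin m × Fin k) (P : GL ι F) :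
    Geo.tensorProductSubgroup m k e P ≤
      Geo.tensorProductSubgroup k m (e.trans (Equiv.prodComm _ _)) P := by
  rintro _ ⟨_, ⟨g, ⟨a, b, hg⟩, rfl⟩, rfl⟩
  refine ⟨_, ⟨Geo.glReindex (Equiv.prodComm _ _) g, ⟨b, a, ?_⟩, rfl⟩, congrArg _ (Units.ext ?_)⟩
  · ext ⟨p, q⟩ ⟨p', q'⟩
    show (g : Matrix _ _ F) (q, p) (q', p') = _
    rw [hg]
    exact mul_comm _ _
  · ext i j
    simp [Geo.glReindex]

theorem centreCase_outcome {n : ℕ} [Fintype F] {H : Subgroup (GL (Fin n) F)} (h : CentreCase H) :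
    LinearOutcome H := by
  rcases h with ⟨t, m, D, hD, hle⟩ | ⟨r, K, hr, hK, hle⟩
  · exact .imprimitive t m D hD hle
  · exact .field r K hr hK hle

theorem clifford_outcome {n : ℕ} [Fintype F] [NeZero n] {H N : Subgroup (GL (Fin n) F)} (hH : Irr H)
    (hn : NormalIn H N) : LinearOutcome H ∨ AbsIrr N ∨ N ≤ Geo.scalars (Fin n) F := by
  rcases algOf_structure hH hn with ⟨-, hc⟩ | ⟨d, f, hd, hf, hrange⟩
  · exact Or.inl (centreCase_outcome hc)
  have : NeZero d := ⟨hd.ne'⟩
  by_cases hd1 : d = 1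
  · refine Or.inr (Or.inr fun x hx => ?_)
    subst hd1
    obtain ⟨A, hA⟩ := (hrange _).1 (mem_spanMat hx)
    refine mem_scalars_of_smul_one (c := A 0 0) ?_
    rw [← hA, show A = A 0 0 • 1 from Matrix.ext fun i j => by
      rw [Fin.fin_one_eq_zero i, Fin.fin_one_eq_zero j]; simp, map_smul, map_one]
    simp
  obtain ⟨k, e, P, hP⟩ := exists_block_coord f
  have hnk : n = d * k := by simpa using Fintype.card_congr e
  have : NeZero k := ⟨fun h => NeZero.ne n (by rw [hnk, h, mul_zero])⟩
  by_cases hk1 : k = 1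
  · subst hk1
    refine Or.inr (Or.inl (absIrr_of_spanMat (eq_top_iff.2 fun M _ => (hrange M).2 ?_)))
    obtain ⟨X, rfl⟩ := (coordEquiv e P).surjective M
    refine ⟨Matrix.of fun a b => X (a, 0) (b, 0), ?_⟩
    rw [hP]
    congr 1
    ext ⟨a, i⟩ ⟨b, j⟩
    rw [Fin.fin_one_eq_zero i, Fin.fin_one_eq_zero j]
    simp
  refine Or.inl ?_
  have hle : H ≤ Geo.tensorProductSubgroup d k e P := le_tensorProductSubgroup e P fun h hh A => by
    obtain ⟨B, hB⟩ := (hrange _).1 (mem_algOf.1 (conj_mem_algOf hn hh (mem_algOf.2 ((hrange _).2 ⟨A, rfl⟩))))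
    refine ⟨B, ?_⟩
    rw [show coordEquiv e P (kronOne d k A) = f A from (hP A).symm,
      show coordEquiv e P (kronOne d k B) = f B from (hP B).symm, hB]
  have hd2 : 2 ≤ d := by omega
  have hk2 : 2 ≤ k := by have := NeZero.ne k; omega
  rcases lt_trichotomy d k with hlt | heq | hlt
  · exact .tensor d k e P hd2 hlt hle
  · subst heq
    by_cases hd3 : d = 2
    · subst hd3
      exact .of_wreath_two _ P (hle.trans (tensorProductSubgroup_le_wreath e P))
    · exact .tensorPower d 2 _ P (by omega) le_rfl (hle.trans (tensorProductSubgroup_le_wreath e P))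
  · exact .tensor k d _ P hk2 hlt (hle.trans (tensorProductSubgroup_le_swap e P))

end Cfsg.Agent.Aschbacher
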