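import Cfsg.Agent.Lib.Aschbacher.CliffordStep

/-!
An absolutely irreducible group generated by commuting subgroups that are permuted transitively stabilises a
tensor power decomposition.
-/

set_option autoImplicit false

namespace Cfsg.Agent.Aschbacher

open Matrix
open scoped MatrixGroups

variable {ι : Type} [Fintype ι] [DecidableEq ι] {F : Type*} [Field F]

theorem conj_mem_spanMat {N : Subgroup (GL ι F)} (g : GL ι F) {M : Matrix ι ι F} (hM : M ∈ spanMat N) :
    (g : Matrix ι ι F) * M * ((g⁻¹ : GL ι F) : Matrix ι ι F) ∈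
      spanMat (N.map (MulAut.conj g).toMonoidHom) := by
  induction hM using Submodule.span_induction with
  | mem y hy =>
    obtain ⟨y, hy, rfl⟩ := hy
    exact Submodule.subset_span ⟨g * y * g⁻¹, ⟨y, hy, rfl⟩, by simp [mul_assoc]⟩
  | zero => rw [mul_zero, zero_mul]; exact Submodule.zero_mem _
  | add a b _ _ iha ihb => rw [mul_add, add_mul]; exact Submodule.add_mem _ iha ihb
  | smul c a _ ih => rw [mul_smul_comm, smul_mul_assoc]; exact Submodule.smul_mem _ c ih

theorem commute_spanMat {N N' : Subgroup (GL ι F)} (h : ∀ x ∈ N, ∀ y ∈ N', x * y = y * x)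
    {A B : Matrix ι ι F} (hA : A ∈ spanMat N) (hB : B ∈ spanMat N') : Commute A B := by
  induction hA using Submodule.span_induction with
  | mem x hx =>
    obtain ⟨x, hx, rfl⟩ := hx
    induction hB using Submodule.span_induction with
    | mem y hy =>
      obtain ⟨y, hy, rfl⟩ := hy
      exact congrArg Units.val (h x hx y hy)
    | zero => exact Commute.zero_right _
    | add a b _ _ iha ihb => exact iha.add_right ihb
    | smul c a _ ih => exact ih.smul_right c
  | zero => exact Commute.zero_left _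
  | add a b _ _ iha ihb => exact iha.add_left ihb
  | smul c a _ ih => exact ih.smul_left c

theorem map_conj_map_conj {G : Type*} [Group G] (N : Subgroup G) (g h : G) :
    (N.map (MulAut.conj h).toMonoidHom).map (MulAut.conj g).toMonoidHom =
      N.map (MulAut.conj (g * h)).toMonoidHom := by
  rw [Subgroup.map_map, map_mul]
  rfl

theorem commuting_outcome {n t : ℕ} [Fintype F] [NeZero n] (ht : 2 ≤ t) {H P : Subgroup (GL (Fin n) F)}
    (hP : AbsIrr P) (L : Fin t → Subgroup (GL (Fin n) F)) (hinj : Function.Injective L)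
    (hgen : P ≤ ⨆ i, L i)
    (hcomm : ∀ i j, i ≠ j → ∀ x ∈ L i, ∀ y ∈ L j, x * y = y * x)
    (hperm : ∀ h ∈ H, ∀ i, ∃ j, (L i).map (MulAut.conj h).toMonoidHom = L j)
    (htrans : ∀ i j, ∃ h ∈ H, (L i).map (MulAut.conj h).toMonoidHom = L j)
    (hns : ∀ i, ¬ L i ≤ Geo.scalars (Fin n) F) : LinearOutcome H := by
  classical
  have : NeZero t := ⟨by omega⟩
  have hnorm : ∀ i, NormalIn P (L i) := by
    intro i
    have hle : P ≤ Subgroup.normalizer (L i : Set (GL (Fin n) F)) := by
      refine hgen.trans (iSup_le fun j => ?_)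
      by_cases hji : j = i
      · subst hji; exact Subgroup.le_normalizer
      intro x hx
      rw [Subgroup.mem_normalizer_iff]
      intro y
      refine ⟨fun hy => ?_, fun hy => ?_⟩
      · rw [hcomm j i hji x hx y hy, mul_inv_cancel_right]; exact hy
      · have h1 := hcomm j i hji x⁻¹ ((L j).inv_mem hx) _ hy
        have h2 : x⁻¹ * (x * y * x⁻¹) * x = y := by group
        rw [h1] at h2
        rw [← h2]
        simpa [mul_assoc] using hy
    intro g hg x hx
    exact (Subgroup.mem_normalizer_iff.1 (hle hg) x).1 hx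
  rcases algOf_structure hP.1 (hnorm 0) with ⟨⟨z, hz, hzc, hzs⟩, -⟩ | ⟨d, f, hd, hf, hrange⟩
  · refine absurd (hP.2 z ?_) hzs
    rintro s ⟨x, hx, rfl⟩
    suffices hs : x ∈ (⨆ i, L i) → Commute z (x : Matrix (Fin n) (Fin n) F) from hs (hgen hx)
    intro hx'
    clear hx
    induction hx' using Subgroup.iSup_induction' with
    | hp i y hy =>
      by_cases hi : i = 0
      · subst hi; exact (hzc y hy).symm
      · exact commute_spanMat (hcomm 0 i (Ne.symm hi)) hz (mem_spanMat hy)
    | h1 => exact Commute.one_right z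
    | hmul a b _ _ iha ihb => rw [Units.val_mul]; exact iha.mul_right ihb
  choose g hg hgL using htrans 0
  have : NeZero d := ⟨hd.ne'⟩
  let φ : Fin t → Matrix (Fin d) (Fin d) F →ₐ[F] Matrix (Fin n) (Fin n) F := fun i =>
    (coordEquiv (Equiv.refl (Fin n)) (g i)).toAlgHom.comp f
  have hφ : ∀ i A, φ i A = (g i : Matrix (Fin n) (Fin n) F) * f A *
      (((g i)⁻¹ : GL (Fin n) F) : Matrix (Fin n) (Fin n) F) := fun i A => by
    simp [φ, coordEquiv_apply]
  have hφmem : ∀ i A, φ i A ∈ spanMat (L i) := fun i A => by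
    rw [hφ, ← hgL i]
    exact conj_mem_spanMat _ ((hrange _).2 ⟨A, rfl⟩)
  have hφsurj : ∀ i, ∀ M ∈ spanMat (L i), ∃ A, φ i A = M := by
    intro i M hM
    have h1 := conj_mem_spanMat (g i)⁻¹ hM
    rw [← hgL i, map_conj_map_conj, inv_mul_cancel, map_one] at h1
    obtain ⟨A, hA⟩ := (hrange _).1 (by
      convert h1
      exact (Subgroup.map_id (L 0)).symm)
    refine ⟨A, ?_⟩
    rw [hφ, hA]
    simp [mul_assoc]
  have hd2 : 2 ≤ d := by
    by_contra hlt
    obtain rfl : d = 1 := by omega
    refine hns 0 fun x hx => ?_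
    obtain ⟨A, hA⟩ := (hrange _).1 (mem_spanMat hx)
    refine mem_scalars_of_smul_one (c := A 0 0) ?_
    rw [← hA, show A = A 0 0 • 1 from Matrix.ext fun i j => by
      rw [Fin.fin_one_eq_zero i, Fin.fin_one_eq_zero j]; simp, map_smul, map_one]
    simp
  obtain ⟨e, Q, hQ⟩ := exists_pure_coord φ
    (fun i j hij A B => commute_spanMat (hcomm i j hij) (hφmem i A) (hφmem j B)) fun W hW => by
    refine irr_iff.1 hP.1 W fun x hx => ?_
    suffices hs : x ∈ (⨆ i, L i) → ∀ w ∈ W, (x : Matrix (Fin n) (Fin n) F) *ᵥ w ∈ W from hs (hgen hx)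
    intro hx'
    clear hx
    induction hx' using Subgroup.iSup_induction' with
    | hp i y hy =>
      obtain ⟨A, hA⟩ := hφsurj i _ (mem_spanMat hy)
      rw [← hA]
      exact hW i A
    | h1 => intro w hw; simpa using hw
    | hmul a b _ _ iha ihb => intro w hw; rw [mulVec_mul]; exact iha _ (ihb w hw)
  have hle : H ≤ Geo.tensorWreathSubgroup d t e Q := le_tensorWreathSubgroup e Q fun h hh => by
    choose π hπ using hperm h hh
    have hπinj : Function.Injective π := fun i j hij => hinj
      (Subgroup.map_injective (MulAut.conj h).injective ((hπ i).trans ((congrArg L hij).trans (hπ j).symm)))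
    refine ⟨Equiv.ofBijective π (Finite.injective_iff_bijective.1 hπinj), fun i A => ?_⟩
    have h1 := conj_mem_spanMat h (hφmem i A)
    rw [hπ i] at h1
    obtain ⟨B, hB⟩ := hφsurj _ _ h1
    refine ⟨B, ?_⟩
    rw [show coordEquiv e Q (slotHom i A) = φ i A from (hQ i A).symm,
      show coordEquiv e Q (slotHom (Equiv.ofBijective π _ i) B) = φ (π i) B from (hQ (π i) B).symm, hB]
  by_cases hd3 : d = 2
  · subst hd3
    exact .of_wreath_two e Q hle
  · exact .tensorPower d t e Q (by omega) ht hle

end Cfsg.Agent.Aschbacher
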