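import Cfsg.Agent.Lib.Aschbacher.SpanAlgebra
import Cfsg.Agent.Lib.Aschbacher.Forms

/-!
A space with a non-degenerate reflexive sesquilinear form: adjoints, orthogonal complements, and the
subspaces left invariant by a group of isometries.
-/

set_option autoImplicit false
set_option linter.unusedSectionVars false

namespace Cfsg.Agent.Aschbacher

open Matrix
open scoped MatrixGroups

variable {ι : Type} [Fintype ι] [DecidableEq ι] {F : Type*} [Field F]

/-- `f` is non-degenerate, `σ`-sesquilinear and `f v u = ε σ (f u v)`. -/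
structure RefForm (σ : F ≃+* F) (ε : F) (f : (ι → F) → (ι → F) → F) : Prop where
  sesq : IsSesq σ.toRingHom f
  nondeg : Geo.IsNondegenerateForm f
  involutive : ∀ a, σ (σ a) = a
  swap : ∀ u v, f v u = ε * σ (f u v)

/-- The orthogonal complement (left). -/
def perpSpace {σ : F ≃+* F} {ε : F} {f : (ι → F) → (ι → F) → F} (h : RefForm σ ε f)
    (W : Submodule F (ι → F)) : Submodule F (ι → F) where
  carrier := {v | ∀ w ∈ W, f v w = 0}
  zero_mem' w _ := h.sesq.zero_left w
  add_mem' {u v} hu hv w hw := by rw [h.sesq.add_left, hu w hw, hv w hw, add_zero]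
  smul_mem' c v hv w hw := by rw [h.sesq.smul_left, hv w hw, mul_zero]

namespace RefForm

variable {σ : F ≃+* F} {ε : F} {f : (ι → F) → (ι → F) → F} (h : RefForm σ ε f)
include h

theorem eq_zero_comm {u v : ι → F} (huv : f u v = 0) : f v u = 0 := by
  rw [h.swap, huv, map_zero, mul_zero]

theorem sub_right (u v w : ι → F) : f u (v - w) = f u v - f u w := by
  rw [sub_eq_add_neg, ← neg_one_smul F w, h.sesq.add_right, h.sesq.smul_right, map_neg, map_one]
  ring

theorem sub_left (u v w : ι → F) : f (u - v) w = f u w - f v w := by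
  rw [sub_eq_add_neg, ← neg_one_smul F v, h.sesq.add_left, h.sesq.smul_left]
  ring

theorem ext_right {v v' : ι → F} (hv : ∀ u, f u v = f u v') : v = v' := by
  by_contra hne
  obtain ⟨x, hx⟩ := (h.nondeg _ (sub_ne_zero.2 hne)).1
  exact hx (by rw [h.sub_right, hv, sub_self])

theorem ext_left {v v' : ι → F} (hv : ∀ u, f v u = f v' u) : v = v' := by
  by_contra hne
  obtain ⟨x, hx⟩ := (h.nondeg _ (sub_ne_zero.2 hne)).2
  exact hx (by rw [h.sub_left, hv, sub_self])

theorem ext_matrix {A B : Matrix ι ι F} (hAB : ∀ u v, f (A *ᵥ u) v = f (B *ᵥ u) v) : A = B :=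
  Matrix.ext_of_mulVec_single fun _ => h.ext_left (hAB _)

theorem exists_adjoint (M : Matrix ι ι F) : ∃ A : Matrix ι ι F, ∀ u v, f (A *ᵥ u) v = f u (M *ᵥ v) := by
  obtain ⟨A, hA⟩ := h.sesq.exists_matrix h.nondeg (g := fun u v => f u (M *ᵥ v))
    ⟨fun x y v => h.sesq.add_left _ _ _, fun c x v => h.sesq.smul_left _ _ _,
      fun v x y => by rw [Matrix.mulVec_add, h.sesq.add_right],
      fun c v x => by rw [Matrix.mulVec_smul, h.sesq.smul_right]⟩
  exact ⟨A, fun u v => (hA u v).symm⟩

/-- The adjoint. -/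
noncomputable def adj (M : Matrix ι ι F) : Matrix ι ι F := (h.exists_adjoint M).choose

theorem adj_left (M : Matrix ι ι F) (u v : ι → F) : f (h.adj M *ᵥ u) v = f u (M *ᵥ v) :=
  (h.exists_adjoint M).choose_spec u v

theorem adj_right (M : Matrix ι ι F) (u v : ι → F) : f (M *ᵥ u) v = f u (h.adj M *ᵥ v) := by
  rw [h.swap v (M *ᵥ u), ← h.adj_left, ← h.swap]

theorem adj_eq {M A : Matrix ι ι F} (hA : ∀ u v, f (A *ᵥ u) v = f u (M *ᵥ v)) : h.adj M = A :=
  h.ext_matrix fun u v => by rw [h.adj_left, hA]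

theorem adj_adj (M : Matrix ι ι F) : h.adj (h.adj M) = M :=
  h.adj_eq fun u v => h.adj_right M u v

theorem adj_mul (A B : Matrix ι ι F) : h.adj (A * B) = h.adj B * h.adj A :=
  h.adj_eq fun u v => by rw [← Matrix.mulVec_mulVec, h.adj_left, h.adj_left, Matrix.mulVec_mulVec]

theorem adj_one : h.adj 1 = 1 := h.adj_eq fun u v => by simp

theorem adj_add (A B : Matrix ι ι F) : h.adj (A + B) = h.adj A + h.adj B :=
  h.adj_eq fun u v => by
    rw [Matrix.add_mulVec, h.sesq.add_left, h.adj_left, h.adj_left, Matrix.add_mulVec, h.sesq.add_right]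

theorem adj_smul (c : F) (A : Matrix ι ι F) : h.adj (c • A) = σ c • h.adj A :=
  h.adj_eq fun u v => by
    rw [Matrix.smul_mulVec, h.sesq.smul_left, h.adj_left, Matrix.smul_mulVec, h.sesq.smul_right]
    rfl

theorem adj_zero : h.adj 0 = 0 := by simpa using h.adj_smul 0 0

theorem adj_sum {κ : Type*} (s : Finset κ) (A : κ → Matrix ι ι F) :
    h.adj (∑ i ∈ s, A i) = ∑ i ∈ s, h.adj (A i) := by
  classical
  induction s using Finset.induction with
  | empty => simp [h.adj_zero]
  | insert a s ha ih => rw [Finset.sum_insert ha, Finset.sum_insert ha, h.adj_add, ih]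

theorem adj_injective : Function.Injective h.adj := Function.Involutive.injective h.adj_adj

omit h in
theorem mem_isometry {g : GL ι F} :
    g ∈ preserving (glToMat ι F) f ↔
      ∀ u v, f ((g : Matrix ι ι F) *ᵥ u) ((g : Matrix ι ι F) *ᵥ v) = f u v := Iff.rfl

theorem adj_isometry {g : GL ι F} (hg : g ∈ preserving (glToMat ι F) f) :
    h.adj (g : Matrix ι ι F) = ((g⁻¹ : GL ι F) : Matrix ι ι F) :=
  h.adj_eq fun u v => by rw [← mem_isometry.1 hg, mulVec_inv]

/-- The adjoint commutes with conjugation by an isometry. -/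
theorem adj_conj {g : GL ι F} (hg : g ∈ preserving (glToMat ι F) f) (M : Matrix ι ι F) :
    h.adj ((g : Matrix ι ι F) * M * ((g⁻¹ : GL ι F) : Matrix ι ι F)) =
      (g : Matrix ι ι F) * h.adj M * ((g⁻¹ : GL ι F) : Matrix ι ι F) := by
  rw [h.adj_mul, h.adj_mul, h.adj_isometry hg, h.adj_isometry (inv_mem hg), inv_inv, mul_assoc]

theorem adj_mem_algOf {N : Subgroup (GL ι F)} (hN : N ≤ preserving (glToMat ι F) f)
    {M : Matrix ι ι F} (hM : M ∈ algOf N) : h.adj M ∈ algOf N := by
  induction hM using Algebra.adjoin_induction with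
  | mem y hy =>
    obtain ⟨y, hy, rfl⟩ := hy
    rw [h.adj_isometry (hN hy)]
    exact Algebra.subset_adjoin ⟨y⁻¹, N.inv_mem hy, rfl⟩
  | algebraMap c =>
    rw [Algebra.algebraMap_eq_smul_one, h.adj_smul, h.adj_one]
    exact Subalgebra.smul_mem _ (one_mem _) _
  | add a b _ _ iha ihb => rw [h.adj_add]; exact Subalgebra.add_mem _ iha ihb
  | mul a b _ _ iha ihb => rw [h.adj_mul]; exact Subalgebra.mul_mem _ ihb iha

theorem isometry_fixes {N : Subgroup (GL ι F)} (hN : N ≤ preserving (glToMat ι F) f) :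
    Geo.FixesForm (Geo.matrixSet N) f := by
  rintro s ⟨x, hx, rfl⟩ u v
  exact mem_isometry.1 (hN hx) u v

end RefForm

section Perp

variable {σ : F ≃+* F} {ε : F} {f : (ι → F) → (ι → F) → F} (h : RefForm σ ε f)

theorem mem_perpSpace {W : Submodule F (ι → F)} {v : ι → F} :
    v ∈ perpSpace h W ↔ ∀ w ∈ W, f v w = 0 := Iff.rfl

theorem areOrthogonal_perp (W : Submodule F (ι → F)) :
    Geo.AreOrthogonalFor f W (perpSpace h W) := fun u hu _ hv => h.eq_zero_comm (hv u hu)

theorem isNondegenerateOn_iff (W : Submodule F (ι → F)) :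
    Geo.IsNondegenerateOn f W ↔ W ⊓ perpSpace h W = ⊥ := by
  constructor
  · intro hW
    refine eq_bot_iff.2 fun v hv => ?_
    by_contra hv0
    obtain ⟨x, hx, hxv⟩ := (hW v hv.1 hv0).2
    exact hxv (hv.2 x hx)
  · intro hW w hw hw0
    have key : ∃ x ∈ W, f w x ≠ 0 := by
      by_contra hcon
      push Not at hcon
      have hmem : w ∈ W ⊓ perpSpace h W := ⟨hw, hcon⟩
      rw [hW, Submodule.mem_bot] at hmem
      exact hw0 hmem
    obtain ⟨x, hx, hxw⟩ := key
    exact ⟨⟨x, hx, fun h0 => hxw (h.eq_zero_comm h0)⟩, ⟨x, hx, hxw⟩⟩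

theorem totallySingular_iff (W : Submodule F (ι → F)) :
    Geo.IsTotallySingularFor f W ↔ W ≤ perpSpace h W := Iff.rfl

theorem finrank_le_perp (W : Submodule F (ι → F)) :
    Fintype.card ι ≤ Module.finrank F W + Module.finrank F (perpSpace h W) := by
  classical
  let b := Module.finBasis F W
  let Φ : (ι → F) →ₗ[F] (Fin (Module.finrank F W) → F) :=
    { toFun := fun v i => f v (b i : ι → F)
      map_add' := fun x y => funext fun i => h.sesq.add_left _ _ _
      map_smul' := fun c x => funext fun i => h.sesq.smul_left _ _ _ }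
  have hker : LinearMap.ker Φ ≤ perpSpace h W := by
    intro v hv w hw
    have h1 : (⟨w, hw⟩ : W) ∈ Submodule.span F (Set.range b) := by rw [b.span_eq]; trivial
    suffices hs : ∀ x : W, x ∈ Submodule.span F (Set.range b) → f v (x : ι → F) = 0 from hs ⟨w, hw⟩ h1
    intro x hx
    induction hx using Submodule.span_induction with
    | mem y hy => obtain ⟨i, rfl⟩ := hy; exact congrFun (LinearMap.mem_ker.1 hv) i
    | zero => exact h.sesq.zero_right v
    | add y z _ _ ihy ihz => rw [Submodule.coe_add, h.sesq.add_right, ihy, ihz, add_zero]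
    | smul c y _ ih => rw [Submodule.coe_smul, h.sesq.smul_right, ih, mul_zero]
  have h1 := LinearMap.finrank_range_add_finrank_ker Φ
  have h2 := Submodule.finrank_mono hker
  have h3 : Module.finrank F (LinearMap.range Φ) ≤ Module.finrank F W :=
    (Submodule.finrank_le _).trans (by simp)
  rw [Module.finrank_fintype_fun_eq_card] at h1
  omega

theorem isCompl_perp {W : Submodule F (ι → F)} (hW : Geo.IsNondegenerateOn f W) :
    IsCompl W (perpSpace h W) ∧
      Module.finrank F W + Module.finrank F (perpSpace h W) = Fintype.card ι := by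
  have hbot := (isNondegenerateOn_iff h W).1 hW
  have h1 := Submodule.finrank_sup_add_finrank_inf_eq W (perpSpace h W)
  rw [hbot, finrank_bot, add_zero] at h1
  have h2 := finrank_le_perp h W
  have h3 : Module.finrank F ↥(W ⊔ perpSpace h W) ≤ Module.finrank F (ι → F) := Submodule.finrank_le _
  rw [Module.finrank_fintype_fun_eq_card] at h3
  refine ⟨⟨disjoint_iff.2 hbot, codisjoint_iff.2 (Submodule.eq_top_of_finrank_eq ?_)⟩, by omega⟩
  rw [Module.finrank_fintype_fun_eq_card]
  omega

theorem isNondegenerateOn_perp {W : Submodule F (ι → F)} (hW : Geo.IsNondegenerateOn f W) :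
    Geo.IsNondegenerateOn f (perpSpace h W) := by
  rw [isNondegenerateOn_iff h]
  refine eq_bot_iff.2 fun v hv => (Submodule.mem_bot F).2 (h.ext_left fun u => ?_)
  have hu : u ∈ W ⊔ perpSpace h W := by rw [(isCompl_perp h hW).1.sup_eq_top]; trivial
  obtain ⟨a, ha, b, hb, rfl⟩ := Submodule.mem_sup.1 hu
  rw [h.sesq.add_right, hv.1 a ha, hv.2 b hb, add_zero, h.sesq.zero_left]

theorem Invariant.perp {N : Subgroup (GL ι F)} (hN : N ≤ preserving (glToMat ι F) f)
    {W : Submodule F (ι → F)} (hW : Invariant N W) : Invariant N (perpSpace h W) := by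
  intro x hx v hv w hw
  rw [← mulVec_inv x w, RefForm.mem_isometry.1 (hN hx)]
  exact hv _ (hW x⁻¹ (N.inv_mem hx) w hw)

/-- A reducible group of isometries: a totally singular subspace, a smaller non-degenerate one, or two
orthogonal halves. -/
theorem reducible_cases {H : Subgroup (GL ι F)} (hH : H ≤ preserving (glToMat ι F) f)
    (hirr : ¬ Irr H) :
    (∃ W : Submodule F (ι → F), W ≠ ⊥ ∧ Geo.IsTotallySingularFor f W ∧
        H ≤ Geo.subspaceStabilizer W) ∨
    (∃ W : Submodule F (ι → F), W ≠ ⊥ ∧ W ≠ ⊤ ∧ Geo.IsNondegenerateOn f W ∧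
        2 * Module.finrank F W < Fintype.card ι ∧ H ≤ Geo.subspaceStabilizer W ∧
        H ≤ Geo.subspaceStabilizer (perpSpace h W)) ∨
    (∃ D : Fin 2 → Submodule F (ι → F), ∃ k, 2 * k = Fintype.card ι ∧ D 1 = perpSpace h (D 0) ∧
        Geo.IsNondegenerateMDecomposition f k D ∧ (∀ i, H ≤ Geo.subspaceStabilizer (D i))) := by
  rw [irr_iff] at hirr
  push Not at hirr
  obtain ⟨W, hW, hW0, hW1⟩ := hirr
  have stab : ∀ U, Invariant H U → H ≤ Geo.subspaceStabilizer U :=
    fun U hU g hg => mem_subspaceStabilizer (hU g hg)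
  by_cases hrad : W ⊓ perpSpace h W = ⊥
  swap
  · exact Or.inl ⟨_, hrad, fun u hu v hv => hu.2 v hv.1, stab _ (hW.inf (hW.perp h hH))⟩
  have hnd : Geo.IsNondegenerateOn f W := (isNondegenerateOn_iff h W).2 hrad
  obtain ⟨hc, hdim⟩ := isCompl_perp h hnd
  have hpnd := isNondegenerateOn_perp h hnd
  have hp0 : perpSpace h W ≠ ⊥ := fun h0 => hW1 (by simpa [h0] using hc.sup_eq_top)
  have hp1 : perpSpace h W ≠ ⊤ := fun h0 => hW0 (by simpa [h0] using hc.inf_eq_bot)
  rcases lt_trichotomy (Module.finrank F W) (Module.finrank F (perpSpace h W)) with hlt | heq | hlt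
  · exact Or.inr <| Or.inl ⟨W, hW0, hW1, hnd, by omega, stab _ hW, stab _ (hW.perp h hH)⟩
  · refine Or.inr <| Or.inr ⟨![W, perpSpace h W], Module.finrank F W, by omega, rfl, ⟨⟨le_rfl, ?_, ?_, ?_, ?_⟩,
      ?_, ?_⟩, ?_⟩
    · exact Nat.pos_of_ne_zero fun h0 => hW0 (Submodule.finrank_eq_zero.1 h0)
    · intro i; fin_cases i
      · rfl
      · exact heq.symm
    · exact (iSupIndep_pair (i := (0 : Fin 2)) (j := 1) (by decide) (by intro k; fin_cases k <;> simp)).2
        (by simpa using hc.disjoint)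
    · refine eq_top_iff.2 (hc.sup_eq_top.ge.trans (sup_le ?_ ?_))
      · exact le_iSup ![W, perpSpace h W] 0
      · exact le_iSup ![W, perpSpace h W] 1
    · intro i; fin_cases i <;> simpa
    · intro i j hij
      fin_cases i <;> fin_cases j <;> first | exact absurd rfl hij | skip
      · simpa using areOrthogonal_perp h W
      · intro u hu v hv
        exact hu v hv
    · intro i; fin_cases i
      · exact stab _ hW
      · exact stab _ (hW.perp h hH)
  · refine Or.inr <| Or.inl ⟨perpSpace h W, hp0, hp1, hpnd, by omega, stab _ (hW.perp h hH), ?_⟩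
    exact stab _ ((hW.perp h hH).perp h hH)

end Perp

end Cfsg.Agent.Aschbacher
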