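import Cfsg.Agent.Lib.Aschbacher.AlgShape
import Cfsg.Agent.Lib.Aschbacher.FormBasic
import Cfsg.Agent.Lib.Aschbacher.Common

/-!
A field inside a matrix algebra: its subfields of prime degree, and its semilinear involutions.
-/

set_option autoImplicit false
set_option linter.unusedSectionVars false

namespace Cfsg.Agent.Aschbacher

open Matrix
open scoped MatrixGroups

variable {ι : Type} [Fintype ι] [DecidableEq ι] [Nonempty ι] {F : Type*} [Field F] [Fintype F]

theorem isField_of_isFieldSubalgebra {d : ℕ} {L : Subalgebra F (Matrix ι ι F)}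
    (hL : Geo.IsFieldSubalgebra d L) : IsField L where
  exists_pair_ne := ⟨0, 1, fun h => zero_ne_one (congrArg Subtype.val h)⟩
  mul_comm := fun x y => Subtype.ext (hL.comm _ x.2 _ y.2)
  mul_inv_cancel := fun {a} ha => by
    obtain ⟨y, hy, h⟩ := hL.inv _ a.2 fun h0 => ha (Subtype.ext h0)
    exact ⟨⟨y, hy⟩, Subtype.ext h⟩

theorem card_of_isFieldSubalgebra {d : ℕ} {L : Subalgebra F (Matrix ι ι F)}
    (hL : Geo.IsFieldSubalgebra d L) : Nat.card L = Fintype.card F ^ d := by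
  rw [← hL.finrank_eq, Module.natCard_eq_pow_finrank (K := F), Nat.card_eq_fintype_card]

/-- The subfield of each prime degree dividing the degree. -/
theorem exists_subfield_degree {d r : ℕ} {L : Subalgebra F (Matrix ι ι F)}
    (hL : Geo.IsFieldSubalgebra d L) (hrd : r ∣ d) :
    ∃ K : Subalgebra F (Matrix ι ι F), Geo.IsFieldSubalgebra r K ∧
      ∀ z, z ∈ K ↔ z ∈ L ∧ z ^ Fintype.card F ^ r = z := by
  classical
  let _ : Field L := (isField_of_isFieldSubalgebra hL).toField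
  let φ := FiniteField.frobeniusAlgEquivOfAlgebraic F L
  have hpow : ∀ k (x : L), (φ ^ k) x = x ^ Fintype.card F ^ k := by
    intro k
    induction k with
    | zero => intro x; simp
    | succ k ih =>
      intro x
      rw [pow_succ', AlgEquiv.mul_apply, ih, pow_succ, pow_mul]
      rfl
  have hmem : ∀ x : L, x ∈ IntermediateField.fixedField (Subgroup.zpowers (φ ^ r)) ↔
      x ^ Fintype.card F ^ r = x := by
    intro x
    rw [← hpow]
    refine ⟨fun h => h ⟨φ ^ r, Subgroup.mem_zpowers _⟩, fun h => ?_⟩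
    rintro ⟨g, hg⟩
    have hle : Subgroup.zpowers (φ ^ r) ≤ MulAction.stabilizer (L ≃ₐ[F] L) x :=
      Subgroup.zpowers_le.2 h
    exact hle hg
  set K₀ := IntermediateField.fixedField (Subgroup.zpowers (φ ^ r)) with hK₀
  have hLd : Module.finrank F L = d := hL.finrank_eq
  have hd0 : 0 < d := hLd ▸ Module.finrank_pos
  have hrank : Module.finrank F K₀ = r := by
    have h1 : Module.finrank K₀ L = d / r := by
      rw [hK₀, IntermediateField.finrank_fixedField_eq_card, Nat.card_zpowers, orderOf_pow,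
        FiniteField.orderOf_frobeniusAlgEquivOfAlgebraic, hLd, Nat.gcd_eq_right hrd]
    have h2 := Module.finrank_mul_finrank F K₀ L
    rw [h1, hLd] at h2
    have h3 : d / r * r = d := Nat.div_mul_cancel hrd
    have h4 : 0 < d / r := Nat.div_pos (Nat.le_of_dvd hd0 hrd) (Nat.pos_of_dvd_of_pos hrd hd0)
    exact Nat.eq_of_mul_eq_mul_right h4 (h2.trans (h3.symm.trans (mul_comm _ _)))
  refine ⟨K₀.toSubalgebra.map L.val, ⟨?_, ?_, ?_⟩, fun z => ⟨?_, fun hz => ?_⟩⟩
  · rintro _ ⟨x, -, rfl⟩ _ ⟨y, -, rfl⟩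
    exact hL.comm _ x.2 _ y.2
  · rintro _ ⟨x, hx, rfl⟩ hne
    have hx0 : x ≠ 0 := fun h => hne (by rw [h]; rfl)
    exact ⟨_, ⟨x⁻¹, K₀.inv_mem hx, rfl⟩, congrArg Subtype.val (mul_inv_cancel₀ hx0)⟩
  · exact (Submodule.equivMapOfInjective L.val.toLinearMap Subtype.val_injective
      K₀.toSubalgebra.toSubmodule).finrank_eq.symm.trans hrank
  · rintro ⟨x, hx, rfl⟩
    exact ⟨x.2, congrArg Subtype.val ((hmem x).1 hx)⟩
  · exact ⟨⟨z, hz.1⟩, (hmem _).2 (Subtype.ext hz.2), rfl⟩

/-- A semilinear involution of a field inside the matrix algebra. -/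
structure FieldInvolution (σ : F ≃+* F) (L : Subalgebra F (Matrix ι ι F))
    (θ : Matrix ι ι F → Matrix ι ι F) : Prop where
  mem : ∀ z ∈ L, θ z ∈ L
  add : ∀ a ∈ L, ∀ b ∈ L, θ (a + b) = θ a + θ b
  mul : ∀ a ∈ L, ∀ b ∈ L, θ (a * b) = θ a * θ b
  smul : ∀ (c : F), θ (c • 1) = σ c • 1
  invol : ∀ z ∈ L, θ (θ z) = z

/-- Semilinear involutions are powers of the Frobenius. -/
theorem FieldInvolution.cases {σ : F ≃+* F} {d : ℕ} {L : Subalgebra F (Matrix ι ι F)}
    (hL : Geo.IsFieldSubalgebra d L) {θ : Matrix ι ι F → Matrix ι ι F} (h : FieldInvolution σ L θ) :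
    (σ = RingEquiv.refl F ∧ ∀ z ∈ L, θ z = z) ∨
    (σ = RingEquiv.refl F ∧ Even d ∧ ∀ z ∈ L, θ z = z ^ Fintype.card F ^ (d / 2)) ∨
    (σ ≠ RingEquiv.refl F ∧ Odd d ∧
      ∀ q, Fintype.card F = q ^ 2 → ∀ z ∈ L, θ z = z ^ q ^ d) := by
  classical
  let _ : Field L := (isField_of_isFieldSubalgebra hL).toField
  have h1 : θ 1 = 1 := by simpa using h.smul 1
  have h0 : θ 0 = 0 := by simpa using h.smul 0
  let T : L ≃+* L :=
    { toFun := fun z => ⟨θ z, h.mem _ z.2⟩
      invFun := fun z => ⟨θ z, h.mem _ z.2⟩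
      left_inv := fun z => Subtype.ext (h.invol _ z.2)
      right_inv := fun z => Subtype.ext (h.invol _ z.2)
      map_mul' := fun a b => Subtype.ext (h.mul _ a.2 _ b.2)
      map_add' := fun a b => Subtype.ext (h.add _ a.2 _ b.2) }
  obtain ⟨p, hpC⟩ := CharP.exists F
  obtain ⟨e, hpp, hcard⟩ := FiniteField.card F p
  have : Fact p.Prime := ⟨hpp⟩
  have : CharP L p := charP_of_injective_algebraMap (algebraMap F L).injective p
  let _ : Algebra (ZMod p) L := ZMod.algebra L p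
  let T' : L ≃ₐ[ZMod p] L := AlgEquiv.ofRingEquiv (f := T) fun c => by
    rw [← ZMod.natCast_zmod_val c, map_natCast, map_natCast]
  obtain ⟨k, hk⟩ := (FiniteField.bijective_frobeniusAlgEquivOfAlgebraic_pow (ZMod p) L).2 T'
  have hpowk : ∀ j (x : L), (FiniteField.frobeniusAlgEquivOfAlgebraic (ZMod p) L ^ j) x = x ^ p ^ j := by
    intro j
    induction j with
    | zero => intro x; simp
    | succ j ih =>
      intro x
      rw [pow_succ', AlgEquiv.mul_apply, ih, pow_succ, pow_mul]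
      show (x ^ p ^ j) ^ Fintype.card (ZMod p) = _
      rw [ZMod.card]
  have hθ : ∀ z ∈ L, θ z = z ^ p ^ (k : ℕ) := by
    intro z hz
    have h2 := (DFunLike.congr_fun hk ⟨z, hz⟩ : (_ : L) = T' ⟨z, hz⟩)
    simp only [hpowk] at h2
    exact (congrArg Subtype.val h2).symm.trans rfl
  have hK : Nat.card L = p ^ ((e : ℕ) * d) := by
    rw [card_of_isFieldSubalgebra hL, hcard, ← pow_mul]
  have hklt : (k : ℕ) < (e : ℕ) * d := by
    have h2 := k.2
    have h3 : Nat.card L = p ^ Module.finrank (ZMod p) L := by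
      rw [Module.natCard_eq_pow_finrank (K := ZMod p), Nat.card_zmod]
    rw [hK] at h3
    rw [Nat.pow_right_injective hpp.two_le h3]
    exact h2
  -- the involution
  have hk2 : ∀ z ∈ L, z ^ p ^ (2 * (k : ℕ)) = z := by
    intro z hz
    rw [two_mul, pow_add, pow_mul, ← hθ z hz]
    rw [← hθ _ (h.mem z hz), h.invol z hz]
  have : Fintype L := Fintype.ofFinite L
  have hk0 : (k : ℕ) = 0 ∨ 2 * (k : ℕ) = (e : ℕ) * d := by
    by_contra hcon
    push Not at hcon
    have hfix : ∀ j, 0 < j → j < (e : ℕ) * d → ¬ ∀ x : L, x ^ p ^ j = x := by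
      intro j hj hjlt hall
      have hlt : p ^ j < Fintype.card L := by
        rw [← Nat.card_eq_fintype_card, hK]; exact Nat.pow_lt_pow_right hpp.one_lt hjlt
      obtain ⟨a, ha⟩ := exists_pow_ne_self (F := L) p hj hlt
      exact ha (hall a)
    have hall : ∀ x : L, x ^ p ^ (2 * (k : ℕ)) = x := fun x => Subtype.ext (by simpa using hk2 _ x.2)
    rcases Nat.lt_or_ge (2 * (k : ℕ)) ((e : ℕ) * d) with hlt | hge
    · exact hfix _ (by omega) hlt hall
    · refine hfix (2 * (k : ℕ) - (e : ℕ) * d) (by omega) (by omega) fun x => ?_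
      have h4 : x ^ p ^ ((e : ℕ) * d) = x := by
        rw [← hK, Nat.card_eq_fintype_card, FiniteField.pow_card]
      conv_rhs => rw [← hall x]
      conv_lhs => rw [← h4]
      rw [← pow_mul, ← pow_add]
      congr 2
      omega
  have hσ : ∀ c : F, σ c = c ^ p ^ (k : ℕ) := by
    intro c
    have h2 := hθ _ (Subalgebra.smul_mem _ (one_mem L) c)
    rw [h.smul, smul_pow, one_pow] at h2
    obtain ⟨i⟩ := ‹Nonempty ι›
    simpa using congrFun (congrFun h2 i) i
  have hbij : ∀ j, (j = 0 ∨ (e : ℕ) ∣ j) → ∀ c : F, c ^ p ^ j = c := by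
    rintro j hj c
    obtain ⟨m, rfl⟩ : (e : ℕ) ∣ j := hj.elim (fun h => h ▸ dvd_zero _) id
    rw [pow_mul, ← hcard, FiniteField.pow_card_pow]
  rcases hk0 with hk0 | hk0
  · exact Or.inl ⟨RingEquiv.ext fun c => by rw [hσ, hk0]; simp, fun z hz => by rw [hθ z hz, hk0]; simp⟩
  by_cases hs : σ = RingEquiv.refl F
  · refine Or.inr (Or.inl ⟨hs, ?_, ?_⟩)
    all_goals
      have hed : (e : ℕ) ∣ (k : ℕ) := by
        have hd0 : (k : ℕ) % (e : ℕ) = 0 := by
          by_contra hne
          obtain ⟨a, ha⟩ := exists_pow_ne_self (F := F) p (Nat.pos_of_ne_zero hne)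
            (hcard ▸ Nat.pow_lt_pow_right hpp.one_lt (Nat.mod_lt _ e.pos))
          refine ha ?_
          have h2 : a ^ p ^ (k : ℕ) = a := by rw [← hσ, hs]; rfl
          rw [← Nat.div_add_mod (k : ℕ) (e : ℕ), pow_add, pow_mul, hbij _ (Or.inr ⟨_, rfl⟩)] at h2
          exact h2
        exact Nat.dvd_of_mod_eq_zero hd0
      obtain ⟨m, hm⟩ := hed
      have hd2 : d = 2 * m := Nat.eq_of_mul_eq_mul_left e.pos (by rw [← hk0, hm]; ring)
    · exact ⟨m, by omega⟩
    · intro z hz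
      rw [hθ z hz, hm, hcard, ← pow_mul, show d / 2 = m by omega]
  · have hodd : Odd d := by
      by_contra hd
      obtain ⟨m, rfl⟩ := Nat.not_odd_iff_even.1 hd
      have hkm : (k : ℕ) = (e : ℕ) * m := by
        have : (e : ℕ) * (m + m) = 2 * ((e : ℕ) * m) := by ring
        omega
      exact hs (RingEquiv.ext fun c => by rw [hσ, hbij _ (Or.inr ⟨m, hkm⟩)]; rfl)
    refine Or.inr (Or.inr ⟨hs, hodd, fun q hq z hz => ?_⟩)
    rw [hθ z hz]
    congr 1
    apply Nat.pow_left_injective two_ne_zero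
    show (p ^ (k : ℕ)) ^ 2 = (q ^ d) ^ 2
    rw [← pow_mul, ← pow_mul, mul_comm (k : ℕ) 2, mul_comm d 2, pow_mul q, ← hq, hcard, ← pow_mul, hk0]

end Cfsg.Agent.Aschbacher
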