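import Cfsg.Agent.Lib.Aschbacher.Basic

/-!
A field subalgebra of full degree acts simply transitively and the determinant is the norm.
-/

set_option autoImplicit false

namespace Cfsg.Agent.Aschbacher

open Matrix
open scoped MatrixGroups

variable {ι : Type} [Fintype ι] [DecidableEq ι] {F : Type*} [Field F]
  {K : Subalgebra F (Matrix ι ι F)}

/-- Evaluation at a vector. -/
def evalAt (K : Subalgebra F (Matrix ι ι F)) (v : ι → F) : K →ₗ[F] (ι → F) where
  toFun k := (k : Matrix ι ι F) *ᵥ v
  map_add' a b := by simp [Matrix.add_mulVec]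
  map_smul' r a := by simp [Matrix.smul_mulVec]

theorem evalAt_injective {r : ℕ} (hK : Geo.IsFieldSubalgebra r K) {v : ι → F} (hv : v ≠ 0) :
    Function.Injective (evalAt K v) := by
  rw [injective_iff_map_eq_zero]
  intro k hk
  by_contra h0
  obtain ⟨k', hk', hkk⟩ := hK.inv k k.2 fun h => h0 (Subtype.ext h)
  apply hv
  have hkk' : k' * (k : Matrix ι ι F) = 1 := by rw [hK.comm _ hk' _ k.2, hkk]
  rw [← Matrix.one_mulVec v, ← hkk', ← Matrix.mulVec_mulVec,
    show (k : Matrix ι ι F) *ᵥ v = 0 from hk, Matrix.mulVec_zero]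

theorem evalAt_bijective (hK : Geo.IsFieldSubalgebra (Fintype.card ι) K) {v : ι → F} (hv : v ≠ 0) :
    Function.Bijective (evalAt K v) :=
  ⟨evalAt_injective hK hv,
    (LinearMap.injective_iff_surjective_of_finrank_eq_finrank
      (hK.finrank_eq.trans (Module.finrank_fintype_fun_eq_card F).symm)).1 (evalAt_injective hK hv)⟩

theorem det_smul_one_eq_pow [Fintype F] [Nonempty ι] (hK : Geo.IsFieldSubalgebra (Fintype.card ι) K)
    {a : Matrix ι ι F} (ha : a ∈ K) :
    a.det • (1 : Matrix ι ι F) =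
      a ^ ((Fintype.card F ^ Fintype.card ι - 1) / (Fintype.card F - 1)) := by
  obtain ⟨i⟩ := ‹Nonempty ι›
  have hv : (Pi.single i 1 : ι → F) ≠ 0 := fun h => by simpa using congrFun h i
  have hfield : IsField K :=
    { exists_pair_ne := ⟨0, 1, fun h => one_ne_zero (congrArg Subtype.val h).symm⟩
      mul_comm := fun a b => Subtype.ext (hK.comm _ a.2 _ b.2)
      mul_inv_cancel := fun {a} ha => by
        obtain ⟨b, hb, hab⟩ := hK.inv _ a.2 fun h => ha (Subtype.ext h)
        exact ⟨⟨b, hb⟩, Subtype.ext hab⟩ }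
  letI : Field K := hfield.toField
  haveI : Finite K := Finite.of_injective (fun k : K => (k : Matrix ι ι F)) Subtype.val_injective
  let e : K ≃ₗ[F] (ι → F) := LinearEquiv.ofBijective _ (evalAt_bijective hK hv)
  have hdet : Algebra.norm F (⟨a, ha⟩ : K) = a.det := by
    have hconj : (e : K →ₗ[F] (ι → F)) ∘ₗ Algebra.lmul F K ⟨a, ha⟩ ∘ₗ
        (e.symm : (ι → F) →ₗ[F] K) = Matrix.toLin' a := by
      refine LinearMap.ext fun w => ?_
      obtain ⟨k, rfl⟩ := e.surjective w
      simp only [LinearMap.comp_apply, LinearEquiv.coe_coe, LinearEquiv.symm_apply_apply,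
        Algebra.coe_lmul_eq_mul, LinearMap.mul_apply', Matrix.toLin'_apply]
      show ((⟨a, ha⟩ * k : K) : Matrix ι ι F) *ᵥ _ = a *ᵥ ((k : Matrix ι ι F) *ᵥ _)
      rw [Subalgebra.coe_mul, Matrix.mulVec_mulVec]
    rw [Algebra.norm_apply, ← LinearMap.det_conj _ e, hconj, LinearMap.det_toLin']
  have hcard : Nat.card K = Fintype.card F ^ Fintype.card ι := by
    rw [Module.natCard_eq_pow_finrank (K := F) (V := K), hK.finrank_eq, Nat.card_eq_fintype_card]
  have h := congrArg Subtype.val (FiniteField.algebraMap_norm_eq_pow (K := F) (x := (⟨a, ha⟩ : K)))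
  rw [hdet, hcard, Nat.card_eq_fintype_card, SubmonoidClass.coe_pow, Subalgebra.coe_algebraMap,
    Algebra.algebraMap_eq_smul_one] at h
  exact h

end Cfsg.Agent.Aschbacher
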