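import Cfsg.Agent.Lib.Aschbacher.FormTools

/-!
Pieces shared by the cases of Aschbacher's theorem with a form: subfield groups, tensor factors and their
forms, two-dimensional symmetric factors, quadratic forms from alternating tensor factors.
-/

set_option autoImplicit false
set_option linter.unusedSectionVars false

namespace Cfsg.Agent.Aschbacher

open Matrix
open scoped MatrixGroups Kronecker

variable {ι : Type} [Fintype ι] [DecidableEq ι] {F : Type*} [Field F]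

theorem translate_eq_of_mem_stabilizer {g : GL ι F} {W : Submodule F (ι → F)}
    (hg : g ∈ Geo.subspaceStabilizer W) : translate g W = W := by
  refine Submodule.eq_of_le_of_finrank_eq (fun v hv => ?_) (finrank_translate g W)
  obtain ⟨w, hw, rfl⟩ := mem_translate.1 hv
  exact (hg w).1 hw

theorem le_decompositionStabilizer_of_forall {H : Subgroup (GL ι F)} {t : ℕ}
    {D : Fin t → Submodule F (ι → F)} (h : ∀ i, H ≤ Geo.subspaceStabilizer (D i)) :
    H ≤ Geo.decompositionStabilizer D :=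
  fun _ hg => ⟨1, fun i => translate_eq_of_mem_stabilizer (h i hg)⟩

/-- A normal absolutely irreducible subgroup realised over a proper subfield gives a subfield group
compatible with the form. -/
theorem RefForm.to_subfield [Fintype F] [Nonempty ι] {σ : F ≃+* F} {ε : F} {f : (ι → F) → (ι → F) → F}
    (h : RefForm σ ε f) {N H : Subgroup (GL ι F)} (hN : AbsIrr N)
    (hfN : N ≤ preserving (glToMat ι F) f) (hn : NormalIn H N) {F₁ : Subfield F} (hF₁ : F₁ ≠ ⊤)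
    (hreal : Geo.RealisableOver F₁ (Geo.matrixSet N)) :
    ∃ (F₀ : Subfield F) (r : ℕ) (P : GL ι F) (ζ : F), r.Prime ∧ Fintype.card F = Nat.card F₀ ^ r ∧
      ζ ≠ 0 ∧ Geo.IsFormRationalStructure f F₀ ζ P ∧ H ≤ Geo.subfieldSubgroup F₀ P := by
  obtain ⟨B, hB⟩ := hreal
  obtain ⟨F₀, r, hle, hr, hcard⟩ := exists_prime_index hF₁
  obtain ⟨P, ζ, hζ, hP, -, hrat, -⟩ :=
    h.exists_rational hN hfN hn (F₀ := F₀) ⟨B, fun s hs i j => hle (hB s hs i j)⟩
  exact ⟨F₀, r, P, ζ, hr, hcard, hζ, hrat, hP⟩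

/-! ### Tensor products -/

theorem kron_factor {m k : Type} {A C : Matrix m m F} {B D : Matrix k k F}
    (h : A ⊗ₖ B = C ⊗ₖ D) (hC : C ≠ 0) (hD : D ≠ 0) :
    (∃ μ : F, B = μ • D) ∧ ∃ μ : F, A = μ • C := by
  obtain ⟨a, b, hab⟩ : ∃ a b, C a b ≠ 0 := by
    by_contra hcon
    push Not at hcon
    exact hC (Matrix.ext hcon)
  obtain ⟨p, q, hpq⟩ : ∃ p q, D p q ≠ 0 := by
    by_contra hcon
    push Not at hcon
    exact hD (Matrix.ext hcon)
  have key : ∀ a b p q, A a b * B p q = C a b * D p q := fun a b p q => by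
    simpa using congrFun (congrFun h (a, p)) (b, q)
  have hA : A a b ≠ 0 := fun h0 => mul_ne_zero hab hpq (by rw [← key, h0, zero_mul])
  have hB : B p q ≠ 0 := fun h0 => mul_ne_zero hab hpq (by rw [← key, h0, mul_zero])
  refine ⟨⟨C a b / A a b, Matrix.ext fun i j => ?_⟩, ⟨D p q / B p q, Matrix.ext fun i j => ?_⟩⟩
  · rw [Matrix.smul_apply, smul_eq_mul, div_mul_eq_mul_div, eq_div_iff hA]
    linear_combination key a b i j
  · rw [Matrix.smul_apply, smul_eq_mul, div_mul_eq_mul_div, eq_div_iff hB]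
    linear_combination key i j p q

theorem coordEquiv_mulVec {κ : Type} [Fintype κ] [DecidableEq κ] (e : ι ≃ κ) (P : GL ι F)
    (M : Matrix κ κ F) (x : κ → F) :
    coordEquiv e P M *ᵥ ((P : Matrix ι ι F) *ᵥ (x ∘ e)) = (P : Matrix ι ι F) *ᵥ ((M *ᵥ x) ∘ e) := by
  rw [coordEquiv_apply, ← Matrix.mulVec_mulVec, ← Matrix.mulVec_mulVec, inv_mulVec,
    Matrix.submatrix_mulVec_equiv]
  simp [Function.comp_def]

theorem exists_coord_vec {κ : Type} [Fintype κ] [DecidableEq κ] (e : ι ≃ κ) (P : GL ι F) (u : ι → F) :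
    ∃ x : κ → F, (P : Matrix ι ι F) *ᵥ (x ∘ e) = u :=
  ⟨(((P⁻¹ : GL ι F) : Matrix ι ι F) *ᵥ u) ∘ e.symm, by
    rw [show ((((P⁻¹ : GL ι F) : Matrix ι ι F) *ᵥ u) ∘ e.symm) ∘ e = ((P⁻¹ : GL ι F) : Matrix ι ι F) *ᵥ u from
      funext fun i => by simp, mulVec_inv]⟩

section Form

variable {σ : F ≃+* F} {ε : F} {f : (ι → F) → (ι → F) → F}

theorem RefForm.adj_coord (h : RefForm σ ε f) {κ : Type} [Fintype κ] [DecidableEq κ] (e : ι ≃ κ)
    (P : GL ι F) {M M' : Matrix κ κ F} (hM : M'ᵀ * coordGram f e P = coordGram f e P * M.map σ) :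
    h.adj (coordEquiv e P M) = coordEquiv e P M' := by
  refine h.adj_eq fun u v => ?_
  obtain ⟨x, rfl⟩ := exists_coord_vec e P u
  obtain ⟨y, rfl⟩ := exists_coord_vec e P v
  rw [coordEquiv_mulVec, coordEquiv_mulVec]
  show coordForm f e P _ _ = coordForm f e P _ _
  rw [coordForm_eq h, coordForm_eq h]
  simp only [matForm]
  rw [show (σ.toRingHom : F → F) ∘ (M *ᵥ y) = M.map σ *ᵥ (σ.toRingHom ∘ y) from
    funext fun i => RingHom.map_mulVec σ.toRingHom M y i, Matrix.mulVec_mulVec, ← hM,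
    ← Matrix.mulVec_mulVec, Matrix.dotProduct_mulVec x M'ᵀ, Matrix.vecMul_transpose]

variable {d k : ℕ} {e : ι ≃ Fin d × Fin k} {P : GL ι F} {G₁ : Matrix (Fin d) (Fin d) F}
  {G₂ : Matrix (Fin k) (Fin k) F}

theorem exists_of_mem_tensorProductSubgroup {g : GL ι F} (hg : g ∈ Geo.tensorProductSubgroup d k e P) :
    ∃ (g₀ : GL (Fin d × Fin k) F) (a : GL (Fin d) F) (b : GL (Fin k) F), coordGL e P g₀ = g ∧
      (g₀ : Matrix (Fin d × Fin k) (Fin d × Fin k) F) =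
        (a : Matrix (Fin d) (Fin d) F) ⊗ₖ (b : Matrix (Fin k) (Fin k) F) := by
  obtain ⟨_, ⟨g₀, ⟨a, b, hab⟩, rfl⟩, rfl⟩ := hg
  exact ⟨g₀, a, b, coordGL_eq e P g₀, hab⟩

theorem RefForm.tensor_similitude (h : RefForm σ ε f) (hgram : coordGram f e P = G₁ ⊗ₖ G₂)
    (h₁ : G₁ ≠ 0) (h₂ : G₂ ≠ 0) {g₀ : GL (Fin d × Fin k) F} {a : GL (Fin d) F} {b : GL (Fin k) F}
    (hg : coordGL e P g₀ ∈ preserving (glToMat ι F) f)
    (hab : (g₀ : Matrix (Fin d × Fin k) (Fin d × Fin k) F) =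
      (a : Matrix (Fin d) (Fin d) F) ⊗ₖ (b : Matrix (Fin k) (Fin k) F)) :
    (∃ μ : F, (b : Matrix (Fin k) (Fin k) F)ᵀ * G₂ * (b : Matrix (Fin k) (Fin k) F).map σ = μ • G₂) ∧
    ∃ μ : F, (a : Matrix (Fin d) (Fin d) F)ᵀ * G₁ * (a : Matrix (Fin d) (Fin d) F).map σ = μ • G₁ := by
  refine kron_factor ?_ h₁ h₂
  have h3 : (g₀ : Matrix (Fin d × Fin k) (Fin d × Fin k) F).map σ =
      (a : Matrix (Fin d) (Fin d) F).map σ ⊗ₖ (b : Matrix (Fin k) (Fin k) F).map σ := by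
    ext x y
    simp [hab]
  conv_rhs => rw [← hgram, ← coordGram_invariant h e P hg, hgram, h3, hab]
  rw [Matrix.mul_kronecker_mul, Matrix.mul_kronecker_mul, Matrix.kroneckerMap_transpose]

theorem gramMatrix_matForm (σ : F ≃+* F) {n : ℕ} (G : Matrix (Fin n) (Fin n) F) :
    Geo.gramMatrix (matForm σ.toRingHom G) = G :=
  Matrix.ext fun _ _ => matForm_single_one σ G _ _

theorem RefForm.tensorFormStructure (h : RefForm σ ε f) (hgram : coordGram f e P = G₁ ⊗ₖ G₂) :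
    Geo.IsTensorFormStructure σ f (matForm σ.toRingHom G₁) (matForm σ.toRingHom G₂) e P := by
  refine ⟨1, one_ne_zero, fun x y => ?_⟩
  rw [gramMatrix_matForm, gramMatrix_matForm, one_mul, ← hgram, formOfGram_eq_matForm]
  exact coordForm_eq h e P x y

theorem RefForm.tensorPowerFormStructure (h : RefForm σ ε f) {m t : ℕ} {e : ι ≃ (Fin t → Fin m)}
    {G : Matrix (Fin m) (Fin m) F} {c : F} (hc : c ≠ 0)
    (hgram : coordGram f e P = c • pureMat (fun _ : Fin t => G)) :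
    Geo.IsTensorPowerFormStructure σ f (matForm σ.toRingHom G) e P := by
  refine ⟨c, hc, fun x y => ?_⟩
  show coordForm f e P x y = _
  rw [coordForm_eq h, hgram, matForm_smul]
  congr 1
  simp only [matForm, dotProduct, Matrix.mulVec, Finset.mul_sum, pureMat_apply, gramMatrix_matForm,
    Function.comp_apply, mul_assoc]
  rfl

end Form

/-- A symmetric two-dimensional factor: two totally singular subspaces or a field of degree two. -/
theorem RefForm.symmetric_two_factor [Fintype F] [Nonempty ι] {ε : F} {f : (ι → F) → (ι → F) → F}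
    (h : RefForm (RingEquiv.refl F) ε f) (h2 : (2 : F) ≠ 0) {H : Subgroup (GL ι F)} (hirr : Irr H)
    (hH : H ≤ preserving (glToMat ι F) f) {d : ℕ} (e : ι ≃ Fin d × Fin 2) (P : GL ι F)
    {G₁ : Matrix (Fin d) (Fin d) F} {G₂ : Matrix (Fin 2) (Fin 2) F} (h₁ : G₁ ≠ 0) (hd₂ : G₂.det ≠ 0)
    (hsymm : G₂ᵀ = G₂) (hgram : coordGram f e P = G₁ ⊗ₖ G₂)
    (hle : H ≤ Geo.tensorProductSubgroup d 2 e P) :
    (∃ (k : ℕ) (D : Fin 2 → Submodule F (ι → F)), 2 * k = Fintype.card ι ∧ Geo.IsMDecomposition k D ∧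
      (∀ i, Geo.IsTotallySingularFor f (D i)) ∧ H ≤ Geo.decompositionStabilizer D) ∨
    (∃ K : Subalgebra F (Matrix ι ι F), Geo.IsFieldSubalgebra 2 K ∧ Geo.IsAdjointClosedFor f K ∧
      ¬ Geo.IsSelfAdjointFor f K ∧ H ≤ Geo.subalgebraNormalizer K) := by
  have hu : IsUnit G₂.det := isUnit_iff_ne_zero.2 hd₂
  have hTi : (G₂⁻¹)ᵀ = G₂⁻¹ := by rw [Matrix.transpose_nonsing_inv, hsymm]
  set J₀ := G₂⁻¹ * eps with hJ₀
  have hepsT : (eps : Matrix (Fin 2) (Fin 2) F)ᵀ = -eps := by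
    ext i j; fin_cases i <;> fin_cases j <;> simp [eps]
  have heps2 : (eps : Matrix (Fin 2) (Fin 2) F) * eps = -1 := by
    ext i j; fin_cases i <;> fin_cases j <;> simp [eps, Matrix.mul_apply, Fin.sum_univ_two]
  have hJJ : J₀ * J₀ = (-(G₂⁻¹).det) • (1 : Matrix (Fin 2) (Fin 2) F) := by
    have h3 := transpose_mul_eps_mul (G₂⁻¹)
    rw [hTi] at h3
    rw [hJ₀, ← mul_assoc, h3, smul_mul_assoc, heps2, smul_neg, neg_smul]
  have hdi : (-(G₂⁻¹).det) ≠ 0 := neg_ne_zero.2 (Matrix.isUnit_nonsing_inv_det _ hu).ne_zero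
  set J := coordEquiv e P ((1 : Matrix (Fin d) (Fin d) F) ⊗ₖ J₀) with hJ
  have hJ2 : J * J = (-(G₂⁻¹).det) • 1 := by
    rw [hJ, ← map_mul, ← Matrix.mul_kronecker_mul, one_mul, hJJ, Matrix.kronecker_smul,
      Matrix.one_kronecker_one, map_smul, map_one]
  have hadj : h.adj J = -J := by
    rw [hJ, ← map_neg]
    refine h.adj_coord e P ?_
    rw [hgram, RingEquiv.coe_refl, Matrix.map_id, Matrix.transpose_neg, ← Matrix.kroneckerMap_transpose,
      Matrix.transpose_one, neg_mul, ← Matrix.mul_kronecker_mul, ← Matrix.mul_kronecker_mul, one_mul, mul_one,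
      hJ₀, Matrix.transpose_mul, hTi, mul_assoc, Matrix.nonsing_inv_mul _ hu, mul_one, hepsT,
      Matrix.mul_nonsing_inv_cancel_left _ _ hu]
    ext x y
    simp
  refine h.skew_sqrt h2 hirr hdi hJ2 hadj fun g hg => ?_
  obtain ⟨g₀, a, b, rfl, hab⟩ := exists_of_mem_tensorProductSubgroup (hle hg)
  have hG₂ : G₂ ≠ 0 := fun h0 => hd₂ (by rw [h0, Matrix.det_zero])
  obtain ⟨⟨μ, hμ⟩, -⟩ := h.tensor_similitude hgram h₁ hG₂ (hH hg) hab
  rw [RingEquiv.coe_refl, Matrix.map_id] at hμ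
  have hb : (b : Matrix (Fin 2) (Fin 2) F).det ≠ 0 := (b.isUnit.map Matrix.detMonoidHom).ne_zero
  set c := μ / (b : Matrix (Fin 2) (Fin 2) F).det
  have hbT : IsUnit ((b : Matrix (Fin 2) (Fin 2) F)ᵀ * G₂).det := isUnit_iff_ne_zero.2 (by
    rw [Matrix.det_mul, Matrix.det_transpose]; exact mul_ne_zero hb hd₂)
  have hcomm : (b : Matrix (Fin 2) (Fin 2) F) * J₀ = c • (J₀ * (b : Matrix (Fin 2) (Fin 2) F)) := by
    refine ((Matrix.isUnit_iff_isUnit_det _).2 hbT).mul_left_cancel ?_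
    calc (b : Matrix (Fin 2) (Fin 2) F)ᵀ * G₂ * ((b : Matrix (Fin 2) (Fin 2) F) * J₀)
        = (b : Matrix (Fin 2) (Fin 2) F)ᵀ * G₂ * (b : Matrix (Fin 2) (Fin 2) F) * J₀ := by rw [mul_assoc _ (b : Matrix (Fin 2) (Fin 2) F)]
      _ = μ • eps := by
        rw [hμ, smul_mul_assoc, hJ₀, Matrix.mul_nonsing_inv_cancel_left _ _ hu]
      _ = c • ((b : Matrix (Fin 2) (Fin 2) F)ᵀ * eps * (b : Matrix (Fin 2) (Fin 2) F)) := by
        rw [transpose_mul_eps_mul, smul_smul, div_mul_cancel₀ _ hb]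
      _ = (b : Matrix (Fin 2) (Fin 2) F)ᵀ * G₂ * (c • (J₀ * (b : Matrix (Fin 2) (Fin 2) F))) := by
        rw [mul_smul_comm, hJ₀, mul_assoc _ G₂, mul_assoc G₂⁻¹, Matrix.mul_nonsing_inv_cancel_left _ _ hu]
        simp only [mul_assoc]
  have hg2 : coordEquiv e P (g₀ : Matrix (Fin d × Fin 2) (Fin d × Fin 2) F) * J =
      c • (J * coordEquiv e P (g₀ : Matrix (Fin d × Fin 2) (Fin d × Fin 2) F)) := by
    rw [hJ, ← map_mul, ← map_mul, hab, ← Matrix.mul_kronecker_mul, ← Matrix.mul_kronecker_mul, hcomm,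
      Matrix.kronecker_smul, one_mul, mul_one, map_smul]
  refine ⟨c, ?_⟩
  rw [show (coordGL e P g₀ : Matrix ι ι F) = coordEquiv e P (g₀ : Matrix _ _ F) from coordGL_val e P g₀, hg2,
    smul_mul_assoc, mul_assoc, show coordEquiv e P (g₀ : Matrix (Fin d × Fin 2) (Fin d × Fin 2) F) =
      (coordGL e P g₀ : Matrix ι ι F) from rfl, Units.mul_inv, mul_one]

/-- Characteristic two: alternating tensor factors give a quadratic form. -/
theorem RefForm.exists_quad_tensor [Fintype F] {ε : F} {f : (ι → F) → (ι → F) → F}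
    (h : RefForm (RingEquiv.refl F) ε f) (h2 : (2 : F) = 0) {H : Subgroup (GL ι F)}
    (hH : H ≤ preserving (glToMat ι F) f) {d k : ℕ} (e : ι ≃ Fin d × Fin k) (P : GL ι F)
    {G₁ : Matrix (Fin d) (Fin d) F} {G₂ : Matrix (Fin k) (Fin k) F} (hd₁ : G₁.det ≠ 0)
    (hs₁ : G₁ᵀ = G₁) (hs₂ : G₂ᵀ = G₂) (hz₁ : ∀ a, G₁ a a = 0) (hz₂ : ∀ p, G₂ p p = 0)
    (hgram : coordGram f e P = G₁ ⊗ₖ G₂) (hle : H ≤ Geo.tensorProductSubgroup d k e P) :
    ∃ Q : (ι → F) → F, Geo.IsNondegenerateQuadraticForm Q ∧ (∀ u v, QuadraticMap.polar Q u v = f u v) ∧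
      ∀ g ∈ H, ∀ v, Q ((g : Matrix ι ι F) *ᵥ v) = Q v := by
  have hneg : ∀ x : F, -x = x := fun x => by linear_combination -(x * h2)
  have halt : ∀ u, matForm id G₁ u u = 0 :=
    (matForm_symplectic hd₁ (by rw [hs₁]; exact Matrix.ext fun i j => (hneg _).symm) hz₁).alternating
  obtain ⟨Q, hQ, hpol, hQ0⟩ := exists_quad_of_alternating (A := G₁ ⊗ₖ G₂)
    (by rw [← Matrix.kroneckerMap_transpose, hs₁, hs₂]) fun x => by simp [hz₁]
  have hpf : ∀ u v, QuadraticMap.polar Q u v = coordForm f e P u v := fun u v => by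
    rw [coordForm_eq h, hpol, hgram]; rfl
  obtain ⟨Q', hQ', hpol', hfix⟩ := h.exists_quad_coord e P hQ hpf
  refine ⟨Q', hQ', hpol', fun g hg => ?_⟩
  obtain ⟨g₀, a, b, rfl, hab⟩ := exists_of_mem_tensorProductSubgroup (hle hg)
  refine hfix g₀ fun x => hQ.fixed (fun u v => ?_) (fun y => ?_) x
  · rw [hpf, hpf]
    show f _ _ = f _ _
    rw [← coordGL_mulVec, ← coordGL_mulVec, RefForm.mem_isometry.1 (hH hg)]
  obtain ⟨a₀, p₀⟩ := y
  rw [hQ0]
  let v : Fin k → (Fin d × Fin k → F) := fun p => fun z => if z.2 = p then (a : Matrix (Fin d) (Fin d) F) z.1 a₀ else 0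
  have hcol : (g₀ : Matrix (Fin d × Fin k) (Fin d × Fin k) F) *ᵥ Pi.single (a₀, p₀) 1 =
      ∑ p, (b : Matrix (Fin k) (Fin k) F) p p₀ • v p := by
    funext z
    simp [v, hab, mul_comm, Finset.sum_apply]
  have hv : ∀ p, v p = ∑ i, (a : Matrix (Fin d) (Fin d) F) i a₀ • (Pi.single (i, p) 1 : Fin d × Fin k → F) := by
    intro p
    funext z
    obtain ⟨z₁, z₂⟩ := z
    by_cases hz : z₂ = p
    · subst hz
      simp [v, Finset.sum_apply, Pi.single_apply]
    · simp [v, Finset.sum_apply, Pi.single_apply, hz]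
  rw [hcol]
  refine hQ.sum_eq_zero _ _ _ (fun p _ => ?_) (fun p _ p' _ => ?_)
  · rw [hv]
    refine hQ.sum_eq_zero _ _ _ (fun i _ => hQ0 _) (fun i _ j _ => ?_)
    rw [hpol, show matForm id (G₁ ⊗ₖ G₂) = matForm (RingEquiv.refl F).toRingHom (G₁ ⊗ₖ G₂) from rfl,
      matForm_single_one]
    simp [hz₂]
  · rw [hpol, show matForm id (G₁ ⊗ₖ G₂) (v p) (v p') =
      G₂ p p' * matForm id G₁ (fun i => (a : Matrix (Fin d) (Fin d) F) i a₀)
        (fun i => (a : Matrix (Fin d) (Fin d) F) i a₀) from ?_, halt, mul_zero]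
    simp only [matForm, dotProduct, Matrix.mulVec, Function.id_comp, Fintype.sum_prod_type, v,
      Matrix.kroneckerMap_apply, Finset.mul_sum, ite_mul, mul_ite, zero_mul, mul_zero, Finset.sum_ite_eq',
      Finset.mem_univ, if_true, Finset.sum_comm (γ := Fin k)]
    exact Finset.sum_congr rfl fun i _ => Finset.sum_congr rfl fun j _ => by ring

end Cfsg.Agent.Aschbacher
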