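import Cfsg.Agent.Lib.Aschbacher.MinusType
import Cfsg.Agent.Lib.Aschbacher.ClassTwo

/-!
A class-two normal subgroup of a group of isometries of a bilinear form is a 2-group.
-/

set_option autoImplicit false
set_option linter.unusedSectionVars false

namespace Cfsg.Agent.Aschbacher

open Matrix
open scoped MatrixGroups

variable {ι : Type} [Fintype ι] [DecidableEq ι] {F : Type*} [Field F]

theorem eq_scalar_of_smul_one_eq [Nonempty ι] {a b : F} (h : a • (1 : Matrix ι ι F) = b • 1) : a = b := by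
  obtain ⟨i⟩ := ‹Nonempty ι›
  simpa using congrFun (congrFun h i) i

theorem RefForm.scalar_isometry [Nonempty ι] {ε : F} {f : (ι → F) → (ι → F) → F}
    (h : RefForm (RingEquiv.refl F) ε f) {x : GL ι F} (hx : x ∈ preserving (glToMat ι F) f) {a : F}
    (ha : (x : Matrix ι ι F) = a • 1) : a * a = 1 := by
  obtain ⟨i⟩ := ‹Nonempty ι›
  obtain ⟨u, hu⟩ := (h.nondeg (Pi.single i 1) (by simp)).2
  have h1 := RefForm.mem_isometry.1 hx (Pi.single i 1) u
  simp only [ha, Matrix.smul_mulVec, Matrix.one_mulVec, h.sesq.smul_left, h.sesq.smul_right] at h1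
  refine mul_right_cancel₀ hu (Eq.trans ?_ (one_mul _).symm)
  have h2 : a * (a * f (Pi.single i 1) u) = f (Pi.single i 1) u := h1
  linear_combination h2

/-- What class two means inside the isometries of a bilinear form. -/
structure BilinearClassTwo (H M : Subgroup (GL ι F)) (k : ℕ) : Prop where
  two_ne : (2 : F) ≠ 0
  n_ne : (Fintype.card ι : F) ≠ 0
  sign : ∀ x ∈ M, x ∈ Geo.scalars ι F → (x : Matrix ι ι F) = 1 ∨ (x : Matrix ι ι F) = -1
  dim : Fintype.card ι = 2 ^ k
  card : Nat.card M = 2 ^ (1 + 2 * k)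
  centre : Nat.card (Subgroup.center M) = 2
  scalar_card : Nat.card ((Geo.scalars ι F).subgroupOf M) = 2
  sympType : Geo.IsSymplecticTypeGroup 2 M

theorem ClassTwo.bilinear [Fintype F] [Nonempty ι] {ε : F} {f : (ι → F) → (ι → F) → F}
    (h : RefForm (RingEquiv.refl F) ε f) {H M : Subgroup (GL ι F)} (hc : ClassTwo H M)
    (hH : H ≤ preserving (glToMat ι F) f) : ∃ k, BilinearClassTwo H M k := by
  classical
  obtain ⟨r, hrp, hr⟩ := hc.exists_prime
  obtain ⟨W, ω, hW, hWω, hω⟩ := hc.exists_root hrp hr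
  obtain rfl : r = 2 := (Nat.prime_dvd_prime_iff_eq hrp Nat.prime_two).1
    (hω.dvd_of_pow_eq_one 2 (by rw [pow_two]; exact h.scalar_isometry (hH (hc.le hW)) hWω))
  have : NeZero 2 := ⟨two_ne_zero⟩
  have h2 : (2 : F) ≠ 0 := by exact_mod_cast hω.neZero'.ne
  have hω1 : ω = -1 := hω.eq_neg_one_of_two_right
  have hsign : ∀ x ∈ M, x ∈ Geo.scalars ι F → (x : Matrix ι ι F) = 1 ∨ (x : Matrix ι ι F) = -1 := by
    intro x hx hxs
    obtain ⟨c, hc'⟩ := (Geo.mem_scalars_iff x).1 hxs
    rcases mul_self_eq_one_iff.1 (h.scalar_isometry (hH (hc.le hx)) hc') with h1 | h1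
    · exact Or.inl (by rw [hc', h1, one_smul])
    · exact Or.inr (by rw [hc', h1, neg_one_smul])
  have hW' : (W : Matrix ι ι F) = -1 := by rw [hWω, hω1, neg_one_smul]
  have hpow4 : ∀ x ∈ M, x ^ 4 = 1 := by
    intro x hx
    refine Units.ext ?_
    rw [show 4 = 2 * 2 from rfl, pow_mul, Units.val_pow_eq_pow_val, Units.val_one]
    rcases hsign _ (M.pow_mem hx 2) (hr x hx) with h1 | h1 <;> simp [h1]
  set S := (Geo.scalars ι F).subgroupOf M with hS
  have hSc : Nat.card S = 2 := by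
    have hWs : (⟨W, hW⟩ : M) ∈ S := mem_scalars_of_smul_one hWω
    refine Nat.card_eq_two_iff.2 ⟨1, ⟨⟨W, hW⟩, hWs⟩, fun h0 => ?_, Set.eq_univ_iff_forall.2 fun x => ?_⟩
    · have h1 : (1 : Matrix ι ι F) = -1 := by
        rw [← hW']; exact congrArg (fun z : S => ((z : M) : GL ι F).val) h0
      refine h2 ?_
      have h3 := eq_scalar_of_smul_one_eq (a := (1 : F)) (b := -1) (ι := ι)
        (by rw [one_smul, neg_one_smul]; exact h1)
      linear_combination h3
    · rcases hsign _ x.1.2 x.2 with h1 | h1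
      · exact Or.inl (Subtype.ext (Subtype.ext (Units.ext h1)))
      · exact Or.inr (Subtype.ext (Subtype.ext (Units.ext (h1.trans hW'.symm))))
  obtain ⟨hn0, hcard⟩ := card_of_traceless hc.absIrr fun x hx hxs => hc.trace_eq_zero hx hxs
  rw [← hS, hSc] at hcard
  have hpg : IsPGroup 2 M := fun x => ⟨2, Subtype.ext (by
    rw [SubgroupClass.coe_pow, OneMemClass.coe_one]; exact hpow4 x x.2)⟩
  obtain ⟨a, ha⟩ := IsPGroup.iff_card.1 hpg
  obtain ⟨k, -, hk⟩ := (Nat.dvd_prime_pow Nat.prime_two).1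
    (show Fintype.card ι ∣ 2 ^ a from ⟨Fintype.card ι * 2, by rw [← ha, hcard]; ring⟩)
  have hcenter : Subgroup.center M = S := by
    refine le_antisymm (fun x hx => hc.absIrr.scalar_of_comm fun y hy =>
      (congrArg Subtype.val (Subgroup.mem_center_iff.1 hx ⟨y, hy⟩)).symm) fun x hx => ?_
    exact Subgroup.mem_center_iff.2 fun y => Subtype.ext (scalar_comm hx (y : GL ι F)).symm
  refine ⟨k, h2, hn0, hsign, hk, ?_, by rw [hcenter, hSc], hSc, ⟨Nat.prime_two, hpg, fun A hA hAc => ?_, ?_⟩⟩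
  · rw [hcard, hk]; ring
  · have hle : A ≤ S := by
      let A' : Subgroup (GL ι F) := A.map M.subtype
      have hA'H : A' ≤ H := (Subgroup.map_subtype_le A).trans hc.le
      have hA'n : NormalIn H A' := by
        intro g hg x hx
        obtain ⟨a', ha', rfl⟩ := hx
        let φ : M ≃* M :=
          { toFun := fun z => ⟨g * z * g⁻¹, hc.normal g hg z z.2⟩
            invFun := fun z => ⟨g⁻¹ * z * g, by simpa using hc.normal g⁻¹ (H.inv_mem hg) z z.2⟩
            left_inv := fun z => Subtype.ext (by simp [mul_assoc])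
            right_inv := fun z => Subtype.ext (by simp [mul_assoc])
            map_mul' := fun z w => Subtype.ext (by simp [mul_assoc]) }
        refine ⟨φ a', ?_, rfl⟩
        rw [← hA.fixed φ] at ha'
        exact ha'
      have hab : Abelian A' := by
        rintro g ⟨a', ha', rfl⟩ g' ⟨b', hb', rfl⟩
        exact congrArg (fun z : A => ((z : M) : GL ι F)) (mul_comm' (⟨a', ha'⟩ : A) ⟨b', hb'⟩)
      have hsc : A' ≤ Geo.scalars ι F := by
        by_contra hns
        exact hns ((hc.all_absIrr A' hA'H hA'n hns).le_scalars_of_abelian hab)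
      exact fun x hx => hsc ⟨x, hx, rfl⟩
    have : Fact (Nat.Prime 2) := ⟨Nat.prime_two⟩
    have : IsCyclic S := isCyclic_of_prime_card hSc
    exact isCyclic_of_injective (Subgroup.inclusion hle) (Subgroup.inclusion_injective _)
  · have hdvd : Monoid.exponent M ∣ 2 ^ 2 := Monoid.exponent_dvd_of_forall_pow_eq_one fun x =>
      Subtype.ext (by simpa using hpow4 x x.2)
    obtain ⟨j, hj, hje⟩ := (Nat.dvd_prime_pow Nat.prime_two).1 hdvd
    rw [hje, show Nat.gcd 2 2 = 2 from Nat.gcd_self 2]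
    interval_cases j
    · exfalso
      obtain ⟨x, hx, y, hy, hxy⟩ := hc.exists_noncomm
      have h1 := Monoid.pow_exponent_eq_one (⟨x, hx⟩ : M)
      rw [hje, pow_zero, pow_one] at h1
      exact hxy (by rw [show x = 1 from congrArg Subtype.val h1, one_mul, mul_one])
    · exfalso
      obtain ⟨x, hx, y, hy, hxy⟩ := hc.exists_noncomm
      have hall : ∀ z : M, z * z = 1 := fun z => by
        have h1 := Monoid.pow_exponent_eq_one z
        rwa [hje, pow_one, pow_two] at h1
      refine hxy (congrArg Subtype.val (?_ : (⟨x, hx⟩ : M) * ⟨y, hy⟩ = ⟨y, hy⟩ * ⟨x, hx⟩))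
      have hinv : ∀ z : M, z⁻¹ = z := fun z => inv_eq_of_mul_eq_one_right (hall z)
      calc (⟨x, hx⟩ : M) * ⟨y, hy⟩ = ((⟨x, hx⟩ : M) * ⟨y, hy⟩)⁻¹ := (hinv _).symm
        _ = _ := by rw [_root_.mul_inv_rev, hinv, hinv]
    · rfl

/-- Traces of a bilinear class-two group lie in the prime field. -/
theorem ClassTwo.realisable_prime [Fintype F] [Nonempty ι] {H M : Subgroup (GL ι F)} (hc : ClassTwo H M)
    {k : ℕ} (hb : BilinearClassTwo H M k) :
    (∃ F₁ : Subfield F, F₁ ≠ ⊤ ∧ Geo.RealisableOver F₁ (Geo.matrixSet M)) ∨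
      ∃ p : ℕ, p.Prime ∧ Odd p ∧ Fintype.card F = p := by
  obtain ⟨p, hpC⟩ := CharP.exists F
  have := hpC
  obtain ⟨e, hpp, hcard⟩ := FiniteField.card F p
  have : Fact p.Prime := ⟨hpp⟩
  by_cases he : (e : ℕ) = 1
  · refine Or.inr ⟨p, hpp, hpp.odd_of_ne_two fun hp2 => hb.two_ne ?_, by rw [hcard, he, pow_one]⟩
    subst hp2
    exact_mod_cast CharP.cast_eq_zero F 2
  refine Or.inl ⟨fixedOf (frob p 1), fixedOf_ne_top fun h0 => ?_, ?_⟩
  · obtain ⟨a, ha⟩ := exists_pow_ne_self (F := F) p one_pos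
      (hcard ▸ Nat.pow_lt_pow_right hpp.one_lt (by have := e.pos; omega))
    exact ha (by simpa [frob_apply] using RingEquiv.congr_fun h0 a)
  refine hc.absIrr.realisable_of_trace (frob p 1) (fun x hx => ?_) fun a ha => ha
  by_cases hs : x ∈ Geo.scalars ι F
  · rcases hb.sign x hx hs with h1 | h1 <;> simp [h1, Matrix.trace_neg, Matrix.trace_one]
  · rw [hc.trace_eq_zero hx hs, map_zero]

/-- A bilinear class-two group is of minus type when the form is alternating. -/
theorem ClassTwo.minusType [Fintype F] [Nonempty ι] {ε : F} {f : (ι → F) → (ι → F) → F}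
    (h : RefForm (RingEquiv.refl F) ε f) (halt : ∀ v, f v v = 0) {H M : Subgroup (GL ι F)}
    (hc : ClassTwo H M) (hH : H ≤ preserving (glToMat ι F) f) {k : ℕ} (hb : BilinearClassTwo H M k) :
    Geo.IsOfMinusType k M := by
  intro A hA hsq
  let A' : Subgroup (GL ι F) := A.map M.subtype
  have hA'M : A' ≤ M := Subgroup.map_subtype_le A
  have hcard : Nat.card A' = Nat.card A :=
    Nat.card_congr (A.equivMapOfInjective _ M.subtype_injective).toEquiv.symm
  have h1 := h.card_involutions_le halt hb.two_ne (A := A') (hA'M.trans (hc.le.trans hH)) hb.n_ne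
    (by
      rintro _ ⟨x, hx, rfl⟩ _ ⟨y, hy, rfl⟩
      exact congrArg (fun z : A => ((z : M) : GL ι F)) (hA.is_comm.comm ⟨x, hx⟩ ⟨y, hy⟩))
    (by rintro _ ⟨x, hx, rfl⟩; exact congrArg Subtype.val (hsq x hx))
    (fun x hx hxs => hc.trace_eq_zero (hA'M hx) hxs)
    (by
      refine (Nat.card_le_card_of_injective
        (fun z : (Geo.scalars ι F).subgroupOf A' =>
          (⟨⟨z.1.1, hA'M z.1.2⟩, z.2⟩ : (Geo.scalars ι F).subgroupOf M)) ?_).trans hb.scalar_card.le
      intro x y hxy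
      exact Subtype.ext (Subtype.ext (congrArg (fun z : (Geo.scalars ι F).subgroupOf M => ((z : M) : GL ι F)) hxy)))
  rw [hcard, hb.dim] at h1
  calc Nat.card A ≤ 2 ^ k := h1
    _ < 2 ^ (k + 1) := Nat.pow_lt_pow_right one_lt_two (Nat.lt_succ_self k)

end Cfsg.Agent.Aschbacher
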