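import Cfsg.Agent.Lib.Aschbacher.TensorNormal
import Cfsg.Agent.Lib.Aschbacher.Common
import Cfsg.Agent.Lib.GL.Simple

/-!
`SL` lies in no stabiliser of a decomposition, of a tensor decomposition, of a tensor square, and in no
normaliser of a group of symplectic type; dimensions attached to the geometric data.
-/

set_option autoImplicit false

namespace Cfsg.Agent.Aschbacher

open Matrix
open scoped MatrixGroups Kronecker commutatorElement

variable {F : Type*} [Field F] {ι : Type} [Fintype ι] [DecidableEq ι]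

theorem specialLinear_eq_range :
    Geo.specialLinear ι F = (Matrix.SpecialLinearGroup.toGL (n := ι) (R := F)).range := by
  ext g
  refine ⟨fun hg => ⟨⟨g, det_eq_one hg⟩, Units.ext rfl⟩, ?_⟩
  rintro ⟨s, rfl⟩
  exact Units.ext s.2

theorem specialLinear_perfect (hι : 3 ≤ Fintype.card ι) :
    ⁅Geo.specialLinear ι F, Geo.specialLinear ι F⁆ = Geo.specialLinear ι F := by
  have h := GL.SL_commutator_eq_top_of_three_le (ι := ι) (F := F) hι
  rw [commutator_def] at h
  rw [specialLinear_eq_range, MonoidHom.range_eq_map, ← Subgroup.map_commutator, h]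

/-- A set of matrices with a common invariant subspace, stable under conjugation by `SL`, is scalar. -/
theorem scalar_of_invariant (S : Set (Matrix ι ι F)) {W : Submodule F (ι → F)} (hW0 : W ≠ ⊥)
    (hW1 : W ≠ ⊤) (hS : ∀ x ∈ S, ∀ w ∈ W, x *ᵥ w ∈ W)
    (hconj : ∀ g ∈ Geo.specialLinear ι F, ∀ x ∈ S,
      (g : Matrix ι ι F) * x * ((g⁻¹ : GL ι F) : Matrix ι ι F) ∈ S) :
    ∀ x ∈ S, ∃ c : F, x = c • 1 := by
  classical
  have htr : ∀ g ∈ Geo.specialLinear ι F, ∀ x ∈ S, ∀ u, (g : Matrix ι ι F) *ᵥ u ∈ W →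
      (g : Matrix ι ι F) *ᵥ (x *ᵥ u) ∈ W := by
    intro g hg x hx u hu
    have h := hS _ (hconj g hg x hx) _ hu
    rwa [← Matrix.mulVec_mulVec, ← Matrix.mulVec_mulVec, inv_mulVec] at h
  obtain ⟨z, -, hz⟩ := SetLike.exists_of_lt (lt_top_iff_ne_top.2 hW1)
  obtain ⟨v, hv, hv0⟩ := (Submodule.ne_bot_iff W).1 hW0
  have heigW : ∀ u ∈ W, u ≠ 0 → ∀ x ∈ S, x *ᵥ u ∈ Submodule.span F {u} := by
    intro u hu _ x hx
    by_contra hne
    set u' := x *ᵥ u with hu'
    have hu'W : u' ∈ W := hS x hx u hu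
    have hu'U : u' ∉ Submodule.span F {u, z} := by
      intro h
      obtain ⟨a, b, hab⟩ := Submodule.mem_span_pair.1 h
      refine hne (Submodule.mem_span_singleton.2 ⟨a, ?_⟩)
      have hb : b = 0 := by
        by_contra hb
        refine hz ((Submodule.smul_mem_iff _ hb).1 ?_)
        rw [← add_sub_cancel_left (a • u) (b • z), hab]
        exact W.sub_mem hu'W (W.smul_mem a hu)
      rw [hb, zero_smul, add_zero] at hab
      exact hab
    obtain ⟨g, φ, hg, hgu, hφU, hφw⟩ :=
      exists_transvection (U := Submodule.span F {u, z}) (z := z) (Submodule.subset_span (by simp)) hu'U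
    have h1 := htr g hg x hx u (by
      rw [hgu, hφU u (Submodule.subset_span (by simp)), zero_smul, add_zero]; exact hu)
    rw [hgu, hφw, one_smul] at h1
    exact hz (by simpa [hu'] using W.sub_mem h1 hu'W)
  have heig : ∀ u, u ≠ 0 → ∀ x ∈ S, x *ᵥ u ∈ Submodule.span F {u} := by
    intro u hu x hx
    by_cases huW : u ∈ W
    · exact heigW u huW hu x hx
    have hnot : u ∉ Submodule.span F {v - u} := by
      intro h
      obtain ⟨c, hc⟩ := Submodule.mem_span_singleton.1 h
      rcases eq_or_ne c 0 with rfl | hc0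
      · exact hu (by simpa using hc.symm)
      · refine huW ?_
        have hcv : c • v = (1 + c) • u := by
          rw [add_smul, one_smul]
          conv_rhs => arg 1; rw [← hc]
          rw [smul_sub, sub_add_cancel]
        rcases eq_or_ne (1 + c) 0 with h1 | h1
        · rw [h1, zero_smul, smul_eq_zero] at hcv
          exact absurd (hcv.resolve_left hc0) hv0
        · exact (Submodule.smul_mem_iff _ h1).1 (hcv ▸ W.smul_mem c hv)
    obtain ⟨g, φ, hg, hgu, -, hφw⟩ := exists_transvection (Submodule.mem_span_singleton_self (v - u)) hnot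
    have hgu' : (g : Matrix ι ι F) *ᵥ u = v := by rw [hgu, hφw, one_smul, add_sub_cancel]
    have h1 := heigW v hv hv0 _ (hconj g hg x hx)
    rw [← Matrix.mulVec_mulVec, ← Matrix.mulVec_mulVec] at h1
    rw [← hgu', inv_mulVec] at h1
    obtain ⟨c, hc⟩ := Submodule.mem_span_singleton.1 h1
    refine Submodule.mem_span_singleton.2 ⟨c, mulVec_injective g ?_⟩
    show (g : Matrix ι ι F) *ᵥ (c • u) = _
    rw [Matrix.mulVec_smul, hc]
  intro x hx
  rcases isEmpty_or_nonempty ι with he | ⟨⟨i₀⟩⟩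
  · exact ⟨0, Matrix.ext fun i => he.elim i⟩
  choose c hc using fun i => Submodule.mem_span_singleton.1
    (heig (Pi.single i 1) (fun h => by simpa using congrFun h i) x hx)
  refine ⟨c i₀, Matrix.ext fun j i => ?_⟩
  have hji := congrFun (hc i) j
  simp only [Pi.smul_apply, smul_eq_mul, Matrix.mulVec_single_one, Matrix.col_apply] at hji
  rw [← hji, Matrix.smul_apply, Matrix.one_apply, smul_eq_mul]
  by_cases hij : j = i
  · subst hij
    simp only [Pi.single_eq_same, mul_one, if_true]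
    by_cases hj : j = i₀
    · rw [hj]
    have hne : (Pi.single j (1 : F) : ι → F) + Pi.single i₀ 1 ≠ 0 := fun h => by
      simpa [hj] using congrFun h j
    obtain ⟨d, hd⟩ := Submodule.mem_span_singleton.1 (heig _ hne x hx)
    rw [Matrix.mulVec_add, ← hc j, ← hc i₀] at hd
    have h1 := congrFun hd j
    have h2 := congrFun hd i₀
    simp [hj, Ne.symm hj] at h1 h2
    exact h1.symm.trans h2
  · simp [hij]

theorem specialLinear_not_le_decompositionStabilizer {t m : ℕ} {D : Fin t → Submodule F (ι → F)}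
    (hD : Geo.IsMDecomposition m D) : ¬ Geo.specialLinear ι F ≤ Geo.decompositionStabilizer D := by
  intro hle
  have h2 := hD.two_le
  have hD0 : ∀ i, D i ≠ ⊥ := fun i h => by
    have := hD.finrank_eq i
    rw [h, finrank_bot] at this
    exact hD.pos.ne this
  set i : Fin t := ⟨0, by omega⟩
  set j : Fin t := ⟨1, by omega⟩
  have hij : i ≠ j := by simp [i, j]
  obtain ⟨w, hw, hw0⟩ := (Submodule.ne_bot_iff _).1 (hD0 i)
  obtain ⟨z, hz, hz0⟩ := (Submodule.ne_bot_iff _).1 (hD0 j)
  have hdis : Disjoint (D i) (D j) := hD.indep.pairwiseDisjoint hij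
  have hwj : w ∉ D j := fun h => hw0 ((Submodule.mem_bot F).1 (hdis.eq_bot ▸ ⟨hw, h⟩))
  obtain ⟨g, φ, hg, hgu, -, hφw⟩ := exists_transvection hz hwj
  obtain ⟨σ, hσ⟩ := hle hg
  have h1 : w + z ∈ D (σ i) := by
    rw [← hσ i]
    refine Submodule.mem_map.2 ⟨w, hw, ?_⟩
    rw [Matrix.toLin'_apply, hgu, hφw, one_smul]
  by_cases hki : σ i = i
  · rw [hki] at h1
    have hzi : z ∈ D i := by simpa using (D i).sub_mem h1 hw
    exact hz0 ((Submodule.mem_bot F).1 (hdis.eq_bot ▸ ⟨hzi, hz⟩))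
  · by_cases hkj : σ i = j
    · rw [hkj] at h1
      exact hwj (by simpa using (D j).sub_mem h1 hz)
    · have h3 : w + z ∈ ⨆ (l) (_ : l ≠ σ i), D l :=
        Submodule.add_mem _ (Submodule.mem_iSup_of_mem i (Submodule.mem_iSup_of_mem (Ne.symm hki) hw))
          (Submodule.mem_iSup_of_mem j (Submodule.mem_iSup_of_mem (Ne.symm hkj) hz))
      have h4 : w + z ∈ (⊥ : Submodule F (ι → F)) := (hD.indep (σ i)).le_bot ⟨h1, h3⟩
      rw [Submodule.mem_bot] at h4
      exact hwj (by rw [eq_neg_of_add_eq_zero_left h4]; exact (D j).neg_mem hz)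

theorem specialLinear_not_le_tensorProductSubgroup {m k : ℕ} (hm : 2 ≤ m) (hk : 2 ≤ k)
    (e : ι ≃ Fin m × Fin k) (P : GL ι F) :
    ¬ Geo.specialLinear ι F ≤ Geo.tensorProductSubgroup m k e P := by
  intro hle
  have : NeZero m := ⟨by omega⟩
  have : NeZero k := ⟨by omega⟩
  let W : Submodule F (ι → F) :=
    { carrier := {v | ∀ i, (e i).2 ≠ 0 → (((P⁻¹ : GL ι F) : Matrix ι ι F) *ᵥ v) i = 0}
      zero_mem' := fun i _ => by simp
      add_mem' := fun {u v} hu hv i hi => by rw [Matrix.mulVec_add, Pi.add_apply, hu i hi, hv i hi, add_zero]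
      smul_mem' := fun c v hv i hi => by rw [Matrix.mulVec_smul, Pi.smul_apply, hv i hi, smul_zero] }
  let one : Fin k := ⟨1, by omega⟩
  have hone : one ≠ 0 := fun h => by simpa [one] using congrArg Fin.val h
  have hcoord : ∀ (A : Matrix (Fin m) (Fin m) F) (v : ι → F),
      ((P⁻¹ : GL ι F) : Matrix ι ι F) *ᵥ (coordEquiv e P (kronOne m k A) *ᵥ v) =
        (kronOne m k A).submatrix e e *ᵥ (((P⁻¹ : GL ι F) : Matrix ι ι F) *ᵥ v) := fun A v => by
    rw [coordEquiv_apply, ← Matrix.mulVec_mulVec, ← Matrix.mulVec_mulVec, inv_mulVec]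
  have h := scalar_of_invariant (Set.range fun A => coordEquiv e P (kronOne m k A)) (W := W) ?_ ?_ ?_ ?_ _
    ⟨Matrix.single 0 0 1, rfl⟩
  · obtain ⟨c, hc⟩ := h
    have h1 : coordEquiv e P (kronOne m k (Matrix.single 0 0 1)) = coordEquiv e P (c • 1) := by
      rw [map_smul, map_one]; exact hc
    have h2 := (coordEquiv e P).injective h1
    let oneM : Fin m := ⟨1, by omega⟩
    have hM : oneM ≠ 0 := fun h => by simpa [oneM] using congrArg Fin.val h
    have e1 := congrFun (congrFun h2 (0, 0)) (0, 0)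
    have e2 := congrFun (congrFun h2 (oneM, 0)) (oneM, 0)
    simp [kronOne, Matrix.single, Ne.symm hM] at e1 e2
    rw [← e2] at e1
    exact one_ne_zero e1
  · intro hbot
    have hmem : (P : Matrix ι ι F) *ᵥ Pi.single (e.symm (0, 0)) 1 ∈ W := fun i hi => by
      rw [inv_mulVec, Pi.single_eq_of_ne]
      rintro rfl
      simp at hi
    rw [hbot, Submodule.mem_bot, mulVec_eq_zero_iff] at hmem
    simpa using congrFun hmem (e.symm (0, 0))
  · intro htop
    have hmem : (P : Matrix ι ι F) *ᵥ Pi.single (e.symm (0, one)) 1 ∈ W := htop ▸ Submodule.mem_top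
    have := hmem (e.symm (0, one)) (by simpa using hone)
    rw [inv_mulVec] at this
    simp at this
  · rintro _ ⟨A, rfl⟩ v hv i hi
    rw [hcoord]
    show ∑ j, _ * _ = 0
    refine Finset.sum_eq_zero fun j _ => ?_
    by_cases hj : (e j).2 = 0
    · simp [kronOne, hj, hi]
    · rw [hv j hj, mul_zero]
  · rintro g hg _ ⟨A, rfl⟩
    obtain ⟨_, ⟨s, ⟨a, b, hab⟩, rfl⟩, hs⟩ := hle hg
    refine ⟨(a : Matrix (Fin m) (Fin m) F) * A * ((a⁻¹ : GL (Fin m) F) : Matrix (Fin m) (Fin m) F), ?_⟩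
    have hg' : g = coordGL e P s := by rw [coordGL_eq]; exact hs.symm
    have hinv : ((s⁻¹ : GL (Fin m × Fin k) F) : Matrix (Fin m × Fin k) (Fin m × Fin k) F) =
        ((a⁻¹ : GL (Fin m) F) : Matrix (Fin m) (Fin m) F) ⊗ₖ
          ((b⁻¹ : GL (Fin k) F) : Matrix (Fin k) (Fin k) F) := by
      refine Units.inv_eq_of_mul_eq_one_right ?_
      rw [hab, ← Matrix.mul_kronecker_mul, Units.mul_inv, Units.mul_inv, Matrix.one_kronecker_one]
    show coordEquiv e P _ = _
    rw [hg', ← map_inv, coordGL_val, coordGL_val, ← map_mul, ← map_mul]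
    congr 1
    show _ ⊗ₖ (1 : Matrix (Fin k) (Fin k) F) = _ * (A ⊗ₖ 1) * _
    rw [hab, hinv, ← Matrix.mul_kronecker_mul, ← Matrix.mul_kronecker_mul, mul_one, Units.mul_inv]

theorem permGL_mul {m t : ℕ} (σ σ' : Equiv.Perm (Fin t)) :
    (permGL (σ * σ') : GL (Fin t → Fin m) F) = permGL σ * permGL σ' := by
  refine Units.ext (Matrix.ext fun x y => ?_)
  simp only [permGL, Units.val_mul, Matrix.mul_apply, Matrix.of_apply, ite_mul, one_mul, zero_mul,
    Finset.sum_ite_eq', Finset.mem_univ, if_true]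
  rfl

/-- The pure tensors form a normal subgroup of the tensor square with abelian quotient. -/
theorem commutator_wreath_two_le {m : ℕ} :
    ⁅Geo.tensorWreathStandard m 2 F, Geo.tensorWreathStandard m 2 F⁆ ≤ (pureGL (m := m) (t := 2) (F := F)).range := by
  classical
  set B := (pureGL (m := m) (t := 2) (F := F)).range with hB
  -- every element is a pure tensor times a permutation of the factors
  have hperm : ∀ (σ : Equiv.Perm (Fin 2)) (p : GL (Fin 2 → Fin m) F), p ∈ B →
      permGL σ * p * (permGL σ)⁻¹ ∈ B := by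
    rintro σ _ ⟨s, rfl⟩
    refine ⟨fun i => s (σ.symm i), Units.ext (Matrix.ext fun x w => ?_)⟩
    have h1 : ∀ z : Fin 2 → Fin m, w = z ∘ σ.symm ↔ z = w ∘ σ := fun z => by
      constructor <;> rintro rfl <;> funext j <;> simp
    simp only [permGL, Units.inv_mk, Units.val_mul, Matrix.mul_apply, Matrix.of_apply, ite_mul, one_mul,
      zero_mul, Finset.sum_ite_eq', Finset.mem_univ, if_true, mul_ite, mul_one, mul_zero, h1]
    show ∏ i, ((s (σ.symm i) : GL (Fin m) F) : Matrix (Fin m) (Fin m) F) (x i) (w i) =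
      ∏ i, ((s i : GL (Fin m) F) : Matrix (Fin m) (Fin m) F) ((x ∘ σ) i) ((w ∘ σ) i)
    exact (Fintype.prod_equiv σ _ _ fun i => by simp).symm
  let K : Subgroup (GL (Fin 2 → Fin m) F) :=
    { carrier := {g | ∃ p ∈ B, ∃ σ, g = p * permGL σ}
      one_mem' := ⟨1, B.one_mem, 1, by rw [one_mul]; exact Units.ext (Matrix.ext fun x y => by
        simp [permGL, Matrix.one_apply, eq_comm])⟩
      mul_mem' := by
        rintro _ _ ⟨p, hp, σ, rfl⟩ ⟨p', hp', σ', rfl⟩
        refine ⟨p * (permGL σ * p' * (permGL σ)⁻¹), B.mul_mem hp (hperm σ p' hp'), σ * σ', ?_⟩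
        rw [permGL_mul]
        group
      inv_mem' := by
        rintro _ ⟨p, hp, σ, rfl⟩
        have hinv : (permGL σ : GL (Fin 2 → Fin m) F)⁻¹ = permGL σ.symm := Units.ext rfl
        refine ⟨permGL σ.symm * p⁻¹ * (permGL σ.symm)⁻¹, hperm _ _ (B.inv_mem hp), σ.symm, ?_⟩
        rw [_root_.mul_inv_rev, hinv]
        group }
  have hle : Geo.tensorWreathStandard m 2 F ≤ K := by
    refine (Subgroup.closure_le _).2 ?_
    rintro g (⟨gs, hgs⟩ | ⟨σ, hσ⟩)
    · refine ⟨pureGL gs, ⟨gs, rfl⟩, 1, ?_⟩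
      rw [show permGL (m := m) (F := F) (1 : Equiv.Perm (Fin 2)) = 1 from Units.ext (Matrix.ext fun x y => by
        simp [permGL, Matrix.one_apply, eq_comm]), mul_one]
      exact Units.ext (Matrix.ext hgs)
    · exact ⟨1, B.one_mem, σ, by rw [one_mul]; exact Units.ext (Matrix.ext hσ)⟩
  refine Subgroup.commutator_le.2 fun a ha b hb => ?_
  obtain ⟨p, hp, σ, rfl⟩ := hle ha
  obtain ⟨p', hp', σ', rfl⟩ := hle hb
  have hmul : ∀ σ σ' : Equiv.Perm (Fin 2), permGL (m := m) (F := F) σ * permGL σ' = permGL σ' * permGL σ := by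
    intro σ σ'
    have h : σ * σ' = σ' * σ := by revert σ σ'; decide
    rw [← permGL_mul, ← permGL_mul, h]
  rw [commutatorElement_def, _root_.mul_inv_rev, _root_.mul_inv_rev,
    show p * permGL σ * (p' * permGL σ') * ((permGL σ)⁻¹ * p⁻¹) * ((permGL σ')⁻¹ * p'⁻¹) =
      p * (permGL σ * p' * (permGL σ)⁻¹) * ((permGL σ * permGL σ' * (permGL σ)⁻¹) * p⁻¹ * (permGL σ')⁻¹) *
        p'⁻¹ by group, hmul σ σ', mul_inv_cancel_right]
  exact B.mul_mem (B.mul_mem (B.mul_mem hp (hperm σ p' hp')) (hperm σ' _ (B.inv_mem hp))) (B.inv_mem hp')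

theorem specialLinear_not_le_tensorSquare {m : ℕ} (hm : 2 ≤ m) (hι : 3 ≤ Fintype.card ι)
    (e : ι ≃ (Fin 2 → Fin m)) (P : GL ι F) :
    ¬ Geo.specialLinear ι F ≤ Geo.tensorWreathSubgroup m 2 e P := by
  intro hle
  refine specialLinear_not_le_tensorProductSubgroup hm hm (e.trans (finTwoArrowEquiv (Fin m))) P ?_
  rw [← specialLinear_perfect hι]
  refine (Subgroup.commutator_mono hle hle).trans ?_
  unfold Geo.tensorWreathSubgroup
  rw [← Subgroup.map_commutator, ← Subgroup.map_commutator]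
  refine (Subgroup.map_mono (Subgroup.map_mono commutator_wreath_two_le)).trans ?_
  rintro _ ⟨_, ⟨_, ⟨s, rfl⟩, rfl⟩, rfl⟩
  refine ⟨_, ⟨Geo.glReindex (finTwoArrowEquiv (Fin m)) (pureGL s), ⟨s 0, s 1, ?_⟩, rfl⟩, congrArg _ (Units.ext ?_)⟩
  · ext ⟨p, q⟩ ⟨p', q'⟩
    show pureMat _ ((finTwoArrowEquiv (Fin m)).symm (p, q)) ((finTwoArrowEquiv (Fin m)).symm (p', q')) = _
    simp [pureMat_apply, Fin.prod_univ_two]
  · ext i j
    simp [Geo.glReindex]
    congr 1

/-- `SL` does not normalise an absolutely irreducible group that is abelian modulo scalars. -/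
theorem specialLinear_not_le_normalizer (hι : 5 ≤ Fintype.card ι) {R : Subgroup (GL ι F)} (hR : AbsIrr R)
    (hns : ¬ R ≤ Geo.scalars ι F) (hcl : ∀ x ∈ R, ∀ y ∈ R, x * y * x⁻¹ * y⁻¹ ∈ Geo.scalars ι F) :
    ¬ Geo.specialLinear ι F ≤ Geo.subgroupNormalizer R := by
  intro hle
  obtain ⟨x, hx, hxs⟩ := SetLike.not_le_iff_exists.1 hns
  have hι0 : Nonempty ι := Fintype.card_pos_iff.1 (by omega)
  obtain ⟨v, hv⟩ : ∃ v, (x : Matrix ι ι F) *ᵥ v ∉ Submodule.span F {v} := by
    by_contra hcon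
    push Not at hcon
    obtain ⟨i₀⟩ := hι0
    choose c hc using fun u => Submodule.mem_span_singleton.1 (hcon u)
    refine hxs (mem_scalars_of_smul_one (c := c (Pi.single i₀ 1)) (Matrix.ext fun j i => ?_))
    have hji := congrFun (hc (Pi.single i 1)) j
    simp only [Pi.smul_apply, smul_eq_mul, Matrix.mulVec_single_one, Matrix.col_apply] at hji
    rw [← hji, Matrix.smul_apply, Matrix.one_apply, smul_eq_mul]
    by_cases hij : j = i
    · subst hij
      simp only [Pi.single_eq_same, mul_one, if_true]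
      by_cases hj : j = i₀
      · rw [hj]
      have hd := hc (Pi.single j (1 : F) + Pi.single i₀ 1)
      rw [Matrix.mulVec_add, ← hc (Pi.single j 1), ← hc (Pi.single i₀ 1)] at hd
      have h1 := congrFun hd j
      have h2 := congrFun hd i₀
      simp [hj, Ne.symm hj] at h1 h2
      exact h1.symm.trans h2
    · simp [hij]
  obtain ⟨g, φ, hg, hgu, hφU, hφw⟩ := exists_transvection (Submodule.mem_span_singleton_self v) hv
  set c := g * x * g⁻¹ * x⁻¹ with hc
  have hcR : c ∈ R :=
    R.mul_mem ((Subgroup.mem_normalizer_iff.1 (hle hg) x).1 hx) (R.inv_mem hx)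
  -- `c` fixes a subspace of codimension two
  let U : Submodule F (ι → F) := LinearMap.ker (φ.prod (φ.comp (Matrix.toLin' ((x⁻¹ : GL ι F) : Matrix ι ι F))))
  have hU : Fintype.card ι ≤ Module.finrank F U + 2 := by
    have h1 := LinearMap.finrank_range_add_finrank_ker
      (φ.prod (φ.comp (Matrix.toLin' ((x⁻¹ : GL ι F) : Matrix ι ι F))))
    have h2 := Submodule.finrank_le
      (LinearMap.range (φ.prod (φ.comp (Matrix.toLin' ((x⁻¹ : GL ι F) : Matrix ι ι F)))))
    rw [Module.finrank_prod, Module.finrank_self] at h2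
    rw [Module.finrank_fintype_fun_eq_card] at h1
    show _ ≤ Module.finrank F (LinearMap.ker _) + 2
    omega
  have hfix : ∀ u ∈ U, (c : Matrix ι ι F) *ᵥ u = u := by
    intro u hu
    obtain ⟨h1, h2⟩ := Prod.mk.inj (LinearMap.mem_ker.1 hu)
    change φ u = 0 at h1
    change φ (((x⁻¹ : GL ι F) : Matrix ι ι F) *ᵥ u) = 0 at h2
    have hg' : ∀ w, φ w = 0 → ((g⁻¹ : GL ι F) : Matrix ι ι F) *ᵥ w = w := fun w hw => by
      conv_lhs => rw [show w = (g : Matrix ι ι F) *ᵥ w by rw [hgu, hw, zero_smul, add_zero]]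
      exact inv_mulVec g w
    rw [hc, mulVec_mul, mulVec_mul, mulVec_mul, hg' _ h2, mulVec_inv, hgu, h1, zero_smul, add_zero]
  have hU0 : U ≠ ⊥ := fun h => by rw [h, finrank_bot] at hU; omega
  by_cases hcs : c ∈ Geo.scalars ι F
  · obtain ⟨a, ha⟩ := (Geo.mem_scalars_iff c).1 hcs
    obtain ⟨u, hu, hu0⟩ := (Submodule.ne_bot_iff U).1 hU0
    have h1 := hfix u hu
    rw [ha, Matrix.smul_mulVec, Matrix.one_mulVec] at h1
    have ha1 : (a : F) = 1 := by
      by_contra hne
      refine hu0 ((smul_eq_zero.1 (show ((a : F) - 1) • u = 0 by rw [sub_smul, one_smul, h1, sub_self])).resolve_left ?_)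
      exact sub_ne_zero.2 hne
    have hc1 : c = 1 := Units.ext (by rw [ha, ha1, one_smul, Units.val_one])
    have hcomm : g * x = x * g := by
      rw [hc, mul_inv_eq_one, mul_inv_eq_iff_eq_mul] at hc1
      exact hc1
    -- but `g` moves `x v`
    have h2 := congrArg (fun h : GL ι F => (h : Matrix ι ι F) *ᵥ v) hcomm
    simp only [mulVec_mul] at h2
    rw [hgu, hgu, hφw, hφU v (Submodule.mem_span_singleton_self v), zero_smul, add_zero, one_smul,
      add_eq_left] at h2
    exact hv (by rw [h2, Matrix.mulVec_zero]; exact Submodule.zero_mem _)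
  · obtain ⟨y, hy, hcy⟩ : ∃ y ∈ R, c * y ≠ y * c := by
      by_contra hcon
      push Not at hcon
      exact hcs (hR.scalar_of_comm hcon)
    obtain ⟨a, ha⟩ := (Geo.mem_scalars_iff _).1 (hcl c hcR y hy)
    have ha1 : (a : F) ≠ 1 := fun h1 => hcy <| by
      have : c * y * c⁻¹ * y⁻¹ = 1 := Units.ext (by rw [ha, h1, one_smul, Units.val_one])
      rwa [mul_inv_eq_one, mul_inv_eq_iff_eq_mul] at this
    have hdis : U ⊓ translate y U = ⊥ := eq_bot_iff.2 fun u hu => by
      obtain ⟨hu1, hu2⟩ := hu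
      obtain ⟨w, hw, rfl⟩ := mem_translate.1 hu2
      have h1 := hfix _ hu1
      have h2 : (c : Matrix ι ι F) * (y : Matrix ι ι F) = (a : F) • ((y : Matrix ι ι F) * (c : Matrix ι ι F)) := by
        rw [← Units.val_mul, ← Units.val_mul, show c * y = c * y * c⁻¹ * y⁻¹ * (y * c) by group, Units.val_mul,
          ha, smul_mul_assoc, one_mul]
      rw [Matrix.mulVec_mulVec, h2, Matrix.smul_mulVec, ← Matrix.mulVec_mulVec, hfix w hw] at h1
      rw [Submodule.mem_bot]
      refine (smul_eq_zero.1 (show ((a : F) - 1) • ((y : Matrix ι ι F) *ᵥ w) = 0 by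
        rw [sub_smul, one_smul, h1, sub_self])).resolve_left (sub_ne_zero.2 ha1)
    have h3 := Submodule.finrank_sup_add_finrank_inf_eq U (translate y U)
    rw [hdis, finrank_bot, add_zero, finrank_translate] at h3
    have h4 := Submodule.finrank_le (U ⊔ translate y U)
    rw [Module.finrank_fintype_fun_eq_card] at h4
    omega

/-! ### Dimensions -/

omit [DecidableEq ι] in
theorem card_eq_of_isMDecomposition {t m : ℕ} {D : Fin t → Submodule F (ι → F)}
    (hD : Geo.IsMDecomposition m D) : Fintype.card ι = t * m := by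
  have hI : DirectSum.IsInternal D :=
    DirectSum.isInternal_submodule_of_iSupIndep_of_iSup_eq_top hD.indep hD.iSup_eq_top
  have h := (LinearEquiv.ofBijective (DirectSum.coeLinearMap D) hI).finrank_eq
  rw [Module.finrank_directSum, Module.finrank_fintype_fun_eq_card] at h
  simp [← h, hD.finrank_eq]

theorem dvd_card_of_isFieldSubalgebra {r : ℕ} {K : Subalgebra F (Matrix ι ι F)}
    (hK : Geo.IsFieldSubalgebra r K) : r ∣ Fintype.card ι := by
  classical
  let S : Set (Submodule F (ι → F)) :=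
    {U | (∀ k ∈ K, ∀ u ∈ U, k *ᵥ u ∈ U) ∧ r ∣ Module.finrank F U}
  obtain ⟨U, ⟨hU, hUd⟩, hUmax⟩ := wellFounded_gt.has_min S
    ⟨⊥, fun k _ u hu => by rw [(Submodule.mem_bot F).1 hu, Matrix.mulVec_zero]; exact Submodule.zero_mem _, by simp⟩
  by_cases htop : U = ⊤
  · subst htop
    simpa [Module.finrank_fintype_fun_eq_card] using hUd
  exfalso
  obtain ⟨v, -, hv⟩ := SetLike.exists_of_lt (lt_top_iff_ne_top.2 htop)
  let L : K →ₗ[F] (ι → F) :=
    { toFun := fun k => (k : Matrix ι ι F) *ᵥ v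
      map_add' := fun a b => by simp [Matrix.add_mulVec]
      map_smul' := fun c a => by simp [Matrix.smul_mulVec] }
  have hkey : ∀ k : K, L k ∈ U → k = 0 := by
    intro k hk
    by_contra hne
    obtain ⟨l, hl, hkl⟩ := hK.inv k k.2 fun h => hne (Subtype.ext h)
    have := hU l hl _ hk
    show False
    rw [show L k = (k : Matrix ι ι F) *ᵥ v from rfl, Matrix.mulVec_mulVec, ← hK.comm _ k.2 _ hl, hkl,
      Matrix.one_mulVec] at this
    exact hv this
  have hLinj : Function.Injective L := (injective_iff_map_eq_zero L).2 fun k hk => hkey k (hk ▸ U.zero_mem)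
  have hinf : U ⊓ LinearMap.range L = ⊥ := eq_bot_iff.2 fun u hu => by
    obtain ⟨hu1, k, rfl⟩ := hu
    rw [hkey k hu1, map_zero]
    exact Submodule.zero_mem _
  have hlt : U < U ⊔ LinearMap.range L := lt_of_le_of_ne le_sup_left fun he => hv <| by
    rw [he]
    exact Submodule.mem_sup_right ⟨⟨1, K.one_mem⟩, by simp [L]⟩
  refine hUmax _ ⟨fun k hk w hw => ?_, ?_⟩ hlt
  · obtain ⟨u, hu, w', ⟨l, rfl⟩, rfl⟩ := Submodule.mem_sup.1 hw
    rw [Matrix.mulVec_add]
    exact Submodule.add_mem_sup (hU k hk u hu)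
      ⟨⟨k * l, K.mul_mem hk l.2⟩, by simp [L, Matrix.mulVec_mulVec]⟩
  · have h := Submodule.finrank_sup_add_finrank_inf_eq U (LinearMap.range L)
    rw [hinf, finrank_bot, add_zero, LinearMap.finrank_range_of_inj hLinj] at h
    rw [h]
    have hfr : Module.finrank F K = r := hK.finrank_eq
    rw [hfr]
    exact dvd_add hUd dvd_rfl

end Cfsg.Agent.Aschbacher
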