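import Cfsg.Agent.Lib.Aschbacher.FormGram
import Cfsg.Agent.Lib.Aschbacher.FieldInvolution
import Cfsg.Agent.Lib.Aschbacher.NonContainment
import Cfsg.Agent.Lib.Aschbacher.FieldNorm

/-!
Clifford theory with a form: a normal subgroup of an irreducible group of isometries is scalar, absolutely
irreducible, or gives a decomposition, a field or a tensor decomposition compatible with the form.
-/

set_option autoImplicit false
set_option linter.unusedSectionVars false

namespace Cfsg.Agent.Aschbacher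

open Matrix
open scoped MatrixGroups Kronecker

variable {ι : Type} [Fintype ι] [DecidableEq ι] {F : Type*} [Field F]

/-- The ranges of orthogonal idempotents permuted by an irreducible group. -/
theorem decomp_of_idempotents {H : Subgroup (GL ι F)} (hH : Irr H) {t : ℕ} (ht : 2 ≤ t)
    (E : Fin t → Matrix ι ι F) (hidem : ∀ i, E i * E i = E i) (horth : ∀ i j, i ≠ j → E i * E j = 0)
    (hsum : ∑ i, E i = 1) (hne : ∀ i, E i ≠ 0)
    (hperm : ∀ h ∈ H, ∀ i, ∃ j, (h : Matrix ι ι F) * E i * ((h⁻¹ : GL ι F) : Matrix ι ι F) = E j) :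
    let D : Fin t → Submodule F (ι → F) := fun i => LinearMap.range (Matrix.toLin' (E i))
    ∃ m, Geo.IsMDecomposition m D ∧ H ≤ Geo.decompositionStabilizer D ∧
      ∀ i j, ∃ g ∈ H, translate g (D i) = D j := by
  classical
  intro D
  choose σ hσ using hperm
  have hinj : ∀ h hh, Function.Injective (σ h hh) := by
    intro h hh i j hij
    by_contra hne'
    have h1 := (hσ h hh i).trans ((congrArg E hij).trans (hσ h hh j).symm)
    have h2 : E i = E j := by
      have := congrArg (fun M => ((h⁻¹ : GL ι F) : Matrix ι ι F) * M * (h : Matrix ι ι F)) h1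
      simpa [mul_assoc] using this
    exact hne i (by rw [← hidem i]; exact (congrArg (E i * ·) h2).trans (horth i j hne'))
  have hDfix : ∀ i, ∀ v ∈ D i, E i *ᵥ v = v := by
    rintro i _ ⟨u, rfl⟩
    rw [Matrix.toLin'_apply, Matrix.mulVec_mulVec, hidem]
  have hDker : ∀ i j, j ≠ i → D j ≤ LinearMap.ker (Matrix.toLin' (E i)) := by
    rintro i j hji _ ⟨u, rfl⟩
    rw [LinearMap.mem_ker, Matrix.toLin'_apply, Matrix.toLin'_apply, Matrix.mulVec_mulVec,
      horth i j hji.symm, Matrix.zero_mulVec]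
  have hmap : ∀ h hh i, translate h (D i) = D (σ h hh i) := by
    intro h hh i
    show Submodule.map _ _ = LinearMap.range _
    rw [← LinearMap.range_comp, ← Matrix.toLin'_mul, ← hσ h hh i]
    conv_rhs => rw [Matrix.toLin'_mul, LinearMap.range_comp_of_range_eq_top _ (by
      rw [LinearMap.range_eq_top]
      exact fun v => ⟨(h : Matrix ι ι F) *ᵥ v, by rw [Matrix.toLin'_apply, inv_mulVec]⟩)]
  have hindep : iSupIndep D := fun i => by
    rw [disjoint_iff, eq_bot_iff]
    rintro v ⟨hv, hv'⟩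
    have h1 : E i *ᵥ v = 0 := (iSup₂_le fun j hj => hDker i j hj : _ ≤ LinearMap.ker _) hv'
    rw [hDfix i v hv] at h1
    exact (Submodule.mem_bot F).2 h1
  have htop : iSup D = ⊤ := eq_top_iff.2 fun v _ => by
    rw [show v = ∑ i, E i *ᵥ v by rw [← Matrix.sum_mulVec, hsum, Matrix.one_mulVec]]
    exact Submodule.sum_mem _ fun i _ => Submodule.mem_iSup_of_mem i ⟨v, rfl⟩
  have hD0 : ∀ i, D i ≠ ⊥ := fun i h => hne i (Matrix.ext_of_mulVec_single fun k => by
    have : E i *ᵥ Pi.single k 1 ∈ D i := ⟨_, rfl⟩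
    rw [h, Submodule.mem_bot] at this
    rw [this, Matrix.zero_mulVec])
  have horbit : ∀ i₀ i, ∃ h hh, σ h hh i₀ = i := by
    intro i₀ i
    by_contra hcon
    push Not at hcon
    let U := ⨆ (h) (hh : h ∈ H), D (σ h hh i₀)
    have hU : Invariant H U := by
      intro g hg v hv
      have h1 : U ≤ U.comap (Matrix.toLin' (g : Matrix ι ι F)) := by
        refine iSup₂_le fun h hh u hu => ?_
        have h2 : (g : Matrix ι ι F) *ᵥ u ∈ translate (g * h) (D i₀) := by
          rw [← hmap h hh] at hu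
          obtain ⟨w, hw, rfl⟩ := mem_translate.1 hu
          exact mem_translate.2 ⟨w, hw, mulVec_mul g h w⟩
        rw [hmap _ (H.mul_mem hg hh)] at h2
        exact Submodule.mem_iSup_of_mem _ (Submodule.mem_iSup_of_mem _ h2)
      simpa using h1 hv
    rcases irr_iff.1 hH U hU with h0 | h1
    · exact hD0 (σ 1 H.one_mem i₀) (eq_bot_iff.2 ((le_iSup₂_of_le 1 H.one_mem le_rfl).trans h0.le))
    · refine hD0 i ((hindep i).eq_bot_of_le ?_)
      refine le_top.trans (h1.ge.trans (iSup₂_le fun h hh => ?_))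
      exact le_iSup₂_of_le _ (hcon h hh) le_rfl
  refine ⟨Module.finrank F (D ⟨0, by omega⟩), ⟨ht, ?_, fun i => ?_, hindep, htop⟩,
    fun h hh => ⟨Equiv.ofBijective _ (Finite.injective_iff_bijective.1 (hinj h hh)), hmap h hh⟩, fun i j => ?_⟩
  · exact Nat.pos_of_ne_zero fun h => hD0 _ (Submodule.finrank_eq_zero.1 h)
  · obtain ⟨h, hh, rfl⟩ := horbit ⟨0, by omega⟩ i
    rw [← hmap, finrank_translate]
  · obtain ⟨h, hh, rfl⟩ := horbit i j
    exact ⟨h, hh, hmap h hh i⟩

/-- The outcomes of Clifford theory with a form. -/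
inductive FormClifford {σ : F ≃+* F} {ε : F} {f : (ι → F) → (ι → F) → F} (h : RefForm σ ε f)
    [Fintype F] (H N : Subgroup (GL ι F)) : Prop
  | scalar (hN : N ≤ Geo.scalars ι F)
  | absIrr (hN : AbsIrr N)
  | orth (t m : ℕ) (D : Fin t → Submodule F (ι → F)) (hD : Geo.IsNondegenerateMDecomposition f m D)
      (hle : H ≤ Geo.decompositionStabilizer D) (htrans : ∀ i j, ∃ g ∈ H, translate g (D i) = D j)
  | pair (k : ℕ) (D : Fin 2 → Submodule F (ι → F)) (hk : 2 * k = Fintype.card ι)
      (hD : Geo.IsMDecomposition k D) (hts : ∀ i, Geo.IsTotallySingularFor f (D i))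
      (hle : H ≤ Geo.decompositionStabilizer D)
  | selfAdjointField (r : ℕ) (K : Subalgebra F (Matrix ι ι F)) (hσ : σ = RingEquiv.refl F) (hr : r.Prime)
      (hK : Geo.IsFieldSubalgebra r K) (hle : H ≤ Geo.subalgebraNormalizer K)
      (hsa : ∀ z ∈ K, h.adj z = z) (hnot : r = Fintype.card ι → ∀ x ∈ N, h.adj (x : Matrix ι ι F) =
        (x : Matrix ι ι F) ∧ (x : Matrix ι ι F) ∈ K) (hns : ¬ N ≤ Geo.scalars ι F)
  | twistedField (K : Subalgebra F (Matrix ι ι F)) (hσ : σ = RingEquiv.refl F)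
      (hK : Geo.IsFieldSubalgebra 2 K) (hle : H ≤ Geo.subalgebraNormalizer K)
      (hadj : ∀ z ∈ K, h.adj z = z ^ Fintype.card F)
  | unitaryField (r : ℕ) (K : Subalgebra F (Matrix ι ι F)) (hσ : σ ≠ RingEquiv.refl F) (hr : r.Prime)
      (hrodd : Odd r) (hK : Geo.IsFieldSubalgebra r K) (hle : H ≤ Geo.subalgebraNormalizer K)
      (hadj : ∀ z ∈ K, h.adj z ∈ K)
  | tensor (d k : ℕ) (e : ι ≃ Fin d × Fin k) (P : GL ι F) (hd : 2 ≤ d) (hk : 2 ≤ k)
      (G₁ : Matrix (Fin d) (Fin d) F) (G₂ : Matrix (Fin k) (Fin k) F) (l : F)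
      (hG₁ : G₁.det ≠ 0) (hG₂ : G₂.det ≠ 0) (hl : l * σ l = 1) (hherm₁ : (G₁.map σ)ᵀ = l • G₁)
      (hherm₂ : ∀ p q, G₂ q p = ε * l * σ (G₂ p q))
      (N' : Subgroup (GL (Fin d) F)) (hN' : AbsIrr N')
      (hfix : ∀ X ∈ N', (X : Matrix (Fin d) (Fin d) F)ᵀ * G₁ * (X : Matrix (Fin d) (Fin d) F).map σ = G₁)
      (hgram : coordGram f e P = G₁ ⊗ₖ G₂) (hle : H ≤ Geo.tensorProductSubgroup d k e P)

variable {σ : F ≃+* F} {ε : F} {f : (ι → F) → (ι → F) → F}

theorem RefForm.adj_central (h : RefForm σ ε f) {N : Subgroup (GL ι F)}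
    (hN : N ≤ preserving (glToMat ι F) f) {z : Matrix ι ι F} (hz : IsCentralIn N z) :
    IsCentralIn N (h.adj z) := by
  refine ⟨h.adj_mem_algOf hN hz.1, fun a ha => ?_⟩
  rw [← h.adj_adj a, ← h.adj_mul, ← h.adj_mul, hz.2 _ (h.adj_mem_algOf hN ha)]

theorem RefForm.clifford_idempotents [Fintype F] [Nonempty ι] (h : RefForm σ ε f) {H N : Subgroup (GL ι F)}
    (hH : H ≤ preserving (glToMat ι F) f) (hirr : Irr H) (hNH : N ≤ H) (hn : NormalIn H N)
    {t : ℕ} {E : Fin t → Matrix ι ι F} (hE : CentralIdempotents N E) : FormClifford h H N := by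
  classical
  have hN := hNH.trans hH
  choose π hπ using fun i => hE.exists_image (τ := h.adj) (τ' := h.adj)
    (fun _ hz => h.adj_central hN hz) (fun _ hz => h.adj_central hN hz) h.adj_adj h.adj_adj h.adj_zero
    (fun a b ha hb => by rw [hb.2 a ha.1, h.adj_mul]) i
  choose τ hτ using fun (g : GL ι F) (hg : g ∈ H) (i : Fin t) => hE.perm hn hg i
  have hππ : ∀ i, π (π i) = i := fun i => hE.injective (by rw [← hπ, ← hπ, h.adj_adj])
  have hτπ : ∀ g hg i, π (τ g hg i) = τ g hg (π i) := fun g hg i => hE.injective (by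
    rw [← hπ, ← hτ g hg i, ← hτ g hg (π i), h.adj_conj (hH hg), hπ])
  obtain ⟨m, hD, hle, htrans⟩ := decomp_of_idempotents hirr hE.two_le E hE.idem hE.orth hE.sum hE.ne_zero
    fun g hg i => ⟨_, hτ g hg i⟩
  set D : Fin t → Submodule F (ι → F) := fun i => LinearMap.range (Matrix.toLin' (E i))
  -- the pairing is trivial or fixed point free
  have hdich : (∀ i, π i = i) ∨ ∀ i, π i ≠ i := by
    by_contra hcon
    push Not at hcon
    obtain ⟨⟨i, hi⟩, j, hj⟩ := hcon
    obtain ⟨g, hg, hgij⟩ := htrans j i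
    have hji : τ g hg j = i := by
      by_contra hne
      have h1 : translate g (D j) = D (τ g hg j) := by
        show Submodule.map _ _ = LinearMap.range _
        rw [← LinearMap.range_comp, ← Matrix.toLin'_mul, ← hτ g hg j]
        conv_rhs => rw [Matrix.toLin'_mul, LinearMap.range_comp_of_range_eq_top _ (by
          rw [LinearMap.range_eq_top]
          exact fun v => ⟨(g : Matrix ι ι F) *ᵥ v, by rw [Matrix.toLin'_apply, inv_mulVec]⟩)]
      have h2 : D i = D (τ g hg j) := hgij.symm.trans h1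
      have h3 := hD.indep.injective (fun l => fun hl => by
        have := hD.finrank_eq l; rw [hl, finrank_bot] at this; exact hD.pos.ne this) h2
      exact hne h3.symm
    exact hi (by rw [← hji, hτπ, hj])
  rcases hdich with hfix | hfree
  · refine .orth t m D ⟨hD, fun i w hw hw0 => ?_, fun i j hij u hu v hv => ?_⟩ hle htrans
    · obtain ⟨u, rfl⟩ := hw
      rw [Matrix.toLin'_apply] at hw0 ⊢
      have key : ∀ x, f x (E i *ᵥ u) = f (E i *ᵥ x) (E i *ᵥ u) := fun x => by
        conv_lhs => rw [← hE.idem i, ← Matrix.mulVec_mulVec]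
        rw [h.adj_right (E i) x, hπ, hfix]
      obtain ⟨⟨x, hx⟩, -⟩ := h.nondeg _ hw0
      rw [key] at hx
      exact ⟨⟨E i *ᵥ x, ⟨x, rfl⟩, hx⟩, ⟨E i *ᵥ x, ⟨x, rfl⟩, fun h0 => hx (h.eq_zero_comm h0)⟩⟩
    · obtain ⟨u, rfl⟩ := hu
      obtain ⟨v, rfl⟩ := hv
      rw [Matrix.toLin'_apply, Matrix.toLin'_apply, h.adj_right, hπ, hfix, Matrix.mulVec_mulVec,
        hE.orth i j hij, Matrix.zero_mulVec, h.sesq.zero_right]
  · let R : Finset (Fin t) := Finset.univ.filter fun i => i < π i
    have hdec : ∀ i, i ∈ R ∨ π i ∈ R := fun i => by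
      simp only [R, Finset.mem_filter, Finset.mem_univ, true_and, hππ]
      exact lt_or_gt_of_ne (Ne.symm (hfree i))
    have hR : ∀ i ∈ R, π i ∉ R := fun i hi hπi => by
      simp only [R, Finset.mem_filter, Finset.mem_univ, true_and, hππ] at hi hπi
      exact lt_asymm hi hπi
    have hcard : t = 2 * R.card := by
      have h2 : Finset.univ = R ∪ R.image π := by
        ext i
        simp only [Finset.mem_univ, Finset.mem_union, Finset.mem_image, true_iff]
        exact (hdec i).imp id fun hi => ⟨_, hi, hππ i⟩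
      have h3 : Disjoint R (R.image π) := by
        rw [Finset.disjoint_left]
        intro i hi hi'
        obtain ⟨j, hj, rfl⟩ := Finset.mem_image.1 hi'
        exact hR j hj hi
      have h4 := congrArg Finset.card h2
      rw [Finset.card_univ, Fintype.card_fin, Finset.card_union_of_disjoint h3,
        Finset.card_image_of_injective _ (Function.Involutive.injective hππ)] at h4
      omega
    rcases Nat.lt_or_ge R.card 2 with hlt | hge
    · obtain rfl : t = 2 := by have := hE.two_le; omega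
      refine .pair m D ?_ hD (fun i u hu v hv => ?_) hle
      · exact (card_eq_of_isMDecomposition hD).symm
      · obtain ⟨u, rfl⟩ := hu
        obtain ⟨v, rfl⟩ := hv
        rw [Matrix.toLin'_apply, Matrix.toLin'_apply, h.adj_right, hπ, Matrix.mulVec_mulVec,
          hE.orth _ _ (hfree i), Matrix.zero_mulVec, h.sesq.zero_right]
    let e := R.equivFin.symm
    let E' : Fin R.card → Matrix ι ι F := fun r => E (e r : Fin t) + E (π (e r : Fin t))
    have hmemR : ∀ r, ((e r : Fin t)) ∈ R := fun r => (e r).2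
    have hne' : ∀ r s, r ≠ s → (e r : Fin t) ≠ e s ∧ (e r : Fin t) ≠ π (e s) ∧ π (e r) ≠ e s ∧
        π (e r) ≠ π (e s) := fun r s hrs => by
      refine ⟨fun h0 => hrs (e.injective (Subtype.ext h0)), fun h0 => hR _ (hmemR s) (h0 ▸ hmemR r),
        fun h0 => hR _ (hmemR r) (h0 ▸ hmemR s), fun h0 => hrs (e.injective (Subtype.ext ?_))⟩
      exact Function.Involutive.injective hππ h0
    have hidem' : ∀ r, E' r * E' r = E' r := fun r => by
      simp only [E', mul_add, add_mul, hE.idem, hE.orth _ _ (hfree (e r : Fin t)),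
        hE.orth _ _ (hfree (e r : Fin t)).symm, add_zero, zero_add]
    have horth' : ∀ r s, r ≠ s → E' r * E' s = 0 := fun r s hrs => by
      obtain ⟨a, b, c, d⟩ := hne' r s hrs
      simp only [E', mul_add, add_mul, hE.orth _ _ a, hE.orth _ _ b, hE.orth _ _ c, hE.orth _ _ d, add_zero]
    have hperm' : ∀ g ∈ H, ∀ r, ∃ s, (g : Matrix ι ι F) * E' r * ((g⁻¹ : GL ι F) : Matrix ι ι F) = E' s := by
      intro g hg r
      have h1 : (g : Matrix ι ι F) * E' r * ((g⁻¹ : GL ι F) : Matrix ι ι F) =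
          E (τ g hg (e r)) + E (π (τ g hg (e r))) := by
        simp only [E', mul_add, add_mul, hτ g hg, hτπ]
      rcases hdec (τ g hg (e r)) with hi | hi
      · exact ⟨e.symm ⟨_, hi⟩, by rw [h1]; simp [E']⟩
      · exact ⟨e.symm ⟨_, hi⟩, by rw [h1, add_comm]; simp [E', hππ]⟩
    have hsum' : ∑ r, E' r = 1 := by
      rw [← hE.sum, Equiv.sum_comp e (fun i : R => E (i : Fin t) + E (π (i : Fin t))),
        Finset.sum_coe_sort R (fun i => E i + E (π i)), Finset.sum_add_distrib,
        ← Finset.sum_image (f := E) (fun a _ b _ hab => Function.Involutive.injective hππ hab),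
        ← Finset.sum_union (by
          rw [Finset.disjoint_left]
          intro i hi hi'
          obtain ⟨j, hj, rfl⟩ := Finset.mem_image.1 hi'
          exact hR j hj hi)]
      congr 1
      ext i
      simp only [Finset.mem_univ, Finset.mem_union, Finset.mem_image, iff_true]
      exact (hdec i).imp id fun hi => ⟨_, hi, hππ i⟩
    have hnz : ∀ r, E' r ≠ 0 := fun r h0 => hE.ne_zero (e r : Fin t) (by
      have := congrArg (E (e r : Fin t) * ·) h0
      simpa [E', mul_add, hE.idem, hE.orth _ _ (hfree (e r : Fin t)).symm] using this)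
    have hadj' : ∀ r, h.adj (E' r) = E' r := fun r => by
      simp only [E', h.adj_add, hπ, hππ, add_comm]
    obtain ⟨m', hD', hle', htrans'⟩ := decomp_of_idempotents hirr hge E' hidem' horth' hsum' hnz hperm'
    refine .orth R.card m' _ ⟨hD', fun r w hw hw0 => ?_, fun r s hrs u hu v hv => ?_⟩ hle' htrans'
    · obtain ⟨u, rfl⟩ := hw
      rw [Matrix.toLin'_apply] at hw0 ⊢
      have key : ∀ x, f x (E' r *ᵥ u) = f (E' r *ᵥ x) (E' r *ᵥ u) := fun x => by
        conv_lhs => rw [← hidem' r, ← Matrix.mulVec_mulVec]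
        rw [h.adj_right (E' r) x, hadj']
      obtain ⟨⟨x, hx⟩, -⟩ := h.nondeg _ hw0
      rw [key] at hx
      exact ⟨⟨E' r *ᵥ x, ⟨x, rfl⟩, hx⟩, ⟨E' r *ᵥ x, ⟨x, rfl⟩, fun h0 => hx (h.eq_zero_comm h0)⟩⟩
    · obtain ⟨u, rfl⟩ := hu
      obtain ⟨v, rfl⟩ := hv
      rw [Matrix.toLin'_apply, Matrix.toLin'_apply, h.adj_right, hadj', Matrix.mulVec_mulVec,
        horth' r s hrs, Matrix.zero_mulVec, h.sesq.zero_right]

theorem RefForm.clifford_field [Fintype F] [Nonempty ι] (h : RefForm σ ε f) {H N : Subgroup (GL ι F)}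
    (hH : H ≤ preserving (glToMat ι F) f) (hNH : N ≤ H) (hn : NormalIn H N)
    (hns : ¬ N ≤ Geo.scalars ι F) {d : ℕ} {L : Subalgebra F (Matrix ι ι F)} (hd : 2 ≤ d)
    (hL : Geo.IsFieldSubalgebra d L) (hmem : ∀ z, z ∈ L ↔ IsCentralIn N z) : FormClifford h H N := by
  classical
  have hN := hNH.trans hH
  have hpowadj : ∀ (z : Matrix ι ι F) (j : ℕ), h.adj (z ^ j) = h.adj z ^ j := by
    intro z j
    induction j with
    | zero => simp [h.adj_one]
    | succ j ih => rw [pow_succ, h.adj_mul, ih, ← pow_succ']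
  have hθ : FieldInvolution σ L h.adj :=
    ⟨fun z hz => (hmem _).2 (h.adj_central hN ((hmem z).1 hz)), fun a _ b _ => h.adj_add a b,
      fun a ha b hb => by rw [hL.comm a ha b hb, h.adj_mul], fun c => by rw [h.adj_smul, h.adj_one],
      fun z _ => h.adj_adj z⟩
  have key : ∀ r, r ∣ d → ∃ K : Subalgebra F (Matrix ι ι F), Geo.IsFieldSubalgebra r K ∧
      H ≤ Geo.subalgebraNormalizer K ∧ (∀ z, z ∈ K ↔ z ∈ L ∧ z ^ Fintype.card F ^ r = z) := by
    intro r hr
    obtain ⟨K, hK, hKmem⟩ := exists_subfield_degree hL hr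
    refine ⟨K, hK, fun g hg => mem_subalgebraNormalizer fun z hz => ?_, hKmem⟩
    obtain ⟨hzL, hzq⟩ := (hKmem z).1 hz
    refine (hKmem _).2 ⟨(hmem _).2 (isCentralIn_conj hn hg ((hmem z).1 hzL)), ?_⟩
    rw [Units.conj_pow, hzq]
  obtain ⟨r, hr, hrd⟩ := Nat.exists_prime_and_dvd (show d ≠ 1 by omega)
  rcases hθ.cases hL with ⟨hσ, hid⟩ | ⟨hσ, hev, hfr⟩ | ⟨hσ, hodd, -⟩
  · obtain ⟨K, hK, hle, hKmem⟩ := key r hrd
    refine .selfAdjointField r K hσ hr hK hle (fun z hz => hid z ((hKmem z).1 hz).1) (fun hrι x hx => ?_) hns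
    -- the algebra of `N` is the field itself
    have hdι := dvd_card_of_isFieldSubalgebra hL
    have hdr : d = Fintype.card ι :=
      Nat.dvd_antisymm hdι (hrι ▸ hrd)
    have hbij := evalAt_bijective (hdr ▸ hL : Geo.IsFieldSubalgebra (Fintype.card ι) L)
      (v := (Pi.single (Classical.arbitrary ι) 1 : ι → F)) (fun h0 => by
        simpa using congrFun h0 (Classical.arbitrary ι))
    have hKL : K = L := Subalgebra.toSubmodule.injective (Submodule.eq_of_le_of_finrank_eq
      (fun z hz => ((hKmem z).1 hz).1) (by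
        rw [Subalgebra.finrank_toSubmodule, Subalgebra.finrank_toSubmodule, hK.finrank_eq, hL.finrank_eq,
          hrι, hdr]))
    suffices hxL : (x : Matrix ι ι F) ∈ L from ⟨hid _ hxL, hKL ▸ hxL⟩
    obtain ⟨z, hz⟩ := hbij.2 ((x : Matrix ι ι F) *ᵥ Pi.single (Classical.arbitrary ι) 1)
    suffices hxz : (x : Matrix ι ι F) = (z : Matrix ι ι F) from hxz ▸ z.2
    refine Matrix.ext_of_mulVec_single fun i => ?_
    obtain ⟨w, hw⟩ := hbij.2 (Pi.single i 1)
    change (z : Matrix ι ι F) *ᵥ _ = _ at hz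
    change (w : Matrix ι ι F) *ᵥ _ = _ at hw
    rw [← hw, Matrix.mulVec_mulVec, Matrix.mulVec_mulVec,
      ((hmem _).1 w.2).2 _ (mem_algOf.2 (mem_spanMat hx)), hL.comm _ z.2 _ w.2, ← Matrix.mulVec_mulVec, ← hz,
      Matrix.mulVec_mulVec]
  · by_cases hd2 : d = 2
    · subst hd2
      obtain ⟨K, hK, hle, hKmem⟩ := key 2 dvd_rfl
      exact .twistedField K hσ hK hle fun z hz => by simpa using hfr z ((hKmem z).1 hz).1
    obtain ⟨m, rfl⟩ := hev
    obtain ⟨r', hr', hr'm⟩ := Nat.exists_prime_and_dvd (show m ≠ 1 by omega)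
    obtain ⟨K, hK, hle, hKmem⟩ := key r' (dvd_add hr'm hr'm)
    refine .selfAdjointField r' K hσ hr' hK hle (fun z hz => ?_) (fun hrι => ?_) hns
    · obtain ⟨hzL, hzq⟩ := (hKmem z).1 hz
      rw [hfr z hzL, show (m + m) / 2 = m by omega]
      obtain ⟨c, rfl⟩ := hr'm
      clear hKmem hr' hd2 hd hL hθ hfr key hrd
      induction c with
      | zero => simp
      | succ c ih => rw [mul_add, mul_one, pow_add, pow_mul, ih, hzq]
    · have h1 := Nat.le_of_dvd Fintype.card_pos (dvd_card_of_isFieldSubalgebra hL)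
      have h2 := Nat.le_of_dvd (by omega) hr'm
      omega
  · obtain ⟨K, hK, hle, hKmem⟩ := key r hrd
    refine .unitaryField r K hσ hr (hodd.of_dvd_nat hrd) hK hle fun z hz => ?_
    obtain ⟨hzL, hzq⟩ := (hKmem z).1 hz
    exact (hKmem _).2 ⟨hθ.mem z hzL, by rw [← hpowadj, hzq]⟩

theorem RefForm.clifford_full [Fintype F] [Nonempty ι] (h : RefForm σ ε f) {H N : Subgroup (GL ι F)}
    (hH : H ≤ preserving (glToMat ι F) f) (hNH : N ≤ H) (hn : NormalIn H N) {d : ℕ}
    {φ : Matrix (Fin d) (Fin d) F →ₐ[F] Matrix ι ι F} (hd : 0 < d) (hφ : Function.Injective φ)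
    (hrange : ∀ M, M ∈ spanMat N ↔ ∃ A, φ A = M) : FormClifford h H N := by
  have : NeZero d := ⟨hd.ne'⟩
  by_cases hd1 : d = 1
  · refine .scalar fun x hx => ?_
    subst hd1
    obtain ⟨A, hA⟩ := (hrange _).1 (mem_spanMat hx)
    refine mem_scalars_of_smul_one (c := A 0 0) ?_
    rw [← hA, show A = A 0 0 • 1 from Matrix.ext fun i j => by
      rw [Fin.fin_one_eq_zero i, Fin.fin_one_eq_zero j]; simp, map_smul, map_one]
    simp
  obtain ⟨k, e, P, hP⟩ := exists_block_coord φ
  have hnk : Fintype.card ι = d * k := by simpa using Fintype.card_congr e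
  have : NeZero k := ⟨fun h0 => by simp [h0] at hnk⟩
  by_cases hk1 : k = 1
  · subst hk1
    refine .absIrr (absIrr_of_spanMat (eq_top_iff.2 fun M _ => (hrange M).2 ?_))
    obtain ⟨X, rfl⟩ := (coordEquiv e P).surjective M
    refine ⟨Matrix.of fun a b => X (a, 0) (b, 0), ?_⟩
    rw [hP]
    congr 1
    ext ⟨a, i⟩ ⟨b, j⟩
    rw [Fin.fin_one_eq_zero i, Fin.fin_one_eq_zero j]
    simp
  have hle : H ≤ Geo.tensorProductSubgroup d k e P := le_tensorProductSubgroup e P fun g hg A => by
    obtain ⟨B, hB⟩ := (hrange _).1 (mem_algOf.1 (conj_mem_algOf hn hg (mem_algOf.2 ((hrange _).2 ⟨A, rfl⟩))))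
    refine ⟨B, ?_⟩
    rw [show coordEquiv e P (kronOne d k A) = φ A from (hP A).symm,
      show coordEquiv e P (kronOne d k B) = φ B from (hP B).symm, hB]
  have hN' : AbsIrr (factorGroup φ N) := absIrr_factorGroup hφ hrange
  obtain ⟨G₁, G₂, l, h1, h2, hl, hh1, hh2, hfix, hgram⟩ := h.tensor_gram e P hN' fun X hX => by
    refine hH (hNH ?_)
    rw [show coordGL e P (Units.map (kronOne (F := F) d k : _ →* _) X) =
      Units.map (φ : Matrix (Fin d) (Fin d) F →* Matrix ι ι F) X from Units.ext (hP X).symm]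
    exact hX
  exact .tensor d k e P (by omega) (by have := NeZero.ne k; omega) G₁ G₂ l h1 h2 hl hh1 hh2
    (factorGroup φ N) hN' hfix hgram hle

/-- Clifford theory with a form. -/
theorem RefForm.clifford [Fintype F] [Nonempty ι] (h : RefForm σ ε f) {H N : Subgroup (GL ι F)}
    (hH : H ≤ preserving (glToMat ι F) f) (hirr : Irr H) (hNH : N ≤ H) (hn : NormalIn H N) :
    FormClifford h H N := by
  by_cases hs : N ≤ Geo.scalars ι F
  · exact .scalar hs
  cases algOf_shape hirr hn with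
  | idempotents t E hE => exact h.clifford_idempotents hH hirr hNH hn hE
  | field d L hd hL hmem => exact h.clifford_field hH hNH hn hs hd hL hmem
  | full d φ hd hφ hrange => exact h.clifford_full hH hNH hn hd hφ hrange

end Cfsg.Agent.Aschbacher
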