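import Cfsg.Agent.Lib.Aschbacher.FormBasic
import Cfsg.Agent.Lib.Aschbacher.CliffordStep

/-!
Gram matrices of a form in new coordinates, and the splitting `G₁ ⊗ G₂` of the Gram matrix when an
absolutely irreducible group acts on the first factor by isometries.
-/

set_option autoImplicit false
set_option linter.unusedSectionVars false

namespace Cfsg.Agent.Aschbacher

open Matrix
open scoped MatrixGroups Kronecker

variable {F : Type*} [Field F] {ι : Type} [Fintype ι] [DecidableEq ι] {κ : Type} [Fintype κ] [DecidableEq κ]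

theorem formOfGram_eq_matForm (σ : F → F) (G : Matrix κ κ F) (x y : κ → F) :
    Geo.formOfGram σ G x y = matForm σ G x y := by
  simp [Geo.formOfGram, matForm, dotProduct, Matrix.mulVec, Finset.mul_sum, mul_assoc]

theorem comp_single_one (σ : F ≃+* F) (j : κ) :
    (σ : F → F) ∘ (Pi.single j (1 : F) : κ → F) = Pi.single j 1 := funext fun k => by
  by_cases hk : k = j
  · subst hk; simp
  · simp [hk]

theorem matForm_single_one (σ : F ≃+* F) (G : Matrix κ κ F) (i j : κ) :
    matForm σ.toRingHom G (Pi.single i 1) (Pi.single j 1) = G i j := by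
  simp [matForm, comp_single_one]

theorem IsSesq.eq_matForm {σ : F →+* F} {g : (κ → F) → (κ → F) → F} (hg : IsSesq σ g) (x y : κ → F) :
    g x y = matForm σ (Geo.gramMatrix g) x y := by
  have hm := matForm_isSesq σ (Geo.gramMatrix g)
  let φ : (k : (κ → F) → (κ → F) → F) → IsSesq σ k → (κ → F) →ₗ[F] F := fun k hk =>
    { toFun := fun u => k u y, map_add' := fun u v => hk.add_left u v y
      map_smul' := fun c u => hk.smul_left c u y }
  let ψ : (k : (κ → F) → (κ → F) → F) → IsSesq σ k → (κ → F) → (κ → F) →+ F := fun k hk u =>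
    { toFun := k u, map_zero' := hk.zero_right u, map_add' := hk.add_right u }
  show φ g hg x = φ _ hm x
  conv_lhs => rw [pi_eq_sum_univ' x, map_sum]
  conv_rhs => rw [pi_eq_sum_univ' x, map_sum]
  refine Finset.sum_congr rfl fun i _ => ?_
  rw [map_smul, map_smul]
  congr 1
  show ψ g hg (Pi.single i 1) y = ψ _ hm (Pi.single i 1) y
  conv_lhs => rw [pi_eq_sum_univ' y, map_sum]
  conv_rhs => rw [pi_eq_sum_univ' y, map_sum]
  refine Finset.sum_congr rfl fun j _ => ?_
  show g _ (y j • Pi.single j 1) = matForm σ _ _ (y j • Pi.single j 1)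
  rw [hg.smul_right, hm.smul_right]
  congr 1
  have hsj : (σ : F → F) ∘ (Pi.single j (1 : F) : κ → F) = Pi.single j 1 := funext fun k => by
    by_cases hk : k = j
    · subst hk; simp
    · simp [hk]
  simp [matForm, hsj, Geo.gramMatrix]

/-- The form in the coordinates `(e, P)`. -/
def coordForm (f : (ι → F) → (ι → F) → F) (e : ι ≃ κ) (P : GL ι F) (x y : κ → F) : F :=
  f ((P : Matrix ι ι F) *ᵥ (x ∘ e)) ((P : Matrix ι ι F) *ᵥ (y ∘ e))

/-- Its Gram matrix. -/
def coordGram (f : (ι → F) → (ι → F) → F) (e : ι ≃ κ) (P : GL ι F) : Matrix κ κ F :=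
  Geo.gramMatrix (coordForm f e P)

theorem coordGL_mulVec (e : ι ≃ κ) (P : GL ι F) (g : GL κ F) (x : κ → F) :
    (coordGL e P g : Matrix ι ι F) *ᵥ ((P : Matrix ι ι F) *ᵥ (x ∘ e)) =
      (P : Matrix ι ι F) *ᵥ (((g : Matrix κ κ F) *ᵥ x) ∘ e) := by
  rw [coordGL_val, coordEquiv_apply, ← Matrix.mulVec_mulVec, ← Matrix.mulVec_mulVec, inv_mulVec,
    Matrix.submatrix_mulVec_equiv]
  simp [Function.comp_def]

section

variable {σ : F ≃+* F} {ε : F} {f : (ι → F) → (ι → F) → F} (h : RefForm σ ε f) (e : ι ≃ κ) (P : GL ι F)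
include h

theorem coordForm_eq (x y : κ → F) :
    coordForm f e P x y = matForm σ.toRingHom (coordGram f e P) x y := by
  refine IsSesq.eq_matForm ⟨fun x y v => ?_, fun c x v => ?_, fun v x y => ?_, fun c v x => ?_⟩ x y
  · show f (_ *ᵥ ((x + y) ∘ e)) _ = _
    rw [show (x + y) ∘ e = (x ∘ e) + (y ∘ e) from rfl, Matrix.mulVec_add, h.sesq.add_left]
    rfl
  · show f (_ *ᵥ ((c • x) ∘ e)) _ = _
    rw [show (c • x) ∘ e = c • (x ∘ e) from rfl, Matrix.mulVec_smul, h.sesq.smul_left]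
    rfl
  · show f _ (_ *ᵥ ((x + y) ∘ e)) = _
    rw [show (x + y) ∘ e = (x ∘ e) + (y ∘ e) from rfl, Matrix.mulVec_add, h.sesq.add_right]
    rfl
  · show f _ (_ *ᵥ ((c • x) ∘ e)) = _
    rw [show (c • x) ∘ e = c • (x ∘ e) from rfl, Matrix.mulVec_smul, h.sesq.smul_right]
    rfl

theorem coordGram_invariant {g : GL κ F} (hg : coordGL e P g ∈ preserving (glToMat ι F) f) :
    (g : Matrix κ κ F)ᵀ * coordGram f e P * (g : Matrix κ κ F).map σ = coordGram f e P := by
  ext i j
  have h1 : matForm σ.toRingHom ((g : Matrix κ κ F)ᵀ * coordGram f e P * (g : Matrix κ κ F).map σ.toRingHom)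
      (Pi.single i 1) (Pi.single j 1) = matForm σ.toRingHom (coordGram f e P) (Pi.single i 1) (Pi.single j 1) := by
    rw [← matForm_conj, ← coordForm_eq h, ← coordForm_eq h]
    show f _ _ = f _ _
    rw [← coordGL_mulVec, ← coordGL_mulVec, RefForm.mem_isometry.1 hg]
  rwa [matForm_single_one, matForm_single_one] at h1

theorem coordGram_swap (i j : κ) : coordGram f e P j i = ε * σ (coordGram f e P i j) :=
  h.swap _ _

theorem coordGram_det : (coordGram f e P).det ≠ 0 := by
  intro h0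
  obtain ⟨v, hv, hvG⟩ := Matrix.exists_vecMul_eq_zero_iff.2 h0
  refine hv (funext fun i => ?_)
  have h1 : (P : Matrix ι ι F) *ᵥ (v ∘ e) = 0 := h.ext_left fun u => by
    obtain ⟨w, rfl⟩ : ∃ w, (P : Matrix ι ι F) *ᵥ w = u := ⟨_, mulVec_inv P u⟩
    rw [h.sesq.zero_left]
    have h2 : w = (w ∘ e.symm) ∘ e := by ext k; simp
    rw [h2]
    show coordForm f e P v (w ∘ e.symm) = 0
    rw [coordForm_eq h, matForm, Matrix.dotProduct_mulVec, hvG, zero_dotProduct]
  simpa using congrFun ((mulVec_eq_zero_iff P).1 h1) (e.symm i)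

end

theorem similitude_matForm {σ : F ≃+* F} {N : Subgroup (GL κ F)} {B : Matrix κ κ F}
    (hB : ∀ X ∈ N, (X : Matrix κ κ F)ᵀ * B * (X : Matrix κ κ F).map σ = B) :
    Geo.FixesForm (Geo.matrixSet N) (matForm σ.toRingHom B) := by
  rintro s ⟨X, hX, rfl⟩ u v
  rw [matForm_conj]
  exact congrArg (fun M => matForm σ.toRingHom M u v) (hB X hX)

/-- An invariant matrix of an irreducible group is zero or invertible. -/
theorem Irr.invariant_det {σ : F ≃+* F} {N : Subgroup (GL κ F)} (hN : Irr N) {B : Matrix κ κ F}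
    (hB : ∀ X ∈ N, (X : Matrix κ κ F)ᵀ * B * (X : Matrix κ κ F).map σ = B) : B = 0 ∨ B.det ≠ 0 := by
  let K : Submodule F (κ → F) :=
    { carrier := {v | ∀ u, matForm σ.toRingHom B u v = 0}
      zero_mem' := fun u => (matForm_isSesq _ B).zero_right u
      add_mem' := fun {x y} hx hy u => by rw [(matForm_isSesq _ B).add_right, hx, hy, add_zero]
      smul_mem' := fun c x hx u => by rw [(matForm_isSesq _ B).smul_right, hx, mul_zero] }
  have hK : Invariant N K := by
    intro X hX v hv u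
    rw [← mulVec_inv X u, similitude_matForm hB _ ⟨X, hX, rfl⟩]
    exact hv _
  rcases irr_iff.1 hN K hK with h0 | h0
  · refine Or.inr fun hd => ?_
    obtain ⟨v, hv, hBv⟩ := Matrix.exists_mulVec_eq_zero_iff.2 hd
    refine hv ?_
    have h1 : (σ.symm : F → F) ∘ v ∈ K := fun u => by
      have h2 : (σ.toRingHom : F → F) ∘ ((σ.symm : F → F) ∘ v) = v := funext fun i => σ.apply_symm_apply _
      show u ⬝ᵥ (B *ᵥ ((σ.toRingHom : F → F) ∘ ((σ.symm : F → F) ∘ v))) = 0
      rw [h2, hBv, dotProduct_zero]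
    rw [h0, Submodule.mem_bot] at h1
    funext i
    simpa using congrArg σ (congrFun h1 i)
  · refine Or.inl (Matrix.ext fun i j => ?_)
    have h1 : (Pi.single j 1 : κ → F) ∈ K := h0 ▸ Submodule.mem_top
    have h2 := h1 (Pi.single i 1)
    rwa [matForm_single_one] at h2

/-- The group acting on the first factor inside `N`. -/
def factorGroup {d : ℕ} (φ : Matrix (Fin d) (Fin d) F →ₐ[F] Matrix ι ι F) (N : Subgroup (GL ι F)) :
    Subgroup (GL (Fin d) F) :=
  N.comap (Units.map (φ : Matrix (Fin d) (Fin d) F →* Matrix ι ι F))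

theorem absIrr_factorGroup {d : ℕ} [NeZero d] {φ : Matrix (Fin d) (Fin d) F →ₐ[F] Matrix ι ι F}
    (hφ : Function.Injective φ) {N : Subgroup (GL ι F)}
    (hrange : ∀ M, M ∈ spanMat N ↔ ∃ A, φ A = M) : AbsIrr (factorGroup φ N) := by
  refine absIrr_of_spanMat (eq_top_iff.2 fun A _ => ?_)
  have h1 : φ A ∈ (spanMat (factorGroup φ N)).map φ.toLinearMap := by
    refine (Submodule.span_le.2 ?_ : spanMat N ≤ _) ((hrange _).2 ⟨A, rfl⟩)
    rintro _ ⟨x, hx, rfl⟩
    obtain ⟨X, hX⟩ := (hrange _).1 (mem_spanMat hx)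
    obtain ⟨Y, hY⟩ := (hrange _).1 (mem_spanMat (N.inv_mem hx))
    let g : GL (Fin d) F := ⟨X, Y, hφ (by rw [map_mul, hX, hY, Units.mul_inv, map_one]),
      hφ (by rw [map_mul, hX, hY, Units.inv_mul, map_one])⟩
    refine ⟨X, mem_spanMat (x := g) ?_, hX⟩
    show Units.map _ g ∈ N
    rw [show Units.map (φ : Matrix (Fin d) (Fin d) F →* Matrix ι ι F) g = x from Units.ext hX]
    exact hx
  obtain ⟨B, hB, hBA⟩ := h1
  exact hφ hBA ▸ hB

theorem herm_swap {σ : F ≃+* F} {l : F} {G : Matrix κ κ F} (hG : (G.map σ)ᵀ = l • G) (i j : κ) :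
    σ (G i j) = l * G j i := congrFun (congrFun hG j) i

/-- The Gram matrix splits as `G₁ ⊗ G₂`. -/
theorem RefForm.tensor_gram [Fintype F] {σ : F ≃+* F} {ε : F} {f : (ι → F) → (ι → F) → F}
    (h : RefForm σ ε f) {d k : ℕ} [NeZero d] [NeZero k] (e : ι ≃ Fin d × Fin k) (P : GL ι F)
    {N' : Subgroup (GL (Fin d) F)} (hN' : AbsIrr N')
    (hiso : ∀ X ∈ N', coordGL e P (Units.map (kronOne (F := F) d k : _ →* _) X) ∈
      preserving (glToMat ι F) f) :
    ∃ (G₁ : Matrix (Fin d) (Fin d) F) (G₂ : Matrix (Fin k) (Fin k) F) (l : F),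
      G₁.det ≠ 0 ∧ G₂.det ≠ 0 ∧ l * σ l = 1 ∧ (G₁.map σ)ᵀ = l • G₁ ∧
      (∀ p q, G₂ q p = ε * l * σ (G₂ p q)) ∧
      (∀ X ∈ N', (X : Matrix (Fin d) (Fin d) F)ᵀ * G₁ * (X : Matrix (Fin d) (Fin d) F).map σ = G₁) ∧
      coordGram f e P = G₁ ⊗ₖ G₂ := by
  classical
  set A := coordGram f e P with hA
  have hAdet : A.det ≠ 0 := coordGram_det h e P
  let blk : Fin k → Fin k → Matrix (Fin d) (Fin d) F := fun p q => Matrix.of fun a b => A (a, p) (b, q)
  have hblk : ∀ p q, ∀ X ∈ N', (X : Matrix (Fin d) (Fin d) F)ᵀ * blk p q * (X : Matrix (Fin d) (Fin d) F).map σ =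
      blk p q := by
    intro p q X hX
    have h1 := coordGram_invariant h e P (hiso X hX)
    ext a b
    have h2 := congrFun (congrFun h1 (a, p)) (b, q)
    rw [← hA] at h2
    simp only [kronOne, Units.coe_map, MonoidHom.coe_coe, AlgHom.coe_mk, RingHom.coe_mk, MonoidHom.coe_mk,
      OneHom.coe_mk, Matrix.mul_apply, Fintype.sum_prod_type, Matrix.transpose_apply,
      Matrix.kroneckerMap_apply, Matrix.map_apply, Matrix.one_apply, mul_ite, mul_one, mul_zero, ite_mul,
      zero_mul, Finset.sum_ite_eq', Finset.mem_univ, if_true, apply_ite σ, map_zero] at h2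
    simpa [blk, Matrix.mul_apply] using h2
  obtain ⟨⟨a₀, p₀⟩, ⟨b₀, q₀⟩, hne⟩ : ∃ i j, A i j ≠ 0 := by
    by_contra hcon
    push Not at hcon
    exact hAdet (by rw [show A = 0 from Matrix.ext hcon, Matrix.det_zero])
  set G₁ := blk p₀ q₀ with hG₁
  have hG₁det : G₁.det ≠ 0 := (Irr.invariant_det hN'.1 (hblk p₀ q₀)).resolve_left fun h0 =>
    hne (congrFun (congrFun h0 a₀) b₀)
  have hG₁nd := matForm_nondegenerate σ hG₁det
  choose c hc using fun p q => hN'.form_unique (matForm_isSesq σ.toRingHom G₁) hG₁nd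
    (matForm_isSesq σ.toRingHom (blk p q)) (similitude_matForm (hblk p₀ q₀)) (similitude_matForm (hblk p q))
  have hApq : A = G₁ ⊗ₖ Matrix.of c := by
    ext ⟨a, p⟩ ⟨b, q⟩
    have h1 := hc p q (Pi.single a 1) (Pi.single b 1)
    rw [matForm_single_one, matForm_single_one] at h1
    simp only [blk, Matrix.of_apply] at h1
    rw [Matrix.kroneckerMap_apply, Matrix.of_apply, h1, mul_comm]
  obtain ⟨l, hl, hll⟩ := hN'.herm_of_invariant σ h.involutive hG₁det (hblk p₀ q₀)
  refine ⟨G₁, Matrix.of c, l, hG₁det, ?_, hll, hl, fun p q => ?_, hblk p₀ q₀, hApq⟩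
  · intro h0
    rw [hApq, Matrix.det_kronecker, h0, zero_pow (by simpa using NeZero.ne d), mul_zero] at hAdet
    exact hAdet rfl
  · have h1 := coordGram_swap h e P (a₀, p) (b₀, q)
    have hne' : G₁ b₀ a₀ ≠ 0 := by
      intro h0
      have := herm_swap hl a₀ b₀
      rw [h0, mul_zero, map_eq_zero] at this
      exact hne this
    rw [← hA, hApq, Matrix.kroneckerMap_apply, Matrix.kroneckerMap_apply, map_mul, herm_swap hl] at h1
    refine mul_left_cancel₀ hne' ?_
    show G₁ b₀ a₀ * Matrix.of c q p = _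
    rw [h1]
    ring

end Cfsg.Agent.Aschbacher
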