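import Cfsg.Agent.Lib.Aschbacher.FormOrthTools
import Cfsg.Agent.Lib.Aschbacher.FormClassTwo

/-!
Aschbacher's theorem for the isometry group of a quadratic form in odd dimension and odd characteristic.
-/

set_option autoImplicit false
set_option linter.unusedSectionVars false

namespace Cfsg.Agent.Aschbacher

open Matrix
open scoped MatrixGroups Kronecker

variable {ι : Type} [Fintype ι] [DecidableEq ι] {F : Type*} [Field F] [Fintype F]

/-- The geometric classes for a quadratic form `Q` in odd dimension, or the residual class. -/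
inductive OrthOutcome (Q : (ι → F) → F) (H : Subgroup (GL ι F)) : Prop
  | totallySingular (W : Submodule F (ι → F)) (h0 : W ≠ ⊥) (hts : Geo.IsTotallySingularQuad Q W)
      (hle : H ≤ Geo.subspaceStabilizer W)
  | nondegenerate (W : Submodule F (ι → F)) (h0 : W ≠ ⊥) (h1 : W ≠ ⊤)
      (hnd : Geo.IsNondegenerateOn (QuadraticMap.polar Q) W) (hle : H ≤ Geo.subspaceStabilizer W)
  | decomposition (t k : ℕ) (D : Fin t → Submodule F (ι → F)) (hk : 1 < k)
      (hD : Geo.IsOrthogonalMDecomposition Q k D) (hle : H ≤ Geo.decompositionStabilizer D)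
  | lineDecomposition (t : ℕ) (D : Fin t → Submodule F (ι → F)) (hp : (Fintype.card F).Prime)
      (hD : Geo.IsOrthogonalMDecomposition Q 1 D) (hle : H ≤ Geo.decompositionStabilizer D)
  | selfAdjointField (r : ℕ) (K : Subalgebra F (Matrix ι ι F)) (hr : r.Prime) (hne : Fintype.card ι ≠ r)
      (hK : Geo.IsFieldSubalgebra r K) (hsa : Geo.IsSelfAdjointFor (QuadraticMap.polar Q) K)
      (hle : H ≤ Geo.subalgebraNormalizer K)
  | tensor (n₁ n₂ : ℕ) (e : ι ≃ Fin n₁ × Fin n₂) (P : GL ι F) (f₁ : (Fin n₁ → F) → (Fin n₁ → F) → F)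
      (f₂ : (Fin n₂ → F) → (Fin n₂ → F) → F) (h3 : 3 ≤ n₁) (hlt : n₁ < n₂) (hf₁ : Geo.IsSymmetricForm f₁)
      (hf₂ : Geo.IsSymmetricForm f₂)
      (hstr : Geo.IsTensorFormStructure id (QuadraticMap.polar Q) f₁ f₂ e P)
      (hle : H ≤ Geo.tensorProductSubgroup n₁ n₂ e P)
  | subfield (F₀ : Subfield F) (r : ℕ) (P : GL ι F) (hr : r.Prime)
      (hcard : Fintype.card F = Nat.card F₀ ^ r) (hrat : Geo.IsQuadFormRationalStructure Q F₀ P)
      (hle : H ≤ Geo.subfieldSubgroup F₀ P)
  | tensorPower (k t : ℕ) (e : ι ≃ (Fin t → Fin k)) (P : GL ι F) (f₁ : (Fin k → F) → (Fin k → F) → F)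
      (hk : 3 ≤ k) (ht : 2 ≤ t) (hex : ¬ (Fintype.card F = 3 ∧ k = 3)) (hf₁ : Geo.IsSymmetricForm f₁)
      (hstr : Geo.IsTensorPowerFormStructure id (QuadraticMap.polar Q) f₁ e P)
      (hle : H ≤ Geo.tensorWreathSubgroup k t e P)
  | residual (hres : Geo.InOrthogonalResidualClass H)

theorem matForm_symmetricForm {d : ℕ} {G : Matrix (Fin d) (Fin d) F} (hd : G.det ≠ 0) (hs : Gᵀ = G) :
    Geo.IsSymmetricForm (matForm id G) :=
  ⟨matForm_bilinear G, fun u v => by rw [← matForm_transpose, hs], matForm_nondegenerate (RingEquiv.refl F) hd⟩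

/-- The hypotheses of the odd-dimensional orthogonal case. -/
structure OddOrth (Q : (ι → F) → F) : Prop where
  quad : Geo.IsNondegenerateQuadraticForm Q
  odd_dim : Odd (Fintype.card ι)
  odd_field : Odd (Fintype.card F)
  three_le : 3 ≤ Fintype.card ι
  rational : ∀ (F₀ : Subfield F) (u : ι → F), (∀ i, u i ∈ F₀) → Q u ∈ F₀

variable {Q : (ι → F) → F} {H : Subgroup (GL ι F)}

theorem OddOrth.two_ne (ho : OddOrth Q) : (2 : F) ≠ 0 := two_ne_zero_of_odd ho.odd_field

theorem OddOrth.ref (ho : OddOrth Q) : RefForm (RingEquiv.refl F) 1 (QuadraticMap.polar Q) :=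
  RefForm.of_symmetric ho.quad.polar_bilinear ho.quad.nondegenerate fun u v => QuadraticMap.polar_comm Q u v

/-- An orthogonal basis with constant value permuted up to scalars. -/
theorem OrthOutcome.of_monomial (ho : OddOrth Q) (hH : H ≤ preserving (glToMat ι F) (QuadraticMap.polar Q))
    {v : ι → ι → F} {c : F} (hc : c ≠ 0)
    (hv : ∀ i j, QuadraticMap.polar Q (v i) (v j) = if i = j then c else 0)
    (hmon : ∀ g ∈ H, ∀ i, ∃ (j : ι) (a : F), (g : Matrix ι ι F) *ᵥ v i = a • v j) :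
    OrthOutcome Q H := by
  classical
  have h := ho.ref
  have hb := ho.quad.polar_bilinear
  have h2 := ho.two_ne
  have hQv : ∀ i, Q (v i) = c * 2⁻¹ := fun i => by
    have h1 := polar_self ho.quad (v i)
    rw [hv, if_pos rfl] at h1
    rw [h1]; field_simp
  have hPdet : (Matrix.of fun i j => v j i : Matrix ι ι F).det ≠ 0 := by
    intro h0
    have h1 : (Matrix.of fun i j => v j i : Matrix ι ι F)ᵀ * Geo.gramMatrix (QuadraticMap.polar Q) *
        (Matrix.of fun i j => v j i : Matrix ι ι F) = c • 1 := by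
      rw [← gram_conj hb]
      ext i j
      show QuadraticMap.polar Q _ _ = _
      rw [Matrix.mulVec_single_one, Matrix.mulVec_single_one, Matrix.smul_apply, Matrix.one_apply,
        smul_eq_mul, mul_ite, mul_one, mul_zero]
      exact hv i j
    have h3 := congrArg Matrix.det h1
    rw [Matrix.det_mul, h0, mul_zero, Matrix.det_smul, Matrix.det_one, mul_one] at h3
    exact pow_ne_zero _ hc h3.symm
  let P : GL ι F := Matrix.GeneralLinearGroup.mkOfDetNeZero _ hPdet
  have hP : ∀ i, (P : Matrix ι ι F) *ᵥ Pi.single i 1 = v i := fun i => by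
    rw [Matrix.mulVec_single_one]; rfl
  choose π a hπ using hmon
  have ha : ∀ g hg i, a g hg i * a g hg i = 1 := by
    intro g hg i
    have h1 := RefForm.mem_isometry.1 (hH hg) (v i) (v i)
    rw [hπ g hg, hb.smul_left, hb.smul_right, hv, hv, if_pos rfl, if_pos rfl, ← mul_assoc] at h1
    exact (mul_eq_right₀ hc).1 h1
  have hinj : ∀ g hg, Function.Injective (π g hg) := by
    intro g hg i j hij
    by_contra hne
    have h1 := RefForm.mem_isometry.1 (hH hg) (v i) (v j)
    rw [hπ g hg, hπ g hg, hb.smul_left, hb.smul_right, hij, hv, hv, if_pos rfl, if_neg hne] at h1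
    have hne' : ∀ i, a g hg i ≠ 0 := fun i h0 => by simpa [h0] using ha g hg i
    exact mul_ne_zero (hne' i) (mul_ne_zero (hne' j) hc) h1
  by_cases hp : (Fintype.card F).Prime
  · -- the lines
    let eι : ι ≃ Fin (Fintype.card ι) := Fintype.equivFin ι
    let L : (ι → F) ≃ₗ[F] (ι → F) := LinearEquiv.ofLinear (Matrix.toLin' (P : Matrix ι ι F))
      (Matrix.toLin' ((P⁻¹ : GL ι F) : Matrix ι ι F))
      (by rw [← Matrix.toLin'_mul, Units.mul_inv, Matrix.toLin'_one])
      (by rw [← Matrix.toLin'_mul, Units.inv_mul, Matrix.toLin'_one])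
    let b : Module.Basis (Fin (Fintype.card ι)) F (ι → F) := ((Pi.basisFun F ι).map L).reindex eι
    have hbv : ∀ r, b r = v (eι.symm r) := fun r => by
      simp only [b, Module.Basis.reindex_apply, Module.Basis.map_apply, Pi.basisFun_apply, L,
        LinearEquiv.ofLinear_apply, Matrix.toLin'_apply]
      exact hP _
    have hne : ∀ i, v i ≠ 0 := fun i h0 => by
      have h1 := hv i i
      rw [h0, if_pos rfl] at h1
      exact hc (h1.symm.trans (h.sesq.zero_left 0))
    let D : Fin (Fintype.card ι) → Submodule F (ι → F) := fun r => Submodule.span F {v (eι.symm r)}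
    refine .lineDecomposition _ D hp ⟨⟨⟨by have := ho.three_le; omega, one_pos,
      fun r => finrank_span_singleton (hne _), ?_, ?_⟩, ?_, ?_⟩, fun r s => ?_⟩ fun g hg => ?_
    · have h1 := b.linearIndependent.iSupIndep_span_singleton
      simpa only [hbv] using h1
    · rw [eq_top_iff, ← b.span_eq, Submodule.span_range_eq_iSup]
      exact le_of_eq (iSup_congr fun r => by rw [hbv])
    · intro r w hw hw0
      obtain ⟨x, rfl⟩ := Submodule.mem_span_singleton.1 hw
      have hx : x ≠ 0 := fun h0 => hw0 (by rw [h0, zero_smul])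
      have hval : ∀ u u' : ι → F, u = x • v (eι.symm r) → u' = v (eι.symm r) →
          QuadraticMap.polar Q u u' ≠ 0 ∧ QuadraticMap.polar Q u' u ≠ 0 := by
        rintro _ _ rfl rfl
        rw [hb.smul_left, hb.smul_right, hv, if_pos rfl]
        exact ⟨mul_ne_zero hx hc, mul_ne_zero hx hc⟩
      exact ⟨⟨v (eι.symm r), Submodule.mem_span_singleton_self _, (hval _ _ rfl rfl).2⟩,
        ⟨v (eι.symm r), Submodule.mem_span_singleton_self _, (hval _ _ rfl rfl).1⟩⟩
    · intro r s hrs u hu w hw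
      obtain ⟨x, rfl⟩ := Submodule.mem_span_singleton.1 hu
      obtain ⟨y, rfl⟩ := Submodule.mem_span_singleton.1 hw
      rw [hb.smul_left, hb.smul_right, hv, if_neg (eι.symm.injective.ne hrs), mul_zero, mul_zero]
    · refine ⟨(LinearEquiv.toSpanNonzeroSingleton F _ _ (hne (eι.symm r))).symm.trans
        (LinearEquiv.toSpanNonzeroSingleton F _ _ (hne (eι.symm s))), fun w => ?_⟩
      obtain ⟨x, rfl⟩ := (LinearEquiv.toSpanNonzeroSingleton F _ _ (hne (eι.symm r))).surjective w
      rw [LinearEquiv.trans_apply, LinearEquiv.symm_apply_apply]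
      show Q (x • v _) = Q (x • v _)
      rw [ho.quad.smul, ho.quad.smul, hQv, hQv]
    · refine ⟨(eι.symm.trans (Equiv.ofBijective _ (Finite.injective_iff_bijective.1 (hinj g hg)))).trans eι,
        fun r => ?_⟩
      show (Submodule.span F _).map _ = Submodule.span F {v (eι.symm (eι _))}
      rw [Equiv.symm_apply_apply, Submodule.map_span, Set.image_singleton, Matrix.toLin'_apply, hπ g hg,
        Submodule.span_singleton_smul_eq (isUnit_iff_ne_zero.2 fun h0 => by simpa [h0] using ha g hg (eι.symm r))]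
      rfl
  · -- realised over the prime field
    obtain ⟨p, hpC⟩ := CharP.exists F
    have := hpC
    obtain ⟨e, hpp, hcard⟩ := FiniteField.card F p
    have : Fact p.Prime := ⟨hpp⟩
    have he : 1 < (e : ℕ) := by
      rcases Nat.lt_or_ge 1 (e : ℕ) with h1 | h1
      · exact h1
      · exact absurd (by rw [hcard, show (e : ℕ) = 1 by have := e.pos; omega, pow_one]; exact hpp) hp
    have hF₁ : fixedOf (frob (F := F) p 1) ≠ ⊤ := fixedOf_ne_top fun h0 => by
      obtain ⟨x, hx⟩ := exists_pow_ne_self (F := F) p one_pos (hcard ▸ Nat.pow_lt_pow_right hpp.one_lt he)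
      exact hx (by simpa [frob_apply] using RingEquiv.congr_fun h0 x)
    obtain ⟨F₀, r, -, hr, hcard₀⟩ := exists_prime_index hF₁
    have hle : H ≤ Geo.subfieldSubgroup F₀ P := by
      intro g hg
      refine mem_subfieldSubgroup_of_entries fun i j => ?_
      have h1 : ((P⁻¹ * g * P : GL ι F) : Matrix ι ι F) *ᵥ Pi.single j 1 =
          a g hg j • Pi.single (π g hg j) 1 := by
        rw [mulVec_mul, mulVec_mul, hP, hπ g hg, Matrix.mulVec_smul, ← hP, inv_mulVec]
      rw [Matrix.mulVec_single_one] at h1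
      have h3 := congrFun h1 i
      rw [Matrix.col_apply] at h3
      rw [h3, Pi.smul_apply, smul_eq_mul, Pi.single_apply]
      split_ifs
      · rw [mul_one]
        rcases mul_self_eq_one_iff.1 (ha g hg j) with h4 | h4 <;> rw [h4]
        exacts [one_mem _, neg_mem (one_mem _)]
      · rw [mul_zero]; exact zero_mem _
    obtain ⟨P', hP', hrat⟩ := quad_scale ho.quad ho.odd_dim h2 (ho.rational F₀) (P := P) (inv_ne_zero hc)
      fun i j => by
        rw [hP, hP, hv]
        split_ifs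
        · rw [inv_mul_cancel₀ hc]; exact one_mem _
        · rw [mul_zero]; exact zero_mem _
    exact .subfield F₀ r P' hr hcard₀ hrat (hP' ▸ hle)

theorem OrthOutcome.of_realisable (ho : OddOrth Q) [Nonempty ι] {N : Subgroup (GL ι F)} (hN : AbsIrr N)
    (hfN : N ≤ preserving (glToMat ι F) (QuadraticMap.polar Q)) (hn : NormalIn H N) {F₁ : Subfield F}
    (hF₁ : F₁ ≠ ⊤) (hreal : Geo.RealisableOver F₁ (Geo.matrixSet N)) : OrthOutcome Q H := by
  obtain ⟨B, hB⟩ := hreal
  obtain ⟨F₀, r, hle, hr, hcard⟩ := exists_prime_index hF₁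
  obtain ⟨P, ζ, hζ, hP, hrat, -, -⟩ :=
    ho.ref.exists_rational hN hfN hn (F₀ := F₀) ⟨B, fun s hs i j => hle (hB s hs i j)⟩
  obtain ⟨P', hP', hrat'⟩ := quad_scale ho.quad ho.odd_dim ho.two_ne (ho.rational F₀) (P := P) hζ
    fun i j => hrat i j
  exact .subfield F₀ r P' hr hcard hrat' (hP' ▸ hP)

theorem OrthOutcome.of_orth (ho : OddOrth Q) (hH : H ≤ preserving (glToMat ι F) (QuadraticMap.polar Q))
    {t m : ℕ} {D : Fin t → Submodule F (ι → F)}
    (hD : Geo.IsNondegenerateMDecomposition (QuadraticMap.polar Q) m D)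
    (hle : H ≤ Geo.decompositionStabilizer D) (htrans : ∀ i j, ∃ g ∈ H, translate g (D i) = D j) :
    OrthOutcome Q H := by
  classical
  have h2 := ho.two_ne
  have hb := ho.quad.polar_bilinear
  have hQg : ∀ g ∈ H, ∀ w, Q ((g : Matrix ι ι F) *ᵥ w) = Q w := fun g hg w => mul_left_cancel₀ h2 (by
    rw [← polar_self ho.quad, ← polar_self ho.quad]; exact RefForm.mem_isometry.1 (hH hg) w w)
  by_cases hm : 1 < m
  · refine .decomposition t m D hm ⟨hD, fun i j => ?_⟩ hle
    obtain ⟨g, hg, hgD⟩ := htrans i j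
    have hinj : Function.Injective (Matrix.toLin' (g : Matrix ι ι F)) := fun x y hxy => by
      simpa [inv_mulVec] using congrArg (((g⁻¹ : GL ι F) : Matrix ι ι F) *ᵥ ·) hxy
    refine ⟨(Submodule.equivMapOfInjective _ hinj (D i)).trans (LinearEquiv.ofEq _ _ hgD), fun w => ?_⟩
    show Q (Matrix.toLin' (g : Matrix ι ι F) w) = _
    rw [Matrix.toLin'_apply, hQg g hg]
  obtain rfl : m = 1 := by have := hD.decomp.pos; omega
  have hcardι : Fintype.card ι = t := by rw [card_eq_of_isMDecomposition hD.decomp, mul_one]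
  let eι : ι ≃ Fin t := Fintype.equivFinOfCardEq hcardι
  have : Nonempty ι := Fintype.card_pos_iff.1 (by have := ho.three_le; omega)
  set r₀ := eι (Classical.arbitrary ι)
  obtain ⟨v₀, hv₀, hv₀0⟩ := Submodule.exists_mem_ne_zero_of_ne_bot (p := D r₀) fun h0 => by
    have := hD.decomp.finrank_eq r₀
    rw [h0, finrank_bot] at this
    exact zero_ne_one this
  choose g hg hgD using fun i => htrans r₀ (eι i)
  let v : ι → ι → F := fun i => (g i : Matrix ι ι F) *ᵥ v₀
  have hvD : ∀ i, v i ∈ D (eι i) := fun i => hgD i ▸ mem_translate.2 ⟨v₀, hv₀, rfl⟩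
  have hspan : ∀ r, ∀ w ∈ D r, ∀ u ∈ D r, u ≠ 0 → ∃ x : F, w = x • u := by
    intro r w hw u hu hu0
    obtain ⟨x, hx⟩ := (finrank_eq_one_iff_of_nonzero' (⟨u, hu⟩ : D r) (fun h0 => hu0
      (congrArg Subtype.val h0))).1 (hD.decomp.finrank_eq r) ⟨w, hw⟩
    exact ⟨x, (congrArg Subtype.val hx).symm⟩
  refine .of_monomial ho hH (v := v) (c := QuadraticMap.polar Q v₀ v₀) ?_ (fun i j => ?_) fun x hx i => ?_
  · intro hc0
    obtain ⟨u, hu, hne⟩ := (hD.nondegenerate r₀ v₀ hv₀ hv₀0).2
    obtain ⟨x, rfl⟩ := hspan r₀ u hu v₀ hv₀ hv₀0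
    rw [hb.smul_right, hc0, mul_zero] at hne
    exact hne rfl
  · rcases eq_or_ne i j with rfl | hij
    · rw [if_pos rfl]; exact RefForm.mem_isometry.1 (hH (hg i)) v₀ v₀
    · rw [if_neg hij]
      exact hD.orthogonal (eι i) (eι j) (eι.injective.ne hij) _ (hvD i) _ (hvD j)
  · obtain ⟨π, hπ⟩ := hle hx
    have h1 : (x : Matrix ι ι F) *ᵥ v i ∈ D (eι (eι.symm (π (eι i)))) := by
      rw [Equiv.apply_symm_apply, ← hπ (eι i)]
      exact mem_translate.2 ⟨_, hvD i, rfl⟩
    obtain ⟨a, ha⟩ := hspan _ _ h1 _ (hvD _) fun h0 => hv₀0 ((mulVec_eq_zero_iff _).1 h0)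
    exact ⟨_, a, ha⟩

/-- Coordinates in which both tensor factors are scalar matrices. -/
theorem OddOrth.exists_tensor_coord (ho : OddOrth Q) {d k : ℕ} (hd : Odd d) (hk : Odd k)
    (e : ι ≃ Fin d × Fin k) (P : GL ι F) {G₁ : Matrix (Fin d) (Fin d) F} {G₂ : Matrix (Fin k) (Fin k) F}
    (hd₁ : G₁.det ≠ 0) (hd₂ : G₂.det ≠ 0) (hs₁ : G₁ᵀ = G₁) (hs₂ : G₂ᵀ = G₂)
    (hgram : coordGram (QuadraticMap.polar Q) e P = G₁ ⊗ₖ G₂) :
    ∃ (P' : GL ι F) (c : F), c ≠ 0 ∧ coordGram (QuadraticMap.polar Q) e P' = c • 1 ∧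
      Geo.tensorProductSubgroup d k e P ≤ Geo.tensorProductSubgroup d k e P' := by
  obtain ⟨T₁, μ₁, hμ₁, hT₁⟩ := exists_congr_scalar ho.two_ne hd hd₁ hs₁
  obtain ⟨T₂, μ₂, hμ₂, hT₂⟩ := exists_congr_scalar ho.two_ne hk hd₂ hs₂
  let T : GL (Fin d × Fin k) F :=
    ⟨(T₁ : Matrix (Fin d) (Fin d) F) ⊗ₖ (T₂ : Matrix (Fin k) (Fin k) F),
      ((T₁⁻¹ : GL (Fin d) F) : Matrix (Fin d) (Fin d) F) ⊗ₖ ((T₂⁻¹ : GL (Fin k) F) : Matrix (Fin k) (Fin k) F),
      by rw [← Matrix.mul_kronecker_mul, Units.mul_inv, Units.mul_inv, Matrix.one_kronecker_one],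
      by rw [← Matrix.mul_kronecker_mul, Units.inv_mul, Units.inv_mul, Matrix.one_kronecker_one]⟩
  refine ⟨P * Geo.glReindex e.symm T, μ₁ * μ₂, mul_ne_zero hμ₁ hμ₂, ?_, ?_⟩
  · rw [ho.ref.coordGram_changeCoord, hgram, RingEquiv.coe_refl, Matrix.map_id]
    show ((T₁ : Matrix (Fin d) (Fin d) F) ⊗ₖ (T₂ : Matrix (Fin k) (Fin k) F))ᵀ * (G₁ ⊗ₖ G₂) *
      ((T₁ : Matrix (Fin d) (Fin d) F) ⊗ₖ (T₂ : Matrix (Fin k) (Fin k) F)) = _
    rw [← Matrix.kroneckerMap_transpose, ← Matrix.mul_kronecker_mul, ← Matrix.mul_kronecker_mul, hT₁, hT₂,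
      Matrix.smul_kronecker, Matrix.kronecker_smul, smul_smul, Matrix.one_kronecker_one]
  · intro g hg
    obtain ⟨g₀, a, b, rfl, hab⟩ := exists_of_mem_tensorProductSubgroup hg
    rw [show g₀ = T * (T⁻¹ * g₀ * T) * T⁻¹ by group, ← coordGL_changeCoord]
    refine mem_tensorProductSubgroup _ _ ⟨T₁⁻¹ * a * T₁, T₂⁻¹ * b * T₂, ?_⟩
    simp only [Units.val_mul, hab, T, Units.inv_mk, Matrix.mul_kronecker_mul]

theorem OrthOutcome.of_tensor (ho : OddOrth Q) (hH : H ≤ preserving (glToMat ι F) (QuadraticMap.polar Q))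
    {d k : ℕ} (hd : 3 ≤ d) (hk : 3 ≤ k) (e : ι ≃ Fin d × Fin k) (P : GL ι F) {c : F} (hc : c ≠ 0)
    (hgram : coordGram (QuadraticMap.polar Q) e P = c • 1) (hle : H ≤ Geo.tensorProductSubgroup d k e P) :
    OrthOutcome Q H := by
  classical
  have h := ho.ref
  have hsym : ∀ (n : ℕ) (x : F), (x • (1 : Matrix (Fin n) (Fin n) F))ᵀ = x • 1 := fun n x => by
    rw [Matrix.transpose_smul, Matrix.transpose_one]
  have hdet : ∀ (n : ℕ) (x : F), x ≠ 0 → (x • (1 : Matrix (Fin n) (Fin n) F)).det ≠ 0 := fun n x hx => by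
    rw [Matrix.det_smul, Matrix.det_one, mul_one]; exact pow_ne_zero _ hx
  rcases lt_trichotomy d k with hlt | rfl | hlt
  · refine .tensor d k e P _ _ hd hlt (matForm_symmetricForm (hdet d c hc) (hsym d c))
      (matForm_symmetricForm (by rw [Matrix.det_one]; exact one_ne_zero) Matrix.transpose_one) ?_ hle
    refine h.tensorFormStructure (G₁ := c • 1) (G₂ := 1) ?_
    rw [hgram, Matrix.smul_kronecker, Matrix.one_kronecker_one]
  · by_cases hex : Fintype.card F = 3 ∧ d = 3
    · obtain ⟨h3, rfl⟩ := hex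
      -- the lines of the orthogonal basis
      let v : ι → ι → F := fun i => (P : Matrix ι ι F) *ᵥ Pi.single i 1
      refine .of_monomial ho hH (v := v) hc (fun i j => ?_) fun g hg i => ?_
      · have h1 := congrFun (congrFun hgram (e i)) (e j)
        have hs : ∀ z : ι, (Pi.single (e z) (1 : F) : Fin 3 × Fin 3 → F) ∘ e = Pi.single z 1 := fun z =>
          funext fun x => by simp [Pi.single_apply]
        simp only [coordGram, Geo.gramMatrix, coordForm, hs] at h1
        rw [h1, Matrix.smul_apply, Matrix.one_apply, smul_eq_mul, mul_ite, mul_one, mul_zero]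
        simp
      obtain ⟨g₀, a, b, rfl, hab⟩ := exists_of_mem_tensorProductSubgroup (hle hg)
      have hgram' : coordGram (QuadraticMap.polar Q) e P = (c • (1 : Matrix (Fin 3) (Fin 3) F)) ⊗ₖ 1 := by
        rw [hgram, Matrix.smul_kronecker, Matrix.one_kronecker_one]
      obtain ⟨⟨μb, hμb⟩, μa, hμa⟩ := h.tensor_similitude hgram'
        (fun h0 => hdet 3 c hc (by rw [h0, Matrix.det_zero]))
        (fun h0 => one_ne_zero (congrFun (congrFun h0 0) 0)) (hH hg) hab
      rw [RingEquiv.coe_refl, Matrix.map_id] at hμa hμb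
      rw [mul_one] at hμb
      rw [Matrix.mul_smul, mul_one, Matrix.smul_mul, smul_comm μa] at hμa
      obtain ⟨ra, -, hra⟩ := monomial_of_similitude h3 (smul_right_injective _ hc hμa) (e i).1
      obtain ⟨rb, -, hrb⟩ := monomial_of_similitude h3 hμb (e i).2
      refine ⟨e.symm (ra, rb), (a : Matrix (Fin 3) (Fin 3) F) ra (e i).1 * (b : Matrix (Fin 3) (Fin 3) F) rb (e i).2, ?_⟩
      have hs : ∀ z : ι, (Pi.single (e z) (1 : F) : Fin 3 × Fin 3 → F) ∘ e = Pi.single z 1 := fun z =>
        funext fun x => by simp [Pi.single_apply]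
      simp only [v]
      rw [← hs i, coordGL_mulVec, ← Matrix.mulVec_smul]
      refine congrArg _ (funext fun x => ?_)
      rw [Function.comp_apply, Matrix.mulVec_single_one, Matrix.col_apply, hab, Pi.smul_apply, smul_eq_mul,
        Pi.single_apply, mul_ite, mul_one, mul_zero]
      by_cases hx : x = e.symm (ra, rb)
      · subst hx; simp
      rw [if_neg hx]
      obtain ⟨⟨x₁, x₂⟩, hx'⟩ : ∃ z, e x = z := ⟨_, rfl⟩
      rw [hx']
      rw [Matrix.kroneckerMap_apply]
      by_contra hne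
      exact hx (e.injective (by
        rw [Equiv.apply_symm_apply, hx', hra x₁ (left_ne_zero_of_mul hne), hrb x₂ (right_ne_zero_of_mul hne)]))
    refine .tensorPower d 2 (e.trans (finTwoArrowEquiv (Fin d)).symm) P _ hd le_rfl hex
      (matForm_symmetricForm (G := (1 : Matrix (Fin d) (Fin d) F)) (by rw [Matrix.det_one]; exact one_ne_zero)
        Matrix.transpose_one) ?_ (hle.trans (tensorProductSubgroup_le_wreath e P))
    refine h.tensorPowerFormStructure (G := 1) hc ?_
    rw [coordGram_trans, hgram, Matrix.submatrix_smul, Pi.smul_apply, Pi.smul_apply,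
      Matrix.submatrix_one_equiv]
    exact congrArg (c • ·) (map_one pureMat).symm
  · refine .tensor k d (e.trans (Equiv.prodComm _ _)) P _ _ hk hlt
      (matForm_symmetricForm (hdet k c hc) (hsym k c))
      (matForm_symmetricForm (by rw [Matrix.det_one]; exact one_ne_zero) Matrix.transpose_one) ?_
      (hle.trans (tensorProductSubgroup_le_swap e P))
    refine h.tensorFormStructure (G₁ := c • 1) (G₂ := 1) ?_
    rw [coordGram_trans, hgram, Matrix.submatrix_smul, Pi.smul_apply, Pi.smul_apply,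
      Matrix.submatrix_one_equiv, Matrix.smul_kronecker, Matrix.one_kronecker_one]

theorem odd_three_le {d : ℕ} (h : Odd d) (h2 : 2 ≤ d) : 3 ≤ d := by
  obtain ⟨a, ha⟩ := h; omega

theorem OrthOutcome.of_clifford (ho : OddOrth Q) [Nonempty ι]
    (hH : H ≤ preserving (glToMat ι F) (QuadraticMap.polar Q)) {N : Subgroup (GL ι F)} (hNH : N ≤ H)
    (hs : ¬ N ≤ Geo.scalars ι F) (ha : ¬ AbsIrr N) (hc : FormClifford ho.ref H N) : OrthOutcome Q H := by
  have h := ho.ref
  have h2 := ho.two_ne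
  have hodd := ho.odd_dim
  cases hc with
  | scalar hN => exact absurd hN hs
  | absIrr hN => exact absurd hN ha
  | orth t m D hD hle htrans => exact .of_orth ho hH hD hle htrans
  | pair k D hk hD hts hle =>
    obtain ⟨a, ha'⟩ := hodd
    omega
  | selfAdjointField r K hσ hr hK hle hsa hnot hns =>
    refine .selfAdjointField r K hr (fun hr' => hns fun x hx => ?_) hK (fun z hz u w => ?_) hle
    · obtain ⟨hxa, hxK⟩ := hnot hr'.symm x hx
      rw [ho.ref.adj_isometry (hH (hNH hx))] at hxa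
      have hsq : (x : Matrix ι ι F) * (x : Matrix ι ι F) = 1 := by
        conv_lhs => arg 1; rw [← hxa]
        exact Units.inv_mul x
      by_cases h1 : (x : Matrix ι ι F) - 1 = 0
      · exact mem_scalars_of_smul_one (c := 1) (by rw [one_smul, sub_eq_zero.1 h1])
      obtain ⟨y, -, hy⟩ := hK.inv _ (K.sub_mem hxK (one_mem K)) h1
      have h3 : ((x : Matrix ι ι F) + 1) * ((x : Matrix ι ι F) - 1) = 0 := by
        rw [mul_sub, add_mul, mul_one, one_mul, hsq]; abel
      have h4 : (x : Matrix ι ι F) + 1 = 0 := by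
        calc (x : Matrix ι ι F) + 1 = ((x : Matrix ι ι F) + 1) * (((x : Matrix ι ι F) - 1) * y) := by rw [hy, mul_one]
          _ = 0 := by rw [← mul_assoc, h3, zero_mul]
      exact mem_scalars_of_smul_one (c := -1) (by rw [neg_one_smul, eq_neg_of_add_eq_zero_left h4])
    · rw [ho.ref.adj_right, hsa z hz]
  | twistedField K _ hK hle hadj =>
    exact absurd (dvd_card_of_isFieldSubalgebra hK) (fun hd => (Nat.not_even_iff_odd.2 hodd) (even_iff_two_dvd.2 hd))
  | unitaryField r K hσ => exact absurd rfl hσ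
  | tensor d k e P hd hk G₁ G₂ l hd₁ hd₂ hl hh₁ hh₂ N' hN' hfix hgram hle =>
    have hcard : Fintype.card ι = d * k := by simpa using Fintype.card_congr e
    rw [hcard, Nat.odd_mul] at hodd
    have hs₁ : G₁ᵀ = l • G₁ := by simpa using hh₁
    obtain rfl : l = 1 := eq_one_of_odd_herm h2 (by simpa using hodd.1) hd₁ hl hs₁
    have hs₂ : G₂ᵀ = G₂ := Matrix.ext fun p q => by
      rw [Matrix.transpose_apply, hh₂ p q, RingEquiv.refl_apply, one_mul, one_mul]
    obtain ⟨P', c, hc, hgram', hle'⟩ :=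
      ho.exists_tensor_coord hodd.1 hodd.2 e P hd₁ hd₂ (by simpa using hs₁) hs₂ hgram
    exact .of_tensor ho hH (odd_three_le hodd.1 hd) (odd_three_le hodd.2 hk) e P' hc hgram' (hle.trans hle')

theorem OrthOutcome.of_simple (ho : OddOrth Q) [Nonempty ι]
    (hH : H ≤ preserving (glToMat ι F) (QuadraticMap.polar Q))
    {P : Subgroup (GL ι F)} (hP : SimpleCore H P) : OrthOutcome Q H := by
  have hfP := hP.le.trans hH
  by_cases hF : ∃ F₁ : Subfield F, F₁ ≠ ⊤ ∧ Geo.RealisableOver F₁ (Geo.matrixSet P)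
  · obtain ⟨F₁, h1, h2⟩ := hF
    exact .of_realisable ho hP.absIrred hfP hP.normal h1 h2
  refine .residual ⟨P, hP.isResidualCore fun F₀ h0 h1 => hF ⟨F₀, h0, h1⟩, ?_⟩
  rintro ⟨σ, g, hg, hfix⟩
  exact hF (hP.absIrred.realisable_of_two_forms (σ₁ := σ) (σ₂ := RingEquiv.refl F)
    (fun h0 => hg.ne_refl (by rw [← h0]; rfl)) (RefForm.of_unitary hg) ho.ref
    (fun x hx u v => hfix _ ⟨x, hx, rfl⟩ u v) hfP)

theorem OrthOutcome.of_commuting (ho : OddOrth Q) [Nonempty ι]
    (hH : H ≤ preserving (glToMat ι F) (QuadraticMap.polar Q)) {P : Subgroup (GL ι F)} {t : ℕ}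
    {L : Fin t → Subgroup (GL ι F)} (hc : CommutingData H P L) : OrthOutcome Q H := by
  classical
  obtain ⟨d, e, B, N', G, c, l, hd⟩ := ho.ref.power_data hH hc
  have h2 := ho.two_ne
  have hcard : Fintype.card ι = d ^ t := by simpa using Fintype.card_congr e
  have hdodd : Odd d := by
    by_contra he
    exact Nat.not_even_iff_odd.2 ho.odd_dim (hcard ▸ (Nat.even_pow.2
      ⟨Nat.not_odd_iff_even.1 he, by have := hc.two_le; omega⟩))
  obtain rfl : l = 1 := eq_one_of_odd_herm h2 (by simpa using hdodd) hd.det hd.norm (by simpa using hd.herm)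
  have hG : Gᵀ = G := by simpa using hd.herm
  refine .tensorPower d t e B _ (odd_three_le hdodd hd.two_le) hc.two_le ?_ (matForm_symmetricForm hd.det hG)
    (ho.ref.tensorPowerFormStructure hd.c_ne hd.gram) hd.le_wreath
  rintro ⟨h3, rfl⟩
  -- the factors are soluble
  obtain ⟨T, μ, hμ, hT⟩ := exists_congr_scalar h2 hdodd hd.det hG
  let ψ : N' →* orthThree F :=
    ((MulAut.conj T⁻¹).toMonoidHom.comp N'.subtype).codRestrict _ fun X => by
      have h1 := hd.fix _ X.2
      rw [RingEquiv.coe_refl, Matrix.map_id] at h1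
      rw [mem_orthThree]
      set Y : Matrix (Fin 3) (Fin 3) F := ((X : GL (Fin 3) F) : Matrix (Fin 3) (Fin 3) F)
      set Z : GL (Fin 3) F := (MulAut.conj T⁻¹).toMonoidHom.comp N'.subtype X with hZ
      have hTZ : (T : Matrix (Fin 3) (Fin 3) F) * (Z : Matrix (Fin 3) (Fin 3) F) =
          Y * (T : Matrix (Fin 3) (Fin 3) F) := by
        rw [hZ]
        show (T : Matrix (Fin 3) (Fin 3) F) * ((T⁻¹ * (X : GL (Fin 3) F) * T⁻¹⁻¹ : GL (Fin 3) F) :
          Matrix (Fin 3) (Fin 3) F) = _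
        rw [inv_inv, Units.val_mul, Units.val_mul, ← mul_assoc, ← mul_assoc, Units.mul_inv, one_mul]
      have h4 : (Z : Matrix (Fin 3) (Fin 3) F)ᵀ * (μ • 1) * (Z : Matrix (Fin 3) (Fin 3) F) = μ • 1 := by
        rw [← hT]
        calc _ = ((T : Matrix (Fin 3) (Fin 3) F) * (Z : Matrix (Fin 3) (Fin 3) F))ᵀ * G *
              ((T : Matrix (Fin 3) (Fin 3) F) * (Z : Matrix (Fin 3) (Fin 3) F)) := by
              rw [Matrix.transpose_mul]; simp only [mul_assoc]
          _ = (T : Matrix (Fin 3) (Fin 3) F)ᵀ * (Yᵀ * G * Y) * (T : Matrix (Fin 3) (Fin 3) F) := by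
              rw [hTZ, Matrix.transpose_mul]; simp only [mul_assoc]
          _ = _ := by rw [h1]
      rw [Matrix.mul_smul, mul_one, Matrix.smul_mul] at h4
      exact smul_right_injective _ hμ h4
  have hinj : Function.Injective ψ := fun a b hab => Subtype.ext ((MulAut.conj T⁻¹).injective
    (congrArg Subtype.val hab))
  have := orthThree_solvable h3
  have hN' : Group.IsSolvable N' := Group.isSolvable_of_isSolvable_injective hinj
  refine not_perfect_of_solvable hc.perfect (fun h0 => hc.not_scalar (h0 ▸ bot_le)) hc.gen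
    (isSolvable_iSup_commuting L (fun i => ?_) hc.comm)
  let θ : GL (Fin 3) F →* GL ι F :=
    (coordGL e B).toMonoidHom.comp (Units.map (slotHom (F := F) (m := 3) i : _ →* _))
  have : Group.IsSolvable (N'.map θ) := Group.isSolvable_of_surjective (θ.subgroupMap_surjective N')
  have hle : L i ≤ N'.map θ := fun x hx => by
    obtain ⟨X, hX, hXx⟩ := hd.gen i x hx
    exact ⟨X, hX, Units.ext hXx⟩
  exact Group.isSolvable_of_isSolvable_injective (Subgroup.inclusion_injective hle)

/-- Aschbacher's theorem for a quadratic form in odd dimension and odd characteristic. -/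
theorem orth_outcome (ho : OddOrth Q) (hH : H ≤ preserving (glToMat ι F) (QuadraticMap.polar Q)) :
    OrthOutcome Q H := by
  classical
  have : Nonempty ι := Fintype.card_pos_iff.1 (by have := ho.three_le; omega)
  have hι : 2 ≤ Fintype.card ι := by have := ho.three_le; omega
  have h := ho.ref
  by_cases hirr : Irr H
  swap
  · rcases reducible_cases h hH hirr with ⟨W, h0, hts, hle⟩ | ⟨W, h0, h1, hnd, -, hle, -⟩ |
      ⟨D, k, hk, -, -, -⟩
    · exact .totallySingular W h0 (fun w hw => (mul_eq_zero.1 (show (2 : F) * Q w = 0 by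
        rw [← polar_self ho.quad]; exact hts w hw w hw)).resolve_left ho.two_ne) hle
    · exact .nondegenerate W h0 h1 hnd hle
    · obtain ⟨a, ha⟩ := ho.odd_dim
      omega
  by_cases hnorm : ∀ A, A ≤ H → NormalIn H A → ¬ A ≤ Geo.scalars ι F → AbsIrr A
  swap
  · push Not at hnorm
    obtain ⟨N, hNH, hn, hs, ha⟩ := hnorm
    exact .of_clifford ho hH hNH hs ha (h.clifford hH hirr hNH hn)
  cases normal_shape hι hirr hnorm with
  | classTwo M hM =>
    exfalso
    obtain ⟨k, hb⟩ := hM.bilinear h hH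
    rcases k with _ | k
    · have := ho.three_le; have := hb.dim; simp at this; omega
    · exact Nat.not_even_iff_odd.2 ho.odd_dim (by rw [hb.dim, pow_succ]; exact even_two.mul_left _)
  | simple P hP => exact .of_simple ho hH hP
  | commuting P t L hP => exact .of_commuting ho hH hP

end Cfsg.Agent.Aschbacher
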