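import Cfsg.Agent.Lib.Aschbacher.UnitarySubfield
import Cfsg.Agent.Lib.MaxCl.OrthBase

/-!
`Ω` in odd dimension and odd characteristic: it is irreducible, lies in no frame stabiliser and in no
subfield group.
-/

set_option autoImplicit false

namespace Cfsg.Agent.Aschbacher

open Matrix
open scoped MatrixGroups
open Cfsg.Agent.MaxCl
open Cfsg.Agent.MaxCl.Orth
open Module (finrank)

variable {ι : Type} [Fintype ι] [DecidableEq ι] {F : Type*} [Field F]

theorem omega_le_specialLinear (Q : (ι → F) → F) : Geo.omegaGL Q ≤ Geo.specialLinear ι F := by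
  unfold Geo.omegaGL
  rw [Subgroup.map_le_iff_le_comap]
  intro x hx
  exact Abelianization.commutator_subset_ker
    (Matrix.GeneralLinearGroup.det.comp (isometryGroup F Q).subtype) hx

theorem gram_mulVec {f : (ι → F) → (ι → F) → F} (hb : Geo.IsBilinearForm f) (u v : ι → F) :
    f u v = u ⬝ᵥ (Geo.gramMatrix f *ᵥ v) := by
  let φ : (ι → F) → (ι → F) →ₗ[F] F := fun w =>
    { toFun := fun u => f u w, map_add' := fun x y => hb.add_left x y w
      map_smul' := fun c x => hb.smul_left c x w }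
  let ψ : (ι → F) → (ι → F) →ₗ[F] F := fun w =>
    { toFun := fun v => f w v, map_add' := fun x y => hb.add_right w x y
      map_smul' := fun c x => hb.smul_right c w x }
  show φ v u = _
  conv_lhs => rw [pi_eq_sum_univ' u, map_sum]
  simp only [map_smul, smul_eq_mul]
  refine Finset.sum_congr rfl fun i _ => ?_
  congr 1
  show ψ (Pi.single i 1) v = _
  conv_lhs => rw [pi_eq_sum_univ' v, map_sum]
  simp only [map_smul, smul_eq_mul, Matrix.mulVec, dotProduct]
  exact Finset.sum_congr rfl fun j _ => mul_comm _ _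

theorem gram_conj {f : (ι → F) → (ι → F) → F} (hb : Geo.IsBilinearForm f) (x : Matrix ι ι F) :
    Geo.gramMatrix (fun u v => f (x *ᵥ u) (x *ᵥ v)) = xᵀ * Geo.gramMatrix f * x := by
  ext i j
  show f _ _ = _
  rw [gram_mulVec hb, Matrix.mulVec_mulVec]
  simp only [dotProduct, Matrix.mul_apply, Matrix.transpose_apply, Matrix.mulVec_single,
    MulOpposite.op_one, one_smul, Matrix.col_apply, Finset.mul_sum, Finset.sum_mul, mul_assoc]
  exact Finset.sum_comm

/-- In odd dimension an isometry of determinant one fixes a non-zero vector. -/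
theorem isometry_det_sub_one {f : (ι → F) → (ι → F) → F} (hb : Geo.IsBilinearForm f)
    (hnd : Geo.IsNondegenerateForm f) (hodd : Odd (Fintype.card ι)) (h2 : (2 : F) ≠ 0) {x : Matrix ι ι F}
    (hx : ∀ u v, f (x *ᵥ u) (x *ᵥ v) = f u v) (hdet : x.det = 1) : (x - 1).det = 0 := by
  set G := Geo.gramMatrix f
  have hG : xᵀ * G * x = G := by
    rw [← gram_conj hb]
    ext i j
    exact hx _ _
  have h1 : xᵀ * G * (x - 1) = -((xᵀ - 1) * G) := by
    rw [mul_sub, hG, sub_mul, mul_one, one_mul, neg_sub]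
  have h3 := congrArg Matrix.det h1
  rw [Matrix.det_mul, Matrix.det_mul, Matrix.det_transpose, hdet, one_mul, Matrix.det_neg,
    Matrix.det_mul, hodd.neg_one_pow,
    show (xᵀ - 1).det = (x - 1).det by rw [← Matrix.det_transpose (x - 1), Matrix.transpose_sub,
      Matrix.transpose_one]] at h3
  have h4 : 2 * G.det * (x - 1).det = 0 := by linear_combination h3
  rcases mul_eq_zero.1 h4 with h | h
  · exact absurd h (mul_ne_zero h2 (det_gram_ne_zero (IsSesq.of_bilinear hb) hnd))
  · exact h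

variable {Q : QuadraticForm F (ι → F)}

set_option quotPrecheck false in
local notation "B" => QuadraticMap.polar (⇑Q)

theorem polar_isBilinear (Q : QuadraticForm F (ι → F)) : Geo.IsBilinearForm (QuadraticMap.polar (⇑Q)) :=
  ⟨B_add_left Q, fun c x v => B_smul_left Q c x v, fun v x y => B_add_right Q v x y,
    fun c v x => B_smul_right Q c v x⟩

theorem polar_nondegenerate (hQ : (QuadraticMap.polarBilin Q).Nondegenerate) :
    Geo.IsNondegenerateForm B := by
  intro v hv
  obtain ⟨y, hy⟩ := exists_B_ne_zero hQ hv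
  exact ⟨⟨y, by rwa [B_comm Q]⟩, y, hy⟩

variable [Fintype F] (hQ : (QuadraticMap.polarBilin Q).Nondegenerate) (h5 : 5 ≤ Fintype.card ι)
include hQ h5

theorem exists_singular_pairing {x : ι → F} (hx : x ≠ 0) : ∃ u, Q u = 0 ∧ B u x ≠ 0 := by
  by_contra hcon
  push Not at hcon
  obtain ⟨u, -, hu0, hu⟩ := exists_singular Q (D := (⊤ : Submodule F (ι → F))) (by
    rw [finrank_top, Module.finrank_pi]; omega)
  have hz : ∀ z, B u z ≠ 0 → B z x = 0 := by
    intro z hz
    have h1 := hcon ((B u z)⁻¹ • z - Q ((B u z)⁻¹ • z) • u) (by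
      simp only [Q_sub Q, Q_smul Q, B_smul_left Q, B_smul_right Q, hu, B_comm Q z u]
      field_simp
      ring)
    rw [B_sub_left Q, B_smul_left Q, B_smul_left Q, hcon u hu, mul_zero, sub_zero] at h1
    exact (mul_eq_zero.1 h1).resolve_left (inv_ne_zero hz)
  obtain ⟨z₀, hz₀⟩ := exists_B_ne_zero hQ hu0
  obtain ⟨y, hy⟩ := exists_B_ne_zero hQ hx
  apply hy
  rw [B_comm Q]
  by_cases hyu : B u y = 0
  · have h1 := hz (y + z₀) (by rwa [B_add_right Q, hyu, zero_add])
    rwa [B_add_left Q, hz z₀ hz₀, add_zero] at h1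
  · exact hz y hyu

theorem omega_irr (h2 : (2 : F) ≠ 0) {W : Submodule F (ι → F)}
    (hW : ∀ g ∈ Geo.omegaGL (⇑Q), ∀ v ∈ W, (g : Matrix ι ι F) *ᵥ v ∈ W) (h0 : W ≠ ⊥) : W = ⊤ := by
  obtain ⟨x, hx, hx0⟩ := W.ne_bot_iff.1 h0
  obtain ⟨u, hu, hux⟩ := exists_singular_pairing hQ h5 hx0
  have hu0 : u ≠ 0 := by rintro rfl; exact hux (B_zero_left Q x)
  have hdiff : ∀ w, B u w = 0 → B u x • w - B w x • u ∈ W ∧ (Q w * B u x) • u ∈ W := by
    intro w hw
    have hw' : B u (-w) = 0 := by rw [B_neg_right Q, hw, neg_zero]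
    have h1 := hW _ (sg_mem_omega hQ h5 u w) x hx
    have h2' := hW _ (sg_mem_omega hQ h5 u (-w)) x hx
    rw [← act_apply, act_sg Q hu hw] at h1
    rw [← act_apply, act_sg Q hu hw'] at h2'
    rw [B_neg_left Q, Q_neg Q] at h2'
    refine ⟨(Submodule.smul_mem_iff W h2).1 ?_, (Submodule.smul_mem_iff W h2).1 ?_⟩
    · convert W.sub_mem h1 h2' using 1
      module
    · convert W.sub_mem (W.add_mem hx hx) (W.add_mem h1 h2') using 1
      module
  have hperp : finrank F (perp Q (F ∙ u)) = Fintype.card ι - 1 := by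
    rw [finrank_perp hQ, finrank_span_singleton hu0]
  obtain ⟨w₀, hw₀, hQw₀⟩ := exists_nonsingular hQ (D := perp Q (F ∙ u)) (by omega)
  have huW : u ∈ W := (Submodule.smul_mem_iff W (mul_ne_zero hQw₀ hux)).1
    (hdiff w₀ (hw₀ u (Submodule.mem_span_singleton_self u))).2
  have hle : perp Q (F ∙ u) ≤ W := fun w hw => by
    have h1 := W.add_mem (hdiff w (hw u (Submodule.mem_span_singleton_self u))).1
      (W.smul_mem (B w x) huW)
    rw [sub_add_cancel] at h1
    exact (Submodule.smul_mem_iff W hux).1 h1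
  have hlt : perp Q (F ∙ u) < W := lt_of_le_of_ne hle fun he =>
    hux ((he ▸ hx : x ∈ perp Q (F ∙ u)) u (Submodule.mem_span_singleton_self u))
  have := Submodule.finrank_lt_finrank_of_lt hlt
  refine Submodule.eq_top_of_finrank_eq ?_
  have := Submodule.finrank_le W
  rw [Module.finrank_pi] at *
  omega

theorem omega_not_le_subspaceStabilizer (h2 : (2 : F) ≠ 0) {W : Submodule F (ι → F)} (h0 : W ≠ ⊥)
    (h1 : W ≠ ⊤) : ¬ Geo.omegaGL (⇑Q) ≤ Geo.subspaceStabilizer W := by
  intro hle
  refine h1 (omega_irr hQ h5 h2 (fun g hg v hv => ?_) h0)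
  exact (hle hg v).1 hv

theorem omega_not_le_frame (h2 : (2 : F) ≠ 0) (b : Module.Basis ι F (ι → F)) :
    ¬ ∀ g ∈ Geo.omegaGL (⇑Q), ∀ i, ∃ (j : ι) (c : F), (g : Matrix ι ι F) *ᵥ b i = c • b j := by
  classical
  intro hall
  obtain ⟨i₀⟩ : Nonempty ι := Fintype.card_pos_iff.1 (by omega)
  set x := b i₀
  obtain ⟨u, hu, hux⟩ := exists_singular_pairing hQ h5 (b.ne_zero i₀)
  obtain ⟨z, hz⟩ : ∃ z, B u z = 1 := ⟨(B u x)⁻¹ • x, by rw [B_smul_right Q, inv_mul_cancel₀ hux]⟩
  let D := perp Q (Submodule.span F (Set.range ![u, z]))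
  have hD : ∀ w ∈ D, B u w = 0 ∧ B z w = 0 := fun w hw =>
    ⟨hw u (Submodule.subset_span ⟨0, rfl⟩), hw z (Submodule.subset_span ⟨1, rfl⟩)⟩
  choose j c hjc using fun w : D => hall _ (sg_mem_omega hQ h5 u (w : ι → F)) i₀
  have hinj : Function.Injective fun w : D => (j w, c w) := by
    intro w w' he
    simp only [Prod.mk.injEq] at he
    have h1 := (hjc w).trans (by rw [he.1, he.2] : c w • b (j w) = c w' • b (j w'))
    rw [← hjc w', ← act_apply, ← act_apply, act_sg Q hu (hD _ w.2).1, act_sg Q hu (hD _ w'.2).1] at h1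
    apply Subtype.ext
    set d := (w : ι → F) - (w' : ι → F) with hd
    have h3 : B u x • d = (B (w : ι → F) x + Q w * B u x - (B (w' : ι → F) x + Q w' * B u x)) • u := by
      linear_combination (norm := module) h1
    have h4 := congrArg (B z) h3
    have hdD := hD d (D.sub_mem w.2 w'.2)
    rw [B_smul_right Q, B_smul_right Q, hdD.2, mul_zero, B_comm Q z u, hz, mul_one] at h4
    rw [← h4, zero_smul] at h3
    exact sub_eq_zero.1 ((smul_eq_zero.1 h3).resolve_left hux)
  have hle := Fintype.card_le_of_injective _ hinj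
  rw [Module.card_eq_pow_finrank (K := F), Fintype.card_prod] at hle
  have hDdim : Fintype.card ι - 2 ≤ finrank F D := by
    have := finrank_span_list_le ![u, z]
    show _ ≤ finrank F (perp Q _)
    rw [finrank_perp hQ]; omega
  have hq : 3 ≤ Fintype.card F := by
    by_contra hlt
    have h1 := Fintype.one_lt_card (α := F)
    have h2' : Fintype.card F = 2 := by omega
    have h3' := FiniteField.cast_card_eq_zero F
    rw [h2'] at h3'
    exact h2 (by exact_mod_cast h3')
  have hkey : ∀ m, 2 ≤ m → m + 3 < 3 ^ m := by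
    intro m hm
    induction m, hm using Nat.le_induction with
    | base => norm_num
    | succ m hm ih => rw [pow_succ]; omega
  obtain ⟨m, hm⟩ : ∃ m, Fintype.card ι = m + 3 := ⟨Fintype.card ι - 3, by omega⟩
  have h6 : Fintype.card F ^ (m + 1) ≤ (m + 3) * Fintype.card F := hm ▸
    (Nat.pow_le_pow_right (by omega) (show m + 1 ≤ finrank F D by omega)).trans hle
  rw [pow_succ] at h6
  have h7 := Nat.le_of_mul_le_mul_right h6 (by omega)
  have := Nat.pow_le_pow_left hq m
  have := hkey m (by omega)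
  omega

theorem omega_not_le_subfieldSubgroup (h2 : (2 : F) ≠ 0) {F₀ : Subfield F} (hF₀ : F₀ ≠ ⊤) (P : GL ι F) :
    ¬ Geo.omegaGL (⇑Q) ≤ Geo.subfieldSubgroup F₀ P := by
  classical
  intro hle
  obtain ⟨p, hpC⟩ := CharP.exists F
  haveI := hpC
  haveI : Fact p.Prime := ⟨CharP.char_is_prime F p⟩
  obtain ⟨u, -, hu0, hu⟩ := exists_singular Q (D := (⊤ : Submodule F (ι → F))) (by
    rw [finrank_top, Module.finrank_pi]; omega)
  obtain ⟨w, hw, hQw⟩ := exists_nonsingular hQ (D := perp Q (F ∙ u)) (by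
    rw [finrank_perp hQ, finrank_span_singleton hu0]; omega)
  have huw : B u w = 0 := hw u (Submodule.mem_span_singleton_self u)
  have haw : ∀ a : F, B u (a • w) = 0 := fun a => by rw [B_smul_right Q, huw, mul_zero]
  have hpow : ∀ (a : F) (m : ℕ), sg Q u (a • w) ^ m = sg Q u (((m : F) * a) • w) := by
    intro a m
    induction m with
    | zero => rw [pow_zero, Nat.cast_zero, zero_mul, zero_smul, sg_zero]
    | succ m ih => rw [pow_succ, ih, sg_add Q hu (haw _) (haw _), ← add_smul, Nat.cast_succ, add_mul,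
        one_mul]
  -- conjugates have entries in `F₀`
  have hent : ∀ (a : F) (i j : ι),
      ((P⁻¹ * sg Q u (a • w) * P : GL ι F) : Matrix ι ι F) i j ∈ F₀ := by
    intro a
    obtain ⟨s, hs, hsg⟩ := hle (sg_mem_omega hQ h5 u (a • w))
    have hsp : s ^ p = 1 := by
      apply (MulAut.conj P).injective
      rw [map_pow, show MulAut.conj P s = sg Q u (a • w) from hsg, map_one, hpow, CharP.cast_eq_zero F p,
        zero_mul, zero_smul, sg_zero]
    rw [show P⁻¹ * sg Q u (a • w) * P = s by rw [← hsg]; simp [mul_assoc]]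
    obtain ⟨g', hg', z, hz, hgz⟩ := Subgroup.mem_sup_of_normal_right.1 hs
    obtain ⟨g₀, rfl⟩ := hg'
    obtain ⟨l, hl⟩ := (Geo.mem_scalars_iff z).1 hz
    have hsl : (s : Matrix ι ι F) = (l : F) • (g₀ : Matrix ι ι F₀).map F₀.subtype := by
      rw [← hgz, Units.val_mul, hl, Matrix.mul_smul, mul_one]; rfl
    obtain ⟨i₀⟩ : Nonempty ι := Fintype.card_pos_iff.1 (by omega)
    have h1 : (l : F) ^ p • (((g₀ : Matrix ι ι F₀) ^ p).map F₀.subtype) = 1 := by
      rw [Matrix.map_pow, ← smul_pow, ← hsl, ← Units.val_pow_eq_pow_val, hsp, Units.val_one]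
    have h1' := congrFun (congrFun h1 i₀) i₀
    rw [Matrix.smul_apply, Matrix.map_apply, smul_eq_mul, Matrix.one_apply_eq] at h1'
    have hlp : (l : F) ^ p ∈ F₀ := by
      rw [eq_inv_of_mul_eq_one_left h1']
      exact inv_mem (SetLike.coe_mem _)
    have hinj : Function.Injective fun μ : F₀ => μ ^ p := fun μ ν he =>
      Subtype.ext (frobenius_inj F p (by
        simpa [frobenius_def] using congrArg (Subtype.val : F₀ → F) he))
    obtain ⟨μ, hμ⟩ := Finite.injective_iff_surjective.1 hinj ⟨_, hlp⟩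
    have hlμ : (l : F) = μ := frobenius_inj F p (by
      simpa [frobenius_def] using (congrArg (Subtype.val : F₀ → F) hμ).symm)
    intro i j
    rw [hsl, Matrix.smul_apply, Matrix.map_apply, smul_eq_mul, hlμ]
    exact mul_mem μ.2 (SetLike.coe_mem _)
  let M : F → Matrix ι ι F := fun a =>
    (sg Q u (a • w) : Matrix ι ι F) - (sg Q u (-a • w) : Matrix ι ι F)
  have hM : ∀ a x, M a *ᵥ x = (2 * a) • (B u x • w - B w x • u) := by
    intro a x
    simp only [M, Matrix.sub_mulVec]
    rw [← act_apply, ← act_apply, act_sg Q hu (haw a), act_sg Q hu (haw (-a))]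
    simp only [B_smul_left Q, Q_smul Q]
    module
  have hlin : ∀ a, M a = a • M 1 := fun a => Matrix.ext_of_mulVec_single fun i => by
    rw [Matrix.smul_mulVec, hM, hM, smul_smul, mul_one, mul_comm]
  let N : F → Matrix ι ι F := fun a =>
    ((P⁻¹ : GL ι F) : Matrix ι ι F) * M a * (P : Matrix ι ι F)
  have hN : ∀ a i j, N a i j ∈ F₀ := by
    intro a i j
    simp only [N, M, mul_sub, sub_mul, Matrix.sub_apply]
    refine sub_mem ?_ ?_
    · simpa using hent a i j
    · simpa using hent (-a) i j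
  obtain ⟨i, j, hij⟩ : ∃ i j, N 1 i j ≠ 0 := by
    by_contra hc
    push Not at hc
    have h0 : M 1 = 0 := by
      have h1 : (P : Matrix ι ι F) * N 1 * ((P⁻¹ : GL ι F) : Matrix ι ι F) = M 1 := by
        simp [N, ← mul_assoc]
      rw [← h1, show N 1 = 0 from Matrix.ext hc, mul_zero, zero_mul]
    obtain ⟨x, hx⟩ := exists_B_ne_zero hQ hu0
    have h1 := hM 1 x
    rw [h0, Matrix.zero_mulVec, mul_one, eq_comm, smul_eq_zero] at h1
    have h3 : w = (B w x / B u x) • u := by
      rw [div_eq_inv_mul, ← smul_smul, ← sub_eq_zero.1 (h1.resolve_left h2), smul_smul,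
        inv_mul_cancel₀ hx, one_smul]
    exact hQw (by rw [h3, Q_smul Q, hu, mul_zero])
  refine hF₀ (eq_top_iff.2 fun a _ => ?_)
  have h1 := hN a i j
  rw [show N a = a • N 1 by simp only [N, hlin a, Matrix.mul_smul, Matrix.smul_mul], Matrix.smul_apply,
    smul_eq_mul] at h1
  rw [show a = a * N 1 i j * (N 1 i j)⁻¹ by rw [mul_inv_cancel_right₀ hij]]
  exact mul_mem h1 (inv_mem (hN 1 i j))

end Cfsg.Agent.Aschbacher
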