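import Cfsg.Agent.Lib.Aschbacher.FormUnitary
import Cfsg.Agent.Lib.Aschbacher.OrthBasic
import Cfsg.Agent.Lib.Forms.Classify
import Cfsg.Agent.Lib.CharInt.Burnside

/-!
Symmetric forms in odd dimension and odd characteristic: congruence to a scalar matrix, the orthogonal
matrices of degree three over three elements, rational structures carrying the quadratic form.
-/

set_option autoImplicit false
set_option linter.unusedSectionVars false

namespace Cfsg.Agent.Aschbacher

open Matrix
open scoped MatrixGroups Kronecker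

variable {F : Type*} [Field F] {ι : Type} [Fintype ι] [DecidableEq ι]

/-- A skew matrix of odd size is singular. -/
theorem eq_one_of_odd_herm (h2 : (2 : F) ≠ 0) {κ : Type} [Fintype κ] [DecidableEq κ]
    (hodd : Odd (Fintype.card κ)) {G : Matrix κ κ F} {l : F} (hd : G.det ≠ 0) (hl : l * l = 1)
    (hG : Gᵀ = l • G) : l = 1 := by
  rcases mul_self_eq_one_iff.1 hl with h | h
  · exact h
  exfalso
  have h1 := congrArg Matrix.det hG
  rw [Matrix.det_transpose, Matrix.det_smul, h, hodd.neg_one_pow] at h1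
  exact mul_ne_zero h2 hd (by linear_combination h1)

/-- A symmetric matrix of odd size is congruent to a scalar matrix. -/
theorem exists_congr_scalar [Fintype F] (h2 : (2 : F) ≠ 0) {d : ℕ} (hd : Odd d)
    {G : Matrix (Fin d) (Fin d) F} (hG : G.det ≠ 0) (hs : Gᵀ = G) :
    ∃ (T : GL (Fin d) F) (μ : F), μ ≠ 0 ∧
      (T : Matrix (Fin d) (Fin d) F)ᵀ * G * (T : Matrix (Fin d) (Fin d) F) = μ • 1 := by
  classical
  obtain ⟨r, rfl⟩ := hd
  obtain ⟨α, hα⟩ := FiniteField.exists_nonsquare (F := F) fun hc => h2 (by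
    have := ringChar.Nat.cast_ringChar (R := F); rw [hc] at this; exact_mod_cast this)
  set s := G.det with hsdef
  have hdA : (s • G).det ≠ 0 := by rw [Matrix.det_smul]; exact mul_ne_zero (pow_ne_zero _ hG) hG
  obtain ⟨e, c, hc, he⟩ := Forms.exists_symm_coords h2
    (B := Matrix.toBilin' (s • G)) (n := 2 * r) (fun x y => by
      rw [Matrix.toBilin'_apply', Matrix.toBilin'_apply', Matrix.dotProduct_mulVec, ← Matrix.mulVec_transpose,
        Matrix.transpose_smul, hs, dotProduct_comm])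
    (fun x hx => by
      by_contra hx0
      obtain ⟨y, hy⟩ := (matForm_nondegenerate (RingEquiv.refl F) hdA x hx0).2
      refine hy ?_
      have := hx y
      rw [Matrix.toBilin'_apply'] at this
      exact this)
    (by simp) hα
  let T : GL (Fin (2 * r + 1)) F :=
    ⟨LinearMap.toMatrix' e.symm.toLinearMap, LinearMap.toMatrix' e.toLinearMap,
      by rw [← LinearMap.toMatrix'_comp, LinearEquiv.symm_comp, LinearMap.toMatrix'_id],
      by rw [← LinearMap.toMatrix'_comp, LinearEquiv.comp_symm, LinearMap.toMatrix'_id]⟩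
  have h1 : (T : Matrix (Fin (2 * r + 1)) (Fin (2 * r + 1)) F)ᵀ * (s • G) * (T : Matrix _ _ F) =
      Matrix.diagonal fun i => if i = Fin.last (2 * r) then c else 1 := by
    ext i j
    have h3 := he (e.symm (Pi.single i 1)) (e.symm (Pi.single j 1))
    rw [LinearEquiv.apply_symm_apply, LinearEquiv.apply_symm_apply, Matrix.toBilin'_apply'] at h3
    have h4 : ∀ w, e.symm w = (T : Matrix (Fin (2 * r + 1)) (Fin (2 * r + 1)) F) *ᵥ w := fun w => by
      simp [T, LinearMap.toMatrix'_mulVec]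
    rw [h4, h4] at h3
    have h5 := matForm_conj (RingHom.id F) (s • G) (T : Matrix (Fin (2 * r + 1)) (Fin (2 * r + 1)) F)
      (Pi.single i 1) (Pi.single j 1)
    simp only [matForm, RingHom.coe_id, Function.id_comp, Matrix.map_id] at h5
    rw [h5] at h3
    simp only [single_dotProduct, one_mul, Matrix.mulVec_single_one, Matrix.col_apply] at h3
    rw [h3, Matrix.diagonal_apply]
    rcases eq_or_ne i j with rfl | hij
    · simp [Pi.single_apply]
    · rw [if_neg hij]
      refine Finset.sum_eq_zero fun k _ => ?_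
      rcases eq_or_ne k i with rfl | hk
      · simp [hij]
      · simp [hk]
  have hc1 : c = 1 := by
    refine hc.resolve_right fun hcα => hα (hcα ▸ ?_)
    have h3 := congrArg Matrix.det h1
    rw [Matrix.det_diagonal, Finset.prod_ite_eq' Finset.univ (Fin.last (2 * r)) (fun _ => c),
      if_pos (Finset.mem_univ _), Matrix.det_mul, Matrix.det_mul, Matrix.det_transpose, Matrix.det_smul,
      Fintype.card_fin, ← hsdef] at h3
    exact ⟨(T : Matrix (Fin (2 * r + 1)) (Fin (2 * r + 1)) F).det * s ^ (r + 1), by rw [← h3]; ring⟩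
  subst hc1
  refine ⟨T, s⁻¹, inv_ne_zero hG, ?_⟩
  simp only [ite_self, Matrix.diagonal_one] at h1
  rw [← h1, mul_smul_comm, smul_mul_assoc, smul_smul, inv_mul_cancel₀ hG, one_smul]

/-! ### Orthogonal matrices of degree three over three elements -/

/-- The three-by-three orthogonal group. -/
def orthThree (F : Type*) [Field F] : Subgroup (GL (Fin 3) F) where
  carrier := {Y | (Y : Matrix (Fin 3) (Fin 3) F)ᵀ * (Y : Matrix (Fin 3) (Fin 3) F) = 1}
  mul_mem' {a b} (ha : _ = _) (hb : _ = _) := by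
    show _ = _
    rw [Units.val_mul, Matrix.transpose_mul, mul_assoc, ← mul_assoc _ (a : Matrix (Fin 3) (Fin 3) F), ha,
      one_mul, hb]
  one_mem' := by
    show _ = _
    rw [Units.val_one, Matrix.transpose_one, one_mul]
  inv_mem' {a} (ha : _ = _) := by
    show _ = _
    have h1 : (a : Matrix (Fin 3) (Fin 3) F) * (a : Matrix (Fin 3) (Fin 3) F)ᵀ = 1 := mul_eq_one_comm.1 ha
    have h2 : ((a⁻¹ : GL (Fin 3) F) : Matrix (Fin 3) (Fin 3) F) = (a : Matrix (Fin 3) (Fin 3) F)ᵀ :=
      Units.inv_eq_of_mul_eq_one_right h1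
    rw [h2, Matrix.transpose_transpose, h1]

theorem mem_orthThree {Y : GL (Fin 3) F} :
    Y ∈ orthThree F ↔ (Y : Matrix (Fin 3) (Fin 3) F)ᵀ * (Y : Matrix (Fin 3) (Fin 3) F) = 1 := Iff.rfl

/-- A similitude of the sum of three squares over three elements is an isometry with monomial matrix. -/
theorem monomial_of_similitude [Fintype F] (h3 : Fintype.card F = 3) {Y : GL (Fin 3) F} {μ : F}
    (hY : (Y : Matrix (Fin 3) (Fin 3) F)ᵀ * (Y : Matrix (Fin 3) (Fin 3) F) = μ • 1) (j : Fin 3) :
    ∃! i, (Y : Matrix (Fin 3) (Fin 3) F) i j ≠ 0 := by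
  classical
  have hcube : ∀ x : F, x ^ 3 = x := fun x => h3 ▸ FiniteField.pow_card x
  have hsq : ∀ x : F, x ≠ 0 → x * x = 1 := fun x hx =>
    mul_right_cancel₀ hx (by rw [one_mul]; linear_combination hcube x)
  have hμ : μ = 1 := by
    have h1 := congrArg Matrix.det hY
    have hdet : (Y : Matrix (Fin 3) (Fin 3) F).det ≠ 0 := (Y.isUnit.map Matrix.detMonoidHom).ne_zero
    rw [Matrix.det_mul, Matrix.det_transpose, hsq _ hdet,
      Matrix.det_smul, Matrix.det_one, mul_one, Fintype.card_fin, hcube] at h1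
    exact h1.symm
  subst hμ
  have h1 : ∑ i, (Y : Matrix (Fin 3) (Fin 3) F) i j * (Y : Matrix (Fin 3) (Fin 3) F) i j = 1 := by
    have := congrFun (congrFun hY j) j
    simpa [Matrix.mul_apply] using this
  set S := Finset.univ.filter fun i => (Y : Matrix (Fin 3) (Fin 3) F) i j ≠ 0
  have hcard : (S.card : F) = 1 := by
    rw [← h1, ← Finset.sum_filter_ne_zero]
    have : Finset.univ.filter (fun i => (Y : Matrix (Fin 3) (Fin 3) F) i j * (Y : Matrix (Fin 3) (Fin 3) F) i j ≠ 0) = S :=
      Finset.filter_congr fun i _ => by simp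
    rw [this, Finset.sum_congr rfl (fun i hi => hsq _ (Finset.mem_filter.1 hi).2), Finset.sum_const,
      nsmul_eq_mul, mul_one]
  have hle : S.card ≤ 3 := (Finset.card_le_univ S).trans (by simp)
  have hz : (3 : F) = 0 := by
    have := FiniteField.cast_card_eq_zero F
    rw [h3] at this
    exact_mod_cast this
  have h2 : (2 : F) ≠ 1 := fun h => one_ne_zero (by linear_combination h)
  obtain ⟨i, hi⟩ : ∃ i, S = {i} := Finset.card_eq_one.1 (by
    interval_cases hn : S.card
    · simp at hcard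
    · rfl
    · exact absurd (by exact_mod_cast hcard) h2
    · rw [show ((3 : ℕ) : F) = 0 by exact_mod_cast hz] at hcard
      exact absurd hcard zero_ne_one)
  refine ⟨i, (Finset.mem_filter.1 (hi ▸ Finset.mem_singleton_self i : i ∈ S)).2, fun k hk => ?_⟩
  exact Finset.mem_singleton.1 (hi ▸ Finset.mem_filter.2 ⟨Finset.mem_univ k, hk⟩)

theorem orthThree_monomial [Fintype F] (h3 : Fintype.card F = 3) (Y : orthThree F) (j : Fin 3) :
    ∃! i, ((Y : GL (Fin 3) F) : Matrix (Fin 3) (Fin 3) F) i j ≠ 0 :=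
  monomial_of_similitude h3 (μ := 1) (by rw [one_smul]; exact Y.2) j

theorem orthThree_solvable [Fintype F] (h3 : Fintype.card F = 3) : Group.IsSolvable (orthThree F) := by
  classical
  let π : orthThree F → Fin 3 → Fin 3 := fun Y j => (orthThree_monomial h3 Y j).exists.choose
  have hπ : ∀ (Y : orthThree F) j, ((Y : GL (Fin 3) F) : Matrix (Fin 3) (Fin 3) F) (π Y j) j ≠ 0 := fun Y j =>
    (orthThree_monomial h3 Y j).exists.choose_spec
  have huniq : ∀ (Y : orthThree F) i j, ((Y : GL (Fin 3) F) : Matrix (Fin 3) (Fin 3) F) i j ≠ 0 → i = π Y j :=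
    fun Y i j hi => (orthThree_monomial h3 Y j).unique hi (hπ Y j)
  let φ : orthThree F →* Function.End (Fin 3) :=
    { toFun := π
      map_one' := funext fun j => (huniq 1 j j (by simp)).symm
      map_mul' := fun Y Z => funext fun j => by
        show π (Y * Z) j = π Y (π Z j)
        refine (huniq (Y * Z) _ j ?_).symm
        rw [Subgroup.coe_mul, Units.val_mul, Matrix.mul_apply, Finset.sum_eq_single (π Z j)]
        · exact mul_ne_zero (hπ Y _) (hπ Z j)
        · intro b _ hb
          rw [not_not.1 (mt (huniq Z b j) hb), mul_zero]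
        · exact fun h => absurd (Finset.mem_univ _) h }
  let ψ : orthThree F →* Equiv.Perm (Fin 3) := Equiv.Perm.equivUnitsEnd.symm.toMonoidHom.comp φ.toHomUnits
  have hperm : Group.IsSolvable (Equiv.Perm (Fin 3)) := by
    have hc : Nat.card (Equiv.Perm (Fin 3)) = 2 ^ 1 * 3 ^ 1 := by
      rw [Nat.card_eq_fintype_card, Fintype.card_perm, Fintype.card_fin]
      rfl
    exact CharInt.isSolvable_of_card_eq Nat.prime_two Nat.prime_three hc
  have hker : Group.IsSolvable ψ.ker := by
    have hdiag : ∀ (Y : ψ.ker) i j, i ≠ j → (((Y : orthThree F) : GL (Fin 3) F) : Matrix (Fin 3) (Fin 3) F) i j = 0 := by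
      intro Y i j hij
      by_contra hne
      refine hij ((huniq _ i j hne).trans ?_)
      exact Equiv.congr_fun (MonoidHom.mem_ker.1 Y.2) j
    refine Group.isSolvable_of_comm fun a b => Subtype.ext (Subtype.ext (Units.ext ?_))
    show ((a : orthThree F) : GL (Fin 3) F).val * ((b : orthThree F) : GL (Fin 3) F).val =
      ((b : orthThree F) : GL (Fin 3) F).val * ((a : orthThree F) : GL (Fin 3) F).val
    ext i j
    rw [Matrix.mul_apply, Matrix.mul_apply, Finset.sum_eq_single i (fun k _ hk => by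
        rw [hdiag a i k (Ne.symm hk), zero_mul]) (by simp), Finset.sum_eq_single i (fun k _ hk => by
        rw [hdiag b i k (Ne.symm hk), zero_mul]) (by simp)]
    rcases eq_or_ne i j with rfl | hij
    · ring
    · rw [hdiag a i j hij, hdiag b i j hij]; ring
  exact Group.isSolvable_of_ker_le_range ψ.ker.subtype ψ (by rw [Subgroup.range_subtype])

/-! ### Rational structures -/

theorem mem_subfieldSubgroup_of_entries {F₀ : Subfield F} {P g : GL ι F}
    (h : ∀ i j, ((P⁻¹ * g * P : GL ι F) : Matrix ι ι F) i j ∈ F₀) : g ∈ Geo.subfieldSubgroup F₀ P := by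
  classical
  set y : GL ι F := P⁻¹ * g * P with hy
  let M : Matrix ι ι F₀ := Matrix.of fun i j => ⟨_, h i j⟩
  have hdet : M.det ≠ 0 := by
    intro h0
    have h1 := congrArg F₀.subtype h0
    rw [RingHom.map_det, map_zero] at h1
    exact (y.isUnit.map Matrix.detMonoidHom).ne_zero h1
  refine ⟨y, Subgroup.mem_sup_left ⟨Matrix.GeneralLinearGroup.mkOfDetNeZero M hdet, Units.ext rfl⟩, ?_⟩
  simp [hy, mul_assoc]

/-- In odd dimension a rational structure on which the polar form is rational up to a scalar can be scaled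
so that the quadratic form is rational. -/
theorem quad_scale {Q : (ι → F) → F} (hQ : Geo.IsNondegenerateQuadraticForm Q)
    (hodd : Odd (Fintype.card ι)) (h2 : (2 : F) ≠ 0) {F₀ : Subfield F}
    (hint : ∀ u : ι → F, (∀ i, u i ∈ F₀) → Q u ∈ F₀) {P : GL ι F} {ζ : F} (hζ : ζ ≠ 0)
    (hA : ∀ i j, ζ * QuadraticMap.polar Q ((P : Matrix ι ι F) *ᵥ Pi.single i 1)
      ((P : Matrix ι ι F) *ᵥ Pi.single j 1) ∈ F₀) :
    ∃ P' : GL ι F, Geo.subfieldSubgroup F₀ P' = Geo.subfieldSubgroup F₀ P ∧
      Geo.IsQuadFormRationalStructure Q F₀ P' := by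
  classical
  have hb := hQ.polar_bilinear
  set Gm := Geo.gramMatrix (QuadraticMap.polar Q) with hGm
  set S : Matrix ι ι F := ζ • ((P : Matrix ι ι F)ᵀ * Gm * (P : Matrix ι ι F)) with hS
  have hSmem : ∀ i j, S i j ∈ F₀ := fun i j => by
    rw [hS, hGm, ← gram_conj hb, Matrix.smul_apply, smul_eq_mul]
    exact hA i j
  have hGmem : ∀ i j, Gm i j ∈ F₀ := fun i j => by
    have hs : ∀ (a : ι) (k : ι), (Pi.single a (1 : F) : ι → F) k ∈ F₀ := fun a k => by
      rcases eq_or_ne k a with rfl | hk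
      · rw [Pi.single_eq_same]; exact one_mem F₀
      · rw [Pi.single_eq_of_ne hk]; exact zero_mem F₀
    show Q _ - Q _ - Q _ ∈ F₀
    exact sub_mem (sub_mem (hint _ fun k => add_mem (hs i k) (hs j k)) (hint _ (hs i))) (hint _ (hs j))
  have hdetmem : ∀ {M : Matrix ι ι F}, (∀ i j, M i j ∈ F₀) → M.det ∈ F₀ := by
    intro M hM
    have h1 := RingHom.map_det F₀.subtype (Matrix.of fun i j => (⟨M i j, hM i j⟩ : F₀))
    rw [show F₀.subtype.mapMatrix (Matrix.of fun i j => (⟨M i j, hM i j⟩ : F₀)) = M from rfl] at h1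
    rw [← h1]
    exact SetLike.coe_mem _
  set D := (P : Matrix ι ι F).det with hD
  have hD0 : D ≠ 0 := (P.isUnit.map Matrix.detMonoidHom).ne_zero
  have hG0 : Gm.det ≠ 0 := det_gram_ne_zero (IsSesq.of_bilinear hb) hQ.nondegenerate
  obtain ⟨m, hm⟩ := hodd
  have hdetS : S.det = ζ ^ (2 * m + 1) * (D * Gm.det * D) := by
    rw [hS, Matrix.det_smul, Matrix.det_mul, Matrix.det_mul, Matrix.det_transpose, hm]
  set μ := (ζ ^ m * D)⁻¹ with hμ
  have hμ0 : μ ≠ 0 := inv_ne_zero (mul_ne_zero (pow_ne_zero _ hζ) hD0)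
  have hμζ : μ * μ / ζ ∈ F₀ := by
    have h1 : μ * μ / ζ = Gm.det / S.det := by
      rw [hdetS, hμ]
      field_simp
      ring
    rw [h1]
    exact div_mem (hdetmem hGmem) (hdetmem hSmem)
  obtain ⟨z, hz, hzv⟩ := scalarUnit_exists (ι := ι) hμ0
  refine ⟨z * P, subfieldSubgroup_scalar_mul hz P, fun u hu => ?_⟩
  rw [mulVec_mul, hzv, Matrix.smul_mulVec, Matrix.one_mulVec, hQ.smul]
  have h1 : μ ^ 2 * Q ((P : Matrix ι ι F) *ᵥ u) = μ * μ / ζ * (u ⬝ᵥ (S *ᵥ u)) * 2⁻¹ := by
    have h2' : QuadraticMap.polar Q ((P : Matrix ι ι F) *ᵥ u) ((P : Matrix ι ι F) *ᵥ u) =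
        u ⬝ᵥ (((P : Matrix ι ι F)ᵀ * Gm * (P : Matrix ι ι F)) *ᵥ u) := by
      rw [gram_mulVec hb, ← Matrix.mulVec_mulVec, ← Matrix.mulVec_mulVec, Matrix.dotProduct_mulVec u,
        Matrix.vecMul_transpose]
    rw [hS, Matrix.smul_mulVec, dotProduct_smul, smul_eq_mul, ← h2', polar_self hQ]
    field_simp
  rw [h1]
  refine mul_mem (mul_mem hμζ ?_) (inv_mem (ofNat_mem F₀ 2))
  simp only [dotProduct, Matrix.mulVec]
  exact sum_mem fun i _ => mul_mem (hu i) (sum_mem fun j _ => mul_mem (hSmem i j) (hu j))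

end Cfsg.Agent.Aschbacher
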