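import Cfsg.Agent.Lib.Aschbacher.LinearStructure

/-!
The minimal normal structure of a group all whose non-scalar normal subgroups are absolutely irreducible.
-/

set_option autoImplicit false

namespace Cfsg.Agent.Aschbacher

open Matrix
open scoped MatrixGroups commutatorElement

variable {ι : Type} [Fintype ι] [DecidableEq ι] {F : Type*} [Field F]

/-- Commuting subgroups of `H`, permuted transitively, generating an absolutely irreducible perfect
normal subgroup. -/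
structure CommutingData (H P : Subgroup (GL ι F)) {t : ℕ} (L : Fin t → Subgroup (GL ι F)) : Prop where
  two_le : 2 ≤ t
  le : P ≤ H
  normal : NormalIn H P
  absIrr : AbsIrr P
  perfect : ⁅P, P⁆ = P
  not_scalar : ¬ P ≤ Geo.scalars ι F
  le_H : ∀ i, L i ≤ H
  injective : Function.Injective L
  gen : P ≤ ⨆ i, L i
  comm : ∀ i j, i ≠ j → ∀ x ∈ L i, ∀ y ∈ L j, x * y = y * x
  perm : ∀ h ∈ H, ∀ i, ∃ j, (L i).map (MulAut.conj h).toMonoidHom = L j
  trans : ∀ i j, ∃ h ∈ H, (L i).map (MulAut.conj h).toMonoidHom = L j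
  ns : ∀ i, ¬ L i ≤ Geo.scalars ι F

/-- The three possibilities. -/
inductive NormalShape (H : Subgroup (GL ι F)) : Prop
  | classTwo (M : Subgroup (GL ι F)) (h : ClassTwo H M)
  | simple (P : Subgroup (GL ι F)) (h : SimpleCore H P)
  | commuting (P : Subgroup (GL ι F)) (t : ℕ) (L : Fin t → Subgroup (GL ι F)) (h : CommutingData H P L)

set_option maxHeartbeats 800000 in
theorem normal_shape [Finite F] (hι : 2 ≤ Fintype.card ι) {H : Subgroup (GL ι F)} (hirr : Irr H)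
    (hnorm : ∀ A, A ≤ H → NormalIn H A → ¬ A ≤ Geo.scalars ι F → AbsIrr A) : NormalShape H := by
  classical
  set Z := H ⊓ Geo.scalars ι F with hZ
  have hZn : Z.Normal := ⟨fun z hz g => by rw [conj_scalar hz.2 g]; exact hz⟩
  have hHns : ¬ H ≤ Geo.scalars ι F :=
    fun h => not_irr_of_le_scalars hι h hirr
  let S : Set (Subgroup (GL ι F)) :=
    {N | N ≤ H ∧ NormalIn H N ∧ ¬ N ≤ Geo.scalars ι F ∧ Z ≤ N}
  obtain ⟨N, ⟨hNH, hNn, hNs, hZN⟩, hNmin⟩ := wellFounded_lt.has_min S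
    ⟨H, le_rfl, fun h hh x hx => H.mul_mem (H.mul_mem hh hx) (H.inv_mem hh), hHns, inf_le_left⟩
  have hNabs : AbsIrr N := hnorm N hNH hNn hNs
  -- a normal subgroup of `H` inside `N`, not scalar, generates `N` with `Z`
  have hgen : ∀ K, K ≤ N → NormalIn H K → ¬ K ≤ Geo.scalars ι F → K ⊔ Z = N := by
    intro K hKN hKn hKs
    have hle : K ⊔ Z ≤ N := sup_le hKN hZN
    rcases lt_or_eq_of_le hle with h | h
    · exact absurd h (hNmin _ ⟨hle.trans hNH, hKn.sup (normalIn_of_le_scalars inf_le_right),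
        fun hs => hKs (le_sup_left.trans hs), le_sup_right⟩)
    · exact h
  by_cases hcl : ⁅N, N⁆ ≤ Geo.scalars ι F
  · exact .classTwo N ⟨hNH, hNn, hNabs, hNs,
      fun x hx y hy => hcl (Subgroup.commutator_mem_commutator hx hy), hnorm, hgen⟩
  set P := ⁅N, N⁆ with hP
  have hPN : P ≤ N := by
    rw [hP, Subgroup.commutator_le]
    intro a ha b hb
    exact N.mul_mem (N.mul_mem (N.mul_mem ha hb) (N.inv_mem ha)) (N.inv_mem hb)
  have hPn : NormalIn H P := hNn.commutator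
  have hcomm_le : ∀ K, K ⊔ Z = N → ⁅N, N⁆ ≤ ⁅K, K⁆ := by
    intro K hK
    rw [Subgroup.commutator_le]
    intro a ha b hb
    rw [← hK] at ha hb
    obtain ⟨p, hp', z, hz, rfl⟩ := Subgroup.mem_sup_of_normal_right.1 ha
    obtain ⟨p', hp'', z', hz', rfl⟩ := Subgroup.mem_sup_of_normal_right.1 hb
    have c1 := scalar_comm hz.2
    have c2 := scalar_comm hz'.2
    have : ⁅p * z, p' * z'⁆ = ⁅p, p'⁆ := by
      rw [commutatorElement_def, commutatorElement_def, _root_.mul_inv_rev, _root_.mul_inv_rev]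
      calc p * z * (p' * z') * (z⁻¹ * p⁻¹) * (z'⁻¹ * p'⁻¹)
          = p * (z * (p' * z')) * z⁻¹ * p⁻¹ * z'⁻¹ * p'⁻¹ := by group
        _ = p * ((p' * z') * z) * z⁻¹ * p⁻¹ * z'⁻¹ * p'⁻¹ := by rw [c1]
        _ = p * p' * (z' * p⁻¹) * z'⁻¹ * p'⁻¹ := by group
        _ = p * p' * (p⁻¹ * z') * z'⁻¹ * p'⁻¹ := by rw [c2]
        _ = p * p' * p⁻¹ * p'⁻¹ := by group
    rw [this]
    exact Subgroup.commutator_mem_commutator hp' hp''
  have hperf : ⁅P, P⁆ = P :=
    le_antisymm (Subgroup.commutator_mono hPN hPN) (hcomm_le P (hgen P hPN hPn hcl))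
  have hPH : P ≤ H := hPN.trans hNH
  have hPabs : AbsIrr P := hnorm P hPH hPn hcl
  let S' : Set (Subgroup (GL ι F)) :=
    {U | U ≤ P ∧ NormalIn P U ∧ P ⊓ Geo.scalars ι F ≤ U ∧ ¬ U ≤ Geo.scalars ι F}
  obtain ⟨U, hUS, hUmin⟩ := wellFounded_lt.has_min S'
    ⟨P, le_rfl, fun p hp x hx => P.mul_mem (P.mul_mem hp hx) (P.inv_mem hp), inf_le_left, hcl⟩
  obtain ⟨hUP, hUn, hUc, hUs⟩ := hUS
  rcases eq_or_lt_of_le hUP with hUeq | hUlt
  · -- almost simple
    obtain ⟨hsimp, hnonab⟩ := quotient_isSimple hperf hcl fun T hTP hTn hTc hTs => by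
      rcases eq_or_lt_of_le hTP with h | h
      · exact h
      · exact absurd (hUeq.symm ▸ h) (hUmin T ⟨hTP, hTn, hTc, hTs⟩)
    exact .simple P ⟨hPH, hPn, hPabs, hperf, hsimp, hnonab,
      fun h _ hcent => hPabs.scalar_of_comm fun x hx => commute_of_mem_commutator hcent x (hperf.symm ▸ hx)⟩
  let cj : GL ι F → Subgroup (GL ι F) := fun h => U.map (MulAut.conj h).toMonoidHom
  have hcjP : ∀ h ∈ H, cj h ≤ P := by
    rintro h hh _ ⟨u, hu, rfl⟩
    exact hPn h hh u (hUP hu)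
  have hcjn : ∀ h ∈ H, NormalIn P (cj h) := by
    rintro h hh p hp' _ ⟨u, hu, rfl⟩
    refine ⟨(h⁻¹ * p * h) * u * (h⁻¹ * p * h)⁻¹, hUn _ ?_ u hu, ?_⟩
    · simpa using hPn h⁻¹ (H.inv_mem hh) p hp'
    · simp [mul_assoc]
  have hinter : ∀ h ∈ H, cj h = U ∨ U ⊓ cj h ≤ Geo.scalars ι F := by
    intro h hh
    by_contra hcon
    push Not at hcon
    have hmem : U ⊓ cj h ∈ S' := ⟨inf_le_left.trans hUP,
      fun p hp' x hx => ⟨hUn p hp' x hx.1, hcjn h hh p hp' x hx.2⟩,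
      le_inf hUc fun z hz => ⟨z, hUc hz, conj_scalar hz.2 h⟩, hcon.2⟩
    rcases lt_or_eq_of_le (inf_le_left : U ⊓ cj h ≤ U) with hlt | heq
    · exact hUmin _ hmem hlt
    · exact hcon.1 (Subgroup.eq_of_le_of_card_ge (inf_eq_left.1 heq)
        (Nat.card_congr (U.equivMapOfInjective _ (MulAut.conj h).injective).toEquiv).symm.le).symm
  have hUU : ⁅U, U⁆ ≤ U := by
    rw [Subgroup.commutator_le]
    exact fun a ha b hb => U.mul_mem (U.mul_mem (U.mul_mem ha hb) (U.inv_mem ha)) (U.inv_mem hb)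
  have hD : ¬ ⁅U, U⁆ ≤ Geo.scalars ι F := by
    intro hD
    let C : Set (GL ι F) := {g | ∃ h ∈ H, g ∈ cj h}
    have hCn : NormalIn H (Subgroup.closure C) := by
      rw [normalIn_iff_map]
      intro g hg
      rw [MonoidHom.map_closure, Subgroup.closure_le]
      rintro _ ⟨x, ⟨h, hh, u, hu, rfl⟩, rfl⟩
      exact Subgroup.subset_closure ⟨g * h, H.mul_mem hg hh, u, hu, by simp [mul_assoc]⟩
    have hCN : Subgroup.closure C ≤ N :=
      (Subgroup.closure_le _).2 fun x ⟨h, hh, hx⟩ => hPN (hcjP h hh hx)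
    have hCs : ¬ Subgroup.closure C ≤ Geo.scalars ι F := fun hs => hUs fun u hu =>
      hs (Subgroup.subset_closure ⟨1, H.one_mem, u, hu, by simp⟩)
    refine hcl ((hcomm_le _ (hgen _ hCN hCn hCs)).trans (commutator_closure_le_scalars ?_))
    rintro _ ⟨h, hh, u, hu, rfl⟩ _ ⟨h', hh', u', hu', rfl⟩
    have hw : h⁻¹ * h' ∈ H := H.mul_mem (H.inv_mem hh) hh'
    suffices hs : u * ((h⁻¹ * h') * u' * (h⁻¹ * h')⁻¹) * u⁻¹ *
        ((h⁻¹ * h') * u' * (h⁻¹ * h')⁻¹)⁻¹ ∈ Geo.scalars ι F by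
      have := Geo.scalars_normal.conj_mem _ hs h
      convert this using 1
      simp [mul_assoc]
    have hv : (h⁻¹ * h') * u' * (h⁻¹ * h')⁻¹ ∈ cj (h⁻¹ * h') := ⟨u', hu', rfl⟩
    generalize (h⁻¹ * h') * u' * (h⁻¹ * h')⁻¹ = v at hv ⊢
    rcases hinter _ hw with he | hd
    · exact hD (Subgroup.commutator_mem_commutator hu (he ▸ hv))
    · refine hd ⟨?_, ?_⟩
      · have := hUn v (hcjP _ hw hv) _ (U.inv_mem hu)
        simpa [mul_assoc] using U.mul_mem hu this
      · have := hcjn _ hw u (hUP hu) v hv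
        exact (cj (h⁻¹ * h')).mul_mem this ((cj _).inv_mem hv)
  -- the conjugates of `⁅U, U⁆`
  set L := ⁅U, U⁆ with hL
  have hLn : NormalIn P L := hUn.commutator
  have hpair : ∀ w ∈ H, L.map (MulAut.conj w).toMonoidHom = L ∨
      ∀ d ∈ L, ∀ d' ∈ L.map (MulAut.conj w).toMonoidHom, d * d' = d' * d := by
    intro w hw
    rcases hinter w hw with he | hdis
    · refine Or.inl ?_
      show (⁅U, U⁆).map _ = ⁅U, U⁆
      rw [Subgroup.map_commutator]
      exact congrArg₂ _ he he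
    · refine Or.inr fun d hd d' hd' => ?_
      have ht : d' ∈ cj w := Subgroup.map_mono hUU hd'
      exact (commute_of_mem_commutator (fun a ha => hdis
        ⟨U.mul_mem (hUn d' (hcjP w hw ht) a ha) (U.inv_mem ha), by
          have := hcjn w hw a (hUP ha) d'⁻¹ ((cj w).inv_mem ht)
          simpa [mul_assoc] using (cj w).mul_mem ht this⟩) d hd).symm
  let 𝓛 : Set (Subgroup (GL ι F)) :=
    (fun h : GL ι F => L.map (MulAut.conj h).toMonoidHom) '' H
  have : Fintype 𝓛 := Fintype.ofFinite _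
  let t := Fintype.card 𝓛
  let Ls : Fin t → Subgroup (GL ι F) := fun i => ((Fintype.equivFin 𝓛).symm i : 𝓛)
  have hLs : ∀ i, ∃ h ∈ H, L.map (MulAut.conj h).toMonoidHom = Ls i := fun i =>
    ((Fintype.equivFin 𝓛).symm i).2
  have hidx : ∀ h ∈ H, ∃ i, L.map (MulAut.conj h).toMonoidHom = Ls i := fun h hh =>
    ⟨Fintype.equivFin 𝓛 ⟨_, h, hh, rfl⟩, by simp [Ls]⟩
  -- they generate `P`
  let Q := ⨆ i, Ls i
  have hQn : NormalIn H Q := by
    rw [normalIn_iff_map]
    intro g hg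
    rw [Subgroup.map_iSup]
    refine iSup_le fun i => ?_
    obtain ⟨h, hh, hi⟩ := hLs i
    obtain ⟨j, hj⟩ := hidx (g * h) (H.mul_mem hg hh)
    rw [← hi, map_conj_map_conj, hj]
    exact le_iSup Ls j
  have hQP : Q ≤ P := iSup_le fun i => by
    obtain ⟨h, hh, hi⟩ := hLs i
    rw [← hi]
    exact (Subgroup.map_mono hUU).trans (hcjP h hh)
  have hQs : ¬ Q ≤ Geo.scalars ι F := fun hs => hD fun d hd => by
    obtain ⟨i, hi⟩ := hidx 1 H.one_mem
    exact hs (le_iSup Ls i (hi ▸ ⟨d, hd, by simp⟩))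
  have hPQ : P ≤ Q := (hcomm_le Q (hgen Q (hQP.trans hPN) hQn hQs)).trans (by
    rw [Subgroup.commutator_le]
    exact fun a ha b hb => Q.mul_mem (Q.mul_mem (Q.mul_mem ha hb) (Q.inv_mem ha)) (Q.inv_mem hb))
  have ht : 2 ≤ t := by
    by_contra hlt
    have hLH : NormalIn H L := by
      rw [normalIn_iff_map]
      intro h hh
      obtain ⟨i, hi⟩ := hidx h hh
      obtain ⟨j, hj⟩ := hidx 1 H.one_mem
      have hij : i = j := Fin.ext (by have := i.2; have := j.2; omega)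
      rw [hi, hij, ← hj, map_one]
      exact (Subgroup.map_id L).le
    have hLN : L ≤ N := (hUU.trans hUP).trans hPN
    exact (not_le_of_gt hUlt) ((hcomm_le L (hgen L hLN hLH hD)).trans
      ((Subgroup.commutator_mono hUU hUU).trans hUU))
  refine .commuting P t Ls ⟨ht, hPH, hPn, hPabs, hperf, hcl, ?_, ?_, hPQ, ?_, ?_, ?_, ?_⟩
  · intro i
    obtain ⟨h, hh, hi⟩ := hLs i
    rw [← hi]
    exact (Subgroup.map_mono hUU).trans ((hcjP h hh).trans hPH)
  · exact Subtype.val_injective.comp (Fintype.equivFin 𝓛).symm.injective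
  · intro i j hij x hx y hy
    obtain ⟨h, hh, hi⟩ := hLs i
    obtain ⟨h', hh', hj⟩ := hLs j
    rw [← hi] at hx
    rw [← hj] at hy
    obtain ⟨d, hd, rfl⟩ := hx
    obtain ⟨d', hd', rfl⟩ := hy
    rcases hpair (h⁻¹ * h') (H.mul_mem (H.inv_mem hh) hh') with he | hc
    · refine absurd ?_ hij
      have h1 := congrArg (Subgroup.map (MulAut.conj h).toMonoidHom) he
      rw [map_conj_map_conj, mul_inv_cancel_left, hi, hj] at h1
      exact (Fintype.equivFin 𝓛).symm.injective (Subtype.ext h1.symm)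
    · have h1 := hc d hd _ ⟨d', hd', rfl⟩
      have h2 := congrArg (fun g => h * g * h⁻¹) h1
      simpa [mul_assoc] using h2
  · intro g hg i
    obtain ⟨h, hh, hi⟩ := hLs i
    obtain ⟨j, hj⟩ := hidx (g * h) (H.mul_mem hg hh)
    exact ⟨j, by rw [← hi, map_conj_map_conj, hj]⟩
  · intro i j
    obtain ⟨h, hh, hi⟩ := hLs i
    obtain ⟨h', hh', hj⟩ := hLs j
    exact ⟨h' * h⁻¹, H.mul_mem hh' (H.inv_mem hh), by
      rw [← hi, map_conj_map_conj, inv_mul_cancel_right, hj]⟩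
  · intro i hs
    obtain ⟨h, hh, hi⟩ := hLs i
    refine hD fun d hd => ?_
    have h1 : h * d * h⁻¹ ∈ Geo.scalars ι F := hs (hi ▸ ⟨d, hd, rfl⟩)
    have := Geo.scalars_normal.conj_mem _ h1 h⁻¹
    simpa [mul_assoc] using this

end Cfsg.Agent.Aschbacher
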