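import Cfsg.Agent.Lib.Aschbacher.FormClifford
import Cfsg.Agent.Lib.Aschbacher.NormalShape

/-!
Commuting absolutely irreducible factors inside the isometry group of a form: one Gram matrix on every
factor, and the form is a scalar times its tensor power.
-/

set_option autoImplicit false
set_option linter.unusedSectionVars false

namespace Cfsg.Agent.Aschbacher

open Matrix
open scoped MatrixGroups

variable {ι : Type} [Fintype ι] [DecidableEq ι] {F : Type*} [Field F]

/-- Tensor power data for `H`. -/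
structure PowerData {σ : F ≃+* F} {ε : F} {f : (ι → F) → (ι → F) → F} (h : RefForm σ ε f)
    (H P : Subgroup (GL ι F)) {d t : ℕ} (L : Fin t → Subgroup (GL ι F)) (e : ι ≃ (Fin t → Fin d))
    (B : GL ι F) (N' : Subgroup (GL (Fin d) F)) (G : Matrix (Fin d) (Fin d) F) (c l : F) : Prop where
  two_le : 2 ≤ d
  le_wreath : H ≤ Geo.tensorWreathSubgroup d t e B
  absIrr : AbsIrr N'
  det : G.det ≠ 0
  herm : (G.map σ)ᵀ = l • G
  norm : l * σ l = 1
  fix : ∀ X ∈ N', (X : Matrix (Fin d) (Fin d) F)ᵀ * G * (X : Matrix (Fin d) (Fin d) F).map σ = G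
  c_ne : c ≠ 0
  gram : coordGram f e B = c • pureMat (fun _ : Fin t => G)
  sign : c = ε * σ c * l ^ t
  gen : ∀ i, ∀ x ∈ L i, ∃ X ∈ N', (coordEquiv e B (slotHom i (X : Matrix (Fin d) (Fin d) F))) = x
  emb : ∀ i, ∀ X ∈ N', ∃ x ∈ L i, (coordEquiv e B (slotHom i (X : Matrix (Fin d) (Fin d) F))) = x

theorem pureMat_map {t d : ℕ} (σ : F ≃+* F) (g : Fin t → Matrix (Fin d) (Fin d) F) :
    (pureMat g).map σ = pureMat (fun i => (g i).map σ) := by
  ext x y
  simp [pureMat_apply, map_prod]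

theorem pureMat_det_ne_zero {t d : ℕ} {g : Fin t → Matrix (Fin d) (Fin d) F} (hg : ∀ i, (g i).det ≠ 0) :
    (pureMat g).det ≠ 0 := by
  intro h0
  have h1 : pureMat g * pureMat (fun i => (g i)⁻¹) = 1 := by
    rw [← map_mul, ← map_one (pureMat (m := d) (t := t) (F := F))]
    exact congrArg _ (funext fun i => Matrix.mul_nonsing_inv _ (isUnit_iff_ne_zero.2 (hg i)))
  have h2 := congrArg Matrix.det h1
  rw [Matrix.det_mul, h0, zero_mul, Matrix.det_one] at h2
  exact zero_ne_one h2

set_option maxHeartbeats 800000 in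
theorem RefForm.power_data [Fintype F] [Nonempty ι] {σ : F ≃+* F} {ε : F}
    {f : (ι → F) → (ι → F) → F} (h : RefForm σ ε f) {H P : Subgroup (GL ι F)}
    (hH : H ≤ preserving (glToMat ι F) f) {t : ℕ} {L : Fin t → Subgroup (GL ι F)}
    (hc : CommutingData H P L) :
    ∃ (d : ℕ) (e : ι ≃ (Fin t → Fin d)) (B : GL ι F) (N' : Subgroup (GL (Fin d) F))
      (G : Matrix (Fin d) (Fin d) F) (c l : F), PowerData h H P L e B N' G c l := by
  classical
  have : NeZero t := ⟨by have := hc.two_le; omega⟩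
  have hnorm : NormalIn P (L 0) := by
    have hle : P ≤ Subgroup.normalizer (L 0 : Set (GL ι F)) := by
      refine hc.gen.trans (iSup_le fun j => ?_)
      by_cases hji : j = 0
      · subst hji; exact Subgroup.le_normalizer
      intro x hx
      rw [Subgroup.mem_normalizer_iff]
      intro y
      refine ⟨fun hy => ?_, fun hy => ?_⟩
      · rw [hc.comm j 0 hji x hx y hy, mul_inv_cancel_right]; exact hy
      · have h1 := hc.comm j 0 hji x⁻¹ ((L j).inv_mem hx) _ hy
        have h2 : x⁻¹ * (x * y * x⁻¹) * x = y := by group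
        rw [h1] at h2
        rw [← h2]
        simpa [mul_assoc] using hy
    intro g hg x hx
    exact (Subgroup.mem_normalizer_iff.1 (hle hg) x).1 hx
  rcases algOf_structure hc.absIrr.1 hnorm with ⟨⟨z, hz, hzc, hzs⟩, -⟩ | ⟨d, φ₀, hd, hφ₀, hrange⟩
  · refine absurd (hc.absIrr.2 z ?_) hzs
    rintro s ⟨x, hx, rfl⟩
    suffices hs : x ∈ (⨆ i, L i) → Commute z (x : Matrix ι ι F) from hs (hc.gen hx)
    intro hx'
    clear hx
    induction hx' using Subgroup.iSup_induction' with
    | hp i y hy =>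
      by_cases hi : i = 0
      · subst hi; exact (hzc y hy).symm
      · exact commute_spanMat (hc.comm 0 i (Ne.symm hi)) hz (mem_spanMat hy)
    | h1 => exact Commute.one_right z
    | hmul a b _ _ iha ihb => rw [Units.val_mul]; exact iha.mul_right ihb
  choose g hg hgL using hc.trans 0
  have : NeZero d := ⟨hd.ne'⟩
  let φ : Fin t → Matrix (Fin d) (Fin d) F →ₐ[F] Matrix ι ι F := fun i =>
    (coordEquiv (Equiv.refl ι) (g i)).toAlgHom.comp φ₀
  have hφ : ∀ i A, φ i A = (g i : Matrix ι ι F) * φ₀ A * (((g i)⁻¹ : GL ι F) : Matrix ι ι F) := fun i A => by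
    simp [φ, coordEquiv_apply]
  set N' := factorGroup φ₀ (L 0) with hN'def
  have hemb : ∀ i, ∀ X ∈ N', ∃ x ∈ L i, φ i (X : Matrix (Fin d) (Fin d) F) = x := by
    intro i X hX
    refine ⟨MulAut.conj (g i) (Units.map (φ₀ : Matrix (Fin d) (Fin d) F →* Matrix ι ι F) X), ?_, ?_⟩
    · rw [← hgL i]
      exact ⟨_, hX, rfl⟩
    rw [hφ]
    simp
  have hgenL : ∀ i, ∀ x ∈ L i, ∃ X ∈ N', φ i (X : Matrix (Fin d) (Fin d) F) = x := by
    intro i x hx
    rw [← hgL i] at hx
    obtain ⟨y, hy, rfl⟩ := hx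
    obtain ⟨X, hX⟩ := (hrange _).1 (mem_spanMat hy)
    obtain ⟨Y, hY⟩ := (hrange _).1 (mem_spanMat ((L 0).inv_mem hy))
    let G : GL (Fin d) F := ⟨X, Y, hφ₀ (by rw [map_mul, hX, hY, Units.mul_inv, map_one]),
      hφ₀ (by rw [map_mul, hX, hY, Units.inv_mul, map_one])⟩
    refine ⟨G, ?_, ?_⟩
    · show Units.map _ G ∈ L 0
      rw [show Units.map (φ₀ : Matrix (Fin d) (Fin d) F →* Matrix ι ι F) G = y from Units.ext hX]
      exact hy
    · rw [hφ]
      show _ * φ₀ X * _ = _
      rw [hX]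
      simp
  have hφmem : ∀ i A, φ i A ∈ spanMat (L i) := fun i A => by
    rw [hφ, ← hgL i]
    exact conj_mem_spanMat _ ((hrange _).2 ⟨A, rfl⟩)
  have hφsurj : ∀ i, ∀ M ∈ spanMat (L i), ∃ A, φ i A = M := by
    intro i M hM
    induction hM using Submodule.span_induction with
    | mem y hy =>
      obtain ⟨y, hy, rfl⟩ := hy
      obtain ⟨X, -, hX⟩ := hgenL i y hy
      exact ⟨X, hX⟩
    | zero => exact ⟨0, map_zero _⟩
    | add a b _ _ iha ihb =>
      obtain ⟨A, rfl⟩ := iha
      obtain ⟨A', rfl⟩ := ihb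
      exact ⟨A + A', map_add _ _ _⟩
    | smul c a _ ih => obtain ⟨A, rfl⟩ := ih; exact ⟨c • A, map_smul _ _ _⟩
  have hd2 : 2 ≤ d := by
    by_contra hlt
    obtain rfl : d = 1 := by omega
    refine hc.ns 0 fun x hx => ?_
    obtain ⟨A, hA⟩ := (hrange _).1 (mem_spanMat hx)
    refine mem_scalars_of_smul_one (c := A 0 0) ?_
    rw [← hA, show A = A 0 0 • 1 from Matrix.ext fun i j => by
      rw [Fin.fin_one_eq_zero i, Fin.fin_one_eq_zero j]; simp, map_smul, map_one]
    simp
  obtain ⟨e, Q, hQ⟩ := exists_pure_coord φ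
    (fun i j hij A A' => commute_spanMat (hc.comm i j hij) (hφmem i A) (hφmem j A')) fun W hW => by
    refine irr_iff.1 hc.absIrr.1 W fun x hx => ?_
    suffices hs : x ∈ (⨆ i, L i) → ∀ w ∈ W, (x : Matrix ι ι F) *ᵥ w ∈ W from hs (hc.gen hx)
    intro hx'
    clear hx
    induction hx' using Subgroup.iSup_induction' with
    | hp i y hy =>
      obtain ⟨A, hA⟩ := hφsurj i _ (mem_spanMat hy)
      rw [← hA]
      exact hW i A
    | h1 => intro w hw; simpa using hw
    | hmul a b _ _ iha ihb => intro w hw; rw [mulVec_mul]; exact iha _ (ihb w hw)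
  have hQ' : ∀ i A, coordEquiv e Q (slotHom i A) = φ i A := fun i A => (hQ i A).symm
  have hle : H ≤ Geo.tensorWreathSubgroup d t e Q := le_tensorWreathSubgroup e Q fun k hk => by
    choose π hπ using hc.perm k hk
    have hπinj : Function.Injective π := fun i j hij => hc.injective
      (Subgroup.map_injective (MulAut.conj k).injective ((hπ i).trans ((congrArg L hij).trans (hπ j).symm)))
    refine ⟨Equiv.ofBijective π (Finite.injective_iff_bijective.1 hπinj), fun i A => ?_⟩
    have h1 := conj_mem_spanMat k (hφmem i A)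
    rw [hπ i] at h1
    obtain ⟨B, hB⟩ := hφsurj _ _ h1
    refine ⟨B, ?_⟩
    rw [hQ', hQ', show Equiv.ofBijective π _ i = π i from rfl, hB]
  have hN'abs : AbsIrr N' := absIrr_factorGroup hφ₀ hrange
  -- the slot elements are isometries
  let sl : Fin t → GL (Fin d) F →* GL (Fin t → Fin d) F := fun i =>
    Units.map (slotHom (F := F) (m := d) i : _ →* _)
  have hslot : ∀ i, ∀ X ∈ N', coordGL e Q (sl i X) ∈ preserving (glToMat ι F) f := by
    intro i X hX
    obtain ⟨x, hx, hxe⟩ := hemb i X hX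
    rw [show coordGL e Q (sl i X) = x from Units.ext ((hQ' i X.val).trans hxe)]
    exact hH (hc.le_H i hx)
  set A := coordGram f e Q with hA
  have hAdet : A.det ≠ 0 := coordGram_det h e Q
  obtain ⟨x₀, y₀, hne⟩ : ∃ i j, A i j ≠ 0 := by
    by_contra hcon
    push Not at hcon
    exact hAdet (by rw [show A = 0 from Matrix.ext hcon, Matrix.det_zero])
  let G : Matrix (Fin d) (Fin d) F :=
    Matrix.of fun a b => A (Function.update x₀ 0 a) (Function.update y₀ 0 b)
  have hfix : ∀ X ∈ N', (X : Matrix (Fin d) (Fin d) F)ᵀ * G * (X : Matrix (Fin d) (Fin d) F).map σ = G := by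
    intro X hX
    have h1 := coordGram_invariant h e Q (hslot 0 X hX)
    ext a b
    have h2 := congrFun (congrFun h1 (Function.update x₀ 0 a)) (Function.update y₀ 0 b)
    simp only [sl, Units.coe_map, MonoidHom.coe_coe, slotHom_apply, Matrix.mul_apply,
      Matrix.transpose_apply, Matrix.map_apply, pureMat_mulSingle_apply, map_sum, apply_ite σ, map_zero,
      Finset.mul_sum, Finset.sum_mul, mul_ite, ite_mul, mul_zero, zero_mul,
      Function.update_idem, Function.update_self] at h2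
    simp only [Matrix.mul_apply, Matrix.transpose_apply, Matrix.map_apply, Finset.sum_mul, G, Matrix.of_apply]
    rw [← hA] at h2
    rw [← h2]
    symm
    rw [Finset.sum_comm]
    refine Finset.sum_congr rfl fun u _ => ?_
    rw [Finset.sum_ite_eq', if_pos (Finset.mem_univ _), Finset.sum_comm]
    simp
  have hGdet : G.det ≠ 0 := (Irr.invariant_det hN'abs.1 hfix).resolve_left fun h0 => hne (by
    have := congrFun (congrFun h0 (x₀ 0)) (y₀ 0)
    simpa [G, Function.update_eq_self] using this)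
  obtain ⟨l, hl, hll⟩ := hN'abs.herm_of_invariant σ h.involutive hGdet hfix
  set PG := pureMat (fun _ : Fin t => G) with hPG
  have hPGdet : PG.det ≠ 0 := pureMat_det_ne_zero fun _ => hGdet
  have hPGfix : ∀ i, ∀ X ∈ N', ((sl i X : GL (Fin t → Fin d) F) : Matrix _ _ F)ᵀ * PG *
      ((sl i X : GL (Fin t → Fin d) F) : Matrix _ _ F).map σ = PG := by
    intro i X hX
    show (slotHom i (X : Matrix (Fin d) (Fin d) F))ᵀ * PG * (slotHom i (X : Matrix (Fin d) (Fin d) F)).map σ = PG
    rw [slotHom_apply, pureMat_transpose, pureMat_map, hPG, ← map_mul, ← map_mul]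
    congr 1
    funext j
    by_cases hj : j = i
    · subst hj
      simpa using hfix X hX
    · simp [Pi.mulSingle_eq_of_ne hj, Matrix.map_one]
  let g' : (ι → F) → (ι → F) → F := fun u v => matForm σ.toRingHom PG
    ((((Q⁻¹ : GL ι F) : Matrix ι ι F) *ᵥ u) ∘ e.symm) ((((Q⁻¹ : GL ι F) : Matrix ι ι F) *ᵥ v) ∘ e.symm)
  have hm := matForm_isSesq σ.toRingHom PG
  have hg's : IsSesq σ.toRingHom g' := by
    refine ⟨fun x y v => ?_, fun c x v => ?_, fun v x y => ?_, fun c v x => ?_⟩
    · simp only [g', Matrix.mulVec_add]; exact hm.add_left _ _ _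
    · simp only [g', Matrix.mulVec_smul]; exact hm.smul_left _ _ _
    · simp only [g', Matrix.mulVec_add]; exact hm.add_right _ _ _
    · simp only [g', Matrix.mulVec_smul]; exact hm.smul_right _ _ _
  have hle' : (⨆ i, L i) ≤ preserving (glToMat ι F) g' := by
    refine iSup_le fun i x hx u v => ?_
    obtain ⟨X, hX, hXx⟩ := hgenL i x hx
    have hx' : coordGL e Q (sl i X) = x := Units.ext ((hQ' i X.val).trans hXx)
    have hc' : ∀ w, (((Q⁻¹ : GL ι F) : Matrix ι ι F) *ᵥ ((x : Matrix ι ι F) *ᵥ w)) ∘ e.symm =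
        ((sl i X : GL (Fin t → Fin d) F) : Matrix _ _ F) *ᵥ ((((Q⁻¹ : GL ι F) : Matrix ι ι F) *ᵥ w) ∘ e.symm) := by
      intro w
      have h3 := coordGL_mulVec e Q (sl i X) ((((Q⁻¹ : GL ι F) : Matrix ι ι F) *ᵥ w) ∘ e.symm)
      rw [show ((((Q⁻¹ : GL ι F) : Matrix ι ι F) *ᵥ w) ∘ e.symm) ∘ e = ((Q⁻¹ : GL ι F) : Matrix ι ι F) *ᵥ w from
        funext fun j => by simp, mulVec_inv, hx'] at h3
      rw [h3, inv_mulVec]
      funext y
      simp
    show g' _ _ = g' u v
    simp only [g', glToMat, Units.coeHom_apply, hc', matForm_conj]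
    exact congrArg (fun M => matForm σ.toRingHom M _ _) (hPGfix i X hX)
  obtain ⟨c₁, hc₁⟩ := hc.absIrr.form_unique h.sesq h.nondeg hg's (h.isometry_fixes (hc.le.trans hH)) (by
    rintro s ⟨x, hx, rfl⟩ u v
    exact hle' (hc.gen hx) u v)
  have hgram' : PG = c₁ • A := by
    ext x y
    have h3 := hc₁ ((Q : Matrix ι ι F) *ᵥ ((Pi.single x 1) ∘ e)) ((Q : Matrix ι ι F) *ᵥ ((Pi.single y 1) ∘ e))
    simp only [g', inv_mulVec] at h3
    rw [show ((Pi.single x (1 : F) : (Fin t → Fin d) → F) ∘ e) ∘ e.symm = Pi.single x 1 from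
      funext fun z => by simp, show ((Pi.single y (1 : F) : (Fin t → Fin d) → F) ∘ e) ∘ e.symm = Pi.single y 1 from
      funext fun z => by simp, matForm_single_one] at h3
    exact h3
  have hc₁0 : c₁ ≠ 0 := fun h0 => hPGdet (by rw [hgram', h0, zero_smul, Matrix.det_zero])
  have hgram : A = c₁⁻¹ • PG := by rw [hgram', smul_smul, inv_mul_cancel₀ hc₁0, one_smul]
  refine ⟨d, e, Q, N', G, c₁⁻¹, l, ⟨hd2, hle, hN'abs, hGdet, hl, hll, hfix, inv_ne_zero hc₁0, hgram, ?_,
    fun i x hx => ?_, fun i X hX => ?_⟩⟩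
  · have h3 := coordGram_swap h e Q x₀ y₀
    rw [← hA, hgram] at h3
    simp only [Matrix.smul_apply, smul_eq_mul, hPG, pureMat_apply, map_mul, map_prod, herm_swap hl,
      Finset.prod_mul_distrib, Finset.prod_const, Finset.card_univ, Fintype.card_fin] at h3
    have hp : ∏ i, G (y₀ i) (x₀ i) ≠ 0 := by
      intro h0
      refine hne ?_
      rw [hgram, Matrix.smul_apply, hPG, pureMat_apply, smul_eq_mul]
      obtain ⟨i, -, hi⟩ := Finset.prod_eq_zero_iff.1 h0
      have h4 := herm_swap hl (x₀ i) (y₀ i)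
      rw [hi, mul_zero, map_eq_zero] at h4
      rw [Finset.prod_eq_zero (Finset.mem_univ i) h4, mul_zero]
    refine mul_right_cancel₀ hp ?_
    rw [h3]
    ring
  · obtain ⟨X, hX, hXe⟩ := hgenL i x hx
    exact ⟨X, hX, (hQ' i _).trans hXe⟩
  · obtain ⟨x, hx, hxe⟩ := hemb i X hX
    exact ⟨x, hx, (hQ' i _).trans hxe⟩

end Cfsg.Agent.Aschbacher
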