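import Cfsg.Agent.Lib.Aschbacher.FormGram

/-!
Characteristic two: invariant symmetric forms of irreducible groups are alternating, and quadratic forms
with prescribed polar form that vanish on pure tensors.
-/

set_option autoImplicit false
set_option linter.unusedSectionVars false

namespace Cfsg.Agent.Aschbacher

open Matrix
open scoped MatrixGroups

variable {F : Type*} [Field F] {κ : Type} [Fintype κ] [DecidableEq κ]

/-- A quadratic function with bilinear polar. -/
structure IsQuadFun (Q : (κ → F) → F) : Prop where
  smul : ∀ (c : F) (v : κ → F), Q (c • v) = c ^ 2 * Q v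
  polar : Geo.IsBilinearForm (QuadraticMap.polar Q)

theorem IsQuadFun.zero {Q : (κ → F) → F} (hQ : IsQuadFun Q) : Q 0 = 0 := by
  simpa using hQ.smul 0 0

theorem IsQuadFun.map_add {Q : (κ → F) → F} (_hQ : IsQuadFun Q) (u v : κ → F) :
    Q (u + v) = Q u + Q v + QuadraticMap.polar Q u v := by
  simp only [QuadraticMap.polar]; ring

/-- It vanishes on combinations of singular pairwise orthogonal vectors. -/
theorem IsQuadFun.sum_eq_zero {Q : (κ → F) → F} (hQ : IsQuadFun Q) {α : Type*} (s : Finset α)
    (v : α → κ → F) (c : α → F) (h0 : ∀ i ∈ s, Q (v i) = 0)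
    (hp : ∀ i ∈ s, ∀ j ∈ s, QuadraticMap.polar Q (v i) (v j) = 0) : Q (∑ i ∈ s, c i • v i) = 0 := by
  classical
  induction s using Finset.induction with
  | empty => simpa using hQ.zero
  | insert a s ha ih =>
    rw [Finset.sum_insert ha, hQ.map_add, hQ.smul, h0 a (Finset.mem_insert_self _ _),
      ih (fun i hi => h0 i (Finset.mem_insert_of_mem hi))
        (fun i hi j hj => hp i (Finset.mem_insert_of_mem hi) j (Finset.mem_insert_of_mem hj)),
      mul_zero, zero_add, zero_add, hQ.polar.smul_left]
    let φ : (κ → F) →ₗ[F] F :=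
      { toFun := fun y => QuadraticMap.polar Q (v a) y
        map_add' := fun x y => hQ.polar.add_right _ x y
        map_smul' := fun c x => hQ.polar.smul_right c _ x }
    show c a * φ _ = 0
    rw [map_sum, Finset.sum_eq_zero fun i hi => ?_, mul_zero]
    rw [map_smul]
    show c i * QuadraticMap.polar Q (v a) (v i) = 0
    rw [hp a (Finset.mem_insert_self _ _) i (Finset.mem_insert_of_mem hi), mul_zero]

/-- An isometry of the polar form fixes `Q` as soon as it does so on a basis. -/
theorem IsQuadFun.fixed {Q : (κ → F) → F} (hQ : IsQuadFun Q) {g : Matrix κ κ F}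
    (hg : ∀ u v, QuadraticMap.polar Q (g *ᵥ u) (g *ᵥ v) = QuadraticMap.polar Q u v)
    (hb : ∀ i, Q (g *ᵥ Pi.single i 1) = Q (Pi.single i 1)) (v : κ → F) : Q (g *ᵥ v) = Q v := by
  classical
  have key : ∀ (s : Finset κ), Q (g *ᵥ ∑ i ∈ s, v i • Pi.single i 1) =
      Q (∑ i ∈ s, v i • (Pi.single i 1 : κ → F)) := by
    intro s
    induction s using Finset.induction with
    | empty => simp
    | insert a s ha ih =>
      rw [Finset.sum_insert ha, Matrix.mulVec_add, hQ.map_add, hQ.map_add, ih, hg, Matrix.mulVec_smul,
        hQ.smul, hQ.smul, hb]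
  have h1 := key Finset.univ
  rwa [← pi_eq_sum_univ'] at h1

/-- A quadratic function from an alternating matrix  (upper triangular part). -/
theorem exists_quad_of_alternating {A : Matrix κ κ F} (hsymm : Aᵀ = A)
    (hdiag : ∀ i, A i i = 0) :
    ∃ Q : (κ → F) → F, IsQuadFun Q ∧ (∀ u v, QuadraticMap.polar Q u v = matForm id A u v) ∧
      ∀ i, Q (Pi.single i 1) = 0 := by
  classical
  let e := Fintype.equivFin κ
  let U : Matrix κ κ F := Matrix.of fun i j => if e i < e j then A i j else 0
  have hU : U + Uᵀ = A := by
    ext i j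
    simp only [U, Matrix.add_apply, Matrix.transpose_apply, Matrix.of_apply]
    rcases lt_trichotomy (e i) (e j) with h | h | h
    · rw [if_pos h, if_neg (lt_asymm h), add_zero]
    · obtain rfl := e.injective h
      simp [hdiag]
    · rw [if_neg (lt_asymm h), if_pos h, zero_add]
      exact congrFun (congrFun hsymm i) j
  have hb := matForm_bilinear U
  have hp : ∀ u v, QuadraticMap.polar (fun v => matForm id U v v) u v = matForm id A u v := by
    intro u v
    rw [← hU]
    have h1 : matForm id (U + Uᵀ) u v = matForm id U u v + matForm id Uᵀ u v := by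
      simp [matForm, Matrix.add_mulVec, dotProduct_add]
    rw [h1, matForm_transpose]
    simp only [QuadraticMap.polar, hb.add_left, hb.add_right]
    ring
  refine ⟨fun v => matForm id U v v, ⟨fun c v => ?_, ?_⟩, hp, fun i => ?_⟩
  · simp only [hb.smul_left, hb.smul_right]; ring
  · rw [show QuadraticMap.polar (fun v => matForm id U v v) = matForm id A from funext fun u => funext (hp u)]
    exact matForm_bilinear A
  · simp [matForm, U]

/-- An invariant symmetric form of an irreducible group of similitudes is alternating. -/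
theorem diag_eq_zero_of_irr [Fintype F] (h2 : (2 : F) = 0) (hκ : 2 ≤ Fintype.card κ) {A : Matrix κ κ F}
    (hsymm : Aᵀ = A) {S : Set (Matrix κ κ F)}
    (hirr : ∀ K : Submodule F (κ → F), (∀ s ∈ S, ∀ v ∈ K, s *ᵥ v ∈ K) → K = ⊥ ∨ K = ⊤)
    (hinv : ∀ s ∈ S, ∃ c : F, sᵀ * A * s = c • A) (i : κ) : A i i = 0 := by
  have hb := matForm_bilinear A
  have hcomm : ∀ u v, matForm id A u v = matForm id A v u := fun u v => by
    rw [← matForm_transpose, hsymm]
  let K : Submodule F (κ → F) :=
    { carrier := {v | matForm id A v v = 0}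
      zero_mem' := by simp [matForm]
      add_mem' := fun {u v} hu hv => by
        show matForm id A (u + v) (u + v) = 0
        rw [hb.add_left, hb.add_right, hb.add_right, show matForm id A u u = 0 from hu,
          show matForm id A v v = 0 from hv, hcomm v u]
        linear_combination matForm id A u v * h2
      smul_mem' := fun c v hv => by
        show matForm id A (c • v) (c • v) = 0
        rw [hb.smul_left, hb.smul_right, show matForm id A v v = 0 from hv, mul_zero, mul_zero] }
  rcases hirr K fun s hs v hv => by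
    show matForm id A _ _ = 0
    obtain ⟨c, hc⟩ := hinv s hs
    rw [show matForm id A = matForm (RingHom.id F) A from rfl, matForm_conj]
    simp only [RingHom.coe_id, Matrix.map_id]
    rw [hc, matForm_smul, show matForm id A v v = 0 from hv, mul_zero] with h0 | h0
  · exfalso
    have hinj : Function.Injective fun v => matForm id A v v := fun u v huv => by
      have hm : u - v ∈ K := by
        show matForm id A (u - v) (u - v) = 0
        rw [sub_eq_add_neg, ← neg_one_smul F v, hb.add_left, hb.add_right, hb.add_right, hb.smul_left,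
          hb.smul_left, hb.smul_right, hb.smul_right, hcomm v u]
        linear_combination huv + (matForm id A v v - matForm id A u v) * h2
      rwa [h0, Submodule.mem_bot, sub_eq_zero] at hm
    have h1 := Fintype.card_le_of_injective _ hinj
    rw [Fintype.card_fun] at h1
    have h3 := Fintype.one_lt_card (α := F)
    exact absurd h1 (not_le.2 (lt_of_lt_of_le (by rw [sq]; nlinarith)
      (Nat.pow_le_pow_right (by omega) hκ)))
  · have hi : (Pi.single i 1 : κ → F) ∈ K := h0 ▸ Submodule.mem_top
    have h1 : matForm id A (Pi.single i 1) (Pi.single i 1) = 0 := hi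
    simpa [matForm] using h1

section Transfer

variable {ι : Type} [Fintype ι] [DecidableEq ι] {ε : F} {f : (ι → F) → (ι → F) → F}

/-- A quadratic function in coordinates gives a quadratic form with polar `f`. -/
theorem RefForm.exists_quad_coord (h : RefForm (RingEquiv.refl F) ε f) (e : ι ≃ κ) (P : GL ι F)
    {Q : (κ → F) → F} (hQ : IsQuadFun Q)
    (hp : ∀ u v, QuadraticMap.polar Q u v = coordForm f e P u v) :
    ∃ Q' : (ι → F) → F, Geo.IsNondegenerateQuadraticForm Q' ∧
      (∀ u v, QuadraticMap.polar Q' u v = f u v) ∧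
      ∀ g : GL κ F, (∀ x, Q ((g : Matrix κ κ F) *ᵥ x) = Q x) →
        ∀ v, Q' ((coordGL e P g : Matrix ι ι F) *ᵥ v) = Q' v := by
  let c : (ι → F) → (κ → F) := fun v => (((P⁻¹ : GL ι F) : Matrix ι ι F) *ᵥ v) ∘ e.symm
  have hc : ∀ v, (P : Matrix ι ι F) *ᵥ (c v ∘ e) = v := fun v => by
    rw [show c v ∘ e = ((P⁻¹ : GL ι F) : Matrix ι ι F) *ᵥ v from funext fun i => by simp [c], mulVec_inv]
  have hp' : ∀ u v, QuadraticMap.polar (fun v => Q (c v)) u v = f u v := by
    intro u v
    have hadd : c (u + v) = c u + c v := by
      simp only [c, Matrix.mulVec_add]; rfl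
    calc QuadraticMap.polar (fun v => Q (c v)) u v = QuadraticMap.polar Q (c u) (c v) := by
          simp only [QuadraticMap.polar, hadd]
      _ = f u v := by rw [hp]; simp only [coordForm, hc]
  refine ⟨fun v => Q (c v), ⟨fun a v => ?_, ?_, ?_⟩, hp', fun g hg v => ?_⟩
  · show Q (c (a • v)) = _
    rw [show c (a • v) = a • c v by simp only [c, Matrix.mulVec_smul]; rfl, hQ.smul]
  · rw [show QuadraticMap.polar (fun v => Q (c v)) = f from funext fun u => funext (hp' u)]
    exact ⟨h.sesq.add_left, h.sesq.smul_left, h.sesq.add_right, h.sesq.smul_right⟩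
  · rw [show QuadraticMap.polar (fun v => Q (c v)) = f from funext fun u => funext (hp' u)]
    exact h.nondeg
  · have h1 := coordGL_mulVec e P g (c v)
    rw [hc] at h1
    show Q (c _) = Q (c v)
    rw [h1, show c ((P : Matrix ι ι F) *ᵥ (((g : Matrix κ κ F) *ᵥ c v) ∘ e)) = (g : Matrix κ κ F) *ᵥ c v from
      funext fun x => by simp [c, inv_mulVec, Matrix.mulVec_mulVec], hg]

end Transfer

end Cfsg.Agent.Aschbacher
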