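import Cfsg.Agent.Lib.Aschbacher.FormClassTwo
import Cfsg.Agent.Lib.CharInt.Burnside
import Cfsg.Agent.Lib.GL.Basic

/-!
Aschbacher's theorem for the isometry group of an alternating form, on any index type.
-/

set_option autoImplicit false
set_option linter.unusedSectionVars false

namespace Cfsg.Agent.Aschbacher

open Matrix
open scoped MatrixGroups Kronecker

variable {ι : Type} [Fintype ι] [DecidableEq ι] {F : Type*} [Field F] [Fintype F]

/-- The geometric classes for an alternating form `f`, or the residual class. -/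
inductive SympOutcome (f : (ι → F) → (ι → F) → F) (H : Subgroup (GL ι F)) : Prop
  | totallySingular (W : Submodule F (ι → F)) (h0 : W ≠ ⊥) (hts : Geo.IsTotallySingularFor f W)
      (hle : H ≤ Geo.subspaceStabilizer W)
  | nondegenerate (W : Submodule F (ι → F)) (h0 : W ≠ ⊥) (hnd : Geo.IsNondegenerateOn f W)
      (hdim : 2 * Module.finrank F W < Fintype.card ι) (hle : H ≤ Geo.subspaceStabilizer W)
  | decomposition (t k : ℕ) (D : Fin t → Submodule F (ι → F)) (hD : Geo.IsNondegenerateMDecomposition f k D)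
      (hle : H ≤ Geo.decompositionStabilizer D)
  | pair (k : ℕ) (D : Fin 2 → Submodule F (ι → F)) (hodd : Odd (Fintype.card F)) (hk : 2 * k = Fintype.card ι)
      (hD : Geo.IsMDecomposition k D) (hts : ∀ i, Geo.IsTotallySingularFor f (D i))
      (hle : H ≤ Geo.decompositionStabilizer D)
  | symplecticField (r : ℕ) (K : Subalgebra F (Matrix ι ι F)) (hr : r.Prime) (hK : Geo.IsFieldSubalgebra r K)
      (hsa : Geo.IsSelfAdjointFor f K) (halt : ∀ k ∈ K, ∀ v, f (k *ᵥ v) v = 0)
      (hle : H ≤ Geo.subalgebraNormalizer K)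
  | unitaryField (K : Subalgebra F (Matrix ι ι F)) (hodd : Odd (Fintype.card F))
      (hK : Geo.IsFieldSubalgebra 2 K) (hcl : Geo.IsAdjointClosedFor f K) (hns : ¬ Geo.IsSelfAdjointFor f K)
      (hle : H ≤ Geo.subalgebraNormalizer K)
  | tensor (n₁ n₂ : ℕ) (e : ι ≃ Fin n₁ × Fin n₂) (P : GL ι F) (f₁ : (Fin n₁ → F) → (Fin n₁ → F) → F)
      (f₂ : (Fin n₂ → F) → (Fin n₂ → F) → F) (hodd : Odd (Fintype.card F)) (h3 : 3 ≤ n₂)
      (hf₁ : Geo.IsSymplecticForm f₁) (hf₂ : Geo.IsSymmetricForm f₂)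
      (hstr : Geo.IsTensorFormStructure id f f₁ f₂ e P) (hle : H ≤ Geo.tensorProductSubgroup n₁ n₂ e P)
  | subfield (F₀ : Subfield F) (r : ℕ) (P : GL ι F) (ζ : F) (hr : r.Prime)
      (hcard : Fintype.card F = Nat.card F₀ ^ r) (hζ : ζ ≠ 0)
      (hrat : Geo.IsFormRationalStructure f F₀ ζ P) (hle : H ≤ Geo.subfieldSubgroup F₀ P)
  | symplecticType (R : Subgroup (GL ι F)) (p k : ℕ) (hdim : Fintype.card ι = 2 ^ k)
      (hR : Geo.IsSymplecticTypeGroup 2 R) (habs : AbsIrr R) (hsim : R ≤ Geo.similarityGroup f)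
      (hp : p.Prime) (hodd : Odd p) (hF : Fintype.card F = p) (hcard : Nat.card R = 2 ^ (1 + 2 * k))
      (hcentre : Nat.card (Subgroup.center R) = 2) (hminus : Geo.IsOfMinusType k R)
      (hle : H ≤ Geo.subgroupNormalizer R)
  | orthogonal (Q : (ι → F) → F) (heven : ¬ Odd (Fintype.card F)) (hQ : Geo.IsNondegenerateQuadraticForm Q)
      (hpol : ∀ u v, QuadraticMap.polar Q u v = f u v) (hle : H ≤ Geo.quadSimilarityGroup Q)
  | tensorPower (k t : ℕ) (e : ι ≃ (Fin t → Fin k)) (P : GL ι F) (f₁ : (Fin k → F) → (Fin k → F) → F)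
      (hodd : Odd (Fintype.card F)) (ht : Odd t) (ht3 : 3 ≤ t) (hex : ¬ (Fintype.card F = 3 ∧ k = 2))
      (hf₁ : Geo.IsSymplecticForm f₁) (hstr : Geo.IsTensorPowerFormStructure id f f₁ e P)
      (hle : H ≤ Geo.tensorWreathSubgroup k t e P)
  | residual (hres : Geo.InSymplecticResidualClass H)

variable {f : (ι → F) → (ι → F) → F} {H : Subgroup (GL ι F)}

theorem two_eq_zero_of_not_odd (heven : ¬ Odd (Fintype.card F)) : (2 : F) = 0 := by
  by_contra h
  exact heven (odd_card_of_two_ne_zero h)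

theorem neg_eq_self_of_two_eq_zero (h2 : (2 : F) = 0) (x : F) : -x = x := by
  linear_combination -(x * h2)

theorem SympOutcome.of_fixed_quad (heven : ¬ Odd (Fintype.card F)) {Q : (ι → F) → F}
    (hQ : Geo.IsNondegenerateQuadraticForm Q) (hpol : ∀ u v, QuadraticMap.polar Q u v = f u v)
    (hfix : ∀ g ∈ H, ∀ v, Q ((g : Matrix ι ι F) *ᵥ v) = Q v) : SympOutcome f H :=
  .orthogonal Q heven hQ hpol fun g hg => ⟨1, fun v => by rw [Units.val_one, one_mul, hfix g hg]⟩

theorem SympOutcome.of_pair (hf : Geo.IsSymplecticForm f) (hH : H ≤ preserving (glToMat ι F) f) {k : ℕ}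
    {D : Fin 2 → Submodule F (ι → F)} (hk : 2 * k = Fintype.card ι) (hD : Geo.IsMDecomposition k D)
    (hts : ∀ i, Geo.IsTotallySingularFor f (D i)) (hle : H ≤ Geo.decompositionStabilizer D) :
    SympOutcome f H := by
  by_cases hodd : Odd (Fintype.card F)
  · exact .pair k D hodd hk hD hts hle
  have h2 := two_eq_zero_of_not_odd hodd
  have hb := hf.bilinear
  have hsym : ∀ u v, f v u = f u v := fun u v => by rw [hf.skew v u, neg_eq_self_of_two_eq_zero h2]
  have hc : IsCompl (D 0) (D 1) := by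
    refine ⟨hD.indep.pairwiseDisjoint (by decide), codisjoint_iff.2 (eq_top_iff.2 ?_)⟩
    rw [← hD.iSup_eq_top]
    refine iSup_le fun i => ?_
    fin_cases i
    · exact le_sup_left
    · exact le_sup_right
  let p₀ : (ι → F) →ₗ[F] (ι → F) := (D 0).projection (D 1) hc
  let p₁ : (ι → F) →ₗ[F] (ι → F) := (D 1).projection (D 0) hc.symm
  have h0 : ∀ v, p₀ v ∈ D 0 := fun v => Submodule.projection_apply_mem hc v
  have h1 : ∀ v, p₁ v ∈ D 1 := fun v => Submodule.projection_apply_mem hc.symm v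
  have hsum : ∀ v, p₀ v + p₁ v = v := fun v =>
    Submodule.projection_add_projection_eq_self hc v
  have huniq : ∀ v a b, a ∈ D 0 → b ∈ D 1 → a + b = v → p₀ v = a ∧ p₁ v = b := by
    intro v a b ha hb hab
    have hm : p₀ v - a = b - p₁ v := by
      have := (hsum v).trans hab.symm
      linear_combination (norm := module) this
    have hz : p₀ v - a ∈ D 0 ⊓ D 1 :=
      ⟨(D 0).sub_mem (h0 v) ha, hm ▸ (D 1).sub_mem hb (h1 v)⟩
    rw [hc.inf_eq_bot, Submodule.mem_bot] at hz
    exact ⟨sub_eq_zero.1 hz, (sub_eq_zero.1 (hm ▸ hz)).symm⟩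
  have hpol : ∀ u v, QuadraticMap.polar (fun v => f (p₀ v) (p₁ v)) u v = f u v := by
    intro u v
    conv_rhs => rw [← hsum u, ← hsum v]
    simp only [QuadraticMap.polar, map_add, hb.add_left, hb.add_right]
    rw [hts 0 _ (h0 u) _ (h0 v), hts 1 _ (h1 u) _ (h1 v), hsym (p₀ v) (p₁ u)]
    ring
  refine .of_fixed_quad hodd (Q := fun v => f (p₀ v) (p₁ v)) ⟨fun c v => ?_, ?_, ?_⟩ hpol fun g hg v => ?_
  · simp only [map_smul, hb.smul_left, hb.smul_right]; ring
  · rw [show QuadraticMap.polar (fun v => f (p₀ v) (p₁ v)) = f from funext fun u => funext (hpol u)]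
    exact hb
  · rw [show QuadraticMap.polar (fun v => f (p₀ v) (p₁ v)) = f from funext fun u => funext (hpol u)]
    exact hf.nondegenerate
  obtain ⟨π, hπ⟩ := hle hg
  have hm : ∀ i w, w ∈ D i → (g : Matrix ι ι F) *ᵥ w ∈ D (π i) := fun i w hw => by
    rw [← hπ i]; exact mem_translate.2 ⟨w, hw, rfl⟩
  have hgv : (g : Matrix ι ι F) *ᵥ p₀ v + (g : Matrix ι ι F) *ᵥ p₁ v = (g : Matrix ι ι F) *ᵥ v := by
    rw [← Matrix.mulVec_add, hsum]
  have hiso := RefForm.mem_isometry.1 (hH hg)
  show f _ _ = f _ _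
  have hne : π 0 ≠ π 1 := π.injective.ne (by decide)
  rcases Fin.exists_fin_two.1 ⟨π 0, rfl⟩ with h | h
  · have h' : π 1 = 1 := by rw [h] at hne; revert hne; generalize π 1 = x; fin_cases x <;> simp
    obtain ⟨ha, hb'⟩ := huniq ((g : Matrix ι ι F) *ᵥ v) ((g : Matrix ι ι F) *ᵥ p₀ v) ((g : Matrix ι ι F) *ᵥ p₁ v)
      (h ▸ hm 0 _ (h0 v)) (h' ▸ hm 1 _ (h1 v)) hgv
    rw [ha, hb', hiso]
  · have h' : π 1 = 0 := by rw [h] at hne; revert hne; generalize π 1 = x; fin_cases x <;> simp
    obtain ⟨ha, hb'⟩ := huniq ((g : Matrix ι ι F) *ᵥ v) ((g : Matrix ι ι F) *ᵥ p₁ v) ((g : Matrix ι ι F) *ᵥ p₀ v)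
      (h' ▸ hm 1 _ (h1 v)) (h ▸ hm 0 _ (h0 v)) (by rw [add_comm]; exact hgv)
    rw [ha, hb', hiso, hsym]

theorem SympOutcome.of_twistedField (hf : Geo.IsSymplecticForm f) (h : RefForm (RingEquiv.refl F) (-1) f)
    [Nonempty ι] (hH : H ≤ preserving (glToMat ι F) f) {K : Subalgebra F (Matrix ι ι F)}
    (hK : Geo.IsFieldSubalgebra 2 K) (hle : H ≤ Geo.subalgebraNormalizer K)
    (hadj : ∀ z ∈ K, h.adj z = z ^ Fintype.card F) : SympOutcome f H := by
  have hnotall : ¬ ∀ z ∈ K, z ^ Fintype.card F = z := by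
    intro hall
    have hle' : Subalgebra.toSubmodule K ≤ Submodule.span F {(1 : Matrix ι ι F)} := fun z hz => by
      obtain ⟨c, rfl⟩ := fixed_mem_scalar hK hz (hall z hz)
      exact Submodule.mem_span_singleton.2 ⟨c, rfl⟩
    have h1 : Module.finrank F (Subalgebra.toSubmodule K) ≤ 1 := (Submodule.finrank_mono hle').trans
      ((finrank_span_le_card ({(1 : Matrix ι ι F)} : Set (Matrix ι ι F))).trans (by simp))
    have h2 : Module.finrank F K = 2 := hK.finrank_eq
    rw [Subalgebra.finrank_toSubmodule] at h1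
    omega
  by_cases hodd : Odd (Fintype.card F)
  · refine .unitaryField K hodd hK (fun z hz => ⟨z ^ Fintype.card F, pow_mem hz _, fun u v => by
      rw [← hadj z hz]; exact h.adj_right z u v⟩) (fun hsa => hnotall fun z hz => ?_) hle
    rw [← hadj z hz]
    exact h.adj_eq fun u v => hsa z hz u v
  have h2 := two_eq_zero_of_not_odd hodd
  have hchar : ∀ x : Matrix ι ι F, x + x = 0 := fun x => by rw [← two_smul F, h2, zero_smul]
  push Not at hnotall
  obtain ⟨z, hz, hzq⟩ := hnotall
  have hzqq : (z ^ Fintype.card F) ^ Fintype.card F = z := by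
    rw [← pow_mul, ← pow_two]; exact pow_card_field hK hz
  have hzK : z + z ^ Fintype.card F ∈ K := K.add_mem hz (pow_mem hz _)
  obtain ⟨c, hc⟩ := fixed_mem_scalar hK hzK (by
    rw [← hadj _ hzK, h.adj_add, hadj z hz, hadj _ (pow_mem hz _), hzqq, add_comm])
  have hc0 : c ≠ 0 := by
    rintro rfl
    rw [zero_smul, ← hchar z] at hc
    exact hzq (add_left_cancel hc)
  set z' := c⁻¹ • z
  have hz' : z' ∈ K := K.smul_mem hz _
  have htr : z' + h.adj z' = 1 := by
    rw [h.adj_smul, hadj z hz, show RingEquiv.refl F c⁻¹ = c⁻¹ from rfl, ← smul_add, hc, smul_smul,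
      inv_mul_cancel₀ hc0, one_smul]
  have hb := hf.bilinear
  have hpol : ∀ u v, QuadraticMap.polar (fun v => f (z' *ᵥ v) v) u v = f u v := by
    intro u v
    simp only [QuadraticMap.polar, Matrix.mulVec_add, hb.add_left, hb.add_right]
    rw [show f (z' *ᵥ v) u = f (h.adj z' *ᵥ u) v by
      rw [hf.skew (z' *ᵥ v) u, neg_eq_self_of_two_eq_zero h2, h.adj_left]]
    conv_rhs => rw [show u = (z' + h.adj z') *ᵥ u by rw [htr, Matrix.one_mulVec], Matrix.add_mulVec,
      hb.add_left]
    ring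
  refine .of_fixed_quad hodd (Q := fun v => f (z' *ᵥ v) v) ⟨fun a v => ?_, ?_, ?_⟩ hpol fun g hg v => ?_
  · simp only [Matrix.mulVec_smul, hb.smul_left, hb.smul_right]; ring
  · rw [show QuadraticMap.polar (fun v => f (z' *ᵥ v) v) = f from funext fun u => funext (hpol u)]
    exact hb
  · rw [show QuadraticMap.polar (fun v => f (z' *ᵥ v) v) = f from funext fun u => funext (hpol u)]
    exact hf.nondegenerate
  -- the conjugate differs by a scalar
  set z'' := ((g⁻¹ : GL ι F) : Matrix ι ι F) * z' * (g : Matrix ι ι F) with hz''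
  have hz''K : z'' ∈ K := by
    have h1 := (hle (inv_mem hg) z').1 hz'
    simpa [z''] using h1
  have htr'' : z'' + h.adj z'' = 1 := by
    rw [hz'', h.adj_mul, h.adj_mul, h.adj_isometry (hH hg), h.adj_isometry (inv_mem (hH hg)), inv_inv,
      ← mul_assoc _ (h.adj z'), ← add_mul, ← mul_add, htr, mul_one, Units.inv_mul]
  have hδ : z'' + z' ∈ K := K.add_mem hz''K hz'
  obtain ⟨a, ha⟩ := fixed_mem_scalar hK hδ (by
    rw [← hadj _ hδ, h.adj_add, ← sub_eq_zero]
    calc h.adj z'' + h.adj z' - (z'' + z') = h.adj z'' + h.adj z' - (z'' + z') + ((z'' + z') + (z'' + z')) := by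
          rw [hchar, add_zero]
      _ = (z'' + h.adj z'') + (z' + h.adj z') := by abel
      _ = 0 := by rw [htr, htr'', hchar])
  show f (z' *ᵥ ((g : Matrix ι ι F) *ᵥ v)) ((g : Matrix ι ι F) *ᵥ v) = f (z' *ᵥ v) v
  have h1 : z' *ᵥ ((g : Matrix ι ι F) *ᵥ v) = (g : Matrix ι ι F) *ᵥ (z'' *ᵥ v) := by
    rw [hz'', ← Matrix.mulVec_mulVec, ← Matrix.mulVec_mulVec, mulVec_inv]
  rw [h1, RefForm.mem_isometry.1 (hH hg)]
  have h3 : f ((z'' + z') *ᵥ v) v = 0 := by
    rw [ha, Matrix.smul_mulVec, Matrix.one_mulVec, hb.smul_left, hf.alternating, mul_zero]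
  rw [Matrix.add_mulVec, hb.add_left] at h3
  linear_combination h3 - f (z' *ᵥ v) v * h2

theorem SympOutcome.of_tensor_odd (h : RefForm (RingEquiv.refl F) (-1) f) [Nonempty ι] (hirr : Irr H)
    (hH : H ≤ preserving (glToMat ι F) f) (hodd : Odd (Fintype.card F)) {d k : ℕ} (hk : 2 ≤ k)
    (e : ι ≃ Fin d × Fin k) (P : GL ι F) {G₁ : Matrix (Fin d) (Fin d) F} {G₂ : Matrix (Fin k) (Fin k) F}
    (hd₁ : G₁.det ≠ 0) (hd₂ : G₂.det ≠ 0) (hs₁ : G₁ᵀ = -G₁) (hs₂ : G₂ᵀ = G₂)
    (hgram : coordGram f e P = G₁ ⊗ₖ G₂) (hle : H ≤ Geo.tensorProductSubgroup d k e P) :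
    SympOutcome f H := by
  have h2 := two_ne_zero_of_odd hodd
  by_cases hk2 : k = 2
  · subst hk2
    rcases h.symmetric_two_factor h2 hirr hH e P (fun h0 => by
        by_cases hd : d = 0
        · subst hd; exact (e (Classical.arbitrary ι)).1.elim0
        · have : NeZero d := ⟨hd⟩
          exact hd₁ (by rw [h0, Matrix.det_zero])) hd₂ hs₂ hgram hle with
      ⟨c, D, hc, hD, hts, hle'⟩ | ⟨K, hK, hcl, hns, hle'⟩
    · exact .pair c D hodd hc hD hts hle'
    · exact .unitaryField K hodd hK hcl hns hle'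
  refine .tensor d k e P _ _ hodd (by omega) (matForm_symplectic hd₁ hs₁ fun i => ?_) ⟨matForm_bilinear G₂,
    fun u v => by rw [← matForm_transpose, hs₂], matForm_nondegenerate (RingEquiv.refl F) hd₂⟩
    (h.tensorFormStructure hgram) hle
  have h1 : G₁ i i = - G₁ i i := congrFun (congrFun hs₁ i) i
  exact (mul_eq_zero.1 (show (2 : F) * G₁ i i = 0 by linear_combination h1)).resolve_left h2

theorem factor_irr {d k : ℕ} [NeZero d] (e : ι ≃ Fin d × Fin k) (P : GL ι F) (hirr : Irr H)
    (hle : H ≤ Geo.tensorProductSubgroup d k e P) :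
    ∀ K : Submodule F (Fin k → F), (∀ b : GL (Fin k) F, (∃ g ∈ H, ∃ (g₀ : GL (Fin d × Fin k) F)
      (a : GL (Fin d) F), coordGL e P g₀ = g ∧ (g₀ : Matrix (Fin d × Fin k) (Fin d × Fin k) F) =
        (a : Matrix (Fin d) (Fin d) F) ⊗ₖ (b : Matrix (Fin k) (Fin k) F)) →
      ∀ v ∈ K, (b : Matrix (Fin k) (Fin k) F) *ᵥ v ∈ K) → K = ⊥ ∨ K = ⊤ := by
  intro K hK
  let c : (ι → F) →ₗ[F] (Fin d × Fin k → F) :=
    (LinearMap.funLeft F F e.symm).comp (Matrix.toLin' ((P⁻¹ : GL ι F) : Matrix ι ι F))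
  have hc : ∀ x, c ((P : Matrix ι ι F) *ᵥ (x ∘ e)) = x := fun x => funext fun z => by
    simp [c, LinearMap.funLeft, inv_mulVec, Matrix.mulVec_mulVec]
  let W : Submodule F (ι → F) :=
    { carrier := {v | ∀ a, (fun p => c v (a, p)) ∈ K}
      zero_mem' := fun a => by simp only [map_zero, Pi.zero_apply]; exact K.zero_mem
      add_mem' := fun {u v} hu hv a => by
        simp only [map_add, Pi.add_apply]; exact K.add_mem (hu a) (hv a)
      smul_mem' := fun t v hv a => by
        simp only [map_smul, Pi.smul_apply]; exact K.smul_mem t (hv a) }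
  have hW : Invariant H W := by
    intro g hg v hv a₀
    obtain ⟨g₀, a, b, rfl, hab⟩ := exists_of_mem_tensorProductSubgroup (hle hg)
    obtain ⟨x, rfl⟩ := exists_coord_vec e P v
    rw [coordGL_mulVec, hc]
    have h1 : (fun p => ((g₀ : Matrix (Fin d × Fin k) (Fin d × Fin k) F) *ᵥ x) (a₀, p)) =
        (b : Matrix (Fin k) (Fin k) F) *ᵥ ∑ j, (a : Matrix (Fin d) (Fin d) F) a₀ j • fun q => x (j, q) := by
      funext p
      simp only [hab, Matrix.mulVec, dotProduct, Fintype.sum_prod_type, Matrix.kroneckerMap_apply,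
        Finset.sum_apply, Pi.smul_apply, smul_eq_mul, Finset.mul_sum]
      rw [Finset.sum_comm]
      exact Finset.sum_congr rfl fun q _ => Finset.sum_congr rfl fun j _ => by ring
    rw [h1]
    refine hK b ⟨_, hg, g₀, a, rfl, hab⟩ _ (K.sum_mem fun j _ => K.smul_mem _ ?_)
    have h3 := hv j
    rwa [hc] at h3
  rcases irr_iff.1 hirr W hW with h0 | h0
  · refine Or.inl (eq_bot_iff.2 fun w hw => (Submodule.mem_bot F).2 ?_)
    let x : Fin d × Fin k → F := fun z => w z.2
    have hx : (P : Matrix ι ι F) *ᵥ (x ∘ e) ∈ W := fun a => by rw [hc]; exact hw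
    rw [h0, Submodule.mem_bot] at hx
    have h1 := hc x
    rw [hx, map_zero] at h1
    exact funext fun p => (congrFun h1 (0, p)).symm
  · refine Or.inr (eq_top_iff.2 fun w _ => ?_)
    let x : Fin d × Fin k → F := fun z => w z.2
    have hx : (P : Matrix ι ι F) *ᵥ (x ∘ e) ∈ W := h0 ▸ Submodule.mem_top
    have h1 := hx 0
    rwa [hc] at h1

/-- The Clifford cases. -/
theorem SympOutcome.of_clifford (hf : Geo.IsSymplecticForm f) (h : RefForm (RingEquiv.refl F) (-1) f)
    [Nonempty ι] (hH : H ≤ preserving (glToMat ι F) f) (hirr : Irr H) {N : Subgroup (GL ι F)}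
    (hs : ¬ N ≤ Geo.scalars ι F) (ha : ¬ AbsIrr N) (hc : FormClifford h H N) : SympOutcome f H := by
  cases hc with
  | scalar hN => exact absurd hN hs
  | absIrr hN => exact absurd hN ha
  | orth t m D hD hle => exact .decomposition t m D hD hle
  | pair k D hk hD hts hle => exact .of_pair hf hH hk hD hts hle
  | selfAdjointField r K _ hr hK hle hsa =>
    have hsa' : Geo.IsSelfAdjointFor f K := fun z hz u v => by rw [h.adj_right, hsa z hz]
    refine .symplecticField r K hr hK hsa' (fun z hz v => ?_) hle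
    by_cases hodd : Odd (Fintype.card F)
    · have h1 := hsa' z hz v v
      rw [hf.skew v (z *ᵥ v)] at h1
      exact (mul_eq_zero.1 (show (2 : F) * f (z *ᵥ v) v = 0 by linear_combination h1)).resolve_left
        (two_ne_zero_of_odd hodd)
    obtain ⟨c, hc⟩ := Nat.not_odd_iff_even.1 hodd
    obtain ⟨c', hc'⟩ : 2 ∣ Fintype.card F ^ r := dvd_pow ⟨c, by omega⟩ hr.ne_zero
    have hl : (z ^ c') * (z ^ c') = z := by
      rw [← pow_add, show c' + c' = Fintype.card F ^ r by omega, pow_card_field hK hz]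
    conv_lhs => rw [← hl, ← Matrix.mulVec_mulVec]
    rw [hsa' _ (pow_mem hz _), hf.alternating]
  | twistedField K _ hK hle hadj => exact .of_twistedField hf h hH hK hle hadj
  | unitaryField r K hσ => exact absurd rfl hσ
  | tensor d k e P hd hk G₁ G₂ l hd₁ hd₂ hl hh₁ hh₂ N' hN' hfix hgram hle =>
    have hl' : l * l = 1 := hl
    have hs₁ : G₁ᵀ = l • G₁ := by simpa using hh₁
    have hs₂ : ∀ p q, G₂ q p = -l * G₂ p q := fun p q => by
      have h1 := hh₂ p q
      rw [h1, RingEquiv.refl_apply]; ring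
    by_cases hodd : Odd (Fintype.card F)
    · rcases mul_self_eq_one_iff.1 hl' with rfl | rfl
      · -- the symmetric factor comes first
        refine .of_tensor_odd h hirr hH hodd hd (e.trans (Equiv.prodComm _ _)) P hd₂ hd₁
          (Matrix.ext fun p q => by simp [hs₂ p q]) (by simpa using hs₁) ?_
          (hle.trans (tensorProductSubgroup_le_swap e P))
        ext ⟨p, a⟩ ⟨q, b⟩
        have h1 := congrFun (congrFun hgram (a, p)) (b, q)
        simp only [Matrix.kroneckerMap_apply] at h1 ⊢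
        rw [mul_comm, ← h1]
        have hs : ∀ z : Fin k × Fin d, (Pi.single (z.1, z.2) (1 : F) : Fin k × Fin d → F) ∘ (e.trans (Equiv.prodComm _ _)) =
            (Pi.single (z.2, z.1) (1 : F) : Fin d × Fin k → F) ∘ e := fun z => funext fun i => by
          simp [Pi.single_apply, Prod.ext_iff, and_comm]
        show f _ _ = f _ _
        rw [hs (p, a), hs (q, b)]
      · exact .of_tensor_odd h hirr hH hodd hk e P hd₁ hd₂ (by simpa using hs₁)
          (Matrix.ext fun p q => by simp [hs₂ p q]) hgram hle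
    have h2 := two_eq_zero_of_not_odd hodd
    have hl1 : l = 1 := by
      rcases mul_self_eq_one_iff.1 hl' with h1 | h1
      · exact h1
      · rw [h1, neg_eq_self_of_two_eq_zero h2]
    subst hl1
    have hs₁' : G₁ᵀ = G₁ := by simpa using hs₁
    have hs₂' : G₂ᵀ = G₂ := Matrix.ext fun p q => by
      rw [Matrix.transpose_apply, hs₂ p q, neg_eq_self_of_two_eq_zero h2, one_mul]
    have hG₁ : G₁ ≠ 0 := fun h0 => hd₁ (by
      have : NeZero d := ⟨by omega⟩
      rw [h0, Matrix.det_zero])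
    have hG₂ : G₂ ≠ 0 := fun h0 => hd₂ (by
      have : NeZero k := ⟨by omega⟩
      rw [h0, Matrix.det_zero])
    have : NeZero d := ⟨by omega⟩
    obtain ⟨Q, hQ, hpol, hfixQ⟩ := h.exists_quad_tensor h2 hH e P hd₁ hs₁' hs₂'
      (diag_eq_zero_of_irr h2 (by simpa using hd) hs₁' (S := Geo.matrixSet N')
        (fun K hK => irr_iff.1 hN'.1 K fun x hx v hv => hK _ ⟨x, hx, rfl⟩ v hv) (by
          rintro _ ⟨x, hx, rfl⟩
          exact ⟨1, by simpa using hfix x hx⟩))
      (diag_eq_zero_of_irr h2 (by simpa using hk) hs₂'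
        (S := {B | ∃ b : GL (Fin k) F, (∃ g ∈ H, ∃ (g₀ : GL (Fin d × Fin k) F) (a : GL (Fin d) F),
          coordGL e P g₀ = g ∧ (g₀ : Matrix (Fin d × Fin k) (Fin d × Fin k) F) =
            (a : Matrix (Fin d) (Fin d) F) ⊗ₖ (b : Matrix (Fin k) (Fin k) F)) ∧ (b : Matrix _ _ F) = B})
        (fun K hK => factor_irr e P hirr hle K fun b hb v hv => hK _ ⟨b, hb, rfl⟩ v hv) (by
          rintro _ ⟨b, ⟨g, hg, g₀, a, rfl, hab⟩, rfl⟩
          obtain ⟨⟨μ, hμ⟩, -⟩ := h.tensor_similitude hgram hG₁ hG₂ (hH hg) hab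
          exact ⟨μ, by simpa using hμ⟩))
      hgram hle
    exact .of_fixed_quad hodd hQ hpol hfixQ

theorem SympOutcome.of_realisable (h : RefForm (RingEquiv.refl F) (-1) f) [Nonempty ι]
    (hH : H ≤ preserving (glToMat ι F) f) {N : Subgroup (GL ι F)} (hN : AbsIrr N) (hNH : N ≤ H)
    (hn : NormalIn H N) {F₁ : Subfield F} (hF₁ : F₁ ≠ ⊤)
    (hreal : Geo.RealisableOver F₁ (Geo.matrixSet N)) : SympOutcome f H := by
  obtain ⟨F₀, r, P, ζ, hr, hcard, hζ, hrat, hle⟩ := h.to_subfield hN (hNH.trans hH) hn hF₁ hreal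
  exact .subfield F₀ r P ζ hr hcard hζ hrat hle

theorem SympOutcome.of_classTwo (hf : Geo.IsSymplecticForm f) (h : RefForm (RingEquiv.refl F) (-1) f)
    [Nonempty ι] (hH : H ≤ preserving (glToMat ι F) f) {M : Subgroup (GL ι F)} (hc : ClassTwo H M) :
    SympOutcome f H := by
  obtain ⟨k, hb⟩ := hc.bilinear h hH
  rcases hc.realisable_prime hb with ⟨F₁, hF₁, hreal⟩ | ⟨p, hp, hodd, hF⟩
  · exact .of_realisable h hH hc.absIrr hc.le hc.normal hF₁ hreal
  refine .symplecticType M p k hb.dim hb.sympType hc.absIrr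
    (fun x hx => ⟨1, fun u v => by rw [Units.val_one, one_mul]; exact RefForm.mem_isometry.1 (hH (hc.le hx)) u v⟩)
    hp hodd hF hb.card hb.centre (hc.minusType h hf.alternating hH hb) fun g hg => ?_
  show g ∈ Subgroup.normalizer (M : Set (GL ι F))
  rw [Subgroup.mem_normalizer_iff]
  exact fun x => ⟨fun hx => hc.normal g hg x hx, fun hx => by
    simpa [mul_assoc] using hc.normal g⁻¹ (H.inv_mem hg) _ hx⟩

theorem SympOutcome.of_simple (hι : 2 ≤ Fintype.card ι) (hf : Geo.IsSymplecticForm f)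
    (h : RefForm (RingEquiv.refl F) (-1) f) [Nonempty ι] (hH : H ≤ preserving (glToMat ι F) f)
    {P : Subgroup (GL ι F)} (hP : SimpleCore H P) : SympOutcome f H := by
  have hfP := hP.le.trans hH
  by_cases hF : ∃ F₁ : Subfield F, F₁ ≠ ⊤ ∧ Geo.RealisableOver F₁ (Geo.matrixSet P)
  · obtain ⟨F₁, h1, h2⟩ := hF
    exact .of_realisable h hH hP.absIrred hP.le hP.normal h1 h2
  by_cases hQ : ∃ Q, Geo.IsNondegenerateQuadraticForm Q ∧ Geo.FixesQuadForm (Geo.matrixSet P) Q
  · obtain ⟨Q, hQ, hfix⟩ := hQ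
    obtain ⟨c, hc⟩ := hP.absIrred.form_unique h.sesq h.nondeg (IsSesq.of_bilinear hQ.polar_bilinear)
      (h.isometry_fixes hfP) (fun s hs u v => by
        simp only [QuadraticMap.polar, ← Matrix.mulVec_add, hfix s hs])
    have hc0 : c ≠ 0 := by
      rintro rfl
      obtain ⟨i⟩ := ‹Nonempty ι›
      obtain ⟨x, hx⟩ := (hQ.nondegenerate (Pi.single i 1) (by simp)).2
      exact hx (by rw [hc, zero_mul])
    by_cases hodd : Odd (Fintype.card F)
    · exfalso
      obtain ⟨i⟩ := ‹Nonempty ι›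
      obtain ⟨x, hx⟩ := (hf.nondegenerate (Pi.single i 1) (by simp)).2
      have h1 := hc x (Pi.single i 1)
      rw [QuadraticMap.polar_comm Q x, hc, hf.skew x] at h1
      exact mul_ne_zero (two_ne_zero_of_odd hodd) (mul_ne_zero hc0 hx) (by linear_combination h1)
    let Q' : (ι → F) → F := fun v => c⁻¹ * Q v
    have hpol : ∀ u v, QuadraticMap.polar Q' u v = f u v := fun u v => by
      rw [← inv_mul_cancel_left₀ hc0 (f u v), ← hc]
      simp only [Q', QuadraticMap.polar]
      ring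
    have hQ' : Geo.IsNondegenerateQuadraticForm Q' := by
      refine ⟨fun a v => ?_, ?_, ?_⟩
      · simp only [Q', hQ.smul]; ring
      · rw [show QuadraticMap.polar Q' = f from funext fun u => funext (hpol u)]; exact hf.bilinear
      · rw [show QuadraticMap.polar Q' = f from funext fun u => funext (hpol u)]; exact hf.nondegenerate
    refine .of_fixed_quad hodd hQ' hpol fun g hg v => quad_fixed_of_normal hι hP.absIrred.1 hP.normal
      ⟨hQ'.smul, hQ'.polar_bilinear⟩ (two_eq_zero_of_not_odd hodd) (fun x hx w => ?_)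
      (fun g hg u v => by rw [hpol, hpol]; exact RefForm.mem_isometry.1 (hH hg) u v) hg v
    simp only [Q', hfix _ ⟨x, hx, rfl⟩]
  refine .residual ⟨P, hP.isResidualCore fun F₀ h0 h1 => hF ⟨F₀, h0, h1⟩, hQ, ?_⟩
  rintro ⟨σ, g, hg, hfix⟩
  exact hF (hP.absIrred.realisable_of_two_forms (σ₁ := σ) (σ₂ := RingEquiv.refl F)
    (fun h0 => hg.ne_refl (by rw [← h0]; rfl)) (RefForm.of_unitary hg) h
    (fun x hx u v => hfix _ ⟨x, hx, rfl⟩ u v) hfP)

theorem SympOutcome.of_commuting (hι : 2 ≤ Fintype.card ι) (h : RefForm (RingEquiv.refl F) (-1) f)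
    [Nonempty ι] (hH : H ≤ preserving (glToMat ι F) f) {P : Subgroup (GL ι F)} {t : ℕ}
    {L : Fin t → Subgroup (GL ι F)} (hc : CommutingData H P L) : SympOutcome f H := by
  classical
  obtain ⟨d, e, B, N', G, c, l, hd⟩ := h.power_data hH hc
  have hl : l * l = 1 := hd.norm
  have hG : Gᵀ = l • G := by simpa using hd.herm
  have hsign : l ^ t = -1 := by
    have h1 : c * l ^ t = c * -1 := by
      have h2 := hd.sign
      simp only [RingEquiv.refl_apply] at h2
      linear_combination h2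
    exact mul_left_cancel₀ hd.c_ne h1
  have hgr : ∀ u v, coordForm f e B u v = c * matForm id (pureMat (fun _ : Fin t => G)) u v := fun u v => by
    rw [coordForm_eq h, hd.gram, matForm_smul]; rfl
  by_cases hodd : Odd (Fintype.card F)
  · have h2 := two_ne_zero_of_odd hodd
    obtain rfl : l = -1 := (mul_self_eq_one_iff.1 hl).resolve_left fun h1 => h2 (by
      rw [h1, one_pow] at hsign; linear_combination hsign)
    have ht : Odd t := by
      by_contra ht
      rw [(Nat.not_odd_iff_even.1 ht).neg_one_pow] at hsign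
      exact h2 (by linear_combination hsign)
    have ht3 : 3 ≤ t := by have := hc.two_le; obtain ⟨a, ha⟩ := ht; omega
    refine .tensorPower d t e B _ hodd ht ht3 ?_ (matForm_symplectic hd.det (by simpa using hG) fun i => ?_)
      (h.tensorPowerFormStructure hd.c_ne hd.gram) hd.le_wreath
    · rintro ⟨h3, rfl⟩
      -- the factors are soluble
      have hcardGL : Nat.card (GL (Fin 2) F) = 2 ^ 4 * 3 ^ 1 := by
        rw [Matrix.card_GL_field, Fin.prod_univ_two, h3]
        rfl
      have hGL : Group.IsSolvable (GL (Fin 2) F) :=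
        CharInt.isSolvable_of_card_eq Nat.prime_two Nat.prime_three hcardGL
      have hN' : Group.IsSolvable N' := inferInstance
      refine not_perfect_of_solvable hc.perfect (fun h0 => hc.not_scalar (h0 ▸ bot_le)) hc.gen
        (isSolvable_iSup_commuting L (fun i => ?_) hc.comm)
      let ψ : GL (Fin 2) F →* GL ι F :=
        (coordGL e B).toMonoidHom.comp (Units.map (slotHom (F := F) (m := 2) i : _ →* _))
      have : Group.IsSolvable (N'.map ψ) :=
        Group.isSolvable_of_surjective (ψ.subgroupMap_surjective N')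
      have hle : L i ≤ N'.map ψ := fun x hx => by
        obtain ⟨X, hX, hXx⟩ := hd.gen i x hx
        exact ⟨X, hX, Units.ext hXx⟩
      exact Group.isSolvable_of_isSolvable_injective (Subgroup.inclusion_injective hle)
    · have h1 : G i i = - G i i := by simpa using congrFun (congrFun hG i) i
      exact (mul_eq_zero.1 (show (2 : F) * G i i = 0 by linear_combination h1)).resolve_left h2
  have h2 := two_eq_zero_of_not_odd hodd
  have hl1 : l = 1 := by
    rcases mul_self_eq_one_iff.1 hl with h1 | h1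
    · exact h1
    · rw [h1, neg_eq_self_of_two_eq_zero h2]
  subst hl1
  have hG' : Gᵀ = G := by simpa using hG
  have hdiag : ∀ a, G a a = 0 := diag_eq_zero_of_irr h2 (by simpa using hd.two_le) hG'
    (S := Geo.matrixSet N') (fun K hK => irr_iff.1 hd.absIrr.1 K fun x hx v hv => hK _ ⟨x, hx, rfl⟩ v hv)
    (by rintro _ ⟨x, hx, rfl⟩; exact ⟨1, by simpa using hd.fix x hx⟩)
  have : NeZero t := ⟨by have := hc.two_le; omega⟩
  obtain ⟨Q, hQ, hpol, hQ0⟩ := exists_quad_of_alternating (A := c • pureMat (fun _ : Fin t => G))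
    (by rw [Matrix.transpose_smul, pureMat_transpose, hG']) fun x => by
      rw [Matrix.smul_apply, pureMat_apply, Finset.prod_eq_zero (Finset.mem_univ (0 : Fin t)) (hdiag _), smul_zero]
  have hpf : ∀ u v, QuadraticMap.polar Q u v = coordForm f e B u v := fun u v => by
    rw [hpol, hgr, matForm_smul]
  obtain ⟨Q', hQ', hpol', hfix⟩ := h.exists_quad_coord e B hQ hpf
  have hP : ∀ x ∈ P, ∀ v, Q' ((x : Matrix ι ι F) *ᵥ v) = Q' v := by
    intro x hx
    have hx' : x ∈ ⨆ i, L i := hc.gen hx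
    clear hx
    induction hx' using Subgroup.iSup_induction' with
    | hp i y hy =>
      obtain ⟨X, hX, hXy⟩ := hd.gen i y hy
      let X' : GL (Fin t → Fin d) F := Units.map (slotHom (F := F) (m := d) i : _ →* _) X
      have hX' : coordGL e B X' = y := Units.ext hXy
      rw [← hX']
      refine hfix X' fun x => hQ.fixed (fun u v => ?_) (fun z => ?_) x
      · rw [hpf, hpf]
        show f _ _ = f _ _
        rw [← coordGL_mulVec, ← coordGL_mulVec, hX', RefForm.mem_isometry.1 (hH (hc.le_H i hy))]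
      rw [hQ0]
      have hcol : (X' : Matrix (Fin t → Fin d) (Fin t → Fin d) F) *ᵥ Pi.single z 1 =
          ∑ a, (X : Matrix (Fin d) (Fin d) F) a (z i) •
            (Pi.single (Function.update z i a) 1 : (Fin t → Fin d) → F) := by
        rw [Matrix.mulVec_single_one]
        funext w
        show slotHom i (X : Matrix (Fin d) (Fin d) F) w z = _
        rw [slotHom_apply, pureMat_mulSingle_apply]
        simp [Finset.sum_apply, Pi.single_apply]
      rw [hcol]
      refine hQ.sum_eq_zero _ _ _ (fun a _ => hQ0 _) fun a _ b _ => ?_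
      obtain ⟨j, hj⟩ : ∃ j, j ≠ i := by
        have : Nontrivial (Fin t) := Fin.nontrivial_iff_two_le.2 hc.two_le
        exact exists_ne i
      rw [hpol, matForm_smul, show matForm id (pureMat (fun _ : Fin t => G)) =
        matForm (RingEquiv.refl F).toRingHom (pureMat (fun _ : Fin t => G)) from rfl, matForm_single_one,
        pureMat_apply, Finset.prod_eq_zero (Finset.mem_univ j) (by
          rw [Function.update_of_ne hj, Function.update_of_ne hj]; exact hdiag _), mul_zero]
    | h1 => intro v; simp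
    | hmul a b _ _ iha ihb => intro v; rw [mulVec_mul, iha, ihb]
  refine .of_fixed_quad hodd hQ' hpol' fun g hg v => quad_fixed_of_normal hι hc.absIrr.1 hc.normal
    ⟨hQ'.smul, hQ'.polar_bilinear⟩ h2 hP
    (fun g hg u v => by rw [hpol', hpol']; exact RefForm.mem_isometry.1 (hH hg) u v) hg v

/-- Aschbacher's theorem for an alternating form. -/
theorem symp_outcome (hι : 2 ≤ Fintype.card ι) (hf : Geo.IsSymplecticForm f)
    (hH : H ≤ preserving (glToMat ι F) f) : SympOutcome f H := by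
  classical
  have : Nonempty ι := Fintype.card_pos_iff.1 (by omega)
  have h := RefForm.of_symplectic hf
  by_cases hirr : Irr H
  swap
  · rcases reducible_cases h hH hirr with ⟨W, h0, hts, hle⟩ | ⟨W, h0, -, hnd, hdim, hle, -⟩ |
      ⟨D, k, -, -, hD, hle⟩
    · exact .totallySingular W h0 hts hle
    · exact .nondegenerate W h0 hnd hdim hle
    · exact .decomposition 2 k D hD (le_decompositionStabilizer_of_forall hle)
  by_cases hnorm : ∀ A, A ≤ H → NormalIn H A → ¬ A ≤ Geo.scalars ι F → AbsIrr A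
  swap
  · push Not at hnorm
    obtain ⟨N, hNH, hn, hs, ha⟩ := hnorm
    exact .of_clifford hf h hH hirr hs ha (h.clifford hH hirr hNH hn)
  cases normal_shape hι hirr hnorm with
  | classTwo M hM => exact .of_classTwo hf h hH hM
  | simple P hP => exact .of_simple hι hf h hH hP
  | commuting P t L hP => exact .of_commuting hι h hH hP

end Cfsg.Agent.Aschbacher
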