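import Cfsg.Agent.Lib.Aschbacher.FormPower
import Cfsg.Agent.Lib.Aschbacher.FormQuad
import Cfsg.Agent.Lib.Aschbacher.Twist

/-!
Tools for Aschbacher's theorem with a form: traces and twists, quadratic forms fixed by an irreducible
normal subgroup, rational structures, square roots of scalars anti-commuting with adjoints, solubility.
-/

set_option autoImplicit false
set_option linter.unusedSectionVars false

namespace Cfsg.Agent.Aschbacher

open Matrix
open scoped MatrixGroups

variable {ι : Type} [Fintype ι] [DecidableEq ι] {F : Type*} [Field F]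

theorem RefForm.of_symplectic {f : (ι → F) → (ι → F) → F} (hf : Geo.IsSymplecticForm f) :
    RefForm (RingEquiv.refl F) (-1) f :=
  ⟨IsSesq.of_bilinear hf.bilinear, hf.nondegenerate, fun _ => rfl, fun u v => by
    rw [hf.skew v u]; simp⟩

theorem RefForm.of_symmetric {f : (ι → F) → (ι → F) → F} (hb : Geo.IsBilinearForm f)
    (hnd : Geo.IsNondegenerateForm f) (hs : ∀ u v, f u v = f v u) :
    RefForm (RingEquiv.refl F) 1 f :=
  ⟨IsSesq.of_bilinear hb, hnd, fun _ => rfl, fun u v => by rw [hs v u]; simp⟩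

theorem RefForm.of_unitary {σ : F ≃+* F} {f : (ι → F) → (ι → F) → F} (hf : Geo.IsUnitaryForm σ f) :
    RefForm σ 1 f :=
  ⟨IsSesq.of_unitary hf, hf.nondegenerate, hf.involutive, fun u v => by rw [hf.herm v u, one_mul]⟩

/-- The trace of an isometry. -/
theorem RefForm.trace_twist {σ : F ≃+* F} {ε : F} {f : (ι → F) → (ι → F) → F} (h : RefForm σ ε f)
    {x : GL ι F} (hx : x ∈ preserving (glToMat ι F) f) :
    σ (x : Matrix ι ι F).trace = ((x⁻¹ : GL ι F) : Matrix ι ι F).trace := by
  have hself : coordGL (Equiv.refl ι) (1 : GL ι F) x = x := Units.ext (by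
    simp [coordGL_val, coordEquiv_apply])
  have h1 := coordGram_invariant h (Equiv.refl ι) (1 : GL ι F) (g := x) (by rwa [hself])
  set A := coordGram f (Equiv.refl ι) (1 : GL ι F)
  have hA : IsUnit A.det := isUnit_iff_ne_zero.2 (coordGram_det h (Equiv.refl ι) (1 : GL ι F))
  have h2 : A * (x : Matrix ι ι F).map σ = ((x⁻¹ : GL ι F) : Matrix ι ι F)ᵀ * A := by
    conv_rhs => rw [← h1, mul_assoc (x : Matrix ι ι F)ᵀ, ← mul_assoc, ← Matrix.transpose_mul, Units.mul_inv,
      Matrix.transpose_one, one_mul]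
  have h3 : (x : Matrix ι ι F).map σ = A⁻¹ * ((x⁻¹ : GL ι F) : Matrix ι ι F)ᵀ * A := by
    rw [mul_assoc, ← h2, Matrix.nonsing_inv_mul_cancel_left _ _ hA]
  calc σ (x : Matrix ι ι F).trace = ((x : Matrix ι ι F).map σ).trace := by simp [Matrix.trace, map_sum]
    _ = ((x⁻¹ : GL ι F) : Matrix ι ι F).trace := by
      rw [h3, mul_assoc, Matrix.trace_mul_comm, mul_assoc, Matrix.mul_nonsing_inv _ hA, mul_one,
        Matrix.trace_transpose]

/-- Realisation over the fixed field of the traces, any index type. -/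
theorem AbsIrr.realisable_of_trace [Fintype F] [Nonempty ι] {N : Subgroup (GL ι F)} (hN : AbsIrr N)
    (τ : F ≃+* F) (htr : ∀ x ∈ N, τ (x : Matrix ι ι F).trace = (x : Matrix ι ι F).trace)
    {F₀ : Subfield F} (hF₀ : ∀ a, τ a = a → a ∈ F₀) : Geo.RealisableOver F₀ (Geo.matrixSet N) := by
  classical
  let e := Fintype.equivFin ι
  let E := Matrix.reindexAlgEquiv F F e
  let N' : Subgroup (GL (Fin (Fintype.card ι)) F) := N.map (Geo.glReindex e).toMonoidHom
  have : Nonempty (Fin (Fintype.card ι)) := e.nonempty_congr.1 inferInstance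
  have hN' : AbsIrr N' := by
    refine absIrr_of_spanMat (eq_top_iff.2 fun M _ => ?_)
    have h1 : E.symm M ∈ spanMat N := hN.spanMat_eq_top ▸ Submodule.mem_top
    have h2 : (spanMat N).map E.toLinearMap ≤ spanMat N' := by
      rw [spanMat, Submodule.map_span, Submodule.span_le]
      rintro _ ⟨_, ⟨x, hx, rfl⟩, rfl⟩
      exact Submodule.subset_span ⟨Geo.glReindex e x, ⟨x, hx, rfl⟩, rfl⟩
    exact h2 ⟨_, h1, E.apply_symm_apply M⟩
  obtain ⟨B, hB⟩ := hN'.realisable_fixed Fintype.card_pos τ (by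
    rintro _ ⟨x, hx, rfl⟩
    have : (Geo.glReindex e x).val.trace = (x : Matrix ι ι F).trace := by
      simp [Geo.glReindex, Matrix.trace, Matrix.diag]
      exact Equiv.sum_comp e.symm fun i => (x : Matrix ι ι F) i i
    exact (congrArg τ this).trans ((htr x hx).trans this.symm)) hF₀
  refine ⟨Geo.glReindex e.symm B, ?_⟩
  rintro s ⟨x, hx, rfl⟩ i j
  have h3 := hB _ ⟨Geo.glReindex e x, ⟨x, hx, rfl⟩, rfl⟩ (e i) (e j)
  have h4 : (Geo.glReindex e.symm B * x * (Geo.glReindex e.symm B)⁻¹ : GL ι F) =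
      Geo.glReindex e.symm (B * Geo.glReindex e x * B⁻¹) := by
    rw [map_mul, map_mul, map_inv]
    congr 2
    ext a b
    simp [Geo.glReindex]
  show (Geo.glReindex e.symm B * x * (Geo.glReindex e.symm B)⁻¹ : GL ι F).val i j ∈ F₀
  rw [h4]
  exact h3

/-- The fixed field of an automorphism. -/
def fixedOf (τ : F ≃+* F) : Subfield F := RingHom.eqLocusField τ.toRingHom (RingHom.id F)

theorem fixedOf_ne_top {τ : F ≃+* F} (h : τ ≠ RingEquiv.refl F) : fixedOf τ ≠ ⊤ := fun h0 =>
  h (RingEquiv.ext fun a => (h0.ge (Subfield.mem_top a) : a ∈ fixedOf τ))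

/-- Two kinds of invariant forms: realisation over the fixed field. -/
theorem AbsIrr.realisable_of_two_forms [Fintype F] [Nonempty ι] {N : Subgroup (GL ι F)} (hN : AbsIrr N)
    {σ₁ σ₂ : F ≃+* F} (hne : σ₂.trans σ₁ ≠ RingEquiv.refl F) {ε₁ ε₂ : F}
    {f₁ f₂ : (ι → F) → (ι → F) → F} (h₁ : RefForm σ₁ ε₁ f₁) (h₂ : RefForm σ₂ ε₂ f₂)
    (hf₁ : N ≤ preserving (glToMat ι F) f₁) (hf₂ : N ≤ preserving (glToMat ι F) f₂) :
    ∃ F₁ : Subfield F, F₁ ≠ ⊤ ∧ Geo.RealisableOver F₁ (Geo.matrixSet N) :=
  ⟨fixedOf (σ₂.trans σ₁), fixedOf_ne_top hne, hN.realisable_of_trace (σ₂.trans σ₁) (fun x hx => by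
    rw [RingEquiv.trans_apply, h₂.trace_twist (hf₂ hx), h₁.trace_twist (hf₁ (N.inv_mem hx)), inv_inv])
    fun _ ha => ha⟩

/-- A quadratic function fixed by an irreducible normal subgroup is fixed by isometries of its polar
form normalising it. -/
theorem quad_fixed_of_normal [Fintype F] (hι : 2 ≤ Fintype.card ι) {H P : Subgroup (GL ι F)}
    (hP : Irr P) (hn : NormalIn H P) {Q : (ι → F) → F} (hQ : IsQuadFun Q) (h2 : (2 : F) = 0)
    (hfix : ∀ x ∈ P, ∀ v, Q ((x : Matrix ι ι F) *ᵥ v) = Q v)
    (hH : ∀ g ∈ H, ∀ u v, QuadraticMap.polar Q ((g : Matrix ι ι F) *ᵥ u) ((g : Matrix ι ι F) *ᵥ v) =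
      QuadraticMap.polar Q u v) {g : GL ι F} (hg : g ∈ H) (v : ι → F) :
    Q ((g : Matrix ι ι F) *ᵥ v) = Q v := by
  let D : (ι → F) → F := fun v => Q ((g : Matrix ι ι F) *ᵥ v) - Q v
  have hadd : ∀ u v, D (u + v) = D u + D v := fun u v => by
    simp only [D, Matrix.mulVec_add, hQ.map_add, hH g hg]; ring
  have hsmul : ∀ (c : F) v, D (c • v) = c ^ 2 * D v := fun c v => by
    simp only [D, Matrix.mulVec_smul, hQ.smul]; ring
  let K : Submodule F (ι → F) :=
    { carrier := {v | D v = 0}
      zero_mem' := by simp [D, hQ.zero]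
      add_mem' := fun {a b} (ha : D a = 0) (hb : D b = 0) => show D (a + b) = 0 by rw [hadd, ha, hb, add_zero]
      smul_mem' := fun c a (ha : D a = 0) => show D (c • a) = 0 by rw [hsmul, ha, mul_zero] }
  have hK : Invariant P K := fun x hx a (ha : D a = 0) => by
    show D _ = 0
    have h1 : Q ((g : Matrix ι ι F) *ᵥ ((x : Matrix ι ι F) *ᵥ a)) = Q ((g : Matrix ι ι F) *ᵥ a) := by
      conv_rhs => rw [← hfix _ (hn g hg x hx)]
      rw [← mulVec_mul, ← mulVec_mul]
      congr 2
      group
    simp only [D, h1, hfix x hx] at ha ⊢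
    exact ha
  rcases irr_iff.1 hP K hK with h0 | h0
  · exfalso
    have hinj : Function.Injective D := fun a b hab => by
      have hsub : D (a - b) = 0 := by
        rw [sub_eq_add_neg, ← neg_one_smul F b, hadd, hsmul, hab]
        linear_combination D b * h2
      have hm : a - b ∈ K := hsub
      rwa [h0, Submodule.mem_bot, sub_eq_zero] at hm
    have h1 := Fintype.card_le_of_injective _ hinj
    rw [Fintype.card_fun] at h1
    have h3 := Fintype.one_lt_card (α := F)
    exact absurd h1 (not_le.2 (lt_of_lt_of_le (by rw [sq]; nlinarith)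
      (Nat.pow_le_pow_right (by omega) hι)))
  · have hv : v ∈ K := h0 ▸ Submodule.mem_top
    exact sub_eq_zero.1 (show D v = 0 from hv)

/-- A rational structure carrying a multiple of the form. -/
theorem RefForm.exists_rational [Fintype F] [Nonempty ι] {σ : F ≃+* F} {ε : F}
    {f : (ι → F) → (ι → F) → F} (h : RefForm σ ε f) {N H : Subgroup (GL ι F)} (hN : AbsIrr N)
    (hfN : N ≤ preserving (glToMat ι F) f) (hn : NormalIn H N) {F₀ : Subfield F}
    (hreal : Geo.RealisableOver F₀ (Geo.matrixSet N)) :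
    ∃ (P : GL ι F) (ζ : F), ζ ≠ 0 ∧ H ≤ Geo.subfieldSubgroup F₀ P ∧
      (∀ i j, ζ * coordGram f (Equiv.refl ι) P i j ∈ F₀) ∧ Geo.IsFormRationalStructure f F₀ ζ P ∧
      AbsIrr (N.map (MulAut.conj P⁻¹).toMonoidHom) ∧
      (∀ x ∈ N.map (MulAut.conj P⁻¹).toMonoidHom,
        (∀ i j, (x : Matrix ι ι F) i j ∈ F₀) ∧
        (x : Matrix ι ι F)ᵀ * coordGram f (Equiv.refl ι) P * (x : Matrix ι ι F).map σ =
          coordGram f (Equiv.refl ι) P) := by
  classical
  obtain ⟨B, hB⟩ := hreal
  haveI : Fintype F₀ := Fintype.ofFinite _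
  set P : GL ι F := B⁻¹ with hP
  set A := coordGram f (Equiv.refl ι) P with hA
  let φ : F →ₐ[F₀] F := FiniteField.frobeniusAlgHom F₀ F
  have hφ : ∀ {y : F}, y ∈ F₀ → φ y = y := fun {y} hy => φ.commutes ⟨y, hy⟩
  have hφfix : ∀ {y : F}, φ y = y → y ∈ F₀ := fun {y} hy => mem_subfield_of_pow_eq (by
    simpa [φ, Nat.card_eq_fintype_card] using hy)
  have hσF₀ : ∀ {y : F}, y ∈ F₀ → σ y ∈ F₀ := fun {y} hy => mem_subfield_of_pow_eq (by
    rw [← map_pow]
    refine congrArg σ ?_
    have h1 := hφ hy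
    simpa [φ, Nat.card_eq_fintype_card] using h1)
  set N₁ := N.map (MulAut.conj P⁻¹).toMonoidHom with hN₁
  have hN₁abs : AbsIrr N₁ := by
    refine absIrr_of_spanMat (eq_top_iff.2 fun M _ => ?_)
    have h1 := conj_mem_spanMat P⁻¹ (hN.spanMat_eq_top ▸ Submodule.mem_top :
      (P : Matrix ι ι F) * M * ((P⁻¹ : GL ι F) : Matrix ι ι F) ∈ spanMat N)
    simpa [hN₁, mul_assoc] using h1
  have hmem : ∀ x ∈ N₁, ∀ i j, (x : Matrix ι ι F) i j ∈ F₀ := by
    rintro _ ⟨x, hx, rfl⟩ i j
    simpa [hP] using hB _ ⟨x, hx, rfl⟩ i j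
  have hinv : ∀ x ∈ N₁, (x : Matrix ι ι F)ᵀ * A * (x : Matrix ι ι F).map σ = A := by
    rintro _ ⟨x, hx, rfl⟩
    refine coordGram_invariant h (Equiv.refl ι) P ?_
    have : coordGL (Equiv.refl ι) P ((MulAut.conj P⁻¹).toMonoidHom x) = x := Units.ext (by
      simp [coordGL_val, coordEquiv_apply, mul_assoc])
    rw [this]
    exact hfN hx
  have hinvφ : ∀ x ∈ N₁, (x : Matrix ι ι F)ᵀ * A.map φ * (x : Matrix ι ι F).map σ = A.map φ := by
    intro x hx
    have e1 : ((x : Matrix ι ι F)ᵀ).map φ = (x : Matrix ι ι F)ᵀ :=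
      Matrix.ext fun i j => hφ (hmem x hx j i)
    have e2 : ((x : Matrix ι ι F).map σ).map φ = (x : Matrix ι ι F).map σ :=
      Matrix.ext fun i j => hφ (hσF₀ (hmem x hx i j))
    conv_rhs => rw [← hinv x hx]
    rw [Matrix.map_mul, Matrix.map_mul, e1, e2]
  have hAdet : A.det ≠ 0 := coordGram_det h (Equiv.refl ι) P
  obtain ⟨c, hc⟩ := hN₁abs.form_unique (matForm_isSesq σ.toRingHom A) (matForm_nondegenerate σ hAdet)
    (matForm_isSesq σ.toRingHom (A.map φ)) (similitude_matForm hinv) (similitude_matForm hinvφ)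
  have hcA : ∀ i j, φ (A i j) = c * A i j := fun i j => by
    have := hc (Pi.single i 1) (Pi.single j 1)
    rwa [matForm_single_one, matForm_single_one] at this
  obtain ⟨i₀, j₀, hne⟩ : ∃ i j, A i j ≠ 0 := by
    by_contra hcon
    push Not at hcon
    exact hAdet (by rw [show A = 0 from Matrix.ext hcon, Matrix.det_zero])
  have hc0 : c ≠ 0 := by
    rintro rfl
    have := hcA i₀ j₀
    rw [zero_mul] at this
    exact hne (φ.toRingHom.injective (this.trans (map_zero _).symm))
  have hrat : ∀ i j, (A i₀ j₀)⁻¹ * A i j ∈ F₀ := fun i j => hφfix (by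
    rw [map_mul, map_inv₀, hcA, hcA, _root_.mul_inv]
    field_simp)
  refine ⟨P, (A i₀ j₀)⁻¹, inv_ne_zero hne, hN.le_subfieldSubgroup hB hn, hrat, fun u v hu hv => ?_,
    hN₁abs, fun x hx => ⟨hmem x hx, hinv x hx⟩⟩
  have h1 := coordForm_eq h (Equiv.refl ι) P u v
  simp only [coordForm, Equiv.coe_refl, Function.comp_id] at h1
  rw [h1, ← hA]
  simp only [matForm, dotProduct, Matrix.mulVec, Finset.mul_sum, Function.comp_apply]
  refine sum_mem fun i _ => sum_mem fun j _ => ?_
  rw [show (A i₀ j₀)⁻¹ * (u i * (A i j * σ.toRingHom (v j))) =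
    u i * ((A i₀ j₀)⁻¹ * A i j * σ.toRingHom (v j)) by ring]
  exact mul_mem (hu i) (mul_mem (hrat i j) (hσF₀ (hv j)))

/-- The elements of a field subalgebra fixed by the Frobenius are scalars. -/
theorem fixed_mem_scalar [Fintype F] [Nonempty ι] {d : ℕ} {K : Subalgebra F (Matrix ι ι F)}
    (hK : Geo.IsFieldSubalgebra d K) {x : Matrix ι ι F} (hx : x ∈ K) (hq : x ^ Fintype.card F = x) :
    ∃ c : F, x = c • 1 := by
  obtain ⟨K₁, hK₁, hmem⟩ := exists_subfield_degree hK (one_dvd d)
  obtain ⟨c, hc⟩ := (finrank_eq_one_iff_of_nonzero' (⟨1, one_mem K₁⟩ : K₁)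
    (fun h0 => one_ne_zero (congrArg Subtype.val h0))).1 hK₁.finrank_eq ⟨x, (hmem x).2 ⟨hx, by rwa [pow_one]⟩⟩
  exact ⟨c, (congrArg Subtype.val hc).symm⟩

theorem pow_card_field [Fintype F] [Nonempty ι] {d : ℕ} {K : Subalgebra F (Matrix ι ι F)}
    (hK : Geo.IsFieldSubalgebra d K) {x : Matrix ι ι F} (hx : x ∈ K) : x ^ Fintype.card F ^ d = x := by
  let _ : Field K := (isField_of_isFieldSubalgebra hK).toField
  have : Fintype K := Fintype.ofFinite K
  have h1 := FiniteField.pow_card (⟨x, hx⟩ : K)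
  rw [← Nat.card_eq_fintype_card, card_of_isFieldSubalgebra hK] at h1
  exact congrArg Subtype.val h1

/-- A skew element whose square is a non-zero scalar: two totally singular subspaces, or a field. -/
theorem RefForm.skew_sqrt [Fintype F] [Nonempty ι] {ε : F} {f : (ι → F) → (ι → F) → F}
    (h : RefForm (RingEquiv.refl F) ε f) (h2 : (2 : F) ≠ 0) {H : Subgroup (GL ι F)} (hirr : Irr H)
    {J : Matrix ι ι F} {s : F} (hs : s ≠ 0) (hJ2 : J * J = s • 1) (hadj : h.adj J = -J)
    (hnorm : ∀ g ∈ H, ∃ a : F, (g : Matrix ι ι F) * J * ((g⁻¹ : GL ι F) : Matrix ι ι F) = a • J) :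
    (∃ (k : ℕ) (D : Fin 2 → Submodule F (ι → F)), 2 * k = Fintype.card ι ∧ Geo.IsMDecomposition k D ∧
      (∀ i, Geo.IsTotallySingularFor f (D i)) ∧ H ≤ Geo.decompositionStabilizer D) ∨
    (∃ K : Subalgebra F (Matrix ι ι F), Geo.IsFieldSubalgebra 2 K ∧ Geo.IsAdjointClosedFor f K ∧
      ¬ Geo.IsSelfAdjointFor f K ∧ H ≤ Geo.subalgebraNormalizer K) := by
  classical
  have hJ0 : J ≠ 0 := by
    rintro rfl
    rw [mul_zero] at hJ2
    exact smul_ne_zero hs one_ne_zero hJ2.symm
  have hind : ∀ a b : F, a • (1 : Matrix ι ι F) + b • J = 0 → a = 0 ∧ b = 0 := by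
    intro a b hab
    by_cases hb : b = 0
    · rw [hb, zero_smul, add_zero] at hab
      exact ⟨(smul_eq_zero.1 hab).resolve_right one_ne_zero, hb⟩
    exfalso
    have hJc : J = (-(a / b)) • (1 : Matrix ι ι F) := by
      have h1 : b • J = -(a • (1 : Matrix ι ι F)) := by rw [eq_neg_iff_add_eq_zero, add_comm]; exact hab
      calc J = b⁻¹ • (b • J) := by rw [smul_smul, inv_mul_cancel₀ hb, one_smul]
        _ = _ := by rw [h1, smul_neg, smul_smul, neg_smul, div_eq_inv_mul]
    rw [hJc, h.adj_smul, h.adj_one] at hadj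
    have h3 : (2 : F) • J = 0 := by
      rw [hJc, two_smul]
      conv_lhs => arg 1; rw [show (-(a / b)) • (1 : Matrix ι ι F) = RingEquiv.refl F (-(a / b)) • 1 from rfl,
        hadj]
      exact neg_add_cancel _
    exact hJ0 ((smul_eq_zero.1 h3).resolve_left h2)
  by_cases hsq : ∃ w : F, w * w = s
  · obtain ⟨w, hw⟩ := hsq
    have hw0 : w ≠ 0 := by rintro rfl; exact hs (by rw [← hw, mul_zero])
    have h20 : (2 : F)⁻¹ ≠ 0 := inv_ne_zero h2
    let a : F := (2 : F)⁻¹
    let b : F := (2 * w)⁻¹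
    let E : Fin 2 → Matrix ι ι F := ![a • 1 + b • J, a • 1 + (-b) • J]
    have ha : a + a = 1 := by simp only [a]; field_simp; ring
    have hab : a * a + b * b * s = a := by simp only [a, b]; rw [← hw]; field_simp; ring
    have hmul : ∀ x y x' y' : F, (x • (1 : Matrix ι ι F) + y • J) * (x' • 1 + y' • J) =
        (x * x' + y * y' * s) • 1 + (x * y' + y * x') • J := by
      intro x y x' y'
      simp only [add_mul, mul_add, smul_mul_smul_comm, one_mul, mul_one, hJ2, smul_smul, add_smul]
      abel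
    have hba : a * b + b * a = b := by rw [mul_comm b a, ← add_mul, ha, one_mul]
    have hzero : a * a + b * -b * s = 0 := by simp only [a, b]; rw [← hw]; field_simp; ring
    have hidem : ∀ i, E i * E i = E i := by
      intro i; fin_cases i
      · show (a • 1 + b • J) * (a • 1 + b • J) = _
        rw [hmul, hab, hba]; rfl
      · show (a • 1 + (-b) • J) * (a • 1 + (-b) • J) = _
        rw [hmul, show -b * -b * s = b * b * s by ring, hab,
          show a * -b + -b * a = -(a * b + b * a) by ring, hba]; rfl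
    have horth : ∀ i j, i ≠ j → E i * E j = 0 := by
      intro i j hij
      fin_cases i <;> fin_cases j <;> first | exact absurd rfl hij | skip
      · show (a • 1 + b • J) * (a • 1 + (-b) • J) = 0
        rw [hmul, hzero, show a * -b + b * a = 0 by ring, zero_smul, zero_smul, add_zero]
      · show (a • 1 + (-b) • J) * (a • 1 + b • J) = 0
        rw [hmul, show -b * b = b * -b by ring, hzero, show a * b + -b * a = 0 by ring, zero_smul, zero_smul,
          add_zero]
    have hsum : ∑ i, E i = 1 := by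
      rw [Fin.sum_univ_two]
      show a • 1 + b • J + (a • 1 + (-b) • J) = 1
      rw [add_add_add_comm, ← add_smul, ← add_smul, ha, add_neg_cancel, one_smul, zero_smul, add_zero]
    have hne : ∀ i, E i ≠ 0 := by
      intro i h0; fin_cases i
      · exact h20 (hind a b h0).1
      · exact h20 (hind a (-b) h0).1
    have hperm : ∀ g ∈ H, ∀ i, ∃ j, (g : Matrix ι ι F) * E i * ((g⁻¹ : GL ι F) : Matrix ι ι F) = E j := by
      intro g hg i
      obtain ⟨c, hc⟩ := hnorm g hg
      have hc2 : c = 1 ∨ c = -1 := by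
        have h1 : (c * c) • (J * J) = J * J := by
          rw [← smul_mul_smul_comm, ← hc,
            show (g : Matrix ι ι F) * J * ((g⁻¹ : GL ι F) : Matrix ι ι F) * ((g : Matrix ι ι F) * J *
              ((g⁻¹ : GL ι F) : Matrix ι ι F)) = (g : Matrix ι ι F) * (J * J) * ((g⁻¹ : GL ι F) : Matrix ι ι F) by
              simp [mul_assoc], hJ2]
          simp
        rw [hJ2, smul_smul] at h1
        exact mul_self_eq_one_iff.1 (mul_right_cancel₀ hs ((smul_left_injective F one_ne_zero h1).trans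
          (one_mul s).symm))
      have hconj : ∀ x y : F, (g : Matrix ι ι F) * (x • 1 + y • J) * ((g⁻¹ : GL ι F) : Matrix ι ι F) =
          x • 1 + (y * c) • J := fun x y => by
        simp only [mul_add, add_mul, mul_smul_comm, smul_mul_assoc, mul_one, Units.mul_inv, hc, smul_smul]
      fin_cases i <;> rcases hc2 with rfl | rfl
      · exact ⟨0, by show _ * (a • 1 + b • J) * _ = _; rw [hconj, mul_one]; rfl⟩
      · exact ⟨1, by show _ * (a • 1 + b • J) * _ = _; rw [hconj, mul_neg_one]; rfl⟩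
      · exact ⟨1, by show _ * (a • 1 + (-b) • J) * _ = _; rw [hconj, mul_one]; rfl⟩
      · exact ⟨0, by show _ * (a • 1 + (-b) • J) * _ = _; rw [hconj, mul_neg_one, neg_neg]; rfl⟩
    obtain ⟨k, hD, hle, -⟩ := decomp_of_idempotents hirr le_rfl E hidem horth hsum hne hperm
    refine Or.inl ⟨k, _, ?_, hD, fun i => ?_, hle⟩
    · rw [← card_eq_of_isMDecomposition hD]
    · rintro _ ⟨u, rfl⟩ _ ⟨v, rfl⟩
      have hadjE : ∀ x y : F, h.adj (x • 1 + y • J) = x • 1 + (-y) • J := fun x y => by
        rw [h.adj_add, h.adj_smul, h.adj_smul, h.adj_one, hadj]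
        simp
      rw [Matrix.toLin'_apply, Matrix.toLin'_apply, h.adj_right, Matrix.mulVec_mulVec]
      have h0 : h.adj (E i) * E i = 0 := by
        fin_cases i
        · show h.adj (a • 1 + b • J) * (a • 1 + b • J) = 0
          rw [hadjE]; exact horth 1 0 (by decide)
        · show h.adj (a • 1 + (-b) • J) * (a • 1 + (-b) • J) = 0
          rw [hadjE, neg_neg]; exact horth 0 1 (by decide)
      rw [h0, Matrix.zero_mulVec, h.sesq.zero_right]
  · push Not at hsq
    let K : Subalgebra F (Matrix ι ι F) :=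
      (Submodule.span F {(1 : Matrix ι ι F), J}).toSubalgebra (Submodule.subset_span (by simp)) (by
        intro x y hx hy
        rw [Submodule.mem_span_pair] at hx hy ⊢
        obtain ⟨p, q, rfl⟩ := hx
        obtain ⟨p', q', rfl⟩ := hy
        refine ⟨p * p' + q * q' * s, p * q' + q * p', ?_⟩
        simp only [add_mul, mul_add, smul_mul_smul_comm, one_mul, mul_one, hJ2, smul_smul, add_smul]
        abel)
    have hmem : ∀ {x}, x ∈ K ↔ ∃ p q : F, p • (1 : Matrix ι ι F) + q • J = x := fun {x} =>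
      Submodule.mem_span_pair
    have hJK : J ∈ K := hmem.2 ⟨0, 1, by simp⟩
    have hK : Geo.IsFieldSubalgebra 2 K := by
      refine ⟨fun x hx y hy => ?_, fun x hx hne => ?_, ?_⟩
      · obtain ⟨p, q, rfl⟩ := hmem.1 hx
        obtain ⟨p', q', rfl⟩ := hmem.1 hy
        simp only [add_mul, mul_add, smul_mul_smul_comm, one_mul, mul_one, mul_comm p, mul_comm q]
        abel
      · obtain ⟨p, q, rfl⟩ := hmem.1 hx
        have hn0 : p * p - q * q * s ≠ 0 := fun h0 => by
          by_cases hq : q = 0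
          · subst hq
            have : p = 0 := mul_self_eq_zero.1 (by linear_combination h0)
            simp [this] at hne
          · exact hsq (p / q) (by field_simp; linear_combination h0)
        have hn1 : p ^ 2 - q ^ 2 * s ≠ 0 := by rwa [sq, sq]
        refine ⟨(p / (p * p - q * q * s)) • 1 + (-q / (p * p - q * q * s)) • J, hmem.2 ⟨_, _, rfl⟩, ?_⟩
        simp only [add_mul, mul_add, smul_mul_smul_comm, one_mul, mul_one, hJ2, smul_smul]
        match_scalars <;> field_simp <;> ring
      · show Module.finrank F (Submodule.span F {(1 : Matrix ι ι F), J}) = 2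
        have hli : LinearIndependent F ![(1 : Matrix ι ι F), J] :=
          LinearIndependent.pair_iff.2 hind
        have h1 := finrank_span_eq_card hli
        rw [Matrix.range_cons, Matrix.range_cons, Matrix.range_empty, Set.union_empty, Set.singleton_union,
          Fintype.card_fin] at h1
        exact h1
    refine Or.inr ⟨K, hK, fun z hz => ?_, fun hsa => ?_, fun g hg => mem_subalgebraNormalizer fun z hz => ?_⟩
    · obtain ⟨p, q, rfl⟩ := hmem.1 hz
      refine ⟨h.adj (p • 1 + q • J), ?_, fun u v => h.adj_right _ u v⟩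
      rw [h.adj_add, h.adj_smul, h.adj_smul, h.adj_one, hadj]
      exact hmem.2 ⟨p, -q, by simp⟩
    · have h1 : h.adj J = J := h.adj_eq fun u v => hsa J hJK u v
      rw [hadj] at h1
      have h3 : (2 : F) • J = 0 := by rw [two_smul]; nth_rewrite 1 [← h1]; exact neg_add_cancel J
      exact hJ0 ((smul_eq_zero.1 h3).resolve_left h2)
    · obtain ⟨p, q, rfl⟩ := hmem.1 hz
      obtain ⟨c, hc⟩ := hnorm g hg
      refine hmem.2 ⟨p, q * c, ?_⟩
      simp only [mul_add, add_mul, mul_smul_comm, smul_mul_assoc, mul_one, Units.mul_inv, hc, smul_smul]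

/-- Pairwise commuting soluble subgroups generate a soluble subgroup. -/
theorem isSolvable_iSup_commuting {G : Type*} [Group G] {α : Type*} [Fintype α] (L : α → Subgroup G)
    (hsol : ∀ i, Group.IsSolvable (L i)) (hcomm : ∀ i j, i ≠ j → ∀ x ∈ L i, ∀ y ∈ L j, x * y = y * x) :
    Group.IsSolvable (⨆ i, L i : Subgroup G) := by
  classical
  have key : ∀ s : Finset α, Group.IsSolvable (s.sup L : Subgroup G) := by
    intro s
    induction s using Finset.induction with
    | empty =>
      rw [Finset.sup_empty]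
      infer_instance
    | insert a s ha ih =>
      have hc : ∀ (m : L a) (n : (s.sup L : Subgroup G)), Commute (m : G) n := by
        rintro ⟨m, hm⟩ ⟨n, hn⟩
        have hle : s.sup L ≤ Subgroup.centralizer {m} :=
          Finset.sup_le fun b hb y hy => Subgroup.mem_centralizer_iff.2 fun z hz => by
            rw [Set.mem_singleton_iff] at hz
            subst hz
            exact hcomm a b (fun h => ha (h ▸ hb)) z hm y hy
        exact Subgroup.mem_centralizer_iff.1 (hle hn) m rfl
      let φ := MonoidHom.noncommCoprod (L a).subtype (s.sup L : Subgroup G).subtype hc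
      have := hsol a
      have hr : φ.range = (insert a s).sup L := by
        refine (MonoidHom.noncommCoprod_range (f := (L a).subtype) (g := (s.sup L : Subgroup G).subtype) (comm := hc)).trans ?_
        rw [Subgroup.range_subtype, Subgroup.range_subtype, Finset.sup_insert]
      rw [← hr]
      exact Group.isSolvable_of_surjective φ.rangeRestrict_surjective
  have h1 := key Finset.univ
  rwa [Finset.sup_univ_eq_iSup] at h1

theorem not_perfect_of_solvable {G : Type*} [Group G] {P S : Subgroup G} (hP : ⁅P, P⁆ = P) (hne : P ≠ ⊥)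
    (hle : P ≤ S) (hS : Group.IsSolvable S) : False := by
  have hPs : Group.IsSolvable P := Group.isSolvable_of_isSolvable_injective (Subgroup.inclusion_injective hle)
  obtain ⟨n, hn⟩ := hPs.solvable
  have h1 : ∀ k, (derivedSeries P k).map P.subtype = P := by
    intro k
    induction k with
    | zero => simp [derivedSeries, ← MonoidHom.range_eq_map]
    | succ k ih => rw [derivedSeries_succ, Subgroup.map_commutator, ih, hP]
  have h2 := h1 n
  rw [hn, Subgroup.map_bot] at h2
  exact hne h2.symm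

end Cfsg.Agent.Aschbacher
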