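import Cfsg.Agent.Lib.Aschbacher.ClassTwoOutcome

/-!
The group of symplectic type inside a class-two group, without conditions on the field degree.
-/

set_option autoImplicit false

namespace Cfsg.Agent.Aschbacher

open Matrix
open scoped MatrixGroups

variable {n : ℕ} [NeZero n] {F : Type*} [Field F] [Fintype F] {H M R : Subgroup (GL (Fin n) F)} {r z : ℕ}

theorem SmallPart.structure (h : SmallPart H M R r z) (hn : 3 ≤ n) (hMH : M ≤ H)
    (hab : ∀ A, A ≤ H → NormalIn H A → Abelian A → A ≤ Geo.scalars (Fin n) F)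
    {U : GL (Fin n) F} {u : F} (hU : U ∈ M) (hUu : (U : Matrix (Fin n) (Fin n) F) = u • 1)
    (hu : IsPrimitiveRoot u z) :
    ∃ k, n = r ^ k ∧ 1 ≤ k ∧ Nat.card (Subgroup.center R) = z ∧ Nat.card R = z * r ^ (2 * k) ∧
      Geo.IsSymplecticTypeGroup r R := by
  classical
  have hUR : U ∈ R := h.mem U hU (Units.ext (by
    rw [Units.val_pow_eq_pow_val, hUu, smul_pow, one_pow, hu.pow_eq_one, one_smul, Units.val_one]))
  have hUord : orderOf U = z := by
    rw [← orderOf_units, hUu, show (u • (1 : Matrix (Fin n) (Fin n) F)) = Matrix.scalar (Fin n) u by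
      rw [Matrix.scalar_apply, Matrix.smul_one_eq_diagonal],
      show orderOf (Matrix.scalar (Fin n) u) = orderOf u from orderOf_injective
        (Matrix.scalar (Fin n) : F →+* Matrix (Fin n) (Fin n) F).toMonoidHom
        (fun a b hab => Matrix.scalar_inj.1 hab) u,
      ← hu.eq_orderOf]
  have hr0 := h.prime.pos
  have hz0 : 0 < z := by rcases h.cases with ⟨-, rfl⟩ | ⟨-, rfl⟩ <;> omega
  have : NeZero z := ⟨hz0.ne'⟩
  set S := (Geo.scalars (Fin n) F).subgroupOf R with hS
  have hSeq : S = Subgroup.zpowers (⟨U, hUR⟩ : R) := by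
    refine le_antisymm (fun x hx => ?_) (Subgroup.zpowers_le.2 (mem_scalars_of_smul_one hUu))
    obtain ⟨a, ha, hxa⟩ := h.scalar_eq x.2 hx
    obtain ⟨i, -, hi⟩ := hu.eq_pow_of_pow_eq_one ha
    refine ⟨i, Subtype.ext (Units.ext ?_)⟩
    show ((⟨U, hUR⟩ : R) ^ (i : ℤ) : R).1.val = _
    rw [zpow_natCast, SubgroupClass.coe_pow, Units.val_pow_eq_pow_val, hUu, smul_pow, one_pow, hi, hxa]
  have hScard : Nat.card S = z := by
    rw [hSeq, Nat.card_zpowers, ← hUord]
    exact Subgroup.orderOf_coe (⟨U, hUR⟩ : R) |>.symm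
  obtain ⟨-, hcard⟩ := card_of_traceless h.absIrr h.trace
  rw [Fintype.card_fin, ← hS, hScard] at hcard
  have hcenter : Subgroup.center R = S := by
    refine le_antisymm (fun x hx => h.absIrr.scalar_of_comm fun y hy =>
      (congrArg Subtype.val (Subgroup.mem_center_iff.1 hx ⟨y, hy⟩)).symm) fun x hx => ?_
    exact Subgroup.mem_center_iff.2 fun y => Subtype.ext (scalar_comm hx (y : GL (Fin n) F)).symm
  have hpg : IsPGroup r R := by
    intro x
    refine ⟨2, Subtype.ext ?_⟩
    rw [SubgroupClass.coe_pow, OneMemClass.coe_one]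
    rcases h.cases with ⟨-, hz⟩ | ⟨h2, hz⟩
    · rw [pow_two r, pow_mul, ← hz, h.pow_eq_one x x.2, one_pow]
    · rw [h2, show (2 : ℕ) ^ 2 = z by rw [hz]; rfl, h.pow_eq_one x x.2]
  have := Fact.mk h.prime
  obtain ⟨a, ha⟩ := IsPGroup.iff_card.1 hpg
  obtain ⟨k2, -, hk2⟩ := (Nat.dvd_prime_pow h.prime).1 ⟨z, (ha.symm.trans hcard)⟩
  obtain ⟨k, -, hk⟩ := (Nat.dvd_prime_pow h.prime).1
    (show n ∣ r ^ k2 by rw [← hk2]; exact dvd_pow_self n two_ne_zero)
  have hk1 : 1 ≤ k := by
    rcases Nat.eq_zero_or_pos k with rfl | hk0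
    · rw [pow_zero] at hk; omega
    · exact hk0
  refine ⟨k, hk, hk1, by rw [hcenter, hScard], by rw [hcard, hk]; ring, h.prime, hpg, fun A hA hAc => ?_, ?_⟩
  · have hle : A ≤ S := by
      let A' : Subgroup (GL (Fin n) F) := A.map R.subtype
      have hA' : A' ≤ Geo.scalars (Fin n) F := by
        refine hab A' (Subgroup.map_le_iff_le_comap.2 fun g _ => hMH (h.le g.2)) ?_ ?_
        · intro g hg x hx
          obtain ⟨a', ha', rfl⟩ := hx
          let f : R ≃* R :=
            { toFun := fun z => ⟨g * z * g⁻¹, h.normal g hg z z.2⟩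
              invFun := fun z => ⟨g⁻¹ * z * g, by simpa using h.normal g⁻¹ (H.inv_mem hg) z z.2⟩
              left_inv := fun z => Subtype.ext (by simp [mul_assoc])
              right_inv := fun z => Subtype.ext (by simp [mul_assoc])
              map_mul' := fun z w => Subtype.ext (by simp [mul_assoc]) }
          refine ⟨f a', ?_, rfl⟩
          have := hA.fixed f
          rw [← this] at ha'
          exact ha'
        · rintro g ⟨a', ha', rfl⟩ g' ⟨b', hb', rfl⟩
          exact congrArg (fun z : A => ((z : R) : GL (Fin n) F)) (mul_comm' (⟨a', ha'⟩ : A) ⟨b', hb'⟩)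
      exact fun x hx => hA' ⟨x, hx, rfl⟩
    have : IsCyclic S := by rw [hSeq]; infer_instance
    exact isCyclic_of_injective (Subgroup.inclusion hle) (Subgroup.inclusion_injective _)
  · have hexp : Monoid.exponent R = z := by
      refine Nat.dvd_antisymm (Monoid.exponent_dvd_of_forall_pow_eq_one fun x =>
        Subtype.ext (by simpa using h.pow_eq_one x x.2)) ?_
      rw [← hUord, ← Subgroup.orderOf_mk U hUR]
      exact Monoid.order_dvd_exponent _
    rw [hexp]
    rcases h.cases with ⟨h2, hz⟩ | ⟨h2, hz⟩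
    · rw [hz, Nat.coprime_two_left.2 (h.prime.odd_of_ne_two h2), mul_one]
    · rw [hz, h2]; rfl

end Cfsg.Agent.Aschbacher
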