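import Cfsg.Agent.Lib.Aschbacher.Clifford
import Cfsg.Agent.Lib.Aschbacher.Density
import Cfsg.Agent.Lib.Aschbacher.MatrixUnits

/-!
The algebra spanned by a normal subgroup of an irreducible group: either its centre gives a decomposition or
a field normalised by the big group, or it is a full matrix algebra `M ⊗ 1`.
-/

set_option autoImplicit false

namespace Cfsg.Agent.Aschbacher

open Matrix
open scoped MatrixGroups Kronecker

variable {ι : Type} [Fintype ι] [DecidableEq ι] {F : Type*} [Field F]

/-- The algebra generated by the matrices of `N`. -/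
def algOf (N : Subgroup (GL ι F)) : Subalgebra F (Matrix ι ι F) := Algebra.adjoin F (Geo.matrixSet N)

theorem mem_algOf {N : Subgroup (GL ι F)} {M : Matrix ι ι F} : M ∈ algOf N ↔ M ∈ spanMat N := by
  refine ⟨fun h => ?_, fun h => (Submodule.span_le.2 Algebra.subset_adjoin :
    spanMat N ≤ (algOf N).toSubmodule) h⟩
  have hone : (1 : Matrix ι ι F) ∈ spanMat N := mem_spanMat N.one_mem
  have hmul : ∀ a ∈ spanMat N, ∀ b ∈ spanMat N, a * b ∈ spanMat N := by
    intro a ha b hb
    induction ha using Submodule.span_induction with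
    | mem y hy => obtain ⟨y, hy, rfl⟩ := hy; exact mul_mem_spanMat hy hb
    | zero => rw [zero_mul]; exact Submodule.zero_mem _
    | add a c _ _ iha ihc => rw [add_mul]; exact Submodule.add_mem _ iha ihc
    | smul t a _ ih => rw [smul_mul_assoc]; exact Submodule.smul_mem _ t ih
  exact (Algebra.adjoin_le (S := (spanMat N).toSubalgebra hone fun a b ha hb => hmul a ha b hb)
    Submodule.subset_span) h

theorem conj_mem_algOf {H N : Subgroup (GL ι F)} (hn : NormalIn H N) {h : GL ι F} (hh : h ∈ H)
    {M : Matrix ι ι F} (hM : M ∈ algOf N) :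
    (h : Matrix ι ι F) * M * ((h⁻¹ : GL ι F) : Matrix ι ι F) ∈ algOf N := by
  induction hM using Algebra.adjoin_induction with
  | mem y hy =>
    obtain ⟨y, hy, rfl⟩ := hy
    exact Algebra.subset_adjoin ⟨h * y * h⁻¹, hn h hh y hy, by simp [mul_assoc]⟩
  | algebraMap c =>
    rw [← Algebra.commutes c, mul_assoc, Units.mul_inv, mul_one]
    exact Subalgebra.algebraMap_mem _ c
  | add a b _ _ iha ihb => rw [mul_add, add_mul]; exact Subalgebra.add_mem _ iha ihb
  | mul a b _ _ iha ihb =>
    rw [show (h : Matrix ι ι F) * (a * b) * ((h⁻¹ : GL ι F) : Matrix ι ι F) =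
      ((h : Matrix ι ι F) * a * ((h⁻¹ : GL ι F) : Matrix ι ι F)) *
        ((h : Matrix ι ι F) * b * ((h⁻¹ : GL ι F) : Matrix ι ι F)) by simp [mul_assoc]]
    exact Subalgebra.mul_mem _ iha ihb

/-- Conjugation by an element normalising `N`, on the algebra of `N`. -/
def conjAlg {H N : Subgroup (GL ι F)} (hn : NormalIn H N) {h : GL ι F} (hh : h ∈ H) :
    algOf N →ₐ[F] algOf N :=
  (((coordEquiv (Equiv.refl ι) h).toAlgHom).comp (algOf N).val).codRestrict _ fun a => by
    simpa [coordEquiv_apply] using conj_mem_algOf hn hh a.2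

theorem conjAlg_val {H N : Subgroup (GL ι F)} (hn : NormalIn H N) {h : GL ι F} (hh : h ∈ H) (a : algOf N) :
    ((conjAlg hn hh a : algOf N) : Matrix ι ι F) =
      (h : Matrix ι ι F) * a * ((h⁻¹ : GL ι F) : Matrix ι ι F) := by
  simp [conjAlg, coordEquiv_apply]

theorem conjAlg_inv {H N : Subgroup (GL ι F)} (hn : NormalIn H N) {h : GL ι F} (hh : h ∈ H) (a : algOf N) :
    conjAlg hn hh (conjAlg hn (H.inv_mem hh) a) = a := by
  refine Subtype.ext ?_
  simp [conjAlg_val, mul_assoc]

theorem conjAlg_inv' {H N : Subgroup (GL ι F)} (hn : NormalIn H N) {h : GL ι F} (hh : h ∈ H) (a : algOf N) :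
    conjAlg hn (H.inv_mem hh) (conjAlg hn hh a) = a := by
  refine Subtype.ext ?_
  simp [conjAlg_val, mul_assoc]

/-- Clifford: the algebra of a normal subgroup of an irreducible group is semisimple. -/
theorem isSemisimpleRing_algOf [Fintype F] [Nonempty ι] {H N : Subgroup (GL ι F)} (hH : Irr H)
    (hn : NormalIn H N) : IsSemisimpleRing (algOf N) := by
  classical
  have : IsArtinianRing (algOf N) := isArtinian_of_finite
  rw [IsArtinianRing.isSemisimpleRing_iff_jacobson, eq_bot_iff]
  intro j hj
  obtain ⟨W, hWI, hW0, -, hmin⟩ := exists_minimal_invariant hH hn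
  obtain ⟨k, hk⟩ := IsSemiprimaryRing.isNilpotent (R := algOf N)
  set J := Ring.jacobson (algOf N) with hJ
  have hinvA : ∀ U, Invariant N U → ∀ a : algOf N, ∀ u ∈ U, (a : Matrix ι ι F) *ᵥ u ∈ U := by
    intro U hU a u hu
    have ha := mem_algOf.1 a.2
    generalize (a : Matrix ι ι F) = A at ha ⊢
    induction ha using Submodule.span_induction with
    | mem y hy => obtain ⟨y, hy, rfl⟩ := hy; exact hU y hy u hu
    | zero => rw [Matrix.zero_mulVec]; exact U.zero_mem
    | add a b _ _ iha ihb => rw [Matrix.add_mulVec]; exact U.add_mem iha ihb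
    | smul c a _ ih => rw [Matrix.smul_mulVec]; exact U.smul_mem c ih
  -- the radical kills every minimal invariant subspace
  have hkill : ∀ U, Invariant N U → Module.finrank F U = Module.finrank F W →
      ∀ a ∈ J, ∀ u ∈ U, (a : Matrix ι ι F) *ᵥ u = 0 := by
    intro U hU hUW
    let V : ℕ → Submodule F (ι → F) := fun i =>
      Submodule.span F {v | ∃ a ∈ J ^ i, ∃ u ∈ U, (a : Matrix ι ι F) *ᵥ u = v}
    have hV1 : V 1 ≤ U := Submodule.span_le.2 fun v ⟨a, _, u, hu, h⟩ => h ▸ hinvA U hU a u hu
    have hVinv : Invariant N (V 1) := by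
      intro x hx v hv
      induction hv using Submodule.span_induction with
      | mem y hy =>
        obtain ⟨a, ha, u, hu, rfl⟩ := hy
        refine Submodule.subset_span ⟨⟨(x : Matrix ι ι F), mem_algOf.2 (mem_spanMat hx)⟩ * a, ?_, u, hu, ?_⟩
        · exact Ideal.mul_mem_left _ _ ha
        · simp [Matrix.mulVec_mulVec]
      | zero => rw [Matrix.mulVec_zero]; exact Submodule.zero_mem _
      | add y z _ _ ihy ihz => rw [Matrix.mulVec_add]; exact Submodule.add_mem _ ihy ihz
      | smul c y _ ih => rw [Matrix.mulVec_smul]; exact Submodule.smul_mem _ c ih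
    by_cases h0 : V 1 = ⊥
    · intro a ha u hu
      have h1 : (a : Matrix ι ι F) *ᵥ u ∈ V 1 :=
        Submodule.subset_span ⟨a, by rwa [Submodule.pow_one], u, hu, rfl⟩
      rwa [h0, Submodule.mem_bot] at h1
    exfalso
    have hV1U : V 1 = U := Submodule.eq_of_le_of_finrank_le hV1 (hUW ▸ hmin _ hVinv h0)
    have hall : ∀ i, U ≤ V i := by
      intro i
      induction i with
      | zero =>
        exact fun u hu => Submodule.subset_span ⟨1, by rw [Submodule.pow_zero, Ideal.one_eq_top]; trivial, u, hu,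
          by simp⟩
      | succ i ih =>
        refine hV1U.ge.trans (Submodule.span_le.2 ?_)
        rintro v ⟨a, ha, u, hu, rfl⟩
        rw [Submodule.pow_one] at ha
        have hu' := ih hu
        clear hu
        induction hu' using Submodule.span_induction with
        | mem y hy =>
          obtain ⟨b, hb, w, hw, rfl⟩ := hy
          refine Submodule.subset_span ⟨a * b, ?_, w, hw, by simp [Matrix.mulVec_mulVec]⟩
          rcases Nat.eq_zero_or_pos i with rfl | hi
          · rw [zero_add, Submodule.pow_one]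
            exact Ideal.mul_mem_right _ _ ha
          · rw [Submodule.pow_succ' _ hi.ne']
            exact Ideal.mul_mem_mul ha hb
        | zero => rw [Matrix.mulVec_zero]; exact Submodule.zero_mem _
        | add y z _ _ ihy ihz => rw [Matrix.mulVec_add]; exact Submodule.add_mem _ ihy ihz
        | smul c y _ ih => rw [Matrix.mulVec_smul]; exact Submodule.smul_mem _ c ih
    have hbot : V k = ⊥ := by
      refine eq_bot_iff.2 (Submodule.span_le.2 ?_)
      rintro v ⟨a, ha, u, -, rfl⟩
      rw [hk] at ha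
      rw [(Submodule.mem_bot _).1 ha]
      simp
    have hUbot : U = ⊥ := eq_bot_iff.2 ((hall k).trans hbot.le)
    exact h0 (eq_bot_iff.2 (hV1.trans hUbot.le))
  -- translates of `W` span
  let T : Submodule F (ι → F) :=
    Submodule.span F {v | ∃ U, Invariant N U ∧ Module.finrank F U = Module.finrank F W ∧ v ∈ U}
  have hT : T = ⊤ := by
    refine (irr_iff.1 hH T ?_).resolve_left fun h => hW0 ?_
    · intro g hg v hv
      induction hv using Submodule.span_induction with
      | mem y hy =>
        obtain ⟨U, hU, hUW, hy⟩ := hy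
        exact Submodule.subset_span ⟨translate g U, hU.translate hn hg, by rw [finrank_translate, hUW],
          mem_translate.2 ⟨y, hy, rfl⟩⟩
      | zero => rw [Matrix.mulVec_zero]; exact Submodule.zero_mem _
      | add y z _ _ ihy ihz => rw [Matrix.mulVec_add]; exact Submodule.add_mem _ ihy ihz
      | smul c y _ ih => rw [Matrix.mulVec_smul]; exact Submodule.smul_mem _ c ih
    · refine eq_bot_iff.2 fun w hw => h ▸ ?_
      exact Submodule.subset_span ⟨W, hWI, rfl, hw⟩
  refine (Submodule.mem_bot _).2 (Subtype.ext (Matrix.ext_of_mulVec_single fun i => ?_))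
  rw [ZeroMemClass.coe_zero, Matrix.zero_mulVec]
  have hmem : Pi.single i 1 ∈ T := hT ▸ Submodule.mem_top
  generalize (Pi.single i (1 : F) : ι → F) = v at hmem ⊢
  induction hmem using Submodule.span_induction with
  | mem y hy => obtain ⟨U, hU, hUW, hy⟩ := hy; exact hkill U hU hUW j hj y hy
  | zero => exact Matrix.mulVec_zero _
  | add y z _ _ ihy ihz => rw [Matrix.mulVec_add, ihy, ihz, add_zero]
  | smul c y _ ih => rw [Matrix.mulVec_smul, ih, smul_zero]

/-- `H` stabilises a decomposition into subspaces of equal dimension, or normalises a field of prime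
degree. -/
def CentreCase (H : Subgroup (GL ι F)) : Prop :=
  (∃ (t m : ℕ) (D : Fin t → Submodule F (ι → F)), Geo.IsMDecomposition m D ∧
      H ≤ Geo.decompositionStabilizer D) ∨
  (∃ (r : ℕ) (K : Subalgebra F (Matrix ι ι F)), r.Prime ∧ Geo.IsFieldSubalgebra r K ∧
      H ≤ Geo.subalgebraNormalizer K)

/-- A decomposition from central idempotents permuted by `H`. -/
theorem decomposition_of_idempotents {H : Subgroup (GL ι F)} (hH : Irr H) {t : ℕ} (ht : 2 ≤ t)
    (E : Fin t → Matrix ι ι F) (hidem : ∀ i, E i * E i = E i) (horth : ∀ i j, i ≠ j → E i * E j = 0)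
    (hsum : ∑ i, E i = 1) (hne : ∀ i, E i ≠ 0)
    (hperm : ∀ h ∈ H, ∀ i, ∃ j, (h : Matrix ι ι F) * E i * ((h⁻¹ : GL ι F) : Matrix ι ι F) = E j) :
    CentreCase H := by
  classical
  choose σ hσ using hperm
  have hinj : ∀ h hh, Function.Injective (σ h hh) := by
    intro h hh i j hij
    by_contra hne'
    have h1 := (hσ h hh i).trans ((congrArg E hij).trans (hσ h hh j).symm)
    have h2 : E i = E j := by
      have := congrArg (fun M => ((h⁻¹ : GL ι F) : Matrix ι ι F) * M * (h : Matrix ι ι F)) h1
      simpa [mul_assoc] using this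
    exact hne i (by rw [← hidem i]; exact (congrArg (E i * ·) h2).trans (horth i j hne'))
  let D : Fin t → Submodule F (ι → F) := fun i => LinearMap.range (Matrix.toLin' (E i))
  have hDfix : ∀ i, ∀ v ∈ D i, E i *ᵥ v = v := by
    rintro i _ ⟨u, rfl⟩
    rw [Matrix.toLin'_apply, Matrix.mulVec_mulVec, hidem]
  have hDker : ∀ i j, j ≠ i → D j ≤ LinearMap.ker (Matrix.toLin' (E i)) := by
    rintro i j hji _ ⟨u, rfl⟩
    rw [LinearMap.mem_ker, Matrix.toLin'_apply, Matrix.toLin'_apply, Matrix.mulVec_mulVec,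
      horth i j hji.symm, Matrix.zero_mulVec]
  have hmap : ∀ h hh i, translate h (D i) = D (σ h hh i) := by
    intro h hh i
    show Submodule.map _ _ = LinearMap.range _
    rw [← LinearMap.range_comp, ← Matrix.toLin'_mul, ← hσ h hh i]
    conv_rhs => rw [Matrix.toLin'_mul, LinearMap.range_comp_of_range_eq_top _ (by
      rw [LinearMap.range_eq_top]
      exact fun v => ⟨(h : Matrix ι ι F) *ᵥ v, by rw [Matrix.toLin'_apply, inv_mulVec]⟩)]
  have hindep : iSupIndep D := fun i => by
    rw [disjoint_iff, eq_bot_iff]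
    rintro v ⟨hv, hv'⟩
    have h1 : E i *ᵥ v = 0 := (iSup₂_le fun j hj => hDker i j hj : _ ≤ LinearMap.ker _) hv'
    rw [hDfix i v hv] at h1
    exact (Submodule.mem_bot F).2 h1
  have htop : iSup D = ⊤ := eq_top_iff.2 fun v _ => by
    rw [show v = ∑ i, E i *ᵥ v by rw [← Matrix.sum_mulVec, hsum, Matrix.one_mulVec]]
    exact Submodule.sum_mem _ fun i _ => Submodule.mem_iSup_of_mem i ⟨v, rfl⟩
  have hD0 : ∀ i, D i ≠ ⊥ := fun i h => hne i (Matrix.ext_of_mulVec_single fun k => by
    have : E i *ᵥ Pi.single k 1 ∈ D i := ⟨_, rfl⟩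
    rw [h, Submodule.mem_bot] at this
    rw [this, Matrix.zero_mulVec])
  have horbit : ∀ i, ∃ h hh, σ h hh ⟨0, by omega⟩ = i := by
    intro i
    by_contra hcon
    push Not at hcon
    let U := ⨆ (h) (hh : h ∈ H), D (σ h hh ⟨0, by omega⟩)
    have hU : Invariant H U := by
      intro g hg v hv
      have h1 : U ≤ U.comap (Matrix.toLin' (g : Matrix ι ι F)) := by
        refine iSup₂_le fun h hh u hu => ?_
        have h2 : (g : Matrix ι ι F) *ᵥ u ∈ translate (g * h) (D ⟨0, by omega⟩) := by
          rw [← hmap h hh] at hu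
          obtain ⟨w, hw, rfl⟩ := mem_translate.1 hu
          exact mem_translate.2 ⟨w, hw, mulVec_mul g h w⟩
        rw [hmap _ (H.mul_mem hg hh)] at h2
        exact Submodule.mem_iSup_of_mem _ (Submodule.mem_iSup_of_mem _ h2)
      simpa using h1 hv
    rcases irr_iff.1 hH U hU with h0 | h1
    · exact hD0 (σ 1 H.one_mem ⟨0, by omega⟩)
        (eq_bot_iff.2 ((le_iSup₂_of_le 1 H.one_mem le_rfl).trans h0.le))
    · refine hD0 i ((hindep i).eq_bot_of_le ?_)
      refine le_top.trans (h1.ge.trans (iSup₂_le fun h hh => ?_))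
      exact le_iSup₂_of_le _ (hcon h hh) le_rfl
  refine Or.inl ⟨t, Module.finrank F (D ⟨0, by omega⟩), D, ⟨ht, ?_, fun i => ?_, hindep, htop⟩,
    fun h hh => ⟨Equiv.ofBijective _ (Finite.injective_iff_bijective.1 (hinj h hh)), hmap h hh⟩⟩
  · exact Nat.pos_of_ne_zero fun h => hD0 _ (Submodule.finrank_eq_zero.1 h)
  · obtain ⟨h, hh, rfl⟩ := horbit i
    rw [← hmap, finrank_translate]

/-- A field in the centre of the algebra gives a field subalgebra of prime degree normalised by `H`. -/
theorem field_of_centre [Fintype F] {H N : Subgroup (GL ι F)} (hn : NormalIn H N) {L : Type*} [Field L]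
    [Algebra F L] [FiniteDimensional F L] (c : L →ₐ[F] algOf N) (hc : Function.Injective c)
    (hcentre : ∀ z : algOf N, (∀ a, a * z = z * a) ↔ ∃ x, c x = z)
    (hL : Module.finrank F L ≠ 1) : CentreCase H := by
  classical
  obtain ⟨r, hr, hrd⟩ := Nat.exists_prime_and_dvd hL
  have : Finite L := Module.finite_of_finite F
  let φ := FiniteField.frobeniusAlgEquivOfAlgebraic F L
  have hpow : ∀ k (x : L), (φ ^ k) x = x ^ Fintype.card F ^ k := by
    intro k
    induction k with
    | zero => intro x; simp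
    | succ k ih =>
      intro x
      rw [pow_succ', AlgEquiv.mul_apply, ih, pow_succ, pow_mul]
      rfl
  have hmem : ∀ x : L, x ∈ IntermediateField.fixedField (Subgroup.zpowers (φ ^ r)) ↔
      x ^ Fintype.card F ^ r = x := by
    intro x
    rw [← hpow]
    refine ⟨fun h => h ⟨φ ^ r, Subgroup.mem_zpowers _⟩, fun h => ?_⟩
    rintro ⟨g, hg⟩
    have hle : Subgroup.zpowers (φ ^ r) ≤ MulAction.stabilizer (L ≃ₐ[F] L) x :=
      Subgroup.zpowers_le.2 h
    exact hle hg
  set K₀ := IntermediateField.fixedField (Subgroup.zpowers (φ ^ r)) with hK₀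
  have hrank : Module.finrank F K₀ = r := by
    have hs : 0 < Module.finrank F L := Module.finrank_pos
    have h1 : Module.finrank K₀ L = Module.finrank F L / r := by
      rw [hK₀, IntermediateField.finrank_fixedField_eq_card, Nat.card_zpowers, orderOf_pow,
        FiniteField.orderOf_frobeniusAlgEquivOfAlgebraic, Nat.gcd_eq_right hrd]
    have h2 := Module.finrank_mul_finrank F K₀ L
    rw [h1] at h2
    have h3 : Module.finrank F L / r * r = Module.finrank F L := Nat.div_mul_cancel hrd
    have h4 : 0 < Module.finrank F L / r := by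
      rcases Nat.eq_zero_or_pos (Module.finrank F L / r) with h | h
      · rw [h, zero_mul] at h3; omega
      · exact h
    exact Nat.eq_of_mul_eq_mul_right h4 (h2.trans (h3.symm.trans (mul_comm _ _)))
  let f : L →ₐ[F] Matrix ι ι F := (algOf N).val.comp c
  have hf : Function.Injective f := Subtype.val_injective.comp hc
  refine Or.inr ⟨r, K₀.toSubalgebra.map f, hr, ⟨?_, ?_, ?_⟩, fun h hh => mem_subalgebraNormalizer ?_⟩
  · rintro _ ⟨x, -, rfl⟩ _ ⟨y, -, rfl⟩
    show f x * f y = f y * f x
    rw [← map_mul, ← map_mul, mul_comm]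
  · rintro _ ⟨x, hx, rfl⟩ hne
    have hx0 : x ≠ 0 := fun h => hne (by rw [h]; exact map_zero f)
    exact ⟨f x⁻¹, ⟨x⁻¹, K₀.inv_mem hx, rfl⟩, by
      show f x * f x⁻¹ = 1
      rw [← map_mul, mul_inv_cancel₀ hx0, map_one]⟩
  · exact (Submodule.equivMapOfInjective f.toLinearMap hf K₀.toSubalgebra.toSubmodule).finrank_eq.symm.trans
      hrank
  · rintro _ ⟨x, hx, rfl⟩
    obtain ⟨y, hy⟩ := (hcentre (conjAlg hn hh (c x))).1 fun a => by
      rw [← conjAlg_inv hn hh a, ← map_mul, ← map_mul, (hcentre (c x)).2 ⟨x, rfl⟩]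
    refine ⟨y, (hmem y).2 (hc ?_), ?_⟩
    · rw [map_pow, hy, ← map_pow, ← map_pow, (hmem x).1 hx]
    · show (c y : Matrix ι ι F) = _
      rw [hy, conjAlg_val]
      rfl

/-- The algebra of a normal subgroup of an irreducible group. -/
theorem algOf_structure [Fintype F] [Nonempty ι] {H N : Subgroup (GL ι F)} (hH : Irr H)
    (hn : NormalIn H N) :
    ((∃ z ∈ spanMat N, (∀ x ∈ N, (x : Matrix ι ι F) * z = z * (x : Matrix ι ι F)) ∧
        ¬ ∃ a : F, z = a • 1) ∧ CentreCase H) ∨
    ∃ (d : ℕ) (f : Matrix (Fin d) (Fin d) F →ₐ[F] Matrix ι ι F), 0 < d ∧ Function.Injective f ∧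
      ∀ M, M ∈ spanMat N ↔ ∃ A, f A = M := by
  classical
  have := isSemisimpleRing_algOf hH hn
  have : Nontrivial (algOf N) := ⟨⟨0, 1, fun h => zero_ne_one (congrArg Subtype.val h)⟩⟩
  obtain ⟨t, D, d, _, _, _, hd, ⟨E⟩⟩ := IsSemisimpleRing.exists_algEquiv_pi_matrix_divisionRing_finite
    F (algOf N)
  -- central elements
  have hcent : ∀ z : algOf N, (∀ a, a * z = z * a) → ∀ i, ∃ x : D i, E z i = Matrix.scalar _ x := by
    intro z hz i
    obtain ⟨x, hx⟩ := Matrix.mem_range_scalar_of_commute_single (M := E z i) fun a b _ => by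
      have h1 := congrArg (fun w => E w i) (hz (E.symm (Pi.single i (Matrix.single a b 1))))
      show Matrix.single a b 1 * E z i = E z i * Matrix.single a b 1
      simpa using h1
    exact ⟨x, hx.symm⟩
  rcases t with _ | _ | t
  · exact absurd (E.injective (Subsingleton.elim (E 0) (E 1))) zero_ne_one
  swap
  · -- several factors
    left
    let e : Fin (t + 2) → algOf N := fun i => E.symm (Pi.single i 1)
    have hidem : ∀ i, e i * e i = e i := fun i => by
      rw [← map_mul, ← Pi.single_mul, one_mul]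
    have horth : ∀ i j, i ≠ j → e i * e j = 0 := fun i j hij => by
      rw [← map_mul, ← map_zero E.symm]
      congr 1
      funext k
      by_cases hk : k = i
      · subst hk; simp [hij]
      · simp [hk]
    have hsum : ∑ i, e i = 1 := by
      rw [← map_sum, ← map_one E.symm]
      congr 1
      exact Finset.univ_sum_single (1 : ∀ i, Matrix (Fin (d i)) (Fin (d i)) (D i))
    have hne : ∀ i, e i ≠ 0 := fun i h => by
      have h1 := congrFun (E.symm.injective (h.trans (map_zero E.symm).symm)) i
      simp at h1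
    have hcentral : ∀ i a, a * e i = e i * a := fun i a => by
      refine E.injective ?_
      rw [map_mul, map_mul, E.apply_symm_apply]
      funext k
      by_cases hk : k = i
      · subst hk; simp
      · simp [hk]
    have hprim : ∀ (z : algOf N), (∀ a, a * z = z * a) → z * z = z → ∀ i, z * e i = 0 ∨ z * e i = e i := by
      intro z hz hzz i
      obtain ⟨x, hx⟩ := hcent z hz i
      have hxx : x * x = x := by
        have h1 := congrArg (fun w => E w i) hzz
        simp only [map_mul, Pi.mul_apply, hx] at h1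
        rw [← map_mul] at h1
        exact Matrix.scalar_inj.1 h1
      rcases (IsIdempotentElem.iff_eq_zero_or_one.1 hxx : x = 0 ∨ x = 1) with rfl | rfl
      · left
        refine E.injective ?_
        rw [map_mul, E.apply_symm_apply, map_zero]
        funext k
        by_cases hk : k = i
        · subst hk; simp [hx]
        · simp [hk]
      · right
        refine E.injective ?_
        rw [map_mul, E.apply_symm_apply]
        funext k
        by_cases hk : k = i
        · subst hk; simp [hx]
        · simp [hk]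
    have hperm : ∀ h hh i, ∃ j, conjAlg hn (h := h) hh (e i) = e j := by
      intro h hh i
      set z := conjAlg hn hh (e i) with hz
      have hzc : ∀ a, a * z = z * a := fun a => by
        rw [hz, ← conjAlg_inv hn hh a, ← map_mul, ← map_mul, hcentral]
      have hzi : z * z = z := by rw [hz, ← map_mul, hidem]
      obtain ⟨j, hj⟩ : ∃ j, z * e j ≠ 0 := by
        by_contra hcon
        push Not at hcon
        refine hne i ?_
        have h1 : z = 0 := by rw [← mul_one z, ← hsum, Finset.mul_sum]; simp [hcon]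
        rw [← conjAlg_inv' hn hh (e i), ← hz, h1, map_zero]
      have hj' := (hprim z hzc hzi j).resolve_left hj
      refine ⟨j, ?_⟩
      set w := conjAlg hn (H.inv_mem hh) (e j) with hw
      have hwc : ∀ a, a * w = w * a := fun a => by
        rw [hw, ← conjAlg_inv' hn hh a, ← map_mul, ← map_mul, hcentral]
      have h2 : w * e i = w := by
        conv_lhs => rw [← conjAlg_inv' hn hh (e i), hw, ← map_mul, ← hz, hzc, hj']
      rcases hprim w hwc (by rw [hw, ← map_mul, hidem]) i with h3 | h3
      · exfalso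
        refine hne j ?_
        rw [← conjAlg_inv hn hh (e j), ← hw, ← h2, h3, map_zero]
      · rw [h2] at h3
        rw [← conjAlg_inv hn hh (e j), ← hw, h3]
    refine ⟨⟨e 0, mem_algOf.1 (e 0).2, fun x hx => ?_, ?_⟩, ?_⟩
    · exact congrArg Subtype.val (hcentral 0 ⟨_, mem_algOf.2 (mem_spanMat hx)⟩)
    · rintro ⟨a, ha⟩
      have h1 : e 0 * e 1 = a • e 1 := Subtype.ext (by simp [ha])
      rw [horth 0 1 (by simp)] at h1
      rcases smul_eq_zero.1 h1.symm with h2 | h2
      · exact hne 0 (Subtype.ext (by simp [ha, h2]))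
      · exact hne 1 h2
    · refine decomposition_of_idempotents hH (by omega) (fun i => (e i : Matrix ι ι F))
        (fun i => congrArg Subtype.val (hidem i)) (fun i j hij => congrArg Subtype.val (horth i j hij))
        ?_ (fun i h => hne i (Subtype.ext h)) fun h hh i => ?_
      · rw [← AddSubmonoidClass.coe_finsetSum, hsum, OneMemClass.coe_one]
      · obtain ⟨j, hj⟩ := hperm h hh i
        exact ⟨j, by rw [← hj, conjAlg_val]⟩
  -- one factor
  have : Finite (D 0) := Module.finite_of_finite F
  let _ : Field (D 0) := littleWedderburn (D 0)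
  have : NeZero (d 0) := hd 0
  let proj : algOf N →ₐ[F] Matrix (Fin (d 0)) (Fin (d 0)) (D 0) :=
    (Pi.evalAlgHom F (fun i => Matrix (Fin (d i)) (Fin (d i)) (D i)) 0).comp E.toAlgHom
  have hproj : Function.Bijective proj := by
    refine ⟨fun a b hab => E.injective (funext fun i => ?_), fun M => ⟨E.symm (Pi.single 0 M), by simp [proj]⟩⟩
    obtain rfl : i = 0 := Fin.fin_one_eq_zero i
    exact hab
  let Ψ := AlgEquiv.ofBijective proj hproj
  let sc : D 0 →ₐ[F] Matrix (Fin (d 0)) (Fin (d 0)) (D 0) :=
    (Algebra.ofId (D 0) (Matrix (Fin (d 0)) (Fin (d 0)) (D 0))).restrictScalars F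
  have hsc : ∀ x, sc x = Matrix.scalar _ x := fun x => rfl
  let c : D 0 →ₐ[F] algOf N := Ψ.symm.toAlgHom.comp sc
  have hc : Function.Injective c := fun x y h => by
    exact Matrix.scalar_inj.1 (Ψ.symm.injective h)
  by_cases hL : Module.finrank F (D 0) = 1
  · right
    have hbij : Function.Bijective (algebraMap F (D 0)) := by
      refine ⟨(algebraMap F (D 0)).injective, fun x => ?_⟩
      obtain ⟨a, ha⟩ := (finrank_eq_one_iff_of_nonzero' (1 : D 0) one_ne_zero).1 hL x
      exact ⟨a, by rw [Algebra.algebraMap_eq_smul_one, ha]⟩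
    let mm : Matrix (Fin (d 0)) (Fin (d 0)) F →ₐ[F] Matrix (Fin (d 0)) (Fin (d 0)) (D 0) :=
      (Algebra.ofId F (D 0)).mapMatrix
    refine ⟨d 0, (algOf N).val.comp (Ψ.symm.toAlgHom.comp mm), Nat.pos_of_ne_zero (NeZero.ne _), ?_,
      fun M => ⟨fun h => ?_, ?_⟩⟩
    · intro A B hAB
      exact Matrix.map_injective hbij.1 (Ψ.symm.injective (Subtype.ext hAB))
    · refine ⟨(Ψ ⟨M, mem_algOf.2 h⟩).map (fun x => (Equiv.ofBijective _ hbij).symm x), ?_⟩
      show ((Ψ.symm (mm ((Ψ ⟨M, mem_algOf.2 h⟩).map fun x => (Equiv.ofBijective _ hbij).symm x)) :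
        algOf N) : Matrix ι ι F) = M
      rw [show mm ((Ψ ⟨M, mem_algOf.2 h⟩).map fun x => (Equiv.ofBijective _ hbij).symm x) =
        Ψ ⟨M, mem_algOf.2 h⟩ from
          Matrix.ext fun a b => (Equiv.ofBijective _ hbij).apply_symm_apply _, Ψ.symm_apply_apply]
    · rintro ⟨A, rfl⟩
      exact mem_algOf.1 (Subtype.prop _)
  · left
    have hcentre : ∀ z : algOf N, (∀ a, a * z = z * a) ↔ ∃ x, c x = z := by
      intro z
      constructor
      · intro hz
        obtain ⟨x, hx⟩ := hcent z hz 0
        refine ⟨x, Ψ.injective ?_⟩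
        show Ψ (Ψ.symm (sc x)) = _
        rw [Ψ.apply_symm_apply, hsc, ← hx]
        rfl
      · rintro ⟨x, rfl⟩ a
        refine Ψ.injective ?_
        show Ψ (a * Ψ.symm (sc x)) = Ψ (Ψ.symm (sc x) * a)
        rw [map_mul, map_mul, Ψ.apply_symm_apply, hsc]
        exact (Matrix.scalar_commute x (fun y => mul_comm _ _) _).eq.symm
    refine ⟨?_, field_of_centre hn c hc hcentre hL⟩
    obtain ⟨x, hx⟩ : ∃ x : D 0, ∀ a : F, x ≠ algebraMap F (D 0) a := by
      by_contra hcon
      push Not at hcon
      refine hL ((finrank_eq_one_iff_of_nonzero' (1 : D 0) one_ne_zero).2 fun x => ?_)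
      obtain ⟨a, ha⟩ := hcon x
      exact ⟨a, by rw [ha, Algebra.algebraMap_eq_smul_one]⟩
    refine ⟨c x, mem_algOf.1 (c x).2, fun y hy => ?_, ?_⟩
    · exact congrArg Subtype.val ((hcentre (c x)).2 ⟨x, rfl⟩ ⟨_, mem_algOf.2 (mem_spanMat hy)⟩)
    · rintro ⟨a, ha⟩
      refine hx a (hc ?_)
      rw [AlgHom.commutes]
      exact Subtype.ext (by rw [ha]; simp [Algebra.algebraMap_eq_smul_one])

end Cfsg.Agent.Aschbacher
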