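import Cfsg.Agent.Lib.Transpos.SUThreeTwo
import Cfsg.Agent.Lib.Aschbacher.SpanAlgebra

/-!
The normal extraspecial subgroup of order 27 in `GU(3, 2)`.
-/

set_option autoImplicit false

namespace Cfsg.Agent.Aschbacher

open Matrix
open scoped MatrixGroups
open Cfsg.Agent.Transpos.SU32 (K4 w v)

namespace GU32

/-- The monomial matrices with a cyclic permutation and entries of product one. -/
def el (t : Fin 3 × Fin 3 × Fin 3) : Matrix (Fin 3) (Fin 3) K4 :=
  Matrix.of fun r s =>
    if s = r + t.1 then ![![1, w, v] t.2.1, ![1, w, v] (t.2.1 + t.2.2), ![1, w, v] (t.2.1 + 2 * t.2.2)] r else 0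

/-- Conjugate transpose. -/
def star2 (M : Matrix (Fin 3) (Fin 3) K4) : Matrix (Fin 3) (Fin 3) K4 :=
  Matrix.of fun i j => M j i * M j i

/-- The matrix with the given columns. -/
def cols (a b c : K4 × K4 × K4) : Matrix (Fin 3) (Fin 3) K4 :=
  !![a.1, b.1, c.1; a.2.1, b.2.1, c.2.1; a.2.2, b.2.2, c.2.2]

/-- The Hermitian product of two columns. -/
def ip (a b : K4 × K4 × K4) : K4 := a.1 * (b.1 * b.1) + a.2.1 * (b.2.1 * b.2.1) + a.2.2 * (b.2.2 * b.2.2)

/-- The determinant of three columns. -/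
def det3 (a b c : K4 × K4 × K4) : K4 :=
  a.1 * b.2.1 * c.2.2 - a.1 * c.2.1 * b.2.2 - b.1 * a.2.1 * c.2.2 + b.1 * c.2.1 * a.2.2 +
    c.1 * a.2.1 * b.2.2 - c.1 * b.2.1 * a.2.2

/-- Two elements that move the kernel. -/
def movers : List (Matrix (Fin 3) (Fin 3) K4) := [!![1, 1, 1; 1, w, v; 1, v, w], !![w, 0, 0; 0, 1, 0; 0, 0, 1]]

/-- The elements of the field. -/
def elems : List K4 := [0, 1, w, v]

/-- The vectors of norm one. -/
def unitVecs : List (K4 × K4 × K4) :=
  (elems.flatMap fun x => elems.flatMap fun y => elems.map fun z => (x, y, z)).filter fun a => ip a a == 1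

/-- The triples of indices. -/
def idx : List (Fin 3 × Fin 3 × Fin 3) :=
  [0, 1, 2].flatMap fun x => [0, 1, 2].flatMap fun y => [0, 1, 2].map fun z => (x, y, z)

/-- A column of a matrix. -/
def colOf (M : Matrix (Fin 3) (Fin 3) K4) (j : Fin 3) : K4 × K4 × K4 := (M 0 j, M 1 j, M 2 j)

/-- The columns of an element. -/
def elCols : List ((K4 × K4 × K4) × (K4 × K4 × K4) × (K4 × K4 × K4)) :=
  idx.map fun t => (colOf (el t) 0, colOf (el t) 1, colOf (el t) 2)

theorem unitVecs_complete : ∀ x y z : K4, ip (x, y, z) (x, y, z) = 1 → (x, y, z) ∈ unitVecs := by decide +kernel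

theorem classify_bool : (unitVecs.all fun a => unitVecs.all fun b => (ip a b != 0) || unitVecs.all fun c =>
    !(ip a c == 0 && ip b c == 0 && det3 a b c == 1) ||
      !(decide (cols a b c * cols a b c * cols a b c = 1)) || elCols.contains (a, b, c)) = true := by
  decide +kernel

theorem classify (a : K4 × K4 × K4) (ha : ip a a = 1) (b : K4 × K4 × K4) (hb : ip b b = 1) (hab : ip a b = 0)
    (c : K4 × K4 × K4) (hc : ip c c = 1) (hac : ip a c = 0) (hbc : ip b c = 0) (hd : det3 a b c = 1)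
    (h3 : cols a b c * cols a b c * cols a b c = 1) : ∃ t, cols a b c = el t := by
  have h := classify_bool
  simp only [List.all_eq_true] at h
  have h1 := h a (unitVecs_complete _ _ _ ha) b (unitVecs_complete _ _ _ hb)
  simp only [hab, bne_self_eq_false, Bool.false_or, List.all_eq_true] at h1
  have h2 := h1 c (unitVecs_complete _ _ _ hc)
  simp only [hac, hbc, hd, h3, beq_self_eq_true, Bool.and_self, Bool.not_true, decide_true, Bool.false_or,
    List.contains_iff_mem, elCols, List.mem_map] at h2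
  obtain ⟨t, -, ht⟩ := h2
  refine ⟨t, ?_⟩
  simp only [Prod.mk.injEq, colOf] at ht
  obtain ⟨e0, e1, e2⟩ := ht
  ext i j
  subst e0 e1 e2
  fin_cases i <;> fin_cases j <;> rfl

theorem el_props : ∀ t, star2 (el t) * el t = 1 ∧ (el t).det = 1 ∧ el t * el t * el t = 1 := by
  simp only [Matrix.det_fin_three]
  decide +kernel

theorem el_mul : ∀ s t, el s * el t * (el s * el t) * (el s * el t) = 1 := by decide +kernel

theorem el_trace : ∀ t, (el t).trace = 0 ∨ ∃ c, el t = Matrix.of fun i j => if i = j then c else 0 := by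
  decide +kernel

theorem el_moved_bool : ∀ t, (∃ c, el t = Matrix.of fun i j => if i = j then c else 0) ∨
    (movers.any fun g => !decide (el t * (g * el t * star2 g) = g * el t * star2 g * el t)) = true := by
  decide +kernel

theorem el_moved (t : Fin 3 × Fin 3 × Fin 3) : (∃ c, el t = Matrix.of fun i j => if i = j then c else 0) ∨
    ∃ g ∈ movers, el t * (g * el t * star2 g) ≠ g * el t * star2 g * el t :=
  (el_moved_bool t).imp_right fun h => by simpa [List.any_eq_true] using h

theorem movers_unitary_bool :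
    (movers.all fun g => decide (star2 g * g = 1) && decide (g * star2 g = 1)) = true := by decide +kernel

theorem movers_unitary : ∀ g ∈ movers, star2 g * g = 1 ∧ g * star2 g = 1 := fun g hg => by
  have h := List.all_eq_true.1 movers_unitary_bool g hg
  simpa using h

theorem el_span : ∀ i j a b, (Matrix.single i j (1 : K4)) a b =
    ∑ y : Fin 3, ![1, w, v] (2 * i * y) * el (j - i, 0, y) a b := by
  simp only [Matrix.single, Matrix.of_apply]
  decide +kernel

theorem el_central : el (0, 1, 0) = Matrix.of fun i j => if i = j then w else 0 := by decide +kernel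

theorem of_diag (c : K4) : (Matrix.of fun i j : Fin 3 => if i = j then c else 0) = c • 1 := by
  ext i j
  simp [Matrix.one_apply]

theorem star2_eq (M : Matrix (Fin 3) (Fin 3) K4) : star2 M = (M.map fun x => x ^ 2)ᵀ := by
  ext i j
  simp [star2, pow_two]

variable {M : Matrix (Fin 3) (Fin 3) K4}

theorem exists_el (hu : Mᵀ * M.map (fun x => x ^ 2) = 1) (hd : M.det = 1) (hc : M * M * M = 1) :
    ∃ t, M = el t := by
  let c : Fin 3 → K4 × K4 × K4 := fun j => (M 0 j, M 1 j, M 2 j)
  have hip : ∀ i j, ip (c i) (c j) = if i = j then 1 else 0 := fun i j => by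
    have h := congrFun (congrFun hu i) j
    simpa [ip, c, Matrix.mul_apply, Fin.sum_univ_three, Matrix.one_apply, pow_two] using h
  have hcols : cols (c 0) (c 1) (c 2) = M := by
    ext i j
    fin_cases i <;> fin_cases j <;> rfl
  have hdet : det3 (c 0) (c 1) (c 2) = 1 := by
    rw [← hd, Matrix.det_fin_three]
    simp [det3, c]
  obtain ⟨t, ht⟩ := classify (c 0) (by simpa using hip 0 0) (c 1) (by simpa using hip 1 1)
    (by simpa using hip 0 1) (c 2) (by simpa using hip 2 2) (by simpa using hip 0 2) (by simpa using hip 1 2)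
    hdet (by rw [hcols]; exact hc)
  exact ⟨t, hcols ▸ ht⟩

end GU32

open GU32 in
/-- `GU(3, 2)` has a normal subgroup of order 27: absolutely irreducible, of exponent three, all whose
non-scalar elements have trace zero and do not commute with all their conjugates. -/
theorem exists_guThreeTwo_kernel {F : Type*} [Field F] [Fintype F] (hF : Fintype.card F = 4) :
    ∃ E : Subgroup (GL (Fin 3) F),
      (∀ x ∈ E, (x : Matrix (Fin 3) (Fin 3) F)ᵀ * (x : Matrix (Fin 3) (Fin 3) F).map (fun a => a ^ 2) = 1) ∧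
      (∀ x ∈ E, x ^ 3 = 1) ∧
      (∀ x ∈ E, x ∉ Geo.scalars (Fin 3) F → (x : Matrix (Fin 3) (Fin 3) F).trace = 0) ∧
      spanMat E = ⊤ ∧
      (∃ z ∈ E, ∃ ω : F, ω ≠ 1 ∧ (z : Matrix (Fin 3) (Fin 3) F) = ω • 1) ∧
      (∀ g : GL (Fin 3) F,
        (g : Matrix (Fin 3) (Fin 3) F)ᵀ * (g : Matrix (Fin 3) (Fin 3) F).map (fun a => a ^ 2) = 1 →
        ∀ x ∈ E, g * x * g⁻¹ ∈ E) ∧
      (∀ x ∈ E, x ∉ Geo.scalars (Fin 3) F → ∃ g : GL (Fin 3) F,
        (g : Matrix (Fin 3) (Fin 3) F)ᵀ * (g : Matrix (Fin 3) (Fin 3) F).map (fun a => a ^ 2) = 1 ∧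
        x * (g * x * g⁻¹) ≠ g * x * g⁻¹ * x) := by
  classical
  let φ : F ≃+* K4 := FiniteField.ringEquivOfCardEq (by rw [hF]; rfl)
  let Φ : Matrix (Fin 3) (Fin 3) F →+* Matrix (Fin 3) (Fin 3) K4 := φ.toRingHom.mapMatrix
  have hΦ : Function.Injective Φ := fun A B h => Matrix.ext fun i j =>
    φ.injective (congrFun (congrFun h i) j)
  let U : Matrix (Fin 3) (Fin 3) F → Prop := fun x => xᵀ * x.map (fun a => a ^ 2) = 1
  have hUΦ : ∀ x, U x ↔ (Φ x)ᵀ * (Φ x).map (fun a => a ^ 2) = 1 := by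
    intro x
    have h1 : (Φ x)ᵀ * (Φ x).map (fun a => a ^ 2) = Φ (xᵀ * x.map (fun a => a ^ 2)) := by
      rw [map_mul]
      congr 1
      ext i j
      simp [Φ]
    rw [h1, ← map_one Φ]
    exact ⟨fun h => congrArg Φ h, fun h => hΦ h⟩
  let P : GL (Fin 3) F → Prop := fun x =>
    U x ∧ (x : Matrix (Fin 3) (Fin 3) F).det = 1 ∧ x ^ 3 = 1
  have hP : ∀ x, P x → ∃ t, Φ (x : Matrix (Fin 3) (Fin 3) F) = el t := by
    rintro x ⟨h1, h2, h3⟩
    refine exists_el ((hUΦ _).1 h1) ?_ ?_
    · show (φ.toRingHom.mapMatrix (x : Matrix (Fin 3) (Fin 3) F)).det = 1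
      rw [← RingHom.map_det, h2, map_one]
    · rw [← map_mul, ← map_mul, ← Units.val_mul, ← Units.val_mul, ← pow_three', h3, Units.val_one, map_one]
  have hsq : ∀ (a b : Matrix (Fin 3) (Fin 3) F), (a * b).map (fun c => c ^ 2) =
      a.map (fun c => c ^ 2) * b.map (fun c => c ^ 2) := by
    intro a b
    have : CharP F 2 := by
      obtain ⟨p, hp⟩ := CharP.exists F
      obtain ⟨e, hpp, he⟩ := FiniteField.card F p
      have h2 : p ∣ 2 ^ 2 := by rw [show (2 : ℕ) ^ 2 = 4 from rfl, ← hF, he]; exact dvd_pow_self p e.pos.ne'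
      rwa [← (Nat.prime_dvd_prime_iff_eq hpp Nat.prime_two).1 (hpp.dvd_of_dvd_pow h2)]
    exact Matrix.map_mul (f := frobenius F 2)
  have hUmul : ∀ a b, U a → U b → U (a * b) := fun a b ha hb => by
    show (a * b)ᵀ * (a * b).map _ = 1
    rw [hsq, Matrix.transpose_mul, mul_assoc, ← mul_assoc aᵀ, show aᵀ * a.map _ = 1 from ha, one_mul]
    exact hb
  let E : Subgroup (GL (Fin 3) F) :=
    { carrier := {x | P x}
      mul_mem' := fun {x y} hx hy => by
        refine ⟨hUmul _ _ hx.1 hy.1, by rw [Units.val_mul, Matrix.det_mul, hx.2.1, hy.2.1, one_mul], ?_⟩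
        obtain ⟨s, hs⟩ := hP x hx
        obtain ⟨t, ht⟩ := hP y hy
        refine Units.ext (hΦ ?_)
        rw [pow_three', Units.val_mul, Units.val_mul, Units.val_mul, Units.val_one, map_one, map_mul, map_mul,
          map_mul, hs, ht]
        exact el_mul s t
      one_mem' := ⟨by simp [U, Matrix.map_one], by simp, one_pow 3⟩
      inv_mem' := fun {x} hx => by
        have h2 : x⁻¹ = x * x := inv_eq_of_mul_eq_one_right (by rw [← mul_assoc, ← pow_three', hx.2.2])
        refine ⟨?_, ?_, by rw [inv_pow, hx.2.2, inv_one]⟩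
        · rw [h2, Units.val_mul]; exact hUmul _ _ hx.1 hx.1
        · rw [h2, Units.val_mul, Matrix.det_mul, hx.2.1, one_mul] }
  have hmem : ∀ x, x ∈ E ↔ P x := fun x => Iff.rfl
  have lift : ∀ M : Matrix (Fin 3) (Fin 3) K4, IsUnit M → ∃ x : GL (Fin 3) F,
      Φ (x : Matrix (Fin 3) (Fin 3) F) = M := by
    rintro M ⟨u, rfl⟩
    refine ⟨Units.map φ.symm.toRingHom.mapMatrix.toMonoidHom u, ?_⟩
    ext i j
    simp [Φ]
  have hel : ∀ t, ∃ x ∈ E, Φ (x : Matrix (Fin 3) (Fin 3) F) = el t := by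
    intro t
    obtain ⟨h1, h2, h3⟩ := el_props t
    obtain ⟨x, hx⟩ := lift (el t) (IsUnit.of_mul_eq_one (el t * el t) (by rw [← mul_assoc]; exact h3))
    refine ⟨x, (hmem x).2 ⟨(hUΦ _).2 ?_, ?_, Units.ext (hΦ ?_)⟩, hx⟩
    · rw [hx]
      have h4 := congrArg Matrix.transpose h1
      rw [Matrix.transpose_mul, Matrix.transpose_one, star2_eq, Matrix.transpose_transpose] at h4
      exact h4
    · refine φ.injective ?_
      rw [map_one, ← h2, ← hx]
      exact φ.toRingHom.map_det _
    · rw [pow_three', Units.val_mul, Units.val_mul, map_mul, map_mul, hx, Units.val_one, map_one]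
      exact h3
  have hscal : ∀ (x : GL (Fin 3) F) c, Φ (x : Matrix (Fin 3) (Fin 3) F) =
      (Matrix.of fun i j => if i = j then c else 0) → x ∈ Geo.scalars (Fin 3) F := by
    intro x c hc
    refine mem_scalars_of_smul_one (c := φ.symm c) (hΦ ?_)
    rw [hc]
    ext i j
    by_cases h : i = j <;> simp [Φ, h]
  refine ⟨E, fun x hx => ((hmem x).1 hx).1, fun x hx => ((hmem x).1 hx).2.2, fun x hx hxs => ?_, ?_, ?_, ?_, ?_⟩
  · obtain ⟨t, ht⟩ := hP x ((hmem x).1 hx)
    rcases el_trace t with h | ⟨c, hc⟩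
    · refine φ.injective ?_
      rw [map_zero, ← h, ← ht]
      simp [Φ, Matrix.trace, map_sum]
    · exact absurd (hscal x c (ht.trans hc)) hxs
  · refine eq_top_iff.2 fun M _ => ?_
    rw [Matrix.matrix_eq_sum_single M]
    refine Submodule.sum_mem _ fun i _ => Submodule.sum_mem _ fun j _ => ?_
    choose x hx hxe using hel
    have h1 : Matrix.single i j (M i j) =
        M i j • ∑ y : Fin 3, φ.symm (![1, w, v] (2 * i * y)) •
          (x (j - i, 0, y) : Matrix (Fin 3) (Fin 3) F) := by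
      have h2 : Matrix.single i j (1 : F) = ∑ y : Fin 3, φ.symm (![1, w, v] (2 * i * y)) •
          (x (j - i, 0, y) : Matrix (Fin 3) (Fin 3) F) := by
        ext a b
        refine φ.injective ?_
        have h3 := el_span i j a b
        rw [Matrix.sum_apply, map_sum]
        rw [show φ (Matrix.single i j (1 : F) a b) = Matrix.single i j (1 : K4) a b by
          by_cases h : i = a ∧ j = b <;> simp [Matrix.single, h], h3]
        refine Finset.sum_congr rfl fun y _ => ?_
        rw [Matrix.smul_apply, smul_eq_mul, map_mul, φ.apply_symm_apply, ← hxe]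
        rfl
      rw [← h2, Matrix.smul_single, smul_eq_mul, mul_one]
    rw [h1]
    exact Submodule.smul_mem _ _ (Submodule.sum_mem _ fun y _ => Submodule.smul_mem _ _ (mem_spanMat (hx _)))
  · obtain ⟨z, hz, hzφ⟩ := hel (0, 1, 0)
    rw [el_central] at hzφ
    refine ⟨z, hz, φ.symm w, fun h0 => ?_, hΦ ?_⟩
    · have h1 : w = 1 := φ.symm.injective (h0.trans (map_one φ.symm).symm)
      exact absurd h1 (by decide)
    · rw [hzφ]
      ext i j
      by_cases h : i = j <;> simp [Φ, h]
  · intro g hg x hx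
    obtain ⟨h1, h2, h3⟩ := (hmem x).1 hx
    have hgi : U ((g⁻¹ : GL (Fin 3) F) : Matrix (Fin 3) (Fin 3) F) := by
      have h4 : (g.val * g⁻¹.val)ᵀ * (g.val * g⁻¹.val).map (fun a : F => a ^ 2) = 1 := by
        rw [Units.mul_inv]; simp [Matrix.map_one]
      rw [hsq, Matrix.transpose_mul, mul_assoc, ← mul_assoc g.valᵀ, hg, one_mul] at h4
      exact h4
    refine (hmem _).2 ⟨?_, ?_, by rw [conj_pow, h3, mul_one, mul_inv_cancel]⟩
    · rw [Units.val_mul, Units.val_mul]; exact hUmul _ _ (hUmul _ _ hg h1) hgi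
    · rw [Units.val_mul, Units.val_mul, Matrix.det_mul, Matrix.det_mul, h2, mul_one, ← Matrix.det_mul,
        Units.mul_inv, Matrix.det_one]
  · intro x hx hxs
    obtain ⟨t, ht⟩ := hP x ((hmem x).1 hx)
    rcases el_moved t with ⟨c, hc⟩ | ⟨g₀, hg₀, hne⟩
    · exact absurd (hscal x c (ht.trans hc)) hxs
    obtain ⟨hu, hu'⟩ := movers_unitary g₀ hg₀
    obtain ⟨g, hg⟩ := lift g₀ (IsUnit.of_mul_eq_one (star2 g₀) hu')
    refine ⟨g, (hUΦ _).2 ?_, fun hcomm => hne ?_⟩
    · rw [hg]
      have h4 := congrArg Matrix.transpose hu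
      rw [Matrix.transpose_mul, Matrix.transpose_one, star2_eq, Matrix.transpose_transpose] at h4
      exact h4
    · have hgi : Φ ((g⁻¹ : GL (Fin 3) F) : Matrix (Fin 3) (Fin 3) F) = star2 g₀ := by
        calc Φ ((g⁻¹ : GL (Fin 3) F) : Matrix (Fin 3) (Fin 3) F)
            = star2 g₀ * (Φ g.val * Φ (g⁻¹ : GL (Fin 3) F).val) := by rw [← mul_assoc, hg, hu, one_mul]
          _ = star2 g₀ := by rw [← map_mul, Units.mul_inv, map_one, mul_one]
      have h1 := congrArg (fun y : GL (Fin 3) F => Φ y.val) hcomm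
      simpa only [Units.val_mul, map_mul, hg, hgi, ht] using h1

end Cfsg.Agent.Aschbacher
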