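import Cfsg.Agent.Lib.Aschbacher.UnitTwoTwo
import Cfsg.Agent.Lib.Aschbacher.GUThreeTwo
import Cfsg.Agent.Lib.Aschbacher.ClassTwo

/-!
The stabiliser of a tensor square of unitary three-spaces over four elements normalises an extraspecial
group of order `3^5`.
-/

set_option autoImplicit false
set_option linter.unusedSectionVars false

namespace Cfsg.Agent.Aschbacher

open Matrix
open scoped MatrixGroups Kronecker

variable {F : Type*} [Field F]

theorem kron_left_cancel {m k : Type} {A C : Matrix m m F} {B : Matrix k k F} (h : A ⊗ₖ B = C ⊗ₖ B)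
    (hB : B ≠ 0) : A = C := by
  obtain ⟨p, q, hpq⟩ : ∃ p q, B p q ≠ 0 := by
    by_contra hcon
    push Not at hcon
    exact hB (Matrix.ext hcon)
  ext a b
  have h1 := congrFun (congrFun h (a, p)) (b, q)
  simp only [Matrix.kroneckerMap_apply] at h1
  exact mul_right_cancel₀ hpq h1

theorem kron_right_cancel {m k : Type} {A : Matrix m m F} {B D : Matrix k k F} (h : A ⊗ₖ B = A ⊗ₖ D)
    (hA : A ≠ 0) : B = D := by
  obtain ⟨p, q, hpq⟩ : ∃ p q, A p q ≠ 0 := by
    by_contra hcon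
    push Not at hcon
    exact hA (Matrix.ext hcon)
  ext a b
  have h1 := congrFun (congrFun h (p, a)) (q, b)
  simp only [Matrix.kroneckerMap_apply] at h1
  exact mul_left_cancel₀ hpq h1

variable {ι : Type} [Fintype ι] [DecidableEq ι] [Fintype F] {σ : F ≃+* F} {f : (ι → F) → (ι → F) → F}

theorem Herm.similitude_scalar_eq_one (hh : Herm 2 σ f) {d : ℕ} [NeZero d] {a : GL (Fin d) F} {μ : F}
    (ha : (a : Matrix (Fin d) (Fin d) F)ᵀ * (a : Matrix (Fin d) (Fin d) F).map σ = μ • 1) : μ = 1 := by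
  have hμ0 : μ ≠ 0 := by
    rintro rfl
    rw [zero_smul] at ha
    have h2 := congrArg Matrix.det ha
    have hd : (a : Matrix (Fin d) (Fin d) F).det ≠ 0 := (a.isUnit.map Matrix.detMonoidHom).ne_zero
    rw [Matrix.det_mul, Matrix.det_transpose, Matrix.det_zero, show
      ((a : Matrix (Fin d) (Fin d) F).map σ).det = σ (a : Matrix (Fin d) (Fin d) F).det from
        (σ.toRingHom.map_det _).symm] at h2
    exact mul_ne_zero hd ((map_ne_zero σ).2 hd) h2
  have hfix : σ μ = μ := by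
    have h1 : μ = ∑ i, (a : Matrix (Fin d) (Fin d) F) i 0 * σ ((a : Matrix (Fin d) (Fin d) F) i 0) := by
      have h2 := congrFun (congrFun ha 0) 0
      simp only [Matrix.mul_apply, Matrix.transpose_apply, Matrix.map_apply, Matrix.smul_apply,
        Matrix.one_apply_eq, smul_eq_mul, mul_one] at h2
      exact h2.symm
    rw [h1, map_sum]
    exact Finset.sum_congr rfl fun i _ => by rw [map_mul, hh.form.involutive, mul_comm]
  rw [hh.apply_eq, pow_two] at hfix
  exact mul_eq_right₀ hμ0 |>.1 hfix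

set_option maxHeartbeats 800000 in
theorem Herm.three_three [Nonempty ι] (hh : Herm 2 σ f) {H : Subgroup (GL ι F)}
    (hH : H ≤ preserving (glToMat ι F) f) (e : ι ≃ Fin 3 × Fin 3) (P : GL ι F)
    (hgram : coordGram f e P = 1 ⊗ₖ 1) (hle : H ≤ Geo.tensorProductSubgroup 3 3 e P) :
    ∃ R : Subgroup (GL ι F), Geo.IsSymplecticTypeGroup 3 R ∧ AbsIrr R ∧
      R ≤ preserving (glToMat ι F) f ∧ Nat.card (Subgroup.center R) = 3 ∧
      Nat.card R = 3 ^ (1 + 2 * 2) ∧ H ≤ Geo.subgroupNormalizer R := by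
  classical
  have h := RefForm.of_unitary hh.form
  have hσ : (σ : F → F) = fun a => a ^ 2 := funext hh.apply_eq
  obtain ⟨E, hEu, hE3, hEt, hEspan, ⟨z, hz, ω, hω, hzω⟩, hEn, hEmove⟩ :=
    exists_guThreeTwo_kernel (F := F) hh.card
  have hE : ∀ x ∈ E, (x : Matrix (Fin 3) (Fin 3) F)ᵀ * (x : Matrix (Fin 3) (Fin 3) F).map σ = 1 := by
    intro x hx; rw [hσ]; exact hEu x hx
  let U : Subgroup (GL (Fin 3) F) := preserving (glToMat (Fin 3) F) (matForm σ.toRingHom 1)
  have hEU : E ≤ U := fun x hx => unitary_mem_of_eq (hE x hx)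
  let kr : U × U →* GL (Fin 3 × Fin 3) F :=
    { toFun := fun x =>
        { val := (x.1 : GL (Fin 3) F).val ⊗ₖ (x.2 : GL (Fin 3) F).val
          inv := ((x.1 : GL (Fin 3) F)⁻¹).val ⊗ₖ ((x.2 : GL (Fin 3) F)⁻¹).val
          val_inv := by rw [← Matrix.mul_kronecker_mul, Units.mul_inv, Units.mul_inv, Matrix.one_kronecker_one]
          inv_val := by rw [← Matrix.mul_kronecker_mul, Units.inv_mul, Units.inv_mul, Matrix.one_kronecker_one] }
      map_one' := Units.ext (by simp)
      map_mul' := fun x y => Units.ext (by simp [Matrix.mul_kronecker_mul]) }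
  let θ : U × U →* GL ι F := (coordGL e P).toMonoidHom.comp kr
  have hθ : ∀ x : U × U, (θ x : Matrix ι ι F) =
      coordEquiv e P ((x.1 : GL (Fin 3) F).val ⊗ₖ (x.2 : GL (Fin 3) F).val) := fun x => rfl
  have hθiso : ∀ x, θ x ∈ preserving (glToMat ι F) f := by
    intro x u v
    obtain ⟨u, rfl⟩ := exists_coord_vec e P u
    obtain ⟨v, rfl⟩ := exists_coord_vec e P v
    show f ((θ x : Matrix ι ι F) *ᵥ _) ((θ x : Matrix ι ι F) *ᵥ _) = coordForm f e P u v
    rw [hθ, coordEquiv_mulVec, coordEquiv_mulVec]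
    show coordForm f e P _ _ = _
    rw [coordForm_eq h, coordForm_eq h, matForm_conj, hgram, Matrix.one_kronecker_one, mul_one]
    refine congrArg (fun M => matForm σ.toRingHom M u v) ?_
    have h3 : ((x.1 : GL (Fin 3) F).val ⊗ₖ (x.2 : GL (Fin 3) F).val).map σ.toRingHom =
        (x.1 : GL (Fin 3) F).val.map σ ⊗ₖ (x.2 : GL (Fin 3) F).val.map σ := by ext; simp
    rw [h3, ← Matrix.kroneckerMap_transpose, ← Matrix.mul_kronecker_mul, unitary_eq_of_mem x.1.2,
      unitary_eq_of_mem x.2.2, Matrix.one_kronecker_one]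
  let E' : Subgroup U := E.subgroupOf U
  set R : Subgroup (GL ι F) := (E'.prod E').map θ with hR
  have hRiso : R ≤ preserving (glToMat ι F) f := by rintro _ ⟨x, -, rfl⟩; exact hθiso x
  have hRmem : ∀ y ∈ R, ∃ a b : U, (a : GL (Fin 3) F) ∈ E ∧ (b : GL (Fin 3) F) ∈ E ∧ θ (a, b) = y := by
    rintro _ ⟨⟨a, b⟩, ⟨ha, hb⟩, rfl⟩; exact ⟨a, b, ha, hb, rfl⟩
  have habs : AbsIrr R := by
    refine absIrr_of_spanMat (eq_top_iff.2 fun M _ => ?_)
    obtain ⟨M, rfl⟩ := (coordEquiv e P).surjective M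
    have key : ∀ A ∈ spanMat E, ∀ B ∈ spanMat E, coordEquiv e P (A ⊗ₖ B) ∈ spanMat R := by
      intro A hA
      induction hA using Submodule.span_induction with
      | mem a ha =>
        obtain ⟨a, ha, rfl⟩ := ha
        intro B hB
        induction hB using Submodule.span_induction with
        | mem b hb =>
          obtain ⟨b, hb, rfl⟩ := hb
          exact mem_spanMat (x := θ (⟨a, hEU ha⟩, ⟨b, hEU hb⟩)) ⟨(⟨a, hEU ha⟩, ⟨b, hEU hb⟩), ⟨ha, hb⟩, rfl⟩
        | zero => rw [Matrix.kronecker_zero, map_zero]; exact Submodule.zero_mem _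
        | add x y _ _ ihx ihy => rw [Matrix.kronecker_add, map_add]; exact Submodule.add_mem _ ihx ihy
        | smul c x _ ihx => rw [Matrix.kronecker_smul, map_smul]; exact Submodule.smul_mem _ c ihx
      | zero => intro B _; rw [Matrix.zero_kronecker, map_zero]; exact Submodule.zero_mem _
      | add x y _ _ ihx ihy =>
        intro B hB; rw [Matrix.add_kronecker, map_add]; exact Submodule.add_mem _ (ihx B hB) (ihy B hB)
      | smul c x _ ihx =>
        intro B hB; rw [Matrix.smul_kronecker, map_smul]; exact Submodule.smul_mem _ c (ihx B hB)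
    have e1 : M = ∑ x, ∑ y, M x y • (Matrix.single x.1 y.1 (1 : F) ⊗ₖ Matrix.single x.2 y.2 1) := by
      conv_lhs => rw [Matrix.matrix_eq_sum_single M]
      refine Finset.sum_congr rfl fun x _ => Finset.sum_congr rfl fun y _ => ?_
      rw [Matrix.single_kronecker_single, Matrix.smul_single, mul_one, smul_eq_mul, mul_one]
    rw [e1, map_sum]
    refine Submodule.sum_mem _ fun x _ => ?_
    rw [map_sum]
    refine Submodule.sum_mem _ fun y _ => ?_
    rw [map_smul]
    refine Submodule.smul_mem _ _ (key _ ?_ _ ?_) <;> · rw [hEspan]; trivial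
  have hR3 : ∀ y ∈ R, y ^ 3 = 1 := by
    intro y hy
    obtain ⟨a, b, ha, hb, rfl⟩ := hRmem y hy
    rw [← map_pow, show (a, b) ^ 3 = 1 from Prod.ext (Subtype.ext (hE3 _ ha)) (Subtype.ext (hE3 _ hb)),
      map_one]
  have hscal : ∀ a b : U, (a : GL (Fin 3) F) ∈ Geo.scalars (Fin 3) F → (b : GL (Fin 3) F) ∈ Geo.scalars (Fin 3) F →
      θ (a, b) ∈ Geo.scalars ι F := by
    intro a b ha hb
    obtain ⟨c, hc⟩ := (Geo.mem_scalars_iff _).1 ha
    obtain ⟨c', hc'⟩ := (Geo.mem_scalars_iff _).1 hb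
    refine mem_scalars_of_smul_one (c := (c : F) * c') ?_
    rw [hθ, hc, hc', Matrix.smul_kronecker, Matrix.kronecker_smul, Matrix.one_kronecker_one, smul_smul,
      map_smul, map_one]
  have htr : ∀ y ∈ R, y ∉ Geo.scalars ι F → (y : Matrix ι ι F).trace = 0 := by
    intro y hy hys
    obtain ⟨a, b, ha, hb, rfl⟩ := hRmem y hy
    have ht : (θ (a, b) : Matrix ι ι F).trace = (a : GL (Fin 3) F).val.trace * (b : GL (Fin 3) F).val.trace := by
      rw [hθ, coordEquiv_apply, Matrix.trace_units_conj, ← kronecker_trace]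
      exact Equiv.sum_comp e fun i => ((a : GL (Fin 3) F).val ⊗ₖ (b : GL (Fin 3) F).val) i i
    rw [ht]
    by_cases has : (a : GL (Fin 3) F) ∈ Geo.scalars (Fin 3) F
    · rw [hEt _ hb fun hbs => hys (hscal a b has hbs), mul_zero]
    · rw [hEt _ ha has, zero_mul]
  obtain ⟨-, hcard⟩ := card_of_traceless habs htr
  set S := (Geo.scalars ι F).subgroupOf R
  have hpg : IsPGroup 3 R := fun x => ⟨1, Subtype.ext (by simpa using hR3 x x.2)⟩
  have : Fact (Nat.Prime 3) := ⟨Nat.prime_three⟩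
  have hS3 : Nat.card S = 3 := by
    have hle' : Nat.card S ≤ 3 := by
      have hF : Nat.card Fˣ = 3 := by rw [Nat.card_units, Nat.card_eq_fintype_card, hh.card]; rfl
      let g : S → Fˣ := fun x => Classical.choose ((Geo.mem_scalars_iff ((x : R) : GL ι F)).1 x.2)
      have hg : ∀ x : S, ((x : R) : GL ι F).val = ((g x : Fˣ) : F) • 1 := fun x =>
        Classical.choose_spec ((Geo.mem_scalars_iff ((x : R) : GL ι F)).1 x.2)
      exact (Nat.card_le_card_of_injective g fun x y hxy =>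
        Subtype.ext (Subtype.ext (Units.ext (by rw [hg x, hg y, hxy])))).trans hF.le
    have hone : 1 < Nat.card S := by
      have hzz : (θ (⟨z, hEU hz⟩, 1) : GL ι F) ∈ R := ⟨(⟨z, hEU hz⟩, 1), ⟨hz, E'.one_mem⟩, rfl⟩
      have hzs : (⟨_, hzz⟩ : R) ∈ S :=
        hscal ⟨z, hEU hz⟩ 1 (mem_scalars_of_smul_one hzω) (Geo.scalars (Fin 3) F).one_mem
      refine Finite.one_lt_card_iff_nontrivial.2 ⟨⟨⟨⟨_, hzz⟩, hzs⟩, 1, fun h0 => hω ?_⟩⟩
      have h1 : (θ (⟨z, hEU hz⟩, 1) : Matrix ι ι F) = 1 :=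
        congrArg (fun x : S => ((x : R) : GL ι F).val) h0
      rw [hθ] at h1
      have h2 := (coordEquiv e P).injective (h1.trans (map_one _).symm)
      have h3 := congrFun (congrFun h2 (0, 0)) (0, 0)
      simpa [hzω] using h3
    obtain ⟨a, ha⟩ := IsPGroup.iff_card.1 (hpg.to_subgroup S)
    rw [ha] at hle' hone ⊢
    match a, hle', hone with
    | 0, _, h => norm_num at h
    | 1, _, _ => rfl
    | a + 2, h, _ => exfalso; rw [pow_add] at h; have := Nat.one_le_pow a 3 (by norm_num); omega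
  have hn : Fintype.card ι = 9 := by simpa using Fintype.card_congr e
  rw [hn, hS3] at hcard
  have hcenter : Subgroup.center R = S := by
    refine le_antisymm (fun x hx => habs.scalar_of_comm fun y hy =>
      (congrArg Subtype.val (Subgroup.mem_center_iff.1 hx ⟨y, hy⟩)).symm) fun x hx => ?_
    exact Subgroup.mem_center_iff.2 fun y => Subtype.ext (scalar_comm hx (y : GL ι F)).symm
  have hgn : ∀ g h' : U, ∀ y ∈ R, θ (g, h') * y * (θ (g, h'))⁻¹ ∈ R := by
    intro g h' y hy
    obtain ⟨a, b, ha, hb, rfl⟩ := hRmem y hy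
    rw [← map_inv, ← map_mul, ← map_mul]
    refine ⟨_, ⟨?_, ?_⟩, rfl⟩
    · show (g : GL (Fin 3) F) * a * (g : GL (Fin 3) F)⁻¹ ∈ E
      exact hEn g (hσ ▸ unitary_eq_of_mem g.2) a ha
    · show (h' : GL (Fin 3) F) * b * (h' : GL (Fin 3) F)⁻¹ ∈ E
      exact hEn h' (hσ ▸ unitary_eq_of_mem h'.2) b hb
  refine ⟨R, ⟨Nat.prime_three, hpg, fun A hA hAc => ?_, ?_⟩, habs, hRiso, by rw [hcenter, hS3],
    by rw [hcard]; norm_num, fun g hg => ?_⟩
  · -- characteristic abelian subgroups are central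
    have hle' : A ≤ S := by
      intro x hx
      by_contra hxs
      obtain ⟨a, b, ha, hb, hab⟩ := hRmem x x.2
      have key : ∀ g h' : U, (θ (a, b) : GL ι F) * (θ (g, h') * θ (a, b) * (θ (g, h'))⁻¹) =
          θ (g, h') * θ (a, b) * (θ (g, h'))⁻¹ * θ (a, b) := by
        intro g h'
        let φ : R ≃* R :=
          { toFun := fun y => ⟨θ (g, h') * y * (θ (g, h'))⁻¹, hgn g h' y y.2⟩
            invFun := fun y => ⟨(θ (g, h'))⁻¹ * y * θ (g, h'), by
              simpa [← map_inv] using hgn g⁻¹ h'⁻¹ y y.2⟩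
            left_inv := fun y => Subtype.ext (by simp [mul_assoc])
            right_inv := fun y => Subtype.ext (by simp [mul_assoc])
            map_mul' := fun y w => Subtype.ext (by simp [mul_assoc]) }
        have hφx : φ x ∈ A := by rw [← hA.fixed φ] at hx; exact hx
        have h1 := congrArg (fun y : A => ((y : R) : GL ι F)) (hAc.is_comm.comm ⟨x, hx⟩ ⟨φ x, hφx⟩)
        simpa [φ, hab] using h1
      have hxs' : ¬ ((a : GL (Fin 3) F) ∈ Geo.scalars (Fin 3) F ∧ (b : GL (Fin 3) F) ∈ Geo.scalars (Fin 3) F) :=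
        fun hc => hxs (show ((x : R) : GL ι F) ∈ Geo.scalars ι F from hab ▸ hscal a b hc.1 hc.2)
      by_cases has : (a : GL (Fin 3) F) ∈ Geo.scalars (Fin 3) F
      · obtain ⟨g, hgu, hne⟩ := hEmove b hb fun hbs => hxs' ⟨has, hbs⟩
        have h1 := key 1 ⟨g, unitary_mem_of_eq (hσ.symm ▸ hgu)⟩
        rw [← map_inv, ← map_mul, ← map_mul, ← map_mul, ← map_mul] at h1
        have h2 := (coordEquiv e P).injective (congrArg Units.val h1 :)
        simp only [kr, MonoidHom.coe_mk, OneHom.coe_mk, Prod.fst_mul, Prod.snd_mul, Prod.fst_inv,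
          Prod.snd_inv, Subgroup.coe_mul, Subgroup.coe_inv, OneMemClass.coe_one, inv_one, mul_one, one_mul] at h2
        exact hne (Units.ext (kron_right_cancel h2 (Units.ne_zero _)))
      · obtain ⟨g, hgu, hne⟩ := hEmove a ha has
        have h1 := key ⟨g, unitary_mem_of_eq (hσ.symm ▸ hgu)⟩ 1
        rw [← map_inv, ← map_mul, ← map_mul, ← map_mul, ← map_mul] at h1
        have h2 := (coordEquiv e P).injective (congrArg Units.val h1 :)
        simp only [kr, MonoidHom.coe_mk, OneHom.coe_mk, Prod.fst_mul, Prod.snd_mul, Prod.fst_inv,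
          Prod.snd_inv, Subgroup.coe_mul, Subgroup.coe_inv, OneMemClass.coe_one, inv_one, mul_one, one_mul] at h2
        exact hne (Units.ext (kron_left_cancel h2 (Units.ne_zero _)))
    have : IsCyclic S := isCyclic_of_prime_card hS3
    exact isCyclic_of_injective (Subgroup.inclusion hle') (Subgroup.inclusion_injective _)
  · rw [show 3 * Nat.gcd 2 3 = 3 from rfl]
    refine ((Nat.dvd_prime Nat.prime_three).1 (Monoid.exponent_dvd_of_forall_pow_eq_one fun x : R =>
      Subtype.ext (by simpa using hR3 x x.2))).resolve_left fun h1 => ?_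
    have h2 : Nat.card R = 1 :=
      (Nat.card_eq_one_iff_unique).2 ⟨Monoid.exp_eq_one_iff.1 h1, ⟨1⟩⟩
    omega
  · obtain ⟨g₀, a, b, rfl, hab⟩ := exists_of_mem_tensorProductSubgroup (hle hg)
    have h1 : (1 : Matrix (Fin 3) (Fin 3) F) ≠ 0 := one_ne_zero
    obtain ⟨⟨ν, hν⟩, ⟨μ, hμ⟩⟩ := h.tensor_similitude hgram h1 h1 (hH hg) hab
    rw [mul_one] at hν hμ
    obtain rfl := hh.similitude_scalar_eq_one hν
    obtain rfl := hh.similitude_scalar_eq_one hμ
    rw [one_smul] at hν hμ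
    have hga : coordGL e P g₀ = θ (⟨a, unitary_mem_of_eq hμ⟩, ⟨b, unitary_mem_of_eq hν⟩) :=
      congrArg (coordGL e P) (Units.ext hab)
    show coordGL e P g₀ ∈ Subgroup.normalizer (R : Set (GL ι F))
    rw [Subgroup.mem_normalizer_iff, hga]
    refine fun y => ⟨hgn _ _ y, fun hy => ?_⟩
    have h3 := hgn (⟨a, unitary_mem_of_eq hμ⟩ : U)⁻¹ (⟨b, unitary_mem_of_eq hν⟩ : U)⁻¹ _ hy
    rw [show ((⟨a, unitary_mem_of_eq hμ⟩ : U)⁻¹, (⟨b, unitary_mem_of_eq hν⟩ : U)⁻¹) =
      ((⟨a, unitary_mem_of_eq hμ⟩ : U), (⟨b, unitary_mem_of_eq hν⟩ : U))⁻¹ from rfl, map_inv] at h3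
    simpa [mul_assoc] using h3

end Cfsg.Agent.Aschbacher
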