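import Cfsg.Agent.Lib.Aschbacher.UnitPower
import Cfsg.Agent.Lib.Aschbacher.UnitThreeThree
import Cfsg.Agent.Lib.Aschbacher.SmallPartStructure

/-!
Aschbacher's theorem for the isometry group of a Hermitian form.
-/

set_option autoImplicit false
set_option linter.unusedSectionVars false

namespace Cfsg.Agent.Aschbacher

open Matrix
open scoped MatrixGroups Kronecker

/-- The geometric classes for a Hermitian form `f`, or the residual class. -/
inductive UnitaryOutcome {ι : Type} [Fintype ι] [DecidableEq ι] {F : Type*} [Field F] [Fintype F] (q : ℕ)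
    (f : (ι → F) → (ι → F) → F) (H : Subgroup (GL ι F)) : Prop
  | totallySingular (W : Submodule F (ι → F)) (h0 : W ≠ ⊥) (hts : Geo.IsTotallySingularFor f W)
      (hle : H ≤ Geo.subspaceStabilizer W)
  | nondegenerate (W : Submodule F (ι → F)) (h0 : W ≠ ⊥) (hnd : Geo.IsNondegenerateOn f W)
      (hdim : 2 * Module.finrank F W < Fintype.card ι) (hle : H ≤ Geo.subspaceStabilizer W)
  | decomposition (t k : ℕ) (D : Fin t → Submodule F (ι → F)) (hD : Geo.IsNondegenerateMDecomposition f k D)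
      (hle : H ≤ Geo.decompositionStabilizer D)
  | pair (k : ℕ) (D : Fin 2 → Submodule F (ι → F)) (hk : 2 * k = Fintype.card ι)
      (hD : Geo.IsMDecomposition k D) (hts : ∀ i, Geo.IsTotallySingularFor f (D i))
      (hle : H ≤ Geo.decompositionStabilizer D)
  | field (r : ℕ) (K : Subalgebra F (Matrix ι ι F)) (hr : r.Prime) (hodd : Odd r)
      (hK : Geo.IsFieldSubalgebra r K) (hcl : Geo.IsAdjointClosedFor f K) (hle : H ≤ Geo.subalgebraNormalizer K)
  | tensor (n₁ n₂ : ℕ) (e : ι ≃ Fin n₁ × Fin n₂) (P : GL ι F) (f₁ : (Fin n₁ → F) → (Fin n₁ → F) → F)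
      (f₂ : (Fin n₂ → F) → (Fin n₂ → F) → F) (h2 : 2 ≤ n₁) (hlt : n₁ < n₂) (hf₁ : Geo.IsUnitaryFormPow q f₁)
      (hf₂ : Geo.IsUnitaryFormPow q f₂) (hstr : Geo.IsTensorFormStructure (fun x : F => x ^ q) f f₁ f₂ e P)
      (hle : H ≤ Geo.tensorProductSubgroup n₁ n₂ e P)
  | tensorPower (k t : ℕ) (e : ι ≃ (Fin t → Fin k)) (P : GL ι F) (f₁ : (Fin k → F) → (Fin k → F) → F)
      (hk : 3 ≤ k) (ht : 2 ≤ t) (hex : ¬ (q = 2 ∧ k = 3)) (hf₁ : Geo.IsUnitaryFormPow q f₁)
      (hstr : Geo.IsTensorPowerFormStructure (fun x : F => x ^ q) f f₁ e P)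
      (hle : H ≤ Geo.tensorWreathSubgroup k t e P)
  | subfield (F₀ : Subfield F) (r : ℕ) (P : GL ι F) (hr : r.Prime) (hodd : Odd r)
      (hcard : Fintype.card F = Nat.card F₀ ^ r) (hrat : Geo.IsFormRationalStructure f F₀ 1 P)
      (hle : H ≤ Geo.subfieldSubgroup F₀ P)
  | subfieldOrth (F₀ : Subfield F) (P : GL ι F) (hodd : Odd q) (hcard : Fintype.card F = Nat.card F₀ ^ 2)
      (hrat : Geo.IsFormRationalStructure f F₀ 1 P) (hle : H ≤ Geo.subfieldSubgroup F₀ P)
  | subfieldSymp (F₀ : Subfield F) (P : GL ι F) (ζ : F) (heven : Even (Fintype.card ι))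
      (hcard : Fintype.card F = Nat.card F₀ ^ 2) (hζ : ζ ≠ 0) (hζq : ζ + ζ ^ q = 0)
      (hrat : Geo.IsFormRationalStructure f F₀ ζ P)
      (hvan : ∀ u : ι → F, (∀ i, u i ∈ F₀) → f ((P : Matrix ι ι F) *ᵥ u) ((P : Matrix ι ι F) *ᵥ u) = 0)
      (hle : H ≤ Geo.subfieldSubgroup F₀ P)
  | symplecticType (r : ℕ) (R : Subgroup (GL ι F)) (p e k : ℕ) (hdim : Fintype.card ι = r ^ k)
      (hR : Geo.IsSymplecticTypeGroup r R) (habs : AbsIrr R) (hsim : R ≤ Geo.similarityGroup f) (hrp : r ≠ p)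
      (hmin : Geo.IsMinimalFieldFor (Nat.card (Subgroup.center R)) p e F)
      (hcase : (Odd r ∧ Nat.card (Subgroup.center R) = r ∧ 1 ≤ k ∧ Nat.card R = r ^ (1 + 2 * k)) ∨
        (r = 2 ∧ e = 2 ∧ Nat.card (Subgroup.center R) = 4 ∧ Nat.card R = 2 ^ (2 + 2 * k)))
      (hle : H ≤ Geo.subgroupNormalizer R)
  | residual (hres : Geo.InUnitaryResidualClass H)

variable {ι : Type} [Fintype ι] [DecidableEq ι] {F : Type*} [Field F] [Fintype F] {q : ℕ} {σ : F ≃+* F}
  {f : (ι → F) → (ι → F) → F} {H : Subgroup (GL ι F)}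

theorem UnitaryOutcome.of_realisable [Nonempty ι] (hh : Herm q σ f) (hι : 2 ≤ Fintype.card ι)
    {N : Subgroup (GL ι F)} (hN : AbsIrr N) (hfN : N ≤ preserving (glToMat ι F) f) (hn : NormalIn H N)
    {F₁ : Subfield F} (hF₁ : F₁ ≠ ⊤) (hreal : Geo.RealisableOver F₁ (Geo.matrixSet N)) :
    UnitaryOutcome q f H := by
  rcases hh.subfield_cases hι hN hfN hn hF₁ hreal with
    ⟨F₀, r, P, hr, hodd, hcard, hrat, hle⟩ | ⟨F₀, P, hodd, hcard, hrat, hle⟩ |
    ⟨F₀, P, ζ, hev, hcard, hζ, hζq, hrat, hvan, hle⟩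
  · exact .subfield F₀ r P hr hodd hcard hrat hle
  · exact .subfieldOrth F₀ P hodd hcard hrat hle
  · exact .subfieldSymp F₀ P ζ hev hcard hζ hζq hrat hvan hle

theorem matForm_one_unitaryPow (hh : Herm q σ f) (d : ℕ) :
    Geo.IsUnitaryFormPow q (matForm σ.toRingHom (1 : Matrix (Fin d) (Fin d) F)) :=
  isUnitaryFormPow_of_form hh.apply_eq (matForm_unitary σ hh.form.ne_refl hh.form.involutive
    (by rw [Matrix.det_one]; exact one_ne_zero)
    (by rw [Matrix.map_one _ (map_zero σ) (map_one σ), Matrix.transpose_one]))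

theorem coordGram_trans {κ κ' : Type} [Fintype κ] [DecidableEq κ] [Fintype κ'] [DecidableEq κ'] (e : ι ≃ κ)
    (g : κ ≃ κ') (P : GL ι F) :
    coordGram f (e.trans g) P = (coordGram f e P).submatrix g.symm g.symm := by
  ext i j
  have hs : ∀ k : κ', (Pi.single k (1 : F) : κ' → F) ∘ (e.trans g) =
      (Pi.single (g.symm k) (1 : F) : κ → F) ∘ e := fun k => funext fun x => by
    simp [Pi.single_apply, Equiv.eq_symm_apply]
  show f _ _ = f _ _
  rw [hs i, hs j]

theorem UnitaryOutcome.of_tensor [Nonempty ι] (hh : Herm q σ f) (hι : 2 ≤ Fintype.card ι)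
    (hH : H ≤ preserving (glToMat ι F) f) {d k : ℕ} (hd : 2 ≤ d) (hk : 2 ≤ k) (e : ι ≃ Fin d × Fin k)
    (P : GL ι F) (hgram : coordGram f e P = 1 ⊗ₖ 1) (hle : H ≤ Geo.tensorProductSubgroup d k e P) :
    UnitaryOutcome q f H := by
  have h := RefForm.of_unitary hh.form
  have hσ : (σ : F → F) = fun x => x ^ q := funext hh.apply_eq
  rcases lt_trichotomy d k with hlt | rfl | hlt
  · refine .tensor d k e P _ _ hd hlt (matForm_one_unitaryPow hh d) (matForm_one_unitaryPow hh k) ?_ hle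
    rw [← hσ]
    exact h.tensorFormStructure hgram
  · by_cases hd2 : d = 2
    · subst hd2
      obtain ⟨N, hN, hfN, hn, F₁, hF₁, hreal⟩ := hh.two_two hH e P hgram hle
      exact .of_realisable hh hι hN hfN hn hF₁ hreal
    by_cases hex : q = 2 ∧ d = 3
    · obtain ⟨rfl, rfl⟩ := hex
      obtain ⟨R, hR, habs, hiso, hc, hcard, hle'⟩ := hh.three_three hH e P hgram hle
      refine .symplecticType 3 R 2 2 2 (by simpa using Fintype.card_congr e) hR habs
        (fun x hx => ⟨1, fun u v => by rw [Units.val_one, one_mul]; exact RefForm.mem_isometry.1 (hiso hx) u v⟩)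
        (by norm_num) ⟨Nat.prime_two, ?_, hh.card, ?_, ?_⟩ (Or.inl ⟨by decide, hc, by norm_num, hcard⟩) hle'
      · obtain ⟨p, j, hp, hpC, -, hpq, -⟩ := exists_frob hh.card
        rwa [(Nat.prime_dvd_prime_iff_eq hp Nat.prime_two).1 (hp.dvd_of_dvd_pow (n := 1)
          (by rw [pow_one]; exact hpq ▸ dvd_pow_self p (fun h0 => by rw [h0, pow_zero] at hpq; omega)))] at hpC
      · rw [hc]; norm_num
      · intro j h0 h2
        obtain rfl : j = 1 := by omega
        rw [hc]; norm_num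
    refine .tensorPower d 2 (e.trans (finTwoArrowEquiv (Fin d)).symm) P _ (by omega) le_rfl hex
      (matForm_one_unitaryPow hh d) ?_ (hle.trans (tensorProductSubgroup_le_wreath e P))
    rw [← hσ]
    refine h.tensorPowerFormStructure (c := 1) one_ne_zero ?_
    rw [coordGram_trans, hgram, Matrix.one_kronecker_one, Matrix.submatrix_one_equiv, one_smul]
    exact (map_one pureMat).symm
  · refine .tensor k d (e.trans (Equiv.prodComm _ _)) P _ _ hk hlt (matForm_one_unitaryPow hh k)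
      (matForm_one_unitaryPow hh d) ?_ (hle.trans (tensorProductSubgroup_le_swap e P))
    rw [← hσ]
    refine h.tensorFormStructure ?_
    rw [coordGram_trans, hgram, Matrix.one_kronecker_one, Matrix.submatrix_one_equiv, Matrix.one_kronecker_one]

theorem UnitaryOutcome.of_clifford [Nonempty ι] (hh : Herm q σ f) (hι : 2 ≤ Fintype.card ι)
    (hH : H ≤ preserving (glToMat ι F) f) {N : Subgroup (GL ι F)} (hs : ¬ N ≤ Geo.scalars ι F)
    (ha : ¬ AbsIrr N) (hc : FormClifford (RefForm.of_unitary hh.form) H N) : UnitaryOutcome q f H := by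
  have h := RefForm.of_unitary hh.form
  cases hc with
  | scalar hN => exact absurd hN hs
  | absIrr hN => exact absurd hN ha
  | orth t m D hD hle => exact .decomposition t m D hD hle
  | pair k D hk hD hts hle => exact .pair k D hk hD hts hle
  | selfAdjointField r K hσ => exact absurd hσ hh.form.ne_refl
  | twistedField K hσ => exact absurd hσ hh.form.ne_refl
  | unitaryField r K hσ hr hodd hK hle hadj =>
    exact .field r K hr hodd hK (fun z hz => ⟨h.adj z, hadj z hz, fun u v => h.adj_right z u v⟩) hle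
  | tensor d k e P hd hk G₁ G₂ l hd₁ hd₂ hl hh₁ hh₂ N' hN' hfix hgram hle =>
    have : NeZero d := ⟨by omega⟩
    have : NeZero k := ⟨by omega⟩
    obtain ⟨P', hgram', hle'⟩ := hh.exists_tensor_coord e P hd₁ hd₂ hl hh₁ hh₂ hgram
    exact .of_tensor hh hι hH hd hk e P' hgram' (hle.trans hle')

theorem UnitaryOutcome.of_simple [Nonempty ι] (hh : Herm q σ f) (hι : 2 ≤ Fintype.card ι)
    (hH : H ≤ preserving (glToMat ι F) f) {P : Subgroup (GL ι F)} (hP : SimpleCore H P) :
    UnitaryOutcome q f H := by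
  have h := RefForm.of_unitary hh.form
  have hfP := hP.le.trans hH
  by_cases hF : ∃ F₁ : Subfield F, F₁ ≠ ⊤ ∧ Geo.RealisableOver F₁ (Geo.matrixSet P)
  · obtain ⟨F₁, h1, h2⟩ := hF
    exact .of_realisable hh hι hP.absIrred hfP hP.normal h1 h2
  have hno : ∀ (ε : F) (g : (ι → F) → (ι → F) → F), RefForm (RingEquiv.refl F) ε g →
      P ≤ preserving (glToMat ι F) g → False := fun ε g hg hgP =>
    hF (hP.absIrred.realisable_of_two_forms (σ₁ := σ) (σ₂ := RingEquiv.refl F)
      (fun h0 => hh.form.ne_refl (by rw [← h0]; rfl)) h hg hfP hgP)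
  refine .residual ⟨P, hP.isResidualCore fun F₀ h0 h1 => hF ⟨F₀, h0, h1⟩, ?_, ?_⟩
  · rintro ⟨Q, hQ, hfix⟩
    refine hno 1 _ (RefForm.of_symmetric hQ.polar_bilinear hQ.nondegenerate
      fun u v => QuadraticMap.polar_comm Q u v) fun x hx u v => ?_
    show QuadraticMap.polar Q ((x : Matrix ι ι F) *ᵥ u) ((x : Matrix ι ι F) *ᵥ v) = QuadraticMap.polar Q u v
    simp only [QuadraticMap.polar, ← Matrix.mulVec_add, hfix _ ⟨x, hx, rfl⟩]
  · rintro ⟨g, hg, hfix⟩
    exact hno (-1) g (RefForm.of_symplectic hg) fun x hx u v => hfix _ ⟨x, hx, rfl⟩ u v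

theorem UnitaryOutcome.of_commuting [Nonempty ι] (hh : Herm q σ f) (hι : 2 ≤ Fintype.card ι)
    (hH : H ≤ preserving (glToMat ι F) f) {P : Subgroup (GL ι F)} {t : ℕ}
    {L : Fin t → Subgroup (GL ι F)} (hc : CommutingData H P L) : UnitaryOutcome q f H := by
  classical
  have h := RefForm.of_unitary hh.form
  obtain ⟨d, e, B, N', G, c, l, hd⟩ := (RefForm.of_unitary hh.form).power_data hH hc
  have hσ : (σ : F → F) = fun x => x ^ q := funext hh.apply_eq
  by_cases hd2 : d = 2
  · subst hd2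
    obtain ⟨F₁, hF₁, hreal⟩ := hd.realisable_two hh hc
    exact .of_realisable hh hι hc.absIrr (hc.le.trans hH) hc.normal hF₁ hreal
  have hd3 : 3 ≤ d := by have := hd.two_le; omega
  by_cases hex : q = 2 ∧ d = 3
  · obtain ⟨rfl, rfl⟩ := hex
    exact (hd.three_false hh hc).elim
  obtain ⟨μ, hμ, hμl⟩ := exists_herm_scale hh.form.ne_refl hh.form.involutive hd.norm
  have hherm : ((μ • G).map σ)ᵀ = μ • G := by
    rw [show (μ • G).map σ = σ μ • G.map σ from Matrix.ext fun i j => map_mul σ _ _, Matrix.transpose_smul,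
      hd.herm, smul_smul, hμl]
  refine .tensorPower d t e B _ hd3 hc.two_le hex (isUnitaryFormPow_of_form hh.apply_eq
    (matForm_unitary σ hh.form.ne_refl hh.form.involutive
      (by rw [Matrix.det_smul]; exact mul_ne_zero (pow_ne_zero _ hμ) hd.det) hherm)) ?_ hd.le_wreath
  rw [← hσ]
  refine h.tensorPowerFormStructure (c := c * (μ⁻¹) ^ t) (mul_ne_zero hd.c_ne (pow_ne_zero _ (inv_ne_zero hμ))) ?_
  rw [hd.gram, show pureMat (fun _ : Fin t => μ • G) = (∏ _i : Fin t, μ) • pureMat (fun _ : Fin t => G) from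
    pureMat_smul (fun _ : Fin t => G) (fun _ => μ), smul_smul, Finset.prod_const, Finset.card_univ,
    Fintype.card_fin, mul_assoc, ← mul_pow, inv_mul_cancel₀ hμ, one_pow, mul_one]

section ClassTwo

variable {n : ℕ} [NeZero n] {fn : (Fin n → F) → (Fin n → F) → F} {K M : Subgroup (GL (Fin n) F)}

theorem UnitaryOutcome.of_classTwo (hh : Herm q σ fn) (hn : 3 ≤ n) (hK : K ≤ preserving (glToMat (Fin n) F) fn)
    (h : ClassTwo K M) : UnitaryOutcome q fn K := by
  classical
  have href := RefForm.of_unitary hh.form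
  have hι : 2 ≤ Fintype.card (Fin n) := by rw [Fintype.card_fin]; omega
  have hab : ∀ A, A ≤ K → NormalIn K A → Abelian A → A ≤ Geo.scalars (Fin n) F := by
    intro A hle hA ha
    by_contra hns
    exact hns ((h.all_absIrr A hle hA hns).le_scalars_of_abelian ha)
  obtain ⟨r, hrp, hr⟩ := h.exists_prime
  obtain ⟨W, ω, hW, hWω, hω⟩ := h.exists_root hrp hr
  have : NeZero r := ⟨hrp.ne_zero⟩
  have hrF : (r : F) ≠ 0 := hω.neZero'.ne
  obtain ⟨p, k₀, hpp, hpC, hk0, hpq, hcard⟩ := exists_frob hh.card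
  have := hpC
  have : Fact p.Prime := ⟨hpp⟩
  have hrp' : r ≠ p := by
    rintro rfl
    exact hrF (CharP.cast_eq_zero F r)
  obtain ⟨R, hR⟩ := h.exists_smallPart hrp hr
  set z := if r = 2 then 4 else r with hz
  have hRiso : R ≤ preserving (glToMat (Fin n) F) fn := fun x hx => hK (h.le (hR.le hx))
  have hnorm1 : ∀ x ∈ M, ∀ a : F, (x : Matrix (Fin n) (Fin n) F) = a • 1 → a ^ (q + 1) = 1 := by
    intro x hx a ha
    obtain ⟨u, hu⟩ := (href.nondeg (Pi.single 0 1) (by simp)).2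
    have h1 := RefForm.mem_isometry.1 (hK (h.le hx)) (Pi.single 0 1) u
    simp only [ha, Matrix.smul_mulVec, Matrix.one_mulVec, href.sesq.smul_left, href.sesq.smul_right] at h1
    rw [pow_succ', ← hh.apply_eq]
    refine mul_right_cancel₀ hu (Eq.trans ?_ (one_mul _).symm)
    have h2 : a * (σ a * fn (Pi.single 0 1) u) = fn (Pi.single 0 1) u := h1
    linear_combination h2
  by_cases hno : r = 2 ∧ ∀ X ∈ M, ∀ a : F, (X : Matrix (Fin n) (Fin n) F) = a • 1 → a * a ≠ -1
  · -- the traces lie in the prime field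
    obtain ⟨h2, hno⟩ := hno
    have hne : frob (F := F) p 1 ≠ RingEquiv.refl F := by
      intro hrefl
      obtain ⟨a, ha⟩ := exists_pow_ne_self (F := F) p one_pos
        (hcard ▸ Nat.pow_lt_pow_right hpp.one_lt (by omega))
      exact ha (by simpa [frob_apply] using RingEquiv.congr_fun hrefl a)
    refine .of_realisable hh hι hR.absIrr hRiso hR.normal (fixedOf_ne_top hne)
      (hR.absIrr.realisable_of_trace (frob p 1) (fun x hx => ?_) fun a ha => ha)
    by_cases hs : x ∈ Geo.scalars (Fin n) F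
    · obtain ⟨a, ha, hxa⟩ := hR.scalar_eq hx hs
      rw [show z = 4 from if_pos h2] at ha
      have ha2 : a * a = 1 := by
        rcases mul_self_eq_one_iff.1 (show a * a * (a * a) = 1 by rw [← ha]; ring) with h1 | h1
        · exact h1
        · exact absurd h1 (hno x (hR.le hx) a hxa)
      rcases mul_self_eq_one_iff.1 ha2 with h1 | h1 <;> simp [hxa, h1, Matrix.trace_neg, Matrix.trace_one]
    · rw [hR.trace x hx hs, map_zero]
  obtain ⟨U, u, hU, hUu, hu⟩ : ∃ (U : GL (Fin n) F) (u : F), U ∈ M ∧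
      (U : Matrix (Fin n) (Fin n) F) = u • 1 ∧ IsPrimitiveRoot u z := by
    by_cases h2 : r = 2
    · push Not at hno
      obtain ⟨X, hX, a, hXa, haa⟩ := hno h2
      refine ⟨X, a, hX, hXa, ?_⟩
      have hne : (-1 : F) ≠ 1 := fun h1 => hrF (by rw [h2, Nat.cast_ofNat]; linear_combination -h1)
      rw [hz, if_pos h2, IsPrimitiveRoot.iff_orderOf, show (4 : ℕ) = 2 ^ (1 + 1) from rfl]
      refine orderOf_eq_prime_pow (fun h1 => hne ?_) ?_
      · rw [← haa, ← pow_two]
        simpa using h1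
      · rw [show (2 : ℕ) ^ (1 + 1) = 2 * 2 from rfl, pow_mul, pow_two a, haa, neg_one_sq]
    · exact ⟨W, ω, hW, hWω, by rwa [hz, if_neg h2]⟩
  have hdvd : z ∣ p ^ (2 * k₀) - 1 := by
    refine dvd_trans (hu.dvd_of_pow_eq_one _ (hnorm1 U hU u hUu)) ⟨q - 1, ?_⟩
    rw [← hcard, hh.card, ← Nat.sq_sub_sq, one_pow]
  have hroot : ∀ a : F, a ^ z = 1 → ∀ d, z ∣ p ^ d - 1 → a ^ p ^ d = a := by
    intro a ha d hd
    obtain ⟨c, hc⟩ := hd
    have hpd : 1 ≤ p ^ d := Nat.one_le_pow _ _ hpp.pos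
    rw [show p ^ d = z * c + 1 by omega, pow_succ, pow_mul, ha, one_pow, one_mul]
  by_cases hsub : ∃ d, 0 < d ∧ d < 2 * k₀ ∧ z ∣ p ^ d - 1
  · obtain ⟨d, hd0, hde, hd⟩ := hsub
    have hne : frob (F := F) p d ≠ RingEquiv.refl F := by
      intro hrefl
      obtain ⟨a, ha⟩ := exists_pow_ne_self (F := F) p hd0 (hcard ▸ Nat.pow_lt_pow_right hpp.one_lt hde)
      exact ha (by simpa [frob_apply] using RingEquiv.congr_fun hrefl a)
    exact .of_realisable hh hι hR.absIrr hRiso hR.normal (fixedOf_ne_top hne)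
      (hR.absIrr.realisable_of_trace (frob p d) (fun x hx => (hR.sigma_trace (frob p d) hx).1
        fun a ha => by rw [frob_apply]; exact hroot a ha d hd) fun a ha => ha)
  push Not at hsub
  obtain ⟨k, hk, hk1, hcen, hcardR, hst⟩ := hR.structure hn h.le hab hU hUu hu
  refine .symplecticType r R p (2 * k₀) k (by rw [Fintype.card_fin, hk]) hst hR.absIrr
    (fun x hx => ⟨1, fun u v => by rw [Units.val_one, one_mul]; exact RefForm.mem_isometry.1 (hRiso hx) u v⟩)
    hrp' (by rw [hcen]; exact ⟨hpp, hpC, hcard, hdvd, hsub⟩) ?_ fun g hg => ?_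
  · by_cases h2 : r = 2
    · have hz4 : z = 4 := by rw [hz, if_pos h2]
      refine Or.inr ⟨h2, ?_, hcen.trans hz4, ?_⟩
      · by_contra hne
        refine hsub 2 two_pos (by omega) ?_
        rw [hz4]
        exact four_dvd_sq_sub_one (hpp.odd_of_ne_two fun h' => hrp' (h2.trans h'.symm))
      · rw [hcardR, hz4, h2]; ring
    · have hzr : z = r := by rw [hz, if_neg h2]
      exact Or.inl ⟨hrp.odd_of_ne_two h2, hcen.trans hzr, hk1, by rw [hcardR, hzr]; ring⟩
  · show g ∈ Subgroup.normalizer (R : Set (GL (Fin n) F))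
    rw [Subgroup.mem_normalizer_iff]
    exact fun x => ⟨fun hx => hR.normal g hg x hx, fun hx => by
      simpa [mul_assoc] using hR.normal g⁻¹ (K.inv_mem hg) _ hx⟩

/-- Aschbacher's theorem for a Hermitian form. -/
theorem unitary_outcome (hh : Herm q σ fn) (hn : 3 ≤ n) (hK : K ≤ preserving (glToMat (Fin n) F) fn) :
    UnitaryOutcome q fn K := by
  classical
  have hι : 2 ≤ Fintype.card (Fin n) := by rw [Fintype.card_fin]; omega
  have h := RefForm.of_unitary hh.form
  by_cases hirr : Irr K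
  swap
  · rcases reducible_cases h hK hirr with ⟨W, h0, hts, hle⟩ | ⟨W, h0, -, hnd, hdim, hle, -⟩ |
      ⟨D, k, -, -, hD, hle⟩
    · exact .totallySingular W h0 hts hle
    · exact .nondegenerate W h0 hnd hdim hle
    · exact .decomposition 2 k D hD (le_decompositionStabilizer_of_forall hle)
  by_cases hnorm : ∀ A, A ≤ K → NormalIn K A → ¬ A ≤ Geo.scalars (Fin n) F → AbsIrr A
  swap
  · push Not at hnorm
    obtain ⟨N, hNH, hn', hs, ha⟩ := hnorm
    exact .of_clifford hh hι hK hs ha (h.clifford hK hirr hNH hn')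
  cases normal_shape hι hirr hnorm with
  | classTwo M hM => exact .of_classTwo hh hn hK hM
  | simple P hP => exact .of_simple hh hι hK hP
  | commuting P t L hP => exact .of_commuting hh hι hK hP

end ClassTwo

end Cfsg.Agent.Aschbacher
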