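import Cfsg.Agent.Lib.Aschbacher.Common

/-!
Aschbacher's theorem for `SL_n(q)`, `n` an odd prime: a maximal subgroup is of geometric type or lies in
the residual class.
-/

set_option autoImplicit false

namespace Cfsg.Agent.Aschbacher

open Matrix
open scoped MatrixGroups

theorem linear_prime {n : ℕ} (hn : n.Prime) (hodd : Odd n) {F : Type*} [Field F] [Fintype F]
    (H : Subgroup (GL (Fin n) F)) (hH : Geo.IsMaximalIn (Geo.specialLinear (Fin n) F) H) :
    (∃ W : Submodule F (Fin n → F), W ≠ ⊥ ∧ W ≠ ⊤ ∧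
        H = Geo.subspaceStabilizer W ⊓ Geo.specialLinear (Fin n) F) ∨
    (5 ≤ Fintype.card F ∧ ∃ D : Fin n → Submodule F (Fin n → F), Geo.IsMDecomposition 1 D ∧
        H = Geo.decompositionStabilizer D ⊓ Geo.specialLinear (Fin n) F) ∨
    (∃ K : Subalgebra F (Matrix (Fin n) (Fin n) F), Geo.IsFieldSubalgebra n K ∧
        H = Geo.subalgebraNormalizer K ⊓ Geo.specialLinear (Fin n) F) ∨
    (∃ (F₀ : Subfield F) (r : ℕ) (P : GL (Fin n) F), r.Prime ∧ Fintype.card F = Nat.card F₀ ^ r ∧
        H = Geo.subfieldSubgroup F₀ P ⊓ Geo.specialLinear (Fin n) F) ∨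
    (∃ p e : ℕ, p.Prime ∧ CharP F p ∧ Fintype.card F = p ^ e ∧ Odd e ∧ e ∣ n - 1 ∧ n ∣ p ^ e - 1 ∧
        (∀ d, 0 < d → d < e → ¬ n ∣ p ^ d - 1) ∧
        ∃ R : Subgroup (GL (Fin n) F), Geo.IsLinearSymplecticTypeData n R ∧
          H = Geo.subgroupNormalizer R ⊓ Geo.specialLinear (Fin n) F) ∨
    (Odd (Fintype.card F) ∧ ∃ Q : (Fin n → F) → F, Geo.IsNondegenerateQuadraticForm Q ∧
        H = Geo.quadSimilarityGroup Q ⊓ Geo.specialLinear (Fin n) F) ∨
    (∃ (σ : F ≃+* F) (f : (Fin n → F) → (Fin n → F) → F), Geo.IsUnitaryForm σ f ∧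
        H = Geo.similarityGroup f ⊓ Geo.specialLinear (Fin n) F) ∨
    Geo.InLinearResidualClass H := by
  classical
  haveI : NeZero n := ⟨hn.ne_zero⟩
  have hn3 : 3 ≤ n := by
    rcases hn.two_le.lt_or_eq with h | h
    · omega
    · subst h; exact absurd hodd (by decide)
  have hp : (Fintype.card (Fin n)).Prime := by rwa [Fintype.card_fin]
  have hodd' : Odd (Fintype.card (Fin n)) := by rwa [Fintype.card_fin]
  have hι3 : 3 ≤ Fintype.card (Fin n) := by rwa [Fintype.card_fin]
  have hι2 : 2 ≤ Fintype.card (Fin n) := by omega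
  have hSL := hH.1.le
  obtain ⟨p, hpC⟩ := CharP.exists F
  haveI := hpC
  obtain ⟨e, hpp, hcard⟩ := FiniteField.card F p
  haveI : Fact p.Prime := ⟨hpp⟩
  by_cases hirr : Irr H
  swap
  · rw [irr_iff] at hirr
    push Not at hirr
    obtain ⟨W, hW, hW0, hW1⟩ := hirr
    exact Or.inl ⟨W, hW0, hW1,
      eq_inf_of_maximal hH (fun g hg => mem_subspaceStabilizer (hW g hg))
        (specialLinear_not_le_subspaceStabilizer hW0 hW1)⟩
  right
  -- forms and rational structures of a normal absolutely irreducible subgroup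
  have hsub : ∀ {P : Subgroup (GL (Fin n) F)} (F₁ : Subfield F), AbsIrr P → NormalIn H P → F₁ ≠ ⊤ →
      Geo.RealisableOver F₁ (Geo.matrixSet P) →
      ∃ (F₀ : Subfield F) (r : ℕ) (P : GL (Fin n) F), r.Prime ∧ Fintype.card F = Nat.card F₀ ^ r ∧
        H = Geo.subfieldSubgroup F₀ P ⊓ Geo.specialLinear (Fin n) F := by
    rintro P F₁ hPa hPn hF₁ ⟨B, hB⟩
    obtain ⟨F₀, r, hle, hr, hcard'⟩ := exists_prime_index hF₁
    have hF₀ : F₀ ≠ ⊤ := by
      rintro rfl
      rw [show Nat.card (⊤ : Subfield F) = Fintype.card F by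
        rw [← Nat.card_eq_fintype_card]; exact Nat.card_congr (Equiv.subtypeUnivEquiv fun _ => trivial)]
        at hcard'
      have := Nat.pow_lt_pow_right (Fintype.one_lt_card (α := F)) hr.one_lt
      rw [pow_one] at this
      omega
    exact ⟨F₀, r, B⁻¹, hr, hcard', eq_inf_of_maximal hH
      (hPa.le_subfieldSubgroup (fun s hs i j => hle (hB s hs i j)) hPn)
      (specialLinear_not_le_subfieldSubgroup hι2 hF₀ _)⟩
  have hunit : ∀ {P : Subgroup (GL (Fin n) F)} {σ : F ≃+* F} {f : (Fin n → F) → (Fin n → F) → F},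
      AbsIrr P → NormalIn H P → Geo.IsUnitaryForm σ f → Geo.FixesForm (Geo.matrixSet P) f →
      H = Geo.similarityGroup f ⊓ Geo.specialLinear (Fin n) F := by
    intro P σ f hPa hPn hf hfix
    exact eq_inf_of_maximal hH (hPa.le_similarityGroup (IsSesq.of_unitary hf) hf.nondegenerate hfix hPn)
      (specialLinear_not_le_similarityGroup hι3 (IsSesq.of_unitary hf) hf.nondegenerate)
  have hquad : ∀ {Q : (Fin n → F) → F}, Odd (Fintype.card F) → Geo.IsNondegenerateQuadraticForm Q →
      H ≤ Geo.quadSimilarityGroup Q → H = Geo.quadSimilarityGroup Q ⊓ Geo.specialLinear (Fin n) F := by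
    intro Q _ hQ hle
    exact eq_inf_of_maximal hH hle fun h => specialLinear_not_le_similarityGroup hι3
      (IsSesq.of_bilinear hQ.polar_bilinear) hQ.nondegenerate (h.trans quadSimilarity_le_similarity)
  rcases structure_theorem hp hodd' hSL hirr with
    ⟨A, hAH, hAn, hAs, hframe | hfield⟩ | ⟨N, ω, hNH, hNn, hNa, hN⟩ | ⟨P, hP⟩
  · -- monomial case
    obtain ⟨b, hdiag, hperm, -⟩ := hframe
    by_cases hq : 5 ≤ Fintype.card F
    · exact Or.inl ⟨hq, lines b, lines_isMDecomposition hn.two_le b,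
        eq_inf_of_maximal hH (fun g hg => mem_decompositionStabilizer_lines b (hperm g hg))
          (not_le_decompositionStabilizer_lines hn.two_le b)⟩
    have h3 := three_le_of_diag b hdiag hAs
    right; right; right; right
    by_cases hq3 : Fintype.card F = 3
    · refine Or.inl ⟨by rw [hq3]; decide, fun v => basisForm b (RingHom.id F) v v, ?_, ?_⟩
      · exact basisQuad_spec b (two_ne_zero_of_odd (by rw [hq3]; decide))
      refine hquad (by rw [hq3]; decide) (basisQuad_spec b (two_ne_zero_of_odd (by rw [hq3]; decide))) ?_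
      intro g hg
      obtain ⟨π, hπ⟩ := hperm g hg
      choose c hc using hπ
      refine ⟨1, fun v => ?_⟩
      rw [Units.val_one, one_mul]
      exact basisForm_preserved b _ hc (fun i => by
        have h1 := FiniteField.pow_card_sub_one_eq_one (c i) (frame_coeff_ne_zero b (hc i))
        rw [hq3] at h1
        simpa [pow_two] using h1) v v
    · have hq4 : Fintype.card F = 4 := by omega
      have hp2 : p = 2 := by
        have hdvd : p ∣ 2 ^ 2 := by
          rw [show (2 : ℕ) ^ 2 = 4 from rfl, ← hq4, hcard]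
          exact dvd_pow_self _ e.pos.ne'
        exact (Nat.prime_dvd_prime_iff_eq hpp Nat.prime_two).1 (hpp.dvd_of_dvd_pow hdvd)
      subst hp2
      have hne : frob (F := F) 2 1 ≠ RingEquiv.refl F := by
        intro h
        obtain ⟨a, ha⟩ := exists_pow_ne_self (F := F) 2 (d := 1) one_pos (by omega)
        exact ha (by simpa [frob_apply] using RingEquiv.congr_fun h a)
      have hU := basisForm_isUnitary b (frob 2 1) hne
        (frob_involutive 2 (by rw [hq4]; rfl))
      refine Or.inr (Or.inl ⟨frob 2 1, _, hU, ?_⟩)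
      refine eq_inf_of_maximal hH ?_
        (specialLinear_not_le_similarityGroup hι3 (IsSesq.of_unitary hU) hU.nondegenerate)
      intro g hg
      obtain ⟨π, hπ⟩ := hperm g hg
      choose c hc using hπ
      refine ⟨1, fun u v => ?_⟩
      rw [Units.val_one, one_mul]
      refine basisForm_preserved b _ hc (fun i => ?_) u v
      have h1 := FiniteField.pow_card_sub_one_eq_one (c i) (frame_coeff_ne_zero b (hc i))
      rw [hq4] at h1
      show c i * frob 2 1 (c i) = 1
      rw [frob_apply, ← pow_succ']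
      exact h1
  · -- field case
    obtain ⟨K, hK, hHK, -, -⟩ := hfield
    rw [Fintype.card_fin] at hK
    exact Or.inr (Or.inl ⟨K, hK, eq_inf_of_maximal hH hHK
      (specialLinear_not_le_subalgebraNormalizer hι3 hn.two_le hK)⟩)
  · -- symplectic type
    rcases hN.field_cases with ⟨F₁, hF₁, hreal⟩ | hgen
    · exact Or.inr (Or.inr (Or.inl (hsub F₁ hNa hNn hF₁ hreal)))
    obtain ⟨hdvd, hmin, hnp⟩ := hN.minimal hcard hgen
    obtain ⟨b, hb, -⟩ := hN.monomial
    rw [Fintype.card_fin] at hdvd hmin hnp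
    have hed : (e : ℕ) ∣ n - 1 := minimal_dvd p hn hnp e.pos hdvd hmin
    rcases Nat.even_or_odd (e : ℕ) with ⟨k, hk⟩ | heodd
    · -- `N` fixes a unitary form
      right; right; right; right; right; left
      have hk0 : 0 < k := by have := e.pos; omega
      have hcardk : Fintype.card F = p ^ (2 * k) := by rw [hcard, hk, two_mul]
      have hprim : IsPrimitiveRoot ω n := by simpa using hN.primitive
      have hpk : 1 ≤ p ^ k := Nat.one_le_pow _ _ hpp.pos
      have hinvω : ω * ω ^ p ^ k = 1 := by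
        have hdvd2 : n ∣ (p ^ k + 1) * (p ^ k - 1) := by
          rw [← Nat.sq_sub_sq, one_pow, ← pow_mul, mul_comm k, two_mul, ← hk]
          exact hdvd
        rcases hn.dvd_mul.1 hdvd2 with h | h
        · obtain ⟨m, hm⟩ := h
          rw [← pow_succ', hm, pow_mul, hprim.pow_eq_one, one_pow]
        · exact absurd h (hmin k hk0 (by omega))
      have hne : frob (F := F) p k ≠ RingEquiv.refl F := by
        intro h
        refine hgen (fixedBy p k) (fixedBy_ne_top p hk0 ?_) ((mem_fixedBy p).2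
          (by simpa [frob_apply] using RingEquiv.congr_fun h ω))
        rw [hcardk]
        exact Nat.pow_lt_pow_right hpp.one_lt (by omega)
      have hU := basisForm_isUnitary b (frob p k) hne (frob_involutive p hcardk)
      refine ⟨frob p k, _, hU, hunit hNa hNn hU ?_⟩
      rintro s ⟨x, hx, rfl⟩ u v
      obtain ⟨π, c, hc⟩ := hb x hx
      refine basisForm_preserved b _ hc (fun i => ?_) u v
      show ω ^ c i * frob p k (ω ^ c i) = 1
      rw [frob_apply, ← pow_mul, mul_comm (c i), pow_mul, ← mul_pow, hinvω, one_pow]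
    · right; right; right; left
      refine ⟨p, e, hpp, hpC, hcard, heodd, hed, hdvd, hmin, N, ⟨by simpa using hN.symplecticType, hNa,
        p, e, hnp, ?_, Or.inl ⟨hodd, heodd, by simpa using hN.card_center, 1, le_rfl,
          by simpa using hN.card_eq⟩⟩, ?_⟩
      · rw [hN.card_center, Fintype.card_fin]
        exact ⟨hpp, hpC, hcard, hdvd, hmin⟩
      · refine eq_inf_of_maximal hH (fun h hh => ?_) ?_
        · show h ∈ Subgroup.normalizer (N : Set (GL (Fin n) F))
          rw [Subgroup.mem_normalizer_iff]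
          exact fun x => ⟨fun hx => hNn h hh x hx, fun hx => by
            simpa [mul_assoc] using hNn h⁻¹ (H.inv_mem hh) _ hx⟩
        · -- a transvection does not normalise `N`
          intro hle
          exact not_normalized_by_specialLinear hodd' hN hle
  · -- almost simple
    by_cases hF₁ : ∃ F₁ : Subfield F, F₁ ≠ ⊤ ∧ Geo.RealisableOver F₁ (Geo.matrixSet P)
    · obtain ⟨F₁, h1, h2⟩ := hF₁
      exact Or.inr (Or.inr (Or.inl (hsub F₁ hP.absIrred hP.normal h1 h2)))
    by_cases hQ : ∃ Q, Geo.IsNondegenerateQuadraticForm Q ∧ Geo.FixesQuadForm (Geo.matrixSet P) Q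
    · obtain ⟨Q, hQ1, hQ2⟩ := hQ
      have ho := odd_card_of_quadratic hodd' hQ1
      exact Or.inr (Or.inr (Or.inr (Or.inr (Or.inl ⟨ho, Q, hQ1,
        hquad ho hQ1 (hP.absIrred.le_quadSimilarityGroup ho hQ1 hQ2 hP.normal)⟩))))
    by_cases hU : ∃ (σ : F ≃+* F) (f : (Fin n → F) → (Fin n → F) → F),
        Geo.IsUnitaryForm σ f ∧ Geo.FixesForm (Geo.matrixSet P) f
    · obtain ⟨σ, f, hf, hfix⟩ := hU
      exact Or.inr (Or.inr (Or.inr (Or.inr (Or.inr (Or.inl
        ⟨σ, f, hf, hunit hP.absIrred hP.normal hf hfix⟩)))))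
    push Not at hF₁
    exact Or.inr (Or.inr (Or.inr (Or.inr (Or.inr (Or.inr
      ⟨P, hP.isResidualCore hF₁, hQ, fun ⟨f, hf, _⟩ => no_symplectic hodd' hf, hU⟩)))))

end Cfsg.Agent.Aschbacher
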