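import Cfsg.Agent.Lib.Aschbacher.LinearMaximal

/-!
Small numerical facts for the degrees of the explicit lists.
-/

set_option autoImplicit false

namespace Cfsg.Agent.Aschbacher

theorem pow_two_of_lt {n : ℕ} (hn : n < 27) : ∀ m t, 3 ≤ m → 2 ≤ t → n = m ^ t → t = 2 := by
  intro m t hm ht h
  by_contra hne
  have h1 : 3 ^ 3 ≤ m ^ t := (Nat.pow_le_pow_left hm 3).trans (Nat.pow_le_pow_right (by omega) (by omega))
  omega

theorem prime_eq_of_pow_eq {r p k : ℕ} (hr : r.Prime) (hp : p.Prime) (h : p ∣ r ^ k) : r = p :=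
  ((Nat.prime_dvd_prime_iff_eq hp hr).1 (hp.dvd_of_dvd_pow h)).symm

theorem ne_prime_pow {r n k p q : ℕ} (hr : r.Prime) (hp : p.Prime) (hq : q.Prime) (hpq : p ≠ q)
    (hpn : p ∣ n) (hqn : q ∣ n) : n ≠ r ^ k := fun h =>
  hpq ((prime_eq_of_pow_eq hr hp (h ▸ hpn)).symm.trans (prime_eq_of_pow_eq hr hq (h ▸ hqn)))

end Cfsg.Agent.Aschbacher
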