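import Cfsg.Agent.Lib.Aschbacher.SmallField

/-!
Maximal subgroups of `SL_n(q)`, `n ≥ 5`: the geometric types with their numerical conditions, or the residual
class.
-/

set_option autoImplicit false

namespace Cfsg.Agent.Aschbacher

open Matrix
open scoped MatrixGroups

variable {n : ℕ} {F : Type*} [Field F] [Fintype F]

/-- The types of maximal subgroups of `SL_n(q)`. -/
inductive LinearMaximal (H : Subgroup (GL (Fin n) F)) : Prop
  | subspace (W : Submodule F (Fin n → F)) (h0 : W ≠ ⊥) (h1 : W ≠ ⊤)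
      (he : H = Geo.subspaceStabilizer W ⊓ Geo.specialLinear (Fin n) F)
  | decomposition (t m : ℕ) (D : Fin t → Submodule F (Fin n → F)) (hD : Geo.IsMDecomposition m D)
      (hn : n = t * m) (h5 : m = 1 → 5 ≤ Fintype.card F) (h3 : m = 2 → 3 ≤ Fintype.card F)
      (he : H = Geo.decompositionStabilizer D ⊓ Geo.specialLinear (Fin n) F)
  | field (r : ℕ) (K : Subalgebra F (Matrix (Fin n) (Fin n) F)) (hr : r.Prime) (hrn : r ∣ n)
      (hK : Geo.IsFieldSubalgebra r K)
      (he : H = Geo.subalgebraNormalizer K ⊓ Geo.specialLinear (Fin n) F)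
  | tensor (n₁ n₂ : ℕ) (e : Fin n ≃ Fin n₁ × Fin n₂) (P : GL (Fin n) F) (h2 : 2 ≤ n₁) (hlt : n₁ < n₂)
      (hn : n = n₁ * n₂) (h3 : n₁ = 2 → 3 ≤ Fintype.card F)
      (he : H = Geo.tensorProductSubgroup n₁ n₂ e P ⊓ Geo.specialLinear (Fin n) F)
  | subfield (F₀ : Subfield F) (r : ℕ) (P : GL (Fin n) F) (hr : r.Prime)
      (hcard : Fintype.card F = Nat.card F₀ ^ r)
      (he : H = Geo.subfieldSubgroup F₀ P ⊓ Geo.specialLinear (Fin n) F)
  | symplecticType (r k : ℕ) (R : Subgroup (GL (Fin n) F)) (hn : n = r ^ k)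
      (hR : Geo.IsLinearSymplecticTypeData r R)
      (h2 : r = 2 → ∃ p : ℕ, p.Prime ∧ Fintype.card F = p ∧ p % 4 = 1)
      (h3 : r = 3 → ∃ p : ℕ, p.Prime ∧ Fintype.card F = p ∧ p % 3 = 1)
      (he : H = Geo.subgroupNormalizer R ⊓ Geo.specialLinear (Fin n) F)
  | tensorSquare (m : ℕ) (e : Fin n ≃ (Fin 2 → Fin m)) (P : GL (Fin n) F) (hm : 3 ≤ m) (hn : n = m ^ 2)
      (he : H = Geo.tensorWreathSubgroup m 2 e P ⊓ Geo.specialLinear (Fin n) F)
  | symplectic (f : (Fin n → F) → (Fin n → F) → F) (hf : Geo.IsSymplecticForm f)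
      (he : H = Geo.similarityGroup f ⊓ Geo.specialLinear (Fin n) F)
  | unitary (σ : F ≃+* F) (f : (Fin n → F) → (Fin n → F) → F) (hf : Geo.IsUnitaryForm σ f)
      (he : H = Geo.similarityGroup f ⊓ Geo.specialLinear (Fin n) F)
  | quadratic (Q : (Fin n → F) → F) (hQ : Geo.IsNondegenerateQuadraticForm Q)
      (hodd : Odd (Fintype.card F))
      (he : H = Geo.quadSimilarityGroup Q ⊓ Geo.specialLinear (Fin n) F)
  | residual (h : Geo.InLinearResidualClass H)

theorem subfield_ne_top {F₀ : Subfield F} {r : ℕ} (hr : r.Prime)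
    (hcard : Fintype.card F = Nat.card F₀ ^ r) : F₀ ≠ ⊤ := by
  rintro rfl
  rw [show Nat.card (⊤ : Subfield F) = Fintype.card F by
    rw [← Nat.card_eq_fintype_card]; exact Nat.card_congr (Equiv.subtypeUnivEquiv fun _ => trivial)]
    at hcard
  have := Nat.pow_lt_pow_right (Fintype.one_lt_card (α := F)) hr.one_lt
  rw [pow_one] at this
  omega

/-- The field of a group of symplectic type. -/
theorem symplecticType_field (hn : 5 ≤ n) {r : ℕ} {R : Subgroup (GL (Fin n) F)}
    (hR : Geo.IsLinearSymplecticTypeData r R) :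
    (r = 2 → ∃ p : ℕ, p.Prime ∧ Fintype.card F = p ∧ p % 4 = 1) ∧
    (r = 3 → ∃ p : ℕ, p.Prime ∧ Fintype.card F = p ∧ p % 3 = 1) := by
  obtain ⟨p, e, hrp, ⟨hp, -, hcard, hdvd, hmin⟩, hcase⟩ := hR.field
  rcases hcase with ⟨hodd, heodd, hz, -⟩ | ⟨h2, he, hz, -, -⟩ | ⟨-, -, hι, -⟩
  · refine ⟨fun h => absurd hodd (by rw [h]; decide), fun h3 => ?_⟩
    rw [hz, h3] at hdvd hmin
    have he1 : e = 1 := by
      by_contra hne
      have he2 : 2 < e := by obtain ⟨c, hc⟩ := heodd; omega
      refine hmin 2 two_pos he2 ?_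
      have hcop : Nat.Coprime p 3 :=
        (Nat.coprime_primes hp Nat.prime_three).2 fun h => hrp (h3.trans h.symm)
      have h4 := Nat.ModEq.pow_totient hcop
      rw [Nat.totient_prime Nat.prime_three] at h4
      exact (Nat.modEq_iff_dvd' (Nat.one_le_pow _ _ hp.pos)).1 h4.symm
    subst he1
    rw [pow_one] at hcard hdvd
    have := hp.two_le
    exact ⟨p, hp, hcard, by omega⟩
  · refine ⟨fun _ => ?_, fun h3 => absurd (h2.symm.trans h3) (by decide)⟩
    subst he
    rw [pow_one] at hcard hdvd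
    rw [hz] at hdvd
    have := hp.two_le
    exact ⟨p, hp, hcard, by omega⟩
  · rw [Fintype.card_fin] at hι
    omega

set_option maxHeartbeats 400000 in
theorem linear_maximal (hn : 5 ≤ n) (hpow : ∀ m t, 3 ≤ m → 2 ≤ t → n = m ^ t → t = 2)
    (H : Subgroup (GL (Fin n) F)) (hH : Geo.IsMaximalIn (Geo.specialLinear (Fin n) F) H) :
    LinearMaximal H := by
  classical
  have hι3 : 3 ≤ Fintype.card (Fin n) := by rw [Fintype.card_fin]; omega
  have hι2 : 2 ≤ Fintype.card (Fin n) := by omega
  have hι5 : 5 ≤ Fintype.card (Fin n) := by rwa [Fintype.card_fin]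
  have hsub : ∀ W : Submodule F (Fin n → F), W ≠ ⊥ → W ≠ ⊤ → H ≤ Geo.subspaceStabilizer W →
      LinearMaximal H := fun W h0 h1 hle =>
    .subspace W h0 h1 (eq_inf_of_maximal hH hle (specialLinear_not_le_subspaceStabilizer h0 h1))
  have hfld : ∀ (r : ℕ) (K : Subalgebra F (Matrix (Fin n) (Fin n) F)), r.Prime → Geo.IsFieldSubalgebra r K →
      H ≤ Geo.subalgebraNormalizer K → LinearMaximal H := fun r K hr hK hle =>
    .field r K hr (by simpa using dvd_card_of_isFieldSubalgebra hK) hK
      (eq_inf_of_maximal hH hle (specialLinear_not_le_subalgebraNormalizer hι3 hr.two_le hK))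
  have hsym : ∀ f : (Fin n → F) → (Fin n → F) → F, Geo.IsSymplecticForm f →
      H ≤ Geo.similarityGroup f → LinearMaximal H := fun f hf hle =>
    .symplectic f hf (eq_inf_of_maximal hH hle
      (specialLinear_not_le_similarityGroup hι3 (IsSesq.of_bilinear hf.bilinear) hf.nondegenerate))
  have huni : ∀ (σ : F ≃+* F) (f : (Fin n → F) → (Fin n → F) → F), Geo.IsUnitaryForm σ f →
      H ≤ Geo.similarityGroup f → LinearMaximal H := fun σ f hf hle =>
    .unitary σ f hf (eq_inf_of_maximal hH hle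
      (specialLinear_not_le_similarityGroup hι3 (IsSesq.of_unitary hf) hf.nondegenerate))
  have hqua : ∀ Q : (Fin n → F) → F, Odd (Fintype.card F) → Geo.IsNondegenerateQuadraticForm Q →
      H ≤ Geo.quadSimilarityGroup Q → LinearMaximal H := fun Q ho hQ hle =>
    .quadratic Q hQ ho (eq_inf_of_maximal hH hle fun h => specialLinear_not_le_similarityGroup hι3
      (IsSesq.of_bilinear hQ.polar_bilinear) hQ.nondegenerate (h.trans quadSimilarity_le_similarity))
  cases linear_outcome (by omega) H with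
  | reducible W h0 h1 hle => exact hsub W h0 h1 hle
  | imprimitive t m D hD hle =>
    by_cases h5 : m = 1 → 5 ≤ Fintype.card F
    · by_cases h3 : m = 2 → 3 ≤ Fintype.card F
      · exact .decomposition t m D hD (by simpa using card_eq_of_isMDecomposition hD) h5 h3
          (eq_inf_of_maximal hH hle (specialLinear_not_le_decompositionStabilizer hD))
      · obtain ⟨rfl, hq⟩ : m = 2 ∧ ¬ 3 ≤ Fintype.card F := by push Not at h3; exact ⟨h3.1, by omega⟩
        have : 1 < Fintype.card F := Fintype.one_lt_card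
        obtain ⟨f, hf, hle'⟩ := planes_two (by omega) hD hle
        exact hsym f hf hle'
    · obtain ⟨rfl, hq⟩ : m = 1 ∧ Fintype.card F ≤ 4 := by push Not at h5; exact ⟨h5.1, by omega⟩
      rcases lines_small (by omega) hq hD hle with ⟨W, h0, h1, h⟩ | ⟨Q, ho, hQ, h⟩ | ⟨σ, f, hf, h⟩
      · exact hsub W h0 h1 h
      · exact hqua Q ho hQ h
      · exact huni σ f hf h
  | field r K hr hK hle => exact hfld r K hr hK hle
  | tensor n₁ n₂ e P h2 hlt hle =>
    by_cases h3 : n₁ = 2 → 3 ≤ Fintype.card F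
    · exact .tensor n₁ n₂ e P h2 hlt (by simpa using Fintype.card_congr e) h3
        (eq_inf_of_maximal hH hle (specialLinear_not_le_tensorProductSubgroup h2 (by omega) e P))
    · obtain ⟨rfl, hq⟩ : n₁ = 2 ∧ ¬ 3 ≤ Fintype.card F := by push Not at h3; exact ⟨h3.1, by omega⟩
      have : 1 < Fintype.card F := Fintype.one_lt_card
      have : NeZero n₂ := ⟨by omega⟩
      obtain ⟨K, hK, hle'⟩ := tensor_two (by omega) e P
      exact hfld 2 K Nat.prime_two hK (hle.trans hle')
  | subfield F₀ r P hr hcard hle =>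
    exact .subfield F₀ r P hr hcard
      (eq_inf_of_maximal hH hle (specialLinear_not_le_subfieldSubgroup hι2 (subfield_ne_top hr hcard) P))
  | symplecticType r k R hnk hR hcl hle =>
    have hns : ¬ R ≤ Geo.scalars (Fin n) F := fun h => not_irr_of_le_scalars hι2 h hR.absIrred.1
    obtain ⟨h2, h3⟩ := symplecticType_field hn hR
    exact .symplecticType r k R hnk hR h2 h3
      (eq_inf_of_maximal hH hle (specialLinear_not_le_normalizer hι5 hR.absIrred hns hcl))
  | tensorPower m t e P hm ht hle =>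
    have hnm : n = m ^ t := by simpa using Fintype.card_congr e
    obtain rfl := hpow m t hm ht hnm
    exact .tensorSquare m e P hm hnm
      (eq_inf_of_maximal hH hle (specialLinear_not_le_tensorSquare (by omega) hι3 e P))
  | symplectic f hf _ hle => exact hsym f hf hle
  | unitary σ f hf hle => exact huni σ f hf hle
  | quadratic Q hQ hodd hle => exact hqua Q hodd hQ hle
  | residual h => exact .residual h

end Cfsg.Agent.Aschbacher
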