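import Cfsg.Agent.Lib.Aschbacher.FormCases

/-!
Commuting self-adjoint involutions of an alternating space span at most half the dimension, so the
extraspecial 2-groups inside symplectic groups are of minus type.
-/

set_option autoImplicit false
set_option linter.unusedSectionVars false

namespace Cfsg.Agent.Aschbacher

open Matrix
open scoped MatrixGroups

variable {ι : Type} [Fintype ι] [DecidableEq ι] {F : Type*} [Field F]

/-- Restriction of a matrix to a subspace, as a linear map. -/
def restrictTo (W : Submodule F (ι → F)) : Matrix ι ι F →ₗ[F] (W →ₗ[F] (ι → F)) where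
  toFun M := (Matrix.toLin' M).comp W.subtype
  map_add' A B := by rw [map_add, LinearMap.add_comp]
  map_smul' c A := by rw [map_smul, LinearMap.smul_comp]; rfl

theorem restrictTo_apply (W : Submodule F (ι → F)) (M : Matrix ι ι F) (w : W) :
    restrictTo W M w = M *ᵥ (w : ι → F) := Matrix.toLin'_apply _ _

theorem finrank_prod_le {V V' : Type*} [AddCommGroup V] [Module F V] [AddCommGroup V'] [Module F V']
    [FiniteDimensional F V] [FiniteDimensional F V'] (p : Submodule F V) (q : Submodule F V') :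
    Module.finrank F ↥(p.prod q) ≤ Module.finrank F p + Module.finrank F q := by
  let φ : ↥(p.prod q) →ₗ[F] ↥p × ↥q :=
    { toFun := fun x => (⟨x.1.1, x.2.1⟩, ⟨x.1.2, x.2.2⟩)
      map_add' := fun _ _ => rfl
      map_smul' := fun _ _ => rfl }
  have hφ : Function.Injective φ := fun x y hxy => by
    simp only [φ, LinearMap.coe_mk, AddHom.coe_mk, Prod.mk.injEq, Subtype.mk.injEq] at hxy
    exact Subtype.ext (Prod.ext hxy.1 hxy.2)
  exact (LinearMap.finrank_le_finrank_of_injective hφ).trans (Module.finrank_prod (R := F)).le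

/-- Commuting self-adjoint involutions of an alternating space span at most half the dimension. -/
theorem RefForm.two_mul_finrank_span_le {ε : F} {f : (ι → F) → (ι → F) → F}
    (h : RefForm (RingEquiv.refl F) ε f) (halt : ∀ v, f v v = 0) (h2 : (2 : F) ≠ 0)
    {S : Set (Matrix ι ι F)} (hsq : ∀ s ∈ S, s * s = 1) (hadj : ∀ s ∈ S, h.adj s = s)
    (hcomm : ∀ s ∈ S, ∀ t ∈ S, s * t = t * s) :
    2 * Module.finrank F (Submodule.span F S) ≤ Fintype.card ι := by
  classical
  set C := Submodule.span F S with hC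
  suffices key : ∀ (N : ℕ) (W : Submodule F (ι → F)), Module.finrank F W ≤ N → Geo.IsNondegenerateOn f W →
      (∀ s ∈ S, ∀ w ∈ W, s *ᵥ w ∈ W) → 2 * Module.finrank F (C.map (restrictTo W)) ≤ Module.finrank F W by
    have hinj : Function.Injective (restrictTo (⊤ : Submodule F (ι → F))) := fun A B hAB =>
      Matrix.ext_of_mulVec_single fun i => by
        have h1 := LinearMap.congr_fun hAB ⟨Pi.single i 1, Submodule.mem_top⟩
        rwa [restrictTo_apply, restrictTo_apply] at h1
    have hnd : Geo.IsNondegenerateOn f (⊤ : Submodule F (ι → F)) := fun w _ hw0 =>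
      ⟨(h.nondeg w hw0).1.imp fun x hx => ⟨Submodule.mem_top, hx⟩,
        (h.nondeg w hw0).2.imp fun x hx => ⟨Submodule.mem_top, hx⟩⟩
    have h1 := key _ ⊤ le_rfl hnd fun _ _ _ _ => Submodule.mem_top
    rw [← (Submodule.equivMapOfInjective _ hinj C).finrank_eq, finrank_top,
      Module.finrank_fintype_fun_eq_card] at h1
    exact h1
  intro N
  induction N with
  | zero =>
    intro W hW _ _
    have h0 : W = ⊥ := Submodule.finrank_eq_zero.1 (Nat.le_zero.1 hW)
    subst h0
    have hz : C.map (restrictTo (⊥ : Submodule F (ι → F))) = ⊥ := by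
      refine eq_bot_iff.2 ?_
      rintro _ ⟨M, -, rfl⟩
      refine (Submodule.mem_bot F).2 (LinearMap.ext fun w => ?_)
      rw [restrictTo_apply, (Submodule.mem_bot F).1 w.2, Matrix.mulVec_zero, LinearMap.zero_apply]
    rw [hz, finrank_bot]
    exact Nat.zero_le _
  | succ N ih =>
    intro W hW hnd hinv
    by_cases hsc : ∀ s ∈ S, ∃ c : F, ∀ w ∈ W, s *ᵥ w = c • w
    · by_cases hW0 : W = ⊥
      · exact (ih W (by rw [hW0, finrank_bot]; exact Nat.zero_le _) hnd hinv)
      have hle : C.map (restrictTo W) ≤ Submodule.span F {W.subtype} := by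
        rw [hC, Submodule.map_span, Submodule.span_le]
        rintro _ ⟨s, hs, rfl⟩
        obtain ⟨c, hc⟩ := hsc s hs
        refine Submodule.mem_span_singleton.2 ⟨c, LinearMap.ext fun w => ?_⟩
        rw [restrictTo_apply, hc w w.2]
        rfl
      have h1 : Module.finrank F (C.map (restrictTo W)) ≤ 1 := (Submodule.finrank_mono hle).trans
        ((finrank_span_le_card ({W.subtype} : Set (W →ₗ[F] (ι → F)))).trans (by simp))
      obtain ⟨w, hw, hw0⟩ := Submodule.exists_mem_ne_zero_of_ne_bot hW0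
      obtain ⟨x, hx, hxw⟩ := (hnd w hw hw0).2
      have h2' : 2 ≤ Module.finrank F W := by
        by_contra hlt
        have hone : Module.finrank F W = 1 := by
          have : Module.finrank F W ≠ 0 := fun h0 => hW0 (Submodule.finrank_eq_zero.1 h0)
          omega
        obtain ⟨c, hc⟩ := (finrank_eq_one_iff_of_nonzero' (⟨w, hw⟩ : W)
          (fun h0 => hw0 (congrArg Subtype.val h0))).1 hone ⟨x, hx⟩
        have hcx : c • w = x := congrArg Subtype.val hc
        exact hxw (by rw [← hcx, h.sesq.smul_right, halt, mul_zero])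
      omega
    · push Not at hsc
      obtain ⟨s, hs, hns⟩ := hsc
      have hs2 : ∀ v, s *ᵥ (s *ᵥ v) = v := fun v => by
        rw [Matrix.mulVec_mulVec, hsq s hs, Matrix.one_mulVec]
      let eig : F → Submodule F (ι → F) := fun c => W ⊓ LinearMap.ker (Matrix.toLin' s - c • LinearMap.id)
      have hmem : ∀ c v, v ∈ eig c ↔ v ∈ W ∧ s *ᵥ v = c • v := fun c v => by
        simp [eig, sub_eq_zero]
      have hsplit : ∀ w ∈ W, ∃ a ∈ eig 1, ∃ b ∈ eig (-1), a + b = w := by
        intro w hw
        refine ⟨(2 : F)⁻¹ • (w + s *ᵥ w), (hmem _ _).2 ⟨W.smul_mem _ (W.add_mem hw (hinv s hs w hw)), ?_⟩,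
          (2 : F)⁻¹ • (w - s *ᵥ w), (hmem _ _).2 ⟨W.smul_mem _ (W.sub_mem hw (hinv s hs w hw)), ?_⟩, ?_⟩
        · rw [Matrix.mulVec_smul, Matrix.mulVec_add, hs2, one_smul, add_comm (s *ᵥ w)]
        · rw [Matrix.mulVec_smul, Matrix.mulVec_sub, hs2, smul_comm, neg_one_smul, neg_sub]
        · rw [← smul_add, add_add_sub_cancel, ← two_smul F, smul_smul, inv_mul_cancel₀ h2, one_smul]
      have horth : ∀ u ∈ eig 1, ∀ v ∈ eig (-1), f u v = 0 := by
        intro u hu v hv
        have h1 := h.adj_right s u v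
        rw [hadj s hs, ((hmem _ _).1 hu).2, ((hmem _ _).1 hv).2, one_smul, h.sesq.smul_right] at h1
        have h3 : (2 : F) * f u v = 0 := by
          have h4 : f u v = -1 * f u v := h1
          linear_combination h4
        exact (mul_eq_zero.1 h3).resolve_left h2
      have hnd1 : Geo.IsNondegenerateOn f (eig 1) := by
        intro w hw hw0
        obtain ⟨x, hx, hxw⟩ := (hnd w ((hmem _ _).1 hw).1 hw0).2
        obtain ⟨a, ha, b, hb, rfl⟩ := hsplit x hx
        rw [h.sesq.add_right, horth w hw b hb, add_zero] at hxw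
        exact ⟨⟨a, ha, fun h0 => hxw (h.eq_zero_comm h0)⟩, ⟨a, ha, hxw⟩⟩
      have hnd2 : Geo.IsNondegenerateOn f (eig (-1)) := by
        intro w hw hw0
        obtain ⟨x, hx, hxw⟩ := (hnd w ((hmem _ _).1 hw).1 hw0).2
        obtain ⟨a, ha, b, hb, rfl⟩ := hsplit x hx
        rw [h.sesq.add_right, h.eq_zero_comm (horth a ha w hw), zero_add] at hxw
        exact ⟨⟨b, hb, fun h0 => hxw (h.eq_zero_comm h0)⟩, ⟨b, hb, hxw⟩⟩
      have hinv' : ∀ c, ∀ t ∈ S, ∀ w ∈ eig c, t *ᵥ w ∈ eig c := by
        intro c t ht w hw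
        obtain ⟨hwW, hsw⟩ := (hmem _ _).1 hw
        exact (hmem _ _).2 ⟨hinv t ht w hwW, by
          rw [Matrix.mulVec_mulVec, hcomm s hs t ht, ← Matrix.mulVec_mulVec, hsw, Matrix.mulVec_smul]⟩
      have hlt : ∀ c, Module.finrank F (eig c) < Module.finrank F W := by
        intro c
        refine Submodule.finrank_lt_finrank_of_lt (lt_of_le_of_ne inf_le_left fun heq => ?_)
        obtain ⟨w, hw, hwne⟩ := hns c
        exact hwne ((hmem _ _).1 (heq.symm ▸ hw : w ∈ eig c)).2
      have hdim : Module.finrank F (eig 1) + Module.finrank F (eig (-1)) = Module.finrank F W := by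
        have hsup : eig 1 ⊔ eig (-1) = W := le_antisymm (sup_le inf_le_left inf_le_left) fun w hw => by
          obtain ⟨a, ha, b, hb, rfl⟩ := hsplit w hw
          exact Submodule.add_mem_sup ha hb
        have hinf : eig 1 ⊓ eig (-1) = ⊥ := eq_bot_iff.2 fun v hv => by
          have h1 := ((hmem _ _).1 hv.1).2
          rw [((hmem _ _).1 hv.2).2, neg_one_smul, one_smul] at h1
          have h3 : (2 : F) • v = 0 := by
            rw [two_smul]; nth_rewrite 1 [← h1]; exact neg_add_cancel v
          exact (Submodule.mem_bot F).2 ((smul_eq_zero.1 h3).resolve_left h2)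
        have h1 := Submodule.finrank_sup_add_finrank_inf_eq (eig 1) (eig (-1))
        rw [hsup, hinf, finrank_bot, add_zero] at h1
        exact h1.symm
      let δ : (W →ₗ[F] (ι → F)) →ₗ[F] (eig 1 →ₗ[F] (ι → F)) × (eig (-1) →ₗ[F] (ι → F)) :=
        { toFun := fun φ => (φ.comp (Submodule.inclusion inf_le_left), φ.comp (Submodule.inclusion inf_le_left))
          map_add' := fun _ _ => by simp [LinearMap.add_comp]
          map_smul' := fun _ _ => by simp [LinearMap.smul_comp] }
      have hδ : Function.Injective δ := fun φ ψ hφψ => by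
        refine LinearMap.ext fun ⟨w, hw⟩ => ?_
        obtain ⟨a, ha, b, hb, rfl⟩ := hsplit w hw
        have h1 := LinearMap.congr_fun (congrArg Prod.fst hφψ) ⟨a, ha⟩
        have h3 := LinearMap.congr_fun (congrArg Prod.snd hφψ) ⟨b, hb⟩
        have e : (⟨a + b, hw⟩ : W) = ⟨a, ((hmem _ _).1 ha).1⟩ + ⟨b, ((hmem _ _).1 hb).1⟩ := rfl
        rw [e, map_add, map_add]
        exact congrArg₂ (· + ·) h1 h3
      have h1 : Module.finrank F (C.map (restrictTo W)) ≤
          Module.finrank F (C.map (restrictTo (eig 1))) + Module.finrank F (C.map (restrictTo (eig (-1)))) := by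
        rw [(Submodule.equivMapOfInjective δ hδ (C.map (restrictTo W))).finrank_eq]
        refine (Submodule.finrank_mono ?_).trans (finrank_prod_le _ _)
        rintro _ ⟨_, ⟨M, hM, rfl⟩, rfl⟩
        exact ⟨⟨M, hM, rfl⟩, ⟨M, hM, rfl⟩⟩
      have e1 := ih (eig 1) (by have := hlt 1; omega) hnd1 (hinv' 1)
      have e2 := ih (eig (-1)) (by have := hlt (-1); omega) hnd2 (hinv' (-1))
      omega

/-- An elementary abelian group of isometries of an alternating space whose non-scalar elements have
trace zero has order at most the dimension. -/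
theorem RefForm.card_involutions_le [Fintype F] [Nonempty ι] {ε : F} {f : (ι → F) → (ι → F) → F}
    (h : RefForm (RingEquiv.refl F) ε f) (halt : ∀ v, f v v = 0) (h2 : (2 : F) ≠ 0)
    {A : Subgroup (GL ι F)} (hA : A ≤ preserving (glToMat ι F) f) (hn0 : (Fintype.card ι : F) ≠ 0)
    (hcomm : ∀ x ∈ A, ∀ y ∈ A, x * y = y * x) (hsq : ∀ x ∈ A, x * x = 1)
    (ht : ∀ x ∈ A, x ∉ Geo.scalars ι F → (x : Matrix ι ι F).trace = 0)
    (hsc : Nat.card ((Geo.scalars ι F).subgroupOf A) ≤ 2) : Nat.card A ≤ Fintype.card ι := by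
  classical
  let S : Set (Matrix ι ι F) := (fun x : GL ι F => (x : Matrix ι ι F)) '' (A : Set (GL ι F))
  have hbound := h.two_mul_finrank_span_le halt h2 (S := S)
    (by rintro _ ⟨x, hx, rfl⟩; show (x : Matrix ι ι F) * x = 1; rw [← Units.val_mul, hsq x hx, Units.val_one])
    (by
      rintro _ ⟨x, hx, rfl⟩
      show h.adj (x : Matrix ι ι F) = _
      rw [h.adj_isometry (hA hx), show x⁻¹ = x from inv_eq_of_mul_eq_one_right (hsq x hx)])
    (by
      rintro _ ⟨x, hx, rfl⟩ _ ⟨y, hy, rfl⟩
      show (x : Matrix ι ι F) * y = y * x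
      rw [← Units.val_mul, hcomm x hx y hy, Units.val_mul])
  set Z := (Geo.scalars ι F).subgroupOf A
  have : Fintype (A ⧸ Z) := Fintype.ofFinite _
  let g : A ⧸ Z → Submodule.span F S := fun q =>
    ⟨((q.out : A) : GL ι F).val, Submodule.subset_span ⟨_, q.out.2, rfl⟩⟩
  have hli : LinearIndependent F g := by
    rw [Fintype.linearIndependent_iff]
    intro c hc q₀
    set y : GL ι F := ((q₀.out : A) : GL ι F)
    have hc' : ∑ q, c q • ((q.out : A) : GL ι F).val = 0 := by
      have := congrArg Subtype.val hc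
      simpa [g] using this
    have h1 := congrArg (fun X => (X * ((y⁻¹ : GL ι F) : Matrix ι ι F)).trace) hc'
    simp only [zero_mul, Matrix.trace_zero, Finset.sum_mul, Matrix.trace_sum, smul_mul_assoc,
      Matrix.trace_smul, smul_eq_mul] at h1
    rw [Finset.sum_eq_single q₀ (fun q _ hq => ?_) (fun hn => absurd (Finset.mem_univ q₀) hn)] at h1
    · rw [show ((q₀.out : A) : GL ι F).val * ((y⁻¹ : GL ι F) : Matrix ι ι F) = 1 from y.mul_inv,
        Matrix.trace_one] at h1
      exact (mul_eq_zero.1 h1).resolve_right hn0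
    rw [show ((q.out : A) : GL ι F).val * ((y⁻¹ : GL ι F) : Matrix ι ι F) =
      (((q.out : A) : GL ι F) * y⁻¹).val from rfl,
      ht _ (A.mul_mem q.out.2 (A.inv_mem q₀.out.2)) fun hs => hq ?_, mul_zero]
    rw [← QuotientGroup.out_eq' q, ← QuotientGroup.out_eq' q₀, eq_comm, QuotientGroup.eq]
    show ((q₀.out : A) : GL ι F)⁻¹ * ((q.out : A) : GL ι F) ∈ Geo.scalars ι F
    have h3 := Geo.scalars_normal.conj_mem _ hs y⁻¹
    simpa [y, mul_assoc] using h3
  have hq : Nat.card (A ⧸ Z) ≤ Module.finrank F (Submodule.span F S) := by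
    rw [Nat.card_eq_fintype_card]; exact hli.fintype_card_le_finrank
  calc Nat.card A = Nat.card (A ⧸ Z) * Nat.card Z := Subgroup.card_eq_card_quotient_mul_card_subgroup Z
    _ ≤ Module.finrank F (Submodule.span F S) * 2 := Nat.mul_le_mul hq hsc
    _ ≤ Fintype.card ι := by omega

end Cfsg.Agent.Aschbacher
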