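import Cfsg.Agent.Lib.Aschbacher.FormOrth
import Cfsg.Agent.Lib.Forms.Quad

/-!
The outcomes for the odd-dimensional orthogonal groups are members of the geometric classes.
-/

set_option autoImplicit false

namespace Cfsg.Agent.Aschbacher

open Matrix
open scoped MatrixGroups

theorem quadFormOdd_oddOrth {F : Type*} [Field F] [Fintype F] (hodd : Odd (Fintype.card F)) (m : ℕ) (hm : 1 ≤ m) :
    OddOrth (quadFormOdd m F) := by
  have h2 := two_ne_zero_of_odd hodd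
  have hq : (⇑(Forms.quadOdd m F) : _ → F) = quadFormOdd m F := funext Forms.quadOdd_apply
  have hcard : Fintype.card (Unit ⊕ (Fin m ⊕ Fin m)) = 2 * m + 1 := by
    rw [Fintype.card_sum, Fintype.card_sum, Fintype.card_unit, Fintype.card_fin]; omega
  refine ⟨⟨fun c v => ?_, ?_, ?_⟩, by rw [hcard]; exact ⟨m, rfl⟩, hodd, by omega, fun F₀ u hu => ?_⟩
  · rw [← hq, QuadraticMap.map_smul, smul_eq_mul, pow_two]
  · rw [← hq]; exact polar_isBilinear _
  · rw [← hq]; exact polar_nondegenerate (Forms.quadOdd_nondegenerate h2 m)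
  · exact add_mem (pow_mem (hu _) 2) (sum_mem fun i _ => mul_mem (hu _) (hu _))

theorem orth_odd_structure {F : Type*} [Field F] [Fintype F] (hodd : Odd (Fintype.card F)) (m : ℕ) (hm : 1 ≤ m)
    (H : Subgroup (GL (Unit ⊕ (Fin m ⊕ Fin m)) F)) (hH : H ≤ isometryGroup F (quadFormOdd m F)) :
    (∃ M, Geo.InOrthogonalOddClass m F M ∧ H ≤ M) ∨ Geo.InOrthogonalResidualClass H := by
  have hc : Fintype.card (Unit ⊕ (Fin m ⊕ Fin m)) = 2 * m + 1 := by
    rw [Fintype.card_sum, Fintype.card_sum, Fintype.card_unit, Fintype.card_fin]; omega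
  have hpres : H ≤ preserving (glToMat _ F) (QuadraticMap.polar (quadFormOdd m F)) := by
    intro g hg u v
    have h1 : ∀ w, quadFormOdd m F ((g : Matrix _ _ F) *ᵥ w) = quadFormOdd m F w := fun w => hH hg w w
    show quadFormOdd m F ((g : Matrix _ _ F) *ᵥ u + (g : Matrix _ _ F) *ᵥ v) - _ - _ = _
    rw [← Matrix.mulVec_add]
    show _ - quadFormOdd m F ((g : Matrix _ _ F) *ᵥ u) - quadFormOdd m F ((g : Matrix _ _ F) *ᵥ v) = _
    rw [h1, h1, h1]
    rfl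
  cases orth_outcome (quadFormOdd_oddOrth hodd m hm) hpres with
  | totallySingular W h0 hts hle => exact Or.inl ⟨_, Or.inl ⟨W, h0, hts, rfl⟩, le_inf hle hH⟩
  | nondegenerate W h0 h1 hnd hle =>
    exact Or.inl ⟨_, Or.inr <| Or.inl ⟨W, h0, h1, hnd, rfl⟩, le_inf hle hH⟩
  | decomposition t k D hk hD hle =>
    exact Or.inl ⟨_, Or.inr <| Or.inr <| Or.inl ⟨t, k, D, hk, hD, rfl⟩, le_inf hle hH⟩
  | lineDecomposition t D hp hD hle =>
    exact Or.inl ⟨_, Or.inr <| Or.inr <| Or.inr <| Or.inl ⟨t, D, hp, hD, rfl⟩, le_inf hle hH⟩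
  | selfAdjointField r K hr hne hK hsa hle =>
    exact Or.inl ⟨_, Or.inr <| Or.inr <| Or.inr <| Or.inr <| Or.inl
      ⟨r, K, hr, hc ▸ hne, hK, hsa, rfl⟩, le_inf hle hH⟩
  | tensor n₁ n₂ e P f₁ f₂ h3 hlt hf₁ hf₂ hstr hle =>
    exact Or.inl ⟨_, Or.inr <| Or.inr <| Or.inr <| Or.inr <| Or.inr <| Or.inl
      ⟨n₁, n₂, e, P, f₁, f₂, h3, hlt, hf₁, hf₂, hstr, rfl⟩, le_inf hle hH⟩
  | subfield F₀ r P hr hcard hrat hle =>
    exact Or.inl ⟨_, Or.inr <| Or.inr <| Or.inr <| Or.inr <| Or.inr <| Or.inr <| Or.inl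
      ⟨F₀, r, P, hr, hcard, hrat, rfl⟩, le_inf hle hH⟩
  | tensorPower k t e P f₁ hk ht hex hf₁ hstr hle =>
    exact Or.inl ⟨_, Or.inr <| Or.inr <| Or.inr <| Or.inr <| Or.inr <| Or.inr <| Or.inr
      ⟨k, t, e, P, f₁, hk, ht, hex, hf₁, hstr, rfl⟩, le_inf hle hH⟩
  | residual hres => exact Or.inr hres

end Cfsg.Agent.Aschbacher
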