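import Cfsg.Agent.Lib.Aschbacher.UnitarySubfield

/-!
An absolutely irreducible group of isometries realised over a subfield of prime index: the rational structure
can be scaled so that the Hermitian form takes values in the subfield.
-/

set_option autoImplicit false

namespace Cfsg.Agent.Aschbacher

open Matrix
open scoped MatrixGroups

variable {ι : Type} [Fintype ι] [DecidableEq ι] {F : Type*} [Field F] [Fintype F]
  {q : ℕ} {σ : F ≃+* F} {f : (ι → F) → (ι → F) → F}

/-- The sesquilinear form of a matrix. -/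
def matForm (σ : F ≃+* F) (M : Matrix ι ι F) (u v : ι → F) : F :=
  u ⬝ᵥ (M *ᵥ fun i => σ (v i))

theorem matForm_isSesq (σ : F ≃+* F) (M : Matrix ι ι F) : IsSesq σ.toRingHom (matForm σ M) where
  add_left x y v := by simp [matForm, add_dotProduct]
  smul_left c x v := by simp [matForm, smul_dotProduct]
  add_right v x y := by
    simp only [matForm, Pi.add_apply, map_add]
    rw [show (fun i => σ (x i) + σ (y i)) = (fun i => σ (x i)) + fun i => σ (y i) from rfl,
      Matrix.mulVec_add, dotProduct_add]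
  smul_right c v x := by
    simp only [matForm, Pi.smul_apply, smul_eq_mul, map_mul]
    rw [show (fun i => σ c * σ (x i)) = σ c • fun i => σ (x i) from rfl,
      Matrix.mulVec_smul, dotProduct_smul]
    rfl

omit [Fintype F] in
theorem matForm_mulVec (σ : F ≃+* F) (M x : Matrix ι ι F) (u v : ι → F) :
    matForm σ M (x *ᵥ u) (x *ᵥ v) = matForm σ (xᵀ * M * x.map σ) u v := by
  have h : (fun i => σ ((x *ᵥ v) i)) = x.map σ *ᵥ fun i => σ (v i) := by
    funext i
    exact RingHom.map_mulVec σ.toRingHom x v i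
  simp only [matForm, h]
  rw [Matrix.mul_assoc, ← Matrix.mulVec_mulVec (M := xᵀ), Matrix.dotProduct_mulVec u xᵀ,
    Matrix.vecMul_transpose, Matrix.mulVec_mulVec]

omit [Fintype F] in
theorem matForm_single (σ : F ≃+* F) (M : Matrix ι ι F) (i j : ι) :
    matForm σ M (Pi.single i 1) (Pi.single j 1) = M i j := by
  have h : (fun k => σ ((Pi.single j 1 : ι → F) k)) = Pi.single j 1 := by
    funext k
    by_cases hk : k = j
    · subst hk; simp
    · simp [hk]
  simp [matForm, h]

/-- Scaling and rationality; only index two needs odd dimension. -/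
theorem Herm.exists_formRational_of [Nonempty ι] (h : Herm q σ f) {r : ℕ}
    (hodd : r = 2 → Odd (Fintype.card ι)) (hι : 2 ≤ Fintype.card ι)
    {N H : Subgroup (GL ι F)} (hN : AbsIrr N) (hfN : Geo.FixesForm (Geo.matrixSet N) f)
    (hn : NormalIn H N) {F₀ : Subfield F} (hr : r.Prime)
    (hcard : Fintype.card F = Nat.card F₀ ^ r) {B : GL ι F}
    (hB : ∀ s ∈ Geo.matrixSet N, ∀ i j,
      ((B : Matrix ι ι F) * s * ((B⁻¹ : GL ι F) : Matrix ι ι F)) i j ∈ F₀) :
    ∃ P : GL ι F, H ≤ Geo.subfieldSubgroup F₀ P ∧ Geo.IsFormRationalStructure f F₀ 1 P ∧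
      (r = 2 → Odd q) := by
  classical
  haveI : Fintype F₀ := Fintype.ofFinite _
  set P₀ : GL ι F := B⁻¹ with hP₀
  let G : Matrix ι ι F := Matrix.of fun i j =>
    f ((P₀ : Matrix ι ι F) *ᵥ Pi.single i 1) ((P₀ : Matrix ι ι F) *ᵥ Pi.single j 1)
  have hG : ∀ u v, f ((P₀ : Matrix ι ι F) *ᵥ u) ((P₀ : Matrix ι ι F) *ᵥ v) = matForm σ G u v := by
    intro u v
    let φ : (ι → F) → (ι → F) →ₗ[F] F := fun w =>
      { toFun := fun u => f ((P₀ : Matrix ι ι F) *ᵥ u) w
        map_add' := fun x y => by rw [Matrix.mulVec_add, h.sesq.add_left]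
        map_smul' := fun c x => by rw [Matrix.mulVec_smul, h.sesq.smul_left]; rfl }
    let ψ : (ι → F) → (ι → F) →+ F := fun w =>
      { toFun := fun v => f w ((P₀ : Matrix ι ι F) *ᵥ v)
        map_zero' := by rw [Matrix.mulVec_zero, h.zero_right]
        map_add' := fun x y => by rw [Matrix.mulVec_add, h.sesq.add_right] }
    show φ ((P₀ : Matrix ι ι F) *ᵥ v) u = _
    conv_lhs => rw [pi_eq_sum_univ' u, map_sum]
    simp only [map_smul, smul_eq_mul]
    refine Finset.sum_congr rfl fun i _ => ?_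
    congr 1
    show ψ ((P₀ : Matrix ι ι F) *ᵥ Pi.single i 1) v = (G *ᵥ fun k => σ (v k)) i
    conv_lhs => rw [pi_eq_sum_univ' v, map_sum]
    refine Finset.sum_congr rfl fun j _ => ?_
    show f _ ((P₀ : Matrix ι ι F) *ᵥ (v j • Pi.single j 1)) = G i j * σ (v j)
    rw [Matrix.mulVec_smul, h.sesq.smul_right, mul_comm]
    rfl
  have hdetG : G.det ≠ 0 := by
    intro h0
    obtain ⟨w, hw0, hw⟩ := Matrix.exists_vecMul_eq_zero_iff.2 h0
    obtain ⟨x, hx⟩ := (h.form.nondegenerate _ (mt (mulVec_eq_zero_iff P₀).1 hw0)).2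
    apply hx
    rw [← mulVec_inv P₀ x, hG]
    rw [matForm, Matrix.dotProduct_mulVec, hw, zero_dotProduct]
  have hσF₀ : ∀ {x : F}, x ∈ F₀ → σ x ∈ F₀ := fun {x} hx => by rw [h.apply_eq]; exact pow_mem hx q
  let φ : F →ₐ[F₀] F := FiniteField.frobeniusAlgHom F₀ F
  have hφF₀ : ∀ {x : F}, x ∈ F₀ → φ x = x := fun {x} hx => φ.commutes ⟨x, hx⟩
  have hφfix : ∀ {x : F}, φ x = x → x ∈ F₀ := fun {x} hx => mem_subfield_of_pow_eq (by
    simpa [φ, Nat.card_eq_fintype_card] using hx)
  have hφσ : ∀ x, φ (σ x) = σ (φ x) := fun x => by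
    rw [h.apply_eq, h.apply_eq, map_pow]
  -- invariance of `G` under the rational group
  have hinv : ∀ x ∈ N, ∃ x₀ : Matrix ι ι F, (∀ i j, x₀ i j ∈ F₀) ∧ x₀ᵀ * G * x₀.map σ = G ∧
      (x : Matrix ι ι F) * (P₀ : Matrix ι ι F) = (P₀ : Matrix ι ι F) * x₀ := by
    intro x hx
    refine ⟨(B : Matrix ι ι F) * (x : Matrix ι ι F) * (P₀ : Matrix ι ι F),
      hB _ ⟨x, hx, rfl⟩, ?_, by
        rw [hP₀, mul_assoc ((B : Matrix ι ι F)), ← mul_assoc _ (B : Matrix ι ι F), Units.inv_mul, one_mul]⟩
    ext i j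
    rw [← matForm_single σ (_ * G * _), ← matForm_mulVec, ← hG, ← matForm_single σ G, ← hG]
    simp only [← Matrix.mulVec_mulVec, hP₀, inv_mulVec]
    exact hfN _ ⟨x, hx, rfl⟩ _ _
  -- the conjugate form is proportional
  obtain ⟨l, hl⟩ := hN.form_unique h.sesq h.form.nondegenerate
    (g := fun u v => matForm σ (G.map φ) ((B : Matrix ι ι F) *ᵥ u) ((B : Matrix ι ι F) *ᵥ v))
    ⟨fun x y v => by rw [Matrix.mulVec_add, (matForm_isSesq σ _).add_left],
      fun c x v => by rw [Matrix.mulVec_smul, (matForm_isSesq σ _).smul_left],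
      fun v x y => by rw [Matrix.mulVec_add, (matForm_isSesq σ _).add_right],
      fun c v x => by rw [Matrix.mulVec_smul, (matForm_isSesq σ _).smul_right]⟩ hfN (by
      rintro s ⟨x, hx, rfl⟩ u v
      obtain ⟨x₀, hx₀, hinv₀, hxP⟩ := hinv x hx
      have hBx : ∀ w, (B : Matrix ι ι F) *ᵥ ((x : Matrix ι ι F) *ᵥ w) =
          x₀ *ᵥ ((B : Matrix ι ι F) *ᵥ w) := by
        intro w
        rw [Matrix.mulVec_mulVec, Matrix.mulVec_mulVec]
        congr 1
        calc (B : Matrix ι ι F) * (x : Matrix ι ι F)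
            = (B : Matrix ι ι F) * ((x : Matrix ι ι F) * (P₀ : Matrix ι ι F)) * (B : Matrix ι ι F) := by
              simp [hP₀, mul_assoc]
          _ = x₀ * (B : Matrix ι ι F) := by rw [hxP]; simp [hP₀, ← mul_assoc]
      show matForm σ _ _ _ = matForm σ _ _ _
      rw [hBx, hBx, matForm_mulVec]
      congr 1
      have h0 : x₀.map φ = x₀ := Matrix.ext fun i j => hφF₀ (hx₀ i j)
      have h1 : (x₀.map σ).map φ = x₀.map σ := Matrix.ext fun i j => hφF₀ (hσF₀ (hx₀ i j))
      calc x₀ᵀ * G.map φ * x₀.map σ = (x₀.map φ)ᵀ * G.map φ * (x₀.map σ).map φ := by rw [h0, h1]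
        _ = (x₀ᵀ * G * x₀.map σ).map φ := by rw [Matrix.map_mul, Matrix.map_mul, Matrix.transpose_map]
        _ = G.map φ := by rw [hinv₀])
  have hφG : ∀ i j, φ (G i j) = l * G i j := by
    intro i j
    have h1 := hl ((P₀ : Matrix ι ι F) *ᵥ Pi.single i 1) ((P₀ : Matrix ι ι F) *ᵥ Pi.single j 1)
    simp only [hP₀, mulVec_inv, matForm_single, Matrix.map_apply] at h1
    exact h1
  obtain ⟨i₀, j₀, hne⟩ : ∃ i j, G i j ≠ 0 := by
    by_contra hc
    push Not at hc
    exact hdetG (by rw [show G = 0 from Matrix.ext hc, Matrix.det_zero])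
  set a := G i₀ j₀ with ha
  have hl0 : l ≠ 0 := by
    intro h0
    have := hφG i₀ j₀
    rw [h0, zero_mul] at this
    exact hne (φ.toRingHom.injective (this.trans (map_zero _).symm))
  have hG₀ : ∀ i j, G i j / a ∈ F₀ := fun i j => hφfix (by
    rw [map_div₀, hφG, hφG, mul_div_mul_left _ _ hl0])
  have hherm : ∀ i j, G j i = σ (G i j) := fun i j => h.form.herm _ _
  set ε := σ a / a with hε
  have hσa0 : σ a ≠ 0 := by simpa using hne
  have hε₀ : ε ∈ F₀ := by
    rw [hε, ha, ← hherm]
    exact hG₀ j₀ i₀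
  have hεn : ε * σ ε = 1 := by
    rw [hε, map_div₀, h.form.involutive]
    field_simp
  -- `d = a x` in `F₀` with `x` fixed
  have key : ∃ x : F, x ≠ 0 ∧ σ x = x ∧ a * x ∈ F₀ ∧ (r = 2 → Odd q) := by
    by_cases hr2 : r = 2
    · subst hr2
      have hF0 : Fintype.card F₀ = q := by
        rw [Nat.card_eq_fintype_card, h.card] at hcard
        exact (Nat.pow_left_injective two_ne_zero hcard).symm
      have hσ0 : ∀ x ∈ F₀, σ x = x := fun x hx => by
        have := congrArg Subtype.val (FiniteField.pow_card (⟨x, hx⟩ : F₀))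
        rw [hF0, SubmonoidClass.coe_pow] at this
        rw [h.apply_eq]
        exact this
      have hεfix := hσ0 ε hε₀
      rw [hεfix] at hεn
      have hGt : Gᵀ = ε • G := by
        ext i j
        have h1 := hσ0 _ (hG₀ i j)
        rw [map_div₀, ← hherm, div_eq_iff hσa0] at h1
        rw [Matrix.transpose_apply, Matrix.smul_apply, smul_eq_mul, h1, hε]
        field_simp
      have hε1 : ε = 1 := by
        have h1 := congrArg Matrix.det hGt
        rw [Matrix.det_transpose, Matrix.det_smul] at h1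
        obtain ⟨m, hm⟩ := hodd rfl
        rw [hm, pow_succ, pow_mul, pow_two, hεn, one_pow, one_mul] at h1
        exact mul_right_cancel₀ hdetG (h1.symm.trans (one_mul _).symm)
      have haF : a ∈ F₀ := by
        refine mem_subfield_of_pow_eq ?_
        rw [Nat.card_eq_fintype_card, hF0, ← h.apply_eq]
        rw [hε, div_eq_one_iff_eq hne] at hε1
        exact hε1
      refine ⟨1, one_ne_zero, map_one _, by rwa [mul_one], fun _ => ?_⟩
      by_contra hev
      haveI : CharP F 2 := ringChar.of_eq (FiniteField.even_card_iff_char_two.2 (by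
        rw [h.card, Nat.pow_mod, Nat.even_iff.1 (Nat.not_odd_iff_even.1 hev)]))
      haveI : CharP F₀ 2 := ⟨fun x => by
        rw [← CharP.cast_eq_zero_iff F 2 x]
        exact ⟨fun hx => by simpa using congrArg F₀.subtype hx,
          fun hx => Subtype.ext (by simpa using hx)⟩⟩
      have hGF : ∀ i j, G i j ∈ F₀ := fun i j => by
        have := mul_mem (hG₀ i j) haF
        rwa [div_mul_cancel₀ _ hne] at this
      have hGsym : ∀ i j, G j i = G i j := fun i j => by
        have h1 := congrFun (congrFun hGt i) j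
        rw [hε1, one_smul, Matrix.transpose_apply] at h1
        exact h1
      choose s hs using fun i => FiniteField.isSquare_of_char_two (F := F₀) (ringChar.eq F₀ 2)
        ⟨G i i, hGF i i⟩
      let S : ι → F := fun i => (s i : F)
      have hS : ∀ i, G i i = S i * S i := fun i => congrArg Subtype.val (hs i)
      -- on rational vectors the form is the square of a functional
      have hquad : ∀ u : ι → F, (∀ i, u i ∈ F₀) → matForm σ G u u = (S ⬝ᵥ u) * (S ⬝ᵥ u) := by
        intro u hu
        have hu' : (fun i => σ (u i)) = u := funext fun i => hσ0 _ (hu i)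
        rw [matForm, hu']
        simp only [dotProduct, Matrix.mulVec, Finset.mul_sum, Finset.sum_mul]
        rw [← Finset.sum_product', ← Finset.sum_product', ← sub_eq_zero, ← Finset.sum_sub_distrib]
        refine Finset.sum_involution (fun p _ => (p.2, p.1)) ?_ ?_ (fun _ _ => by simp) (fun _ _ => rfl)
        · rintro ⟨i, j⟩ -
          have h2 : (2 : F) = 0 := CharTwo.two_eq_zero
          simp only
          linear_combination (u j * u i) * hGsym i j + (u i * u j * G i j - S i * u i * (S j * u j)) * h2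
        · rintro ⟨i, j⟩ - hne' heq
          obtain rfl : j = i := (Prod.ext_iff.1 heq).1
          apply hne'
          simp only [hS]
          ring
      by_cases hS0 : S = 0
      · refine hdetG (det_alternating_eq_zero G (fun i => by rw [hS, congrFun hS0 i]; simp) (fun i j => ?_)
          (hodd rfl))
        rw [hGsym i j, CharTwo.neg_eq]
      have hfun : ∀ x ∈ N, ∀ w : ι → F,
          S ⬝ᵥ ((B : Matrix ι ι F) *ᵥ ((x : Matrix ι ι F) *ᵥ w)) = S ⬝ᵥ ((B : Matrix ι ι F) *ᵥ w) := by
        intro x hx w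
        obtain ⟨x₀, hx₀, hinv₀, hxP⟩ := hinv x hx
        have hBx : (B : Matrix ι ι F) *ᵥ ((x : Matrix ι ι F) *ᵥ w) =
            x₀ *ᵥ ((B : Matrix ι ι F) *ᵥ w) := by
          rw [Matrix.mulVec_mulVec, Matrix.mulVec_mulVec]
          congr 1
          calc (B : Matrix ι ι F) * (x : Matrix ι ι F)
              = (B : Matrix ι ι F) * ((x : Matrix ι ι F) * (P₀ : Matrix ι ι F)) * (B : Matrix ι ι F) := by
                simp [hP₀, mul_assoc]
            _ = x₀ * (B : Matrix ι ι F) := by rw [hxP]; simp [hP₀, ← mul_assoc]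
        have hx₀S : S ᵥ* x₀ = S := by
          funext j
          have h1 := hquad (fun k => x₀ k j) (fun k => hx₀ k j)
          have h2 := hquad (Pi.single j 1) (fun k => by
            by_cases hk : k = j
            · subst hk; simp [one_mem]
            · simp [hk, zero_mem])
          rw [show (fun k => x₀ k j) = x₀ *ᵥ Pi.single j 1 by funext k; simp, matForm_mulVec, hinv₀, h2]
            at h1
          rw [dotProduct_single, mul_one] at h1
          rcases mul_self_eq_mul_self_iff.1 h1 with h3 | h3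
          · rw [h3, Matrix.dotProduct_mulVec, dotProduct_single, mul_one]
          · rw [h3, CharTwo.neg_eq, Matrix.dotProduct_mulVec, dotProduct_single, mul_one]
        rw [hBx, Matrix.dotProduct_mulVec, hx₀S]
      let K : Submodule F (ι → F) :=
        { carrier := {w | S ⬝ᵥ ((B : Matrix ι ι F) *ᵥ w) = 0}
          zero_mem' := by simp
          add_mem' := fun {u v} hu hv => by
            show S ⬝ᵥ _ = 0
            rw [Matrix.mulVec_add, dotProduct_add, show S ⬝ᵥ _ = 0 from hu, show S ⬝ᵥ _ = 0 from hv,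
              add_zero]
          smul_mem' := fun c u hu => by
            show S ⬝ᵥ _ = 0
            rw [Matrix.mulVec_smul, dotProduct_smul, show S ⬝ᵥ _ = 0 from hu, smul_zero] }
      have hK : Invariant N K := fun x hx w hw => by
        show S ⬝ᵥ _ = 0
        rw [hfun x hx w]; exact hw
      rcases irr_iff.1 hN.1 K hK with hbot | htop
      · have h1 : Function.Injective ({ toFun := fun w => S ⬝ᵥ ((B : Matrix ι ι F) *ᵥ w)
                                        map_add' := fun x y => by rw [Matrix.mulVec_add, dotProduct_add]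
                                        map_smul' := fun c x => by
                                          rw [Matrix.mulVec_smul, dotProduct_smul]; rfl } :
            (ι → F) →ₗ[F] F) := by
          rw [injective_iff_map_eq_zero]
          intro w hw
          have : w ∈ K := hw
          rwa [hbot, Submodule.mem_bot] at this
        have h2 := LinearMap.finrank_le_finrank_of_injective h1
        simp [Module.finrank_fintype_fun_eq_card] at h2
        omega
      · apply hS0
        funext j
        have : ((B⁻¹ : GL ι F) : Matrix ι ι F) *ᵥ Pi.single j 1 ∈ K := htop ▸ Submodule.mem_top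
        have h1 : S ⬝ᵥ ((B : Matrix ι ι F) *ᵥ _) = 0 := this
        rw [mulVec_inv, dotProduct_single, mul_one] at h1
        simpa using h1
    · -- `r` odd
      obtain ⟨z, hz, hσz⟩ : ∃ z ∈ F₀, σ z ≠ z := by
        by_contra hcon
        push Not at hcon
        obtain ⟨p, k, hp, hpC, hk, hq, hcardp⟩ := exists_frob h.card
        haveI := hpC
        haveI : Fact p.Prime := ⟨hp⟩
        obtain ⟨m, -, hm⟩ := (Nat.dvd_prime_pow hp).1 (show Nat.card F₀ ∣ p ^ (2 * k) from
          hcardp ▸ hcard ▸ dvd_pow_self _ hr.ne_zero)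
        rw [hcardp, hm, ← pow_mul] at hcard
        have hmr := Nat.pow_right_injective hp.two_le hcard
        obtain ⟨g, hg⟩ := IsCyclic.exists_ofOrder_eq_natCard (α := F₀ˣ)
        rw [Nat.card_units, hm] at hg
        have h1 : g ^ (q - 1) = 1 := by
          refine Units.ext (Subtype.ext ?_)
          have h2 := hcon ((g : F₀) : F) (g : F₀).2
          rw [h.apply_eq] at h2
          rw [Units.val_pow_eq_pow_val, SubmonoidClass.coe_pow]
          have h3 : ((g : F₀) : F) ^ (q - 1) * ((g : F₀) : F) = 1 * ((g : F₀) : F) := by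
            rw [← pow_succ, Nat.sub_add_cancel (one_lt_q h.card).le, one_mul, h2]
          exact mul_right_cancel₀ (by simp) h3
        have h2 : p ^ m - 1 ∣ p ^ k - 1 := by
          rw [← hq, ← hg]; exact orderOf_dvd_of_pow_eq_one h1
        have h3 : p ^ Nat.gcd m k - 1 = p ^ m - 1 := by
          rw [← Nat.pow_sub_one_gcd_pow_sub_one, Nat.gcd_eq_left h2]
        have hgm : Nat.gcd m k = m := Nat.pow_right_injective hp.two_le (by
          show p ^ Nat.gcd m k = p ^ m
          have h4 := Nat.one_le_pow (Nat.gcd m k) p hp.pos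
          have h5 := Nat.one_le_pow m p hp.pos
          omega)
        obtain ⟨j, hj⟩ := Nat.gcd_eq_left_iff_dvd.1 hgm
        have hm0 : 0 < m := by
          rcases Nat.eq_zero_or_pos m with rfl | h0
          · simp at hj; omega
          · exact h0
        rw [hj] at hmr
        have h4 : 2 ∣ r := ⟨j, Nat.eq_of_mul_eq_mul_left hm0 (by rw [← hmr]; ring)⟩
        exact hr2 ((Nat.prime_dvd_prime_iff_eq Nat.prime_two hr).1 h4).symm
      have hε0 : ε ≠ 0 := div_ne_zero hσa0 hne
      have hσεinv : σ ε⁻¹ = ε := by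
        rw [map_inv₀]
        exact inv_eq_of_mul_eq_one_left hεn
      obtain ⟨w, hw, hw0⟩ : ∃ w ∈ F₀, w + ε⁻¹ * σ w ≠ 0 := by
        by_cases h1 : 1 + ε⁻¹ * σ 1 = 0
        · refine ⟨z, hz, fun h2 => hσz ?_⟩
          rw [map_one, mul_one] at h1
          have : ε⁻¹ = -1 := by linear_combination h1
          rw [this] at h2
          linear_combination -h2
        · exact ⟨1, one_mem _, h1⟩
      set d := w + ε⁻¹ * σ w with hd
      have hσd : σ d = ε * d := by
        rw [hd, map_add, map_mul, hσεinv, h.form.involutive, mul_add, ← mul_assoc,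
          mul_inv_cancel₀ hε0, one_mul]
        ring
      refine ⟨d / a, div_ne_zero hw0 hne, ?_, ?_, fun h2 => absurd h2 hr2⟩
      · rw [map_div₀, hσd, hε]
        field_simp
      · rw [mul_div_cancel₀ _ hne]
        exact add_mem hw (mul_mem (inv_mem hε₀) (hσF₀ hw))
  obtain ⟨x, hx0, hσx, hax, hoddq⟩ := key
  obtain ⟨μ, hμ⟩ := h.exists_norm hx0 hσx
  have hμ0 : μ ≠ 0 := by rintro rfl; rw [zero_mul] at hμ; exact hx0 hμ.symm
  let z : GL ι F := Units.map (Matrix.scalar ι : F →+* Matrix ι ι F).toMonoidHom (Units.mk0 μ hμ0)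
  have hzs : z ∈ Geo.scalars ι F := ⟨_, rfl⟩
  refine ⟨z * P₀, ?_, ?_, hoddq⟩
  · have hconj : (MulAut.conj (z * P₀)).toMonoidHom = (MulAut.conj P₀).toMonoidHom := by
      refine MonoidHom.ext fun g => ?_
      show z * P₀ * g * (z * P₀)⁻¹ = P₀ * g * P₀⁻¹
      rw [_root_.mul_inv_rev, show z * P₀ * g * (P₀⁻¹ * z⁻¹) = z * (P₀ * g * P₀⁻¹) * z⁻¹ by group,
        scalar_comm hzs, mul_inv_cancel_right]
    unfold Geo.subfieldSubgroup
    rw [hconj]
    exact hN.le_subfieldSubgroup hB hn
  · intro u v hu hv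
    rw [one_mul]
    have hz' : ∀ w : ι → F, ((z * P₀ : GL ι F) : Matrix ι ι F) *ᵥ w = μ • ((P₀ : Matrix ι ι F) *ᵥ w) := by
      intro w
      rw [mulVec_mul]
      show Matrix.scalar ι μ *ᵥ _ = _
      rw [Matrix.scalar_apply, ← Matrix.smul_one_eq_diagonal, Matrix.smul_mulVec, Matrix.one_mulVec]
    rw [hz', hz', h.sesq.smul_left, h.sesq.smul_right, hG]
    simp only [matForm, dotProduct, Matrix.mulVec, Finset.mul_sum]
    refine sum_mem fun i _ => sum_mem fun j _ => ?_
    show μ * (σ μ * (u i * (G i j * σ (v j)))) ∈ F₀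
    rw [show μ * (σ μ * (u i * (G i j * σ (v j)))) = u i * (a * x * (G i j / a)) * σ (v j) by
      rw [← hμ]; field_simp]
    exact mul_mem (mul_mem (hu i) (mul_mem hax (hG₀ i j))) (hσF₀ (hv j))

/-- Scaling and rationality in odd dimension. -/
theorem Herm.exists_formRational [Nonempty ι] (h : Herm q σ f) (hodd : Odd (Fintype.card ι))
    (hι : 2 ≤ Fintype.card ι) {N H : Subgroup (GL ι F)} (hN : AbsIrr N)
    (hfN : Geo.FixesForm (Geo.matrixSet N) f) (hn : NormalIn H N) {F₀ : Subfield F} {r : ℕ} (hr : r.Prime)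
    (hcard : Fintype.card F = Nat.card F₀ ^ r) {B : GL ι F}
    (hB : ∀ s ∈ Geo.matrixSet N, ∀ i j,
      ((B : Matrix ι ι F) * s * ((B⁻¹ : GL ι F) : Matrix ι ι F)) i j ∈ F₀) :
    ∃ P : GL ι F, H ≤ Geo.subfieldSubgroup F₀ P ∧ Geo.IsFormRationalStructure f F₀ 1 P ∧
      (r = 2 → Odd q) :=
  h.exists_formRational_of (fun _ => hodd) hι hN hfN hn hr hcard hB

end Cfsg.Agent.Aschbacher
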