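import Cfsg.Agent.Lib.Aschbacher.OrthBasic
import Cfsg.Agent.Lib.Aschbacher.UnitaryRational

/-!
Rational structures carrying a quadratic form in odd dimension, and the Hermitian structure of an abstract
unitary form.
-/

set_option autoImplicit false

namespace Cfsg.Agent.Aschbacher

open Matrix
open scoped MatrixGroups
open Cfsg.Agent.MaxCl
open Cfsg.Agent.MaxCl.Orth

variable {ι : Type} [Fintype ι] [DecidableEq ι] {F : Type*} [Field F] [Fintype F]

/-- A unitary form over a finite field is Hermitian for some `q`. -/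
theorem exists_herm {σ : F ≃+* F} {f : (ι → F) → (ι → F) → F} (hf : Geo.IsUnitaryForm σ f) :
    Herm (Nat.card (fixedField σ)) σ f := by
  classical
  obtain ⟨z, hz⟩ : ∃ z : F, σ z ≠ z := by
    by_contra hcon
    push Not at hcon
    exact hf.ne_refl (RingEquiv.ext hcon)
  have hz0 : z - σ z ≠ 0 := sub_ne_zero.2 (Ne.symm hz)
  let y : F → F := fun a => (a - σ a) / (z - σ z)
  have hy : ∀ a, y a ∈ fixedField σ := fun a => mem_fixedField.2 (by
    simp only [y, map_div₀, map_sub, hf.involutive]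
    rw [← neg_div_neg_eq, neg_sub, neg_sub])
  have hx : ∀ a, a - y a * z ∈ fixedField σ := fun a => mem_fixedField.2 (by
    rw [map_sub, map_mul, mem_fixedField.1 (hy a)]
    simp only [y]
    field_simp
    ring)
  let e : fixedField σ × fixedField σ ≃ F :=
    { toFun := fun c => (c.1 : F) + (c.2 : F) * z
      invFun := fun a => (⟨_, hx a⟩, ⟨_, hy a⟩)
      left_inv := fun c => by
        have h1 : y ((c.1 : F) + (c.2 : F) * z) = c.2 := by
          simp only [y, map_add, map_mul, mem_fixedField.1 c.1.2, mem_fixedField.1 c.2.2]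
          field_simp
          ring
        refine Prod.ext (Subtype.ext ?_) (Subtype.ext h1)
        simp only [h1, add_sub_cancel_right]
      right_inv := fun a => sub_add_cancel a _ }
  have hcard : Fintype.card F = Nat.card (fixedField σ) ^ 2 := by
    rw [← Nat.card_eq_fintype_card, ← Nat.card_congr e, Nat.card_prod, pow_two]
  refine ⟨hcard, fun a => ?_, hf⟩
  haveI : Fintype (fixedField σ) := Fintype.ofFinite _
  set q := Nat.card (fixedField σ)
  have hq : ∀ c ∈ fixedField σ, c ^ q = c := fun c hc => by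
    have := congrArg Subtype.val (FiniteField.pow_card (⟨c, hc⟩ : fixedField σ))
    rwa [SubmonoidClass.coe_pow, ← Nat.card_eq_fintype_card] at this
  -- `a` and its image are roots of a quadratic over the fixed field
  have hs : a + σ a ∈ fixedField σ :=
    mem_fixedField.2 (by rw [map_add, hf.involutive, add_comm])
  have hn : a * σ a ∈ fixedField σ :=
    mem_fixedField.2 (by rw [map_mul, hf.involutive, mul_comm])
  obtain ⟨p, hpC⟩ := CharP.exists F
  haveI := hpC
  obtain ⟨e', hp, he⟩ := FiniteField.card F p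
  haveI : Fact p.Prime := ⟨hp⟩
  obtain ⟨m, -, hm⟩ := (Nat.dvd_prime_pow hp).1 (show q ∣ p ^ (e' : ℕ) from
    he ▸ hcard ▸ dvd_pow_self q two_ne_zero)
  have hadd : ∀ u v : F, (u + v) ^ q = u ^ q + v ^ q := fun u v => by rw [hm]; exact add_pow_char_pow u v p m
  have h1 : (a ^ q - a) * (a ^ q - σ a) = 0 := by
    have h2 : (a + σ a) * a = a * a + a * σ a := by ring
    have h3 := congrArg (fun c : F => c ^ q) h2
    simp only [mul_pow, hadd] at h3
    rw [← mul_pow a (σ a), hq _ hn, ← hadd, hq _ hs] at h3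
    linear_combination -h3
  rcases mul_eq_zero.1 h1 with h | h
  · rw [sub_eq_zero] at h
    rw [h]
    have : a ∈ fixedField σ := mem_subfield_of_pow_eq (by
      rwa [show Nat.card (fixedField σ) = q from rfl])
    exact mem_fixedField.1 this
  · exact (sub_eq_zero.1 h).symm

variable {Q : QuadraticForm F (ι → F)}

set_option quotPrecheck false in
local notation "B" => QuadraticMap.polar (⇑Q)

/-- In odd dimension a rational structure on which the polar form is rational up to a scalar can be scaled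
so that the quadratic form is rational. -/
theorem exists_quadRational_of_gram (hQ : (QuadraticMap.polarBilin Q).Nondegenerate)
    (hodd : Odd (Fintype.card ι)) (h2 : (2 : F) ≠ 0) {F₀ : Subfield F}
    (hint : ∀ i j, B (Pi.single i 1) (Pi.single j 1) ∈ F₀) {P : GL ι F} {a : F} (ha : a ≠ 0)
    (hG : ∀ i j, B ((P : Matrix ι ι F) *ᵥ Pi.single i 1) ((P : Matrix ι ι F) *ᵥ Pi.single j 1) / a ∈ F₀) :
    ∃ P' : GL ι F, Geo.subfieldSubgroup F₀ P' = Geo.subfieldSubgroup F₀ P ∧
      Geo.IsQuadFormRationalStructure (⇑Q) F₀ P' := by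
  classical
  have hb := polar_isBilinear Q
  set Gm := Geo.gramMatrix B
  set G₀ : Matrix ι ι F := a⁻¹ • ((P : Matrix ι ι F)ᵀ * Gm * (P : Matrix ι ι F)) with hG₀
  have hG₀mem : ∀ i j, G₀ i j ∈ F₀ := fun i j => by
    rw [hG₀, ← gram_conj hb, Matrix.smul_apply, smul_eq_mul, ← div_eq_inv_mul]
    exact hG i j
  have hdetmem : ∀ {M : Matrix ι ι F}, (∀ i j, M i j ∈ F₀) → M.det ∈ F₀ := by
    intro M hM
    have h1 := RingHom.map_det F₀.subtype (Matrix.of fun i j => (⟨M i j, hM i j⟩ : F₀))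
    rw [show F₀.subtype.mapMatrix (Matrix.of fun i j => (⟨M i j, hM i j⟩ : F₀)) = M from rfl] at h1
    rw [← h1]
    exact SetLike.coe_mem _
  set d := (P : Matrix ι ι F).det with hd
  have hd0 : d ≠ 0 := (Matrix.GeneralLinearGroup.det P).ne_zero
  have hGdet0 : Gm.det ≠ 0 := det_gram_ne_zero (IsSesq.of_bilinear hb) (polar_nondegenerate hQ)
  obtain ⟨m, hm⟩ := hodd
  have hdet : G₀.det = a⁻¹ ^ (2 * m + 1) * (d * Gm.det * d) := by
    rw [hG₀, Matrix.det_smul, Matrix.det_mul, Matrix.det_mul, Matrix.det_transpose, hm, hd]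
  have hdet0 : G₀.det ≠ 0 := by
    rw [hdet]
    exact mul_ne_zero (pow_ne_zero _ (inv_ne_zero ha)) (mul_ne_zero (mul_ne_zero hd0 hGdet0) hd0)
  set μ := a ^ m / d with hμ
  have hμ0 : μ ≠ 0 := div_ne_zero (pow_ne_zero _ ha) hd0
  have hμa : μ * μ * a = Gm.det / G₀.det := by
    rw [eq_div_iff hdet0, hdet, hμ, inv_pow]
    field_simp
    ring
  have hμmem : μ * μ * a ∈ F₀ := by
    rw [hμa]
    exact div_mem (hdetmem hint) (hdetmem hG₀mem)
  let z : GL ι F := Units.map (Matrix.scalar ι : F →+* Matrix ι ι F).toMonoidHom (Units.mk0 μ hμ0)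
  have hzs : z ∈ Geo.scalars ι F := ⟨_, rfl⟩
  refine ⟨z * P, ?_, fun u hu => ?_⟩
  · have hconj : (MulAut.conj (z * P)).toMonoidHom = (MulAut.conj P).toMonoidHom := by
      refine MonoidHom.ext fun g => ?_
      show z * P * g * (z * P)⁻¹ = P * g * P⁻¹
      rw [_root_.mul_inv_rev, show z * P * g * (P⁻¹ * z⁻¹) = z * (P * g * P⁻¹) * z⁻¹ by group,
        scalar_comm hzs, mul_inv_cancel_right]
    unfold Geo.subfieldSubgroup
    rw [hconj]
  · have hz' : ((z * P : GL ι F) : Matrix ι ι F) *ᵥ u = μ • ((P : Matrix ι ι F) *ᵥ u) := by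
      rw [mulVec_mul]
      show Matrix.scalar ι μ *ᵥ _ = _
      rw [Matrix.scalar_apply, ← Matrix.smul_one_eq_diagonal, Matrix.smul_mulVec, Matrix.one_mulVec]
    rw [hz', Q_smul Q]
    have h1 : B ((P : Matrix ι ι F) *ᵥ u) ((P : Matrix ι ι F) *ᵥ u) = a * (u ⬝ᵥ (G₀ *ᵥ u)) := by
      rw [gram_mulVec hb, hG₀, Matrix.smul_mulVec, dotProduct_smul, smul_eq_mul, ← mul_assoc,
        mul_inv_cancel₀ ha, one_mul, ← Matrix.mulVec_mulVec, ← Matrix.mulVec_mulVec,
        Matrix.dotProduct_mulVec u, Matrix.vecMul_transpose]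
    rw [B_self] at h1
    rw [show μ * μ * Q ((P : Matrix ι ι F) *ᵥ u) = μ * μ * a * (u ⬝ᵥ (G₀ *ᵥ u)) * 2⁻¹ by
      rw [mul_assoc (μ * μ) a, ← h1]; field_simp]
    refine mul_mem (mul_mem hμmem ?_) (inv_mem (ofNat_mem F₀ 2))
    simp only [dotProduct, Matrix.mulVec]
    exact sum_mem fun i _ => mul_mem (hu i) (sum_mem fun j _ => mul_mem (hG₀mem i j) (hu j))

/-- An absolutely irreducible group of isometries realised over a subfield: its normaliser stabilises a
rational structure carrying the quadratic form. -/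
theorem exists_quadRational [Nonempty ι] (hQ : (QuadraticMap.polarBilin Q).Nondegenerate)
    (hodd : Odd (Fintype.card ι)) (h2 : (2 : F) ≠ 0) {N H : Subgroup (GL ι F)} (hN : AbsIrr N)
    (hfN : Geo.FixesForm (Geo.matrixSet N) B) (hn : NormalIn H N) {F₀ : Subfield F}
    (hint : ∀ i j, B (Pi.single i 1) (Pi.single j 1) ∈ F₀) {C : GL ι F}
    (hC : ∀ s ∈ Geo.matrixSet N, ∀ i j,
      ((C : Matrix ι ι F) * s * ((C⁻¹ : GL ι F) : Matrix ι ι F)) i j ∈ F₀) :
    ∃ P : GL ι F, H ≤ Geo.subfieldSubgroup F₀ P ∧ Geo.IsQuadFormRationalStructure (⇑Q) F₀ P := by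
  classical
  haveI : Fintype F₀ := Fintype.ofFinite _
  have hb := polar_isBilinear Q
  set Gm := Geo.gramMatrix B with hGm
  set P₀ : Matrix ι ι F := ((C⁻¹ : GL ι F) : Matrix ι ι F) with hP₀
  set G : Matrix ι ι F := P₀ᵀ * Gm * P₀ with hG
  have hGapply : ∀ i j, G i j = B (P₀ *ᵥ Pi.single i 1) (P₀ *ᵥ Pi.single j 1) := fun i j => by
    rw [hG, hGm, ← gram_conj hb]; rfl
  have hBG : ∀ u v, B (P₀ *ᵥ u) (P₀ *ᵥ v) = u ⬝ᵥ (G *ᵥ v) := fun u v => by
    rw [gram_mulVec hb, hG, ← Matrix.mulVec_mulVec, ← Matrix.mulVec_mulVec,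
      Matrix.dotProduct_mulVec u, Matrix.vecMul_transpose]
  clear_value G
  let φ : F →ₐ[F₀] F := FiniteField.frobeniusAlgHom F₀ F
  have hφ : ∀ {x : F}, x ∈ F₀ → φ x = x := fun {x} hx => φ.commutes ⟨x, hx⟩
  have hφfix : ∀ {x : F}, φ x = x → x ∈ F₀ := fun {x} hx => mem_subfield_of_pow_eq (by
    simpa [φ, Nat.card_eq_fintype_card] using hx)
  let g : (ι → F) → (ι → F) → F := fun u v =>
    ((C : Matrix ι ι F) *ᵥ u) ⬝ᵥ (G.map φ *ᵥ ((C : Matrix ι ι F) *ᵥ v))
  have hgs : IsSesq (RingHom.id F) g :=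
    ⟨fun x y v => by simp only [g, Matrix.mulVec_add, add_dotProduct],
      fun c x v => by simp only [g, Matrix.mulVec_smul, smul_dotProduct, smul_eq_mul],
      fun v x y => by simp only [g, Matrix.mulVec_add, dotProduct_add],
      fun c v x => by simp only [g, Matrix.mulVec_smul, dotProduct_smul, smul_eq_mul, RingHom.id_apply]⟩
  obtain ⟨l, hl⟩ := hN.form_unique (IsSesq.of_bilinear hb) (polar_nondegenerate hQ) hgs hfN (by
    rintro s ⟨x, hx, rfl⟩ u v
    set x₀ : Matrix ι ι F := (C : Matrix ι ι F) * (x : Matrix ι ι F) * P₀ with hx₀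
    have hx₀mem : ∀ i j, x₀ i j ∈ F₀ := hC _ ⟨x, hx, rfl⟩
    have hCx : ∀ w, (C : Matrix ι ι F) *ᵥ ((x : Matrix ι ι F) *ᵥ w) =
        x₀ *ᵥ ((C : Matrix ι ι F) *ᵥ w) := fun w => by
      rw [hx₀, hP₀, ← Matrix.mulVec_mulVec, ← Matrix.mulVec_mulVec, inv_mulVec]
    have hPx : ∀ w, P₀ *ᵥ (x₀ *ᵥ w) = (x : Matrix ι ι F) *ᵥ (P₀ *ᵥ w) := fun w => by
      rw [hx₀, ← Matrix.mulVec_mulVec, ← Matrix.mulVec_mulVec, hP₀, inv_mulVec]
    have hinv : x₀ᵀ * G * x₀ = G := by
      ext i j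
      have h1 : (x₀ᵀ * G * x₀) i j = (x₀ *ᵥ Pi.single i 1) ⬝ᵥ (G *ᵥ (x₀ *ᵥ Pi.single j 1)) := by
        rw [← Matrix.vecMul_transpose, ← Matrix.dotProduct_mulVec, Matrix.mulVec_mulVec,
          Matrix.mulVec_mulVec]
        simp [Matrix.mul_assoc]
      rw [h1, ← hBG, hPx, hPx, hfN _ ⟨x, hx, rfl⟩, hGapply]
    clear_value x₀
    have hinvφ : x₀ᵀ * G.map φ * x₀ = G.map φ := by
      have h0 : x₀.map φ = x₀ := Matrix.ext fun i j => hφ (hx₀mem i j)
      calc x₀ᵀ * G.map φ * x₀ = (x₀.map φ)ᵀ * G.map φ * x₀.map φ := by rw [h0]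
        _ = (x₀ᵀ * G * x₀).map φ := by rw [Matrix.map_mul, Matrix.map_mul, Matrix.transpose_map]
        _ = G.map φ := by rw [hinv]
    show (_ ⬝ᵥ _) = _ ⬝ᵥ _
    rw [hCx, hCx, Matrix.mulVec_mulVec (M := G.map φ), ← Matrix.vecMul_transpose,
      ← Matrix.dotProduct_mulVec, Matrix.mulVec_mulVec, ← Matrix.mul_assoc, hinvφ])
  have hφG : ∀ i j, φ (G i j) = l * G i j := fun i j => by
    have h1 := hl (P₀ *ᵥ Pi.single i 1) (P₀ *ᵥ Pi.single j 1)
    simp only [g, hP₀, mulVec_inv] at h1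
    rw [← hP₀, ← hGapply] at h1
    simpa using h1
  obtain ⟨i₀, j₀, hne⟩ : ∃ i j, G i j ≠ 0 := by
    by_contra hc
    push Not at hc
    obtain ⟨k⟩ := ‹Nonempty ι›
    obtain ⟨y, hy⟩ := exists_B_ne_zero hQ (x := P₀ *ᵥ Pi.single k 1) (fun h0 => by
      have h3 := (mulVec_eq_zero_iff C⁻¹).1 h0
      simpa using congrFun h3 k)
    apply hy
    rw [← inv_mulVec C y, ← hP₀, hBG, show G = 0 from Matrix.ext hc]
    simp
  have hl0 : l ≠ 0 := by
    intro h0
    have := hφG i₀ j₀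
    rw [h0, zero_mul] at this
    exact hne (φ.toRingHom.injective (this.trans (map_zero _).symm))
  obtain ⟨P', hP'eq, hP'⟩ := exists_quadRational_of_gram hQ hodd h2 hint (P := C⁻¹) hne fun i j => by
    rw [← hP₀, ← hGapply]
    exact hφfix (by rw [map_div₀, hφG, hφG, mul_div_mul_left _ _ hl0])
  exact ⟨P', hP'eq ▸ hN.le_subfieldSubgroup hC hn, hP'⟩

end Cfsg.Agent.Aschbacher
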