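import Cfsg.Agent.Lib.Aschbacher.OrthRational
import Cfsg.Agent.Lib.MaxCl.OrthNondeg

/-!
Aschbacher's theorem for `Ω_n(q)`, `n ≥ 5` prime, `q` odd.
-/

set_option autoImplicit false

namespace Cfsg.Agent.Aschbacher

open Matrix
open scoped MatrixGroups
open Cfsg.Agent.MaxCl
open Cfsg.Agent.MaxCl.Orth
open Module (finrank)

variable {ι : Type} [Fintype ι] [DecidableEq ι] {F : Type*} [Field F] {Q : QuadraticForm F (ι → F)}

set_option quotPrecheck false in
local notation "B" => QuadraticMap.polar (⇑Q)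

/-- An irreducible monomial group of isometries in odd dimension has an orthogonal frame of constant value. -/
theorem orth_frame (hQ : (QuadraticMap.polarBilin Q).Nondegenerate) (hodd : Odd (Fintype.card ι))
    (h2 : (2 : F) ≠ 0) {H A : Subgroup (GL ι F)} (hHf : ∀ g ∈ H, g ∈ isometryGroup F (⇑Q)) (hirr : Irr H)
    (hAH : A ≤ H) {b : Module.Basis ι F (ι → F)}
    (hdiag : ∀ x ∈ A, ∀ i, ∃ c : F, (x : Matrix ι ι F) *ᵥ b i = c • b i)
    (hperm : ∀ g ∈ H, ∃ π : Equiv.Perm ι, ∀ i, ∃ c : F, (g : Matrix ι ι F) *ᵥ b i = c • b (π i))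
    (hinj : ∀ i j, (∀ x ∈ A, ∃ c : F, (x : Matrix ι ι F) *ᵥ b i = c • b i ∧
      (x : Matrix ι ι F) *ᵥ b j = c • b j) → i = j) :
    ∃ (b' : Module.Basis ι F (ι → F)) (a : F), a ≠ 0 ∧
      (∀ i j, B (b' i) (b' j) = if i = j then 2 * a else 0) ∧ (∀ i, Q (b' i) = a) ∧
      ∀ g ∈ H, ∃ π : Equiv.Perm ι, ∀ i, ∃ c : F, (g : Matrix ι ι F) *ᵥ b' i = c • b' (π i) := by
  classical
  have hpres : ∀ g ∈ H, ∀ u v, B ((g : Matrix ι ι F) *ᵥ u) ((g : Matrix ι ι F) *ᵥ v) = B u v :=
    fun g hg u v => by
      have := B_act (hHf g hg) u v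
      rwa [act_apply, act_apply] at this
  have hex : ∀ i, ∃ j, B (b i) (b j) ≠ 0 := by
    intro i
    by_contra hcon
    push Not at hcon
    obtain ⟨u, hu⟩ := exists_B_ne_zero hQ (b.ne_zero i)
    apply hu
    show QuadraticMap.polarBilin Q (b i) u = 0
    rw [← b.sum_repr u, map_sum]
    exact Finset.sum_eq_zero fun j _ => by
      rw [map_smul]
      show _ • B (b i) (b j) = 0
      rw [hcon, smul_zero]
  have huniq : ∀ i j j', B (b i) (b j) ≠ 0 → B (b i) (b j') ≠ 0 → j = j' := by
    intro i j j' hj hj'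
    refine hinj j j' fun x hx => ?_
    obtain ⟨a, ha⟩ := hdiag x hx i
    obtain ⟨c, hc⟩ := hdiag x hx j
    obtain ⟨c', hc'⟩ := hdiag x hx j'
    have h1 : a * c = 1 := by
      have := hpres x (hAH hx) (b i) (b j)
      rw [ha, hc, B_smul_left, B_smul_right, ← mul_assoc] at this
      exact (mul_eq_right₀ hj).1 this
    have h2 : a * c' = 1 := by
      have := hpres x (hAH hx) (b i) (b j')
      rw [ha, hc', B_smul_left, B_smul_right, ← mul_assoc] at this
      exact (mul_eq_right₀ hj').1 this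
    have : c = c' := mul_left_cancel₀ (left_ne_zero_of_mul_eq_one h1) (h1.trans h2.symm)
    exact ⟨c, hc, this ▸ hc'⟩
  choose τ hτ using hex
  have hττ : Function.Involutive τ := fun i => huniq (τ i) (τ (τ i)) i (hτ (τ i))
    (by rw [B_comm Q]; exact hτ i)
  obtain ⟨i₀, hi₀⟩ : ∃ i₀, τ i₀ = i₀ :=
    Equiv.Perm.exists_fixed_point_of_prime (p := 2) (n := 1)
      (fun h2 => (Nat.not_even_iff_odd.2 hodd) (even_iff_two_dvd.2 h2))
      (σ := hττ.toPerm τ) (by rw [pow_one, pow_two]; exact Equiv.ext fun i => hττ i)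
  have hQ₀ : Q (b i₀) ≠ 0 := by
    intro h0
    refine hτ i₀ ?_
    rw [hi₀, B_self, h0, mul_zero]
  have htrans : ∀ j, ∃ c : F, c ≠ 0 ∧ c * c * Q (b j) = Q (b i₀) := by
    intro j
    by_contra hcon
    push Not at hcon
    let S : Set (ι → F) := {v | ∃ g ∈ H, v = (g : Matrix ι ι F) *ᵥ b i₀}
    have hS : Submodule.span F S = ⊤ := by
      refine (irr_iff.1 hirr _ ?_).resolve_left ?_
      · intro g hg w hw
        induction hw using Submodule.span_induction with
        | mem x hx =>
          obtain ⟨k, hk, rfl⟩ := hx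
          exact Submodule.subset_span ⟨g * k, H.mul_mem hg hk, (mulVec_mul g k _).symm⟩
        | zero => rw [Matrix.mulVec_zero]; exact Submodule.zero_mem _
        | add x y _ _ ihx ihy => rw [Matrix.mulVec_add]; exact Submodule.add_mem _ ihx ihy
        | smul c x _ ih => rw [Matrix.mulVec_smul]; exact Submodule.smul_mem _ c ih
      · intro h0
        have : b i₀ ∈ Submodule.span F S := Submodule.subset_span ⟨1, H.one_mem, by simp⟩
        exact b.ne_zero i₀ ((Submodule.mem_bot F).1 (h0 ▸ this))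
    have hle : Submodule.span F S ≤ Submodule.span F (b '' {k | k ≠ j}) := by
      rw [Submodule.span_le]
      rintro _ ⟨g, hg, rfl⟩
      obtain ⟨π, hπ⟩ := hperm g hg
      obtain ⟨c, hc⟩ := hπ i₀
      rw [hc]
      refine Submodule.smul_mem _ _ (Submodule.subset_span ⟨π i₀, fun he => ?_, rfl⟩)
      rw [he] at hc
      have h1 := Q_act (hHf g hg) (b i₀)
      rw [act_apply, hc, Q_smul] at h1
      exact hcon c (frame_coeff_ne_zero b hc) h1
    rw [hS] at hle
    exact b.linearIndependent.notMem_span_image (by simp) (hle Submodule.mem_top : b j ∈ _)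
  choose c hc0 hc using htrans
  have hdiagne : ∀ i, B (b i) (b i) ≠ 0 := fun i => by
    rw [B_self]
    refine mul_ne_zero h2 fun h0 => hQ₀ ?_
    rw [← hc i, h0, mul_zero]
  refine ⟨b.unitsSMul fun i => Units.mk0 (c i) (hc0 i), Q (b i₀), hQ₀, fun i j => ?_, fun i => ?_,
    fun g hg => ?_⟩
  · rw [Module.Basis.unitsSMul_apply, Module.Basis.unitsSMul_apply, Units.smul_def, Units.smul_def,
      Units.val_mk0, Units.val_mk0, B_smul_left, B_smul_right]
    by_cases hij : i = j
    · subst hij
      rw [if_pos rfl, B_self, ← hc i]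
      ring
    · rw [if_neg hij]
      have h0 : B (b i) (b j) = 0 := by
        by_contra hne
        exact hij (huniq i i j (hdiagne i) hne)
      rw [h0, mul_zero, mul_zero]
  · rw [Module.Basis.unitsSMul_apply, Units.smul_def, Units.val_mk0, Q_smul, hc]
  · obtain ⟨π, hπ⟩ := hperm g hg
    refine ⟨π, fun i => ?_⟩
    obtain ⟨d, hd⟩ := hπ i
    refine ⟨c i * d * (c (π i))⁻¹, ?_⟩
    rw [Module.Basis.unitsSMul_apply, Module.Basis.unitsSMul_apply, Units.smul_def, Units.smul_def,
      Units.val_mk0, Units.val_mk0, Matrix.mulVec_smul, hd, smul_smul, smul_smul, mul_assoc,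
      inv_mul_cancel₀ (hc0 (π i)), mul_one]

variable [Fintype F]

theorem orthogonal_prime {n : ℕ} (e : ι ≃ Fin n) (hn : n.Prime) (hn5 : 5 ≤ n)
    (hoddq : Odd (Fintype.card F)) (hQ : (QuadraticMap.polarBilin Q).Nondegenerate)
    (hint : ∀ (F₀ : Subfield F) i j, B (Pi.single i 1) (Pi.single j 1) ∈ F₀)
    (H : Subgroup (GL ι F)) (hH : Geo.IsMaximalIn (Geo.omegaGL (⇑Q)) H) :
    (∃ W : Submodule F (ι → F), W ≠ ⊥ ∧ Geo.IsTotallySingularQuad (⇑Q) W ∧
        H = Geo.subspaceStabilizer W ⊓ Geo.omegaGL (⇑Q)) ∨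
    (∃ W : Submodule F (ι → F), W ≠ ⊥ ∧ Even (finrank F W) ∧
        Geo.IsNondegenerateOn (QuadraticMap.polar (⇑Q)) W ∧
        ¬ (Fintype.card F = 3 ∧ finrank F W = 2 ∧ Geo.IsPlusTypeOn (⇑Q) W) ∧
        H = Geo.subspaceStabilizer W ⊓ Geo.omegaGL (⇑Q)) ∨
    ((Fintype.card F).Prime ∧ ∃ D : Fin n → Submodule F (ι → F),
        Geo.IsOrthogonalMDecomposition (⇑Q) 1 D ∧
        H = Geo.decompositionStabilizer D ⊓ Geo.omegaGL (⇑Q)) ∨
    (∃ (F₀ : Subfield F) (r : ℕ) (P : GL ι F), r.Prime ∧ Fintype.card F = Nat.card F₀ ^ r ∧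
        Geo.IsQuadFormRationalStructure (⇑Q) F₀ P ∧
        H = Geo.subfieldSubgroup F₀ P ⊓ Geo.omegaGL (⇑Q)) ∨
    Geo.InOrthogonalResidualClass H := by
  classical
  have hcι : Fintype.card ι = n := by rw [Fintype.card_congr e, Fintype.card_fin]
  haveI : Nonempty ι := Fintype.card_pos_iff.1 (by omega)
  have h5 : 5 ≤ Fintype.card ι := by omega
  have hoddn : Odd n := hn.odd_of_ne_two (by omega)
  have hodd : Odd (Fintype.card ι) := hcι ▸ hoddn
  have hp : (Fintype.card ι).Prime := hcι ▸ hn
  have h2 : (2 : F) ≠ 0 := two_ne_zero_of_odd hoddq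
  have hHΩ := hH.1.le
  have hHf : ∀ g ∈ H, g ∈ isometryGroup F (⇑Q) := fun g hg => omega_le_iso (hHΩ hg)
  have hSL : H ≤ Geo.specialLinear ι F := hHΩ.trans (omega_le_specialLinear _)
  have hb := polar_isBilinear Q
  have hBnd := polar_nondegenerate hQ
  have fix : ∀ {P : Subgroup (GL ι F)}, P ≤ H → Geo.FixesForm (Geo.matrixSet P) B := by
    rintro P hP s ⟨x, hx, rfl⟩ u v
    have := B_act (hHf x (hP hx)) u v
    rwa [act_apply, act_apply] at this
  have hmax : ∀ {M : Subgroup (GL ι F)}, H ≤ M → ¬ Geo.omegaGL (⇑Q) ≤ M →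
      H = M ⊓ Geo.omegaGL (⇑Q) := fun hle hnot => eq_inf_of_maximal hH hle hnot
  have hsub : ∀ {P : Subgroup (GL ι F)} (F₁ : Subfield F), P ≤ H → AbsIrr P → NormalIn H P → F₁ ≠ ⊤ →
      Geo.RealisableOver F₁ (Geo.matrixSet P) →
      ∃ (F₀ : Subfield F) (r : ℕ) (P : GL ι F), r.Prime ∧ Fintype.card F = Nat.card F₀ ^ r ∧
        Geo.IsQuadFormRationalStructure (⇑Q) F₀ P ∧
        H = Geo.subfieldSubgroup F₀ P ⊓ Geo.omegaGL (⇑Q) := by
    rintro P F₁ hPH hPa hPn hF₁ ⟨C, hC⟩
    obtain ⟨F₀, r, hle, hr, hcard⟩ := exists_prime_index hF₁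
    have hF₀ : F₀ ≠ ⊤ := by
      rintro rfl
      rw [show Nat.card (⊤ : Subfield F) = Fintype.card F by
        rw [← Nat.card_eq_fintype_card]; exact Nat.card_congr (Equiv.subtypeUnivEquiv fun _ => trivial)]
        at hcard
      have := Nat.pow_lt_pow_right (Fintype.one_lt_card (α := F)) hr.one_lt
      rw [pow_one] at this
      omega
    obtain ⟨R, hRle, hRform⟩ := exists_quadRational hQ hodd h2 hPa (fix hPH) hPn (hint F₀)
      (fun s hs i j => hle (hC s hs i j))
    exact ⟨F₀, r, R, hr, hcard, hRform, hmax hRle (omega_not_le_subfieldSubgroup hQ h5 h2 hF₀ R)⟩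
  by_cases hirr : Irr H
  swap
  · -- reducible
    rw [irr_iff] at hirr
    push Not at hirr
    obtain ⟨W, hW, hW0, hW1⟩ := hirr
    have hperp : ∀ {W : Submodule F (ι → F)}, Invariant H W → Invariant H (perp Q W) := by
      intro W hW g hg x hx w hw
      have h1 := fix le_rfl _ ⟨g, hg, rfl⟩ (((g⁻¹ : GL ι F) : Matrix ι ι F) *ᵥ w) x
      rw [mulVec_inv] at h1
      exact h1.trans (hx _ (hW g⁻¹ (H.inv_mem hg) w hw))
    have hsum : ∀ W : Submodule F (ι → F), finrank F (perp Q W) = n - finrank F W := fun W => by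
      rw [finrank_perp hQ, hcι]
    have hfr : ∀ W : Submodule F (ι → F), finrank F W ≤ n := fun W => by
      rw [← hcι, ← Module.finrank_pi F]; exact Submodule.finrank_le W
    by_cases hWV : W ⊓ perp Q W = ⊥
    swap
    · refine Or.inl ⟨W ⊓ perp Q W, hWV, fun v hv => ?_,
        hmax (fun g hg => mem_subspaceStabilizer ((hW.inf (hperp hW)) g hg))
          (omega_not_le_subspaceStabilizer hQ h5 h2 hWV fun h0 => hW1 (top_le_iff.1 (h0 ▸ inf_le_left)))⟩
      have h1 : B v v = 0 := hv.2 v hv.1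
      rw [B_self] at h1
      exact (mul_eq_zero.1 h1).resolve_left h2
    right; left
    have hWnd : NonDeg Q W := fun x hx h0 => by
      have : x ∈ W ⊓ perp Q W := ⟨hx, fun w hw => (B_comm Q w x).trans (h0 w hw)⟩
      rwa [hWV, Submodule.mem_bot] at this
    have hgood : ∀ W : Submodule F (ι → F), Invariant H W → NonDeg Q W → W ≠ ⊥ → W ≠ ⊤ →
        Even (finrank F W) → ¬ (Fintype.card F = 3 ∧ finrank F W = 2 ∧ Geo.IsPlusTypeOn (⇑Q) W) →
        ∃ W : Submodule F (ι → F), W ≠ ⊥ ∧ Even (finrank F W) ∧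
          Geo.IsNondegenerateOn (QuadraticMap.polar (⇑Q)) W ∧
          ¬ (Fintype.card F = 3 ∧ finrank F W = 2 ∧ Geo.IsPlusTypeOn (⇑Q) W) ∧
          H = Geo.subspaceStabilizer W ⊓ Geo.omegaGL (⇑Q) := fun W hW hnd h0 h1 hev hex =>
      ⟨W, h0, hev, isNondegenerateOn_of_nonDeg hnd, hex,
        hmax (fun g hg => mem_subspaceStabilizer (hW g hg))
          (omega_not_le_subspaceStabilizer hQ h5 h2 h0 h1)⟩
    have hplane : ∀ W : Submodule F (ι → F), Invariant H W → NonDeg Q W → W ≠ ⊥ → W ≠ ⊤ →
        Even (finrank F W) → ∃ W : Submodule F (ι → F), W ≠ ⊥ ∧ Even (finrank F W) ∧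
          Geo.IsNondegenerateOn (QuadraticMap.polar (⇑Q)) W ∧
          ¬ (Fintype.card F = 3 ∧ finrank F W = 2 ∧ Geo.IsPlusTypeOn (⇑Q) W) ∧
          H = Geo.subspaceStabilizer W ⊓ Geo.omegaGL (⇑Q) := by
      intro W hW hnd h0 h1 hev
      by_cases hex : Fintype.card F = 3 ∧ finrank F W = 2 ∧ Geo.IsPlusTypeOn (⇑Q) W
      swap
      · exact hgood W hW hnd h0 h1 hev hex
      obtain ⟨hq3, hW2, U, hUW, hUs, hUdim⟩ := hex
      obtain ⟨u, hu, hu0⟩ := U.ne_bot_iff.1 (fun h => by rw [h, finrank_bot] at hUdim; omega)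
      obtain ⟨z, hz, hzne⟩ : ∃ z ∈ W, B u z ≠ 0 := by
        by_contra hcon
        push Not at hcon
        exact hu0 (hnd u (hUW hu) hcon)
      obtain ⟨v, hv, hQv, huv⟩ := exists_partner Q (hUs u hu) (hUW hu) hz hzne
      have hspan : Submodule.span F (Set.range ![u, v]) = W := by
        refine Submodule.eq_of_le_of_finrank_eq (Submodule.span_le.2 ?_) ?_
        · rintro _ ⟨i, rfl⟩
          fin_cases i
          exacts [hUW hu, hv]
        · rw [finrank_span_eq_card, Fintype.card_fin, hW2]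
          rw [LinearIndependent.pair_iff]
          intro s t hst
          have h3 := congrArg (B u) hst
          have h4 := congrArg (B v) hst
          rw [B_add_right, B_smul_right, B_smul_right, B_self_of_singular Q (hUs u hu), huv,
            B_zero_right] at h3
          rw [B_add_right, B_smul_right, B_smul_right, B_self_of_singular Q hQv, B_comm Q v u, huv,
            B_zero_right] at h4
          exact ⟨by simpa using h4, by simpa using h3⟩
      set L : Submodule F (ι → F) := F ∙ (u + v) with hL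
      have hQuv : Q (u + v) = 1 := by rw [Q_add, hUs u hu, hQv, huv]; ring
      have hLinv : Invariant H L := by
        intro g hg x hx
        obtain ⟨t, rfl⟩ := Submodule.mem_span_singleton.1 hx
        rw [Matrix.mulVec_smul]
        refine L.smul_mem _ ?_
        have h3 := hW g hg (u + v) (W.add_mem (hUW hu) hv)
        rw [← hspan, Orth.mem_span_pair_iff_range] at h3
        obtain ⟨α, β, hαβ⟩ := h3
        have h4 := Q_act (hHf g hg) (u + v)
        rw [act_apply, ← hαβ, hQuv, Q_add, Q_smul, Q_smul, B_smul_left, B_smul_right, hUs u hu, hQv,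
          huv] at h4
        have h5' : α * β = 1 := by linear_combination h4
        have h6 := FiniteField.pow_card_sub_one_eq_one α (left_ne_zero_of_mul_eq_one h5')
        rw [hq3] at h6
        have h7 : α = β := by
          have : α * (α * β) = α ^ (3 - 1) * β := by ring
          rwa [h5', h6, mul_one, one_mul] at this
        rw [← hαβ, h7, ← smul_add]
        exact L.smul_mem _ (Submodule.mem_span_singleton_self _)
      have hL0 : u + v ≠ 0 := fun h => by rw [h, map_zero] at hQuv; exact zero_ne_one hQuv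
      have hLnd : NonDeg Q L := by
        intro x hx hx'
        obtain ⟨t, rfl⟩ := Submodule.mem_span_singleton.1 hx
        have h3 := hx' _ (Submodule.mem_span_singleton_self (u + v))
        rw [B_smul_left, B_self, hQuv, mul_one] at h3
        rw [(mul_eq_zero.1 h3).resolve_right h2, zero_smul]
      have hL1 : finrank F L = 1 := finrank_span_singleton hL0
      refine hgood _ (hperp hLinv) (nonDeg_perp hQ hLnd) (fun h => ?_) (fun h => ?_) ?_ fun hex => ?_
      · have := hsum L; rw [h, finrank_bot] at this; omega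
      · have := hsum L; rw [h, finrank_top, Module.finrank_pi, hcι] at this; omega
      · rw [hsum, hL1]
        exact Nat.Odd.sub_odd hoddn odd_one
      · have := hsum L; rw [hex.2.1] at this; omega
    by_cases hev : Even (finrank F W)
    · exact hplane W hW hWnd hW0 hW1 hev
    refine hplane _ (hperp hW) (nonDeg_perp hQ hWnd) (fun h => ?_) (fun h => ?_) ?_
    · have := hsum W
      rw [h, finrank_bot] at this
      refine hW1 (Submodule.eq_top_of_finrank_eq ?_)
      have := hfr W
      rw [Module.finrank_pi, hcι]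
      omega
    · have := hsum W
      rw [h, finrank_top, Module.finrank_pi, hcι] at this
      refine hW0 (Submodule.finrank_eq_zero.1 ?_)
      omega
    · rw [hsum]
      exact Nat.Odd.sub_odd hoddn (Nat.not_even_iff_odd.1 hev)
  right; right
  rcases structure_theorem hp hodd hSL hirr with
    ⟨A, hAH, hAn, hAs, hframe | hfield⟩ | ⟨N, ω, hNH, hNn, hNa, hN⟩ | ⟨P, hP⟩
  · -- monomial
    obtain ⟨b, hdiag, hperm, hinj⟩ := hframe
    obtain ⟨b', a, ha, hBb, hQb, hperm'⟩ := orth_frame hQ hodd h2 hHf hirr hAH hdiag hperm hinj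
    obtain ⟨p, hpC⟩ := CharP.exists F
    haveI := hpC
    obtain ⟨k, hpp, hcard⟩ := FiniteField.card F p
    haveI : Fact p.Prime := ⟨hpp⟩
    by_cases hprime : (Fintype.card F).Prime
    · let c := b'.reindex e
      refine Or.inl ⟨hprime, fun i => Submodule.span F {c i}, ⟨⟨⟨hn.two_le, one_pos,
        fun i => finrank_span_singleton (c.ne_zero i), c.linearIndependent.iSupIndep_span_singleton,
        ?_⟩, fun i => ?_, ?_⟩, fun i j => ?_⟩, hmax (fun g hg => ?_) fun hle => ?_⟩
      · rw [← c.span_eq, Submodule.span_range_eq_iSup]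
      · refine isNondegenerateOn_of_nonDeg fun x hx hx' => ?_
        obtain ⟨t, rfl⟩ := Submodule.mem_span_singleton.1 hx
        have h3 := hx' _ (Submodule.mem_span_singleton_self (c i))
        rw [B_smul_left, Module.Basis.reindex_apply, hBb, if_pos rfl] at h3
        rw [(mul_eq_zero.1 h3).resolve_right (mul_ne_zero h2 ha), zero_smul]
      · intro i j hij u hu v hv
        obtain ⟨s, rfl⟩ := Submodule.mem_span_singleton.1 hu
        obtain ⟨t, rfl⟩ := Submodule.mem_span_singleton.1 hv
        rw [B_smul_left, B_smul_right, Module.Basis.reindex_apply, Module.Basis.reindex_apply, hBb,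
          if_neg (e.symm.injective.ne hij), mul_zero, mul_zero]
      · refine ⟨(LinearEquiv.toSpanNonzeroSingleton F (ι → F) (c i) (c.ne_zero i)).symm.trans
          (LinearEquiv.toSpanNonzeroSingleton F (ι → F) (c j) (c.ne_zero j)), fun w => ?_⟩
        obtain ⟨t, rfl⟩ := (LinearEquiv.toSpanNonzeroSingleton F (ι → F) (c i) (c.ne_zero i)).surjective w
        rw [LinearEquiv.trans_apply, LinearEquiv.symm_apply_apply]
        show Q (t • c j) = Q (t • c i)
        simp only [c, Q_smul, Module.Basis.reindex_apply, hQb]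
      · obtain ⟨π, hπ⟩ := hperm' g hg
        refine ⟨(e.symm.trans π).trans e, fun i => ?_⟩
        obtain ⟨d, hd⟩ := hπ (e.symm i)
        rw [Submodule.map_span, Set.image_singleton, Matrix.toLin'_apply]
        simp only [c, Module.Basis.reindex_apply, Equiv.trans_apply, Equiv.symm_apply_apply]
        rw [hd, Submodule.span_singleton_smul_eq (frame_coeff_ne_zero b' hd).isUnit]
      · refine omega_not_le_frame hQ h5 h2 b' fun g hg i => ?_
        obtain ⟨π, hπ⟩ := hle hg
        have h1 : (g : Matrix ι ι F) *ᵥ b' i ∈ Submodule.span F {c (π (e i))} := by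
          refine (hπ (e i)).le ?_
          refine Submodule.mem_map.2 ⟨c (e i), Submodule.mem_span_singleton_self _, ?_⟩
          simp [c, Matrix.toLin'_apply]
        obtain ⟨d, hd⟩ := Submodule.mem_span_singleton.1 h1
        exact ⟨e.symm (π (e i)), d, by simpa [c] using hd.symm⟩
    · -- the frame is rational over every subfield
      have hlt : p ^ 1 < Fintype.card F := by
        rw [hcard]
        refine Nat.pow_lt_pow_right hpp.one_lt ?_
        by_contra hk
        apply hprime
        rw [hcard, show (k : ℕ) = 1 by have := k.pos; omega, pow_one]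
        exact hpp
      obtain ⟨F₀, r, -, hr, hcardF⟩ := exists_prime_index (fixedBy_ne_top p one_pos hlt)
      have hF₀ : F₀ ≠ ⊤ := by
        rintro rfl
        rw [show Nat.card (⊤ : Subfield F) = Fintype.card F by
          rw [← Nat.card_eq_fintype_card]; exact Nat.card_congr (Equiv.subtypeUnivEquiv fun _ => trivial)]
          at hcardF
        have := Nat.pow_lt_pow_right (Fintype.one_lt_card (α := F)) hr.one_lt
        rw [pow_one] at this
        omega
      let T : Matrix ι ι F := LinearMap.toMatrix' b'.equivFun.toLinearMap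
      let T' : Matrix ι ι F := LinearMap.toMatrix' b'.equivFun.symm.toLinearMap
      let P : GL ι F := ⟨T', T, by simp [T, T', ← LinearMap.toMatrix'_comp],
        by simp [T, T', ← LinearMap.toMatrix'_comp]⟩
      have hPb : ∀ j, (P : Matrix ι ι F) *ᵥ Pi.single j 1 = b' j := fun j => by
        show T' *ᵥ _ = _
        simp only [T', LinearMap.toMatrix'_mulVec, LinearEquiv.coe_coe, Module.Basis.equivFun_symm_apply]
        simp [Pi.single_apply]
      obtain ⟨P', hP'eq, hP'⟩ := exists_quadRational_of_gram hQ hodd h2 (hint F₀) (P := P)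
        (mul_ne_zero h2 ha) fun i j => by
        rw [hPb, hPb, hBb]
        split_ifs
        · rw [div_self (mul_ne_zero h2 ha)]; exact one_mem _
        · rw [zero_div]; exact zero_mem _
      refine Or.inr (Or.inl ⟨F₀, r, P', hr, hcardF, hP', hmax ?_
        (omega_not_le_subfieldSubgroup hQ h5 h2 hF₀ P')⟩)
      rw [hP'eq]
      intro g hg
      obtain ⟨π, hπ⟩ := hperm' g hg
      choose d hd using hπ
      have hd1 : ∀ i, d i ∈ F₀ := by
        intro i
        have h1 := Q_act (hHf g hg) (b' i)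
        rw [act_apply, hd i, Q_smul, hQb, hQb] at h1
        rcases mul_self_eq_one_iff.1 ((mul_eq_right₀ ha).1 h1) with h | h <;> rw [h]
        · exact one_mem _
        · exact neg_mem (one_mem _)
      set g' := P⁻¹ * g * P with hg'
      have hcol : ∀ i, (g' : Matrix ι ι F) *ᵥ Pi.single i 1 = d i • Pi.single (π i) 1 := by
        intro i
        rw [hg', mulVec_mul, mulVec_mul, hPb, hd, Matrix.mulVec_smul, ← hPb, inv_mulVec]
      have hmem : ∀ i j, (g' : Matrix ι ι F) i j ∈ F₀ := fun i j => by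
        have h1 := congrFun (hcol j) i
        simp only [Matrix.mulVec_single_one, Matrix.col_apply, Pi.smul_apply, smul_eq_mul,
          Pi.single_apply] at h1
        rw [h1]
        split_ifs
        · rw [mul_one]; exact hd1 j
        · rw [mul_zero]; exact zero_mem _
      let M : Matrix ι ι F₀ := Matrix.of fun i j => ⟨_, hmem i j⟩
      have hM : F₀.subtype.mapMatrix M = (g' : Matrix ι ι F) := rfl
      have hMdet : M.det ≠ 0 := fun h0 => by
        have h1 := RingHom.map_det F₀.subtype M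
        rw [h0, map_zero, hM] at h1
        exact (Matrix.GeneralLinearGroup.det g').ne_zero h1.symm
      refine ⟨g', Subgroup.mem_sup_left ⟨Matrix.GeneralLinearGroup.mkOfDetNeZero M hMdet,
        Units.ext hM⟩, ?_⟩
      simp [g', mul_assoc]
  · -- no field case
    obtain ⟨K, hK, -, hAK, -⟩ := hfield
    refine absurd (fun x hx => ?_) hAs
    have hx1 : (x : Matrix ι ι F) = 1 := by
      by_contra hne
      obtain ⟨y, -, hy⟩ := hK.inv _ (K.sub_mem (hAK x hx) K.one_mem) (sub_ne_zero.2 hne)
      have h0 := isometry_det_sub_one hb hBnd hodd h2 (fix hAH _ ⟨x, hx, rfl⟩)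
        (det_eq_one (hSL (hAH hx)))
      have h1 := congrArg Matrix.det hy
      rw [Matrix.det_mul, h0, zero_mul, Matrix.det_one] at h1
      exact zero_ne_one h1
    rw [show x = 1 from Units.ext hx1]
    exact one_mem _
  · -- no symplectic type
    exfalso
    have hcc : Nat.card (Subgroup.center N) = n := by rw [hN.card_center, hcι]
    haveI : Nontrivial (Subgroup.center N) :=
      Finite.one_lt_card_iff_nontrivial.1 (hcc.symm ▸ hn.one_lt)
    obtain ⟨⟨z, hzc⟩, hz1⟩ := exists_ne (1 : Subgroup.center N)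
    obtain ⟨c, hc⟩ := (Geo.mem_scalars_iff (z : GL ι F)).1 (hNa.scalar_of_comm fun x hx =>
      (congrArg Subtype.val (Subgroup.mem_center_iff.1 hzc ⟨x, hx⟩)).symm)
    refine hz1 (Subtype.ext (Subtype.ext (Units.ext ?_)))
    have hcn : (c : F) ^ n = 1 := by
      have h1 := det_eq_one (hSL (hNH z.2))
      rwa [hc, Matrix.det_smul, Matrix.det_one, mul_one, hcι] at h1
    obtain ⟨u, v, huv⟩ : ∃ u v, B u v ≠ 0 := by
      obtain ⟨v, hv⟩ := exists_B_ne_zero hQ
        (x := (Pi.single (Classical.arbitrary ι) 1 : ι → F)) (by simp)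
      exact ⟨_, v, hv⟩
    have hc2 : (c : F) * c = 1 := by
      have h1 : B (((z : GL ι F) : Matrix ι ι F) *ᵥ u) (((z : GL ι F) : Matrix ι ι F) *ᵥ v) = B u v :=
        fix hNH _ ⟨(z : GL ι F), z.2, rfl⟩ u v
      rw [hc, Matrix.smul_mulVec, Matrix.smul_mulVec, Matrix.one_mulVec, Matrix.one_mulVec,
        B_smul_left, B_smul_right, ← mul_assoc] at h1
      exact (mul_eq_right₀ huv).1 h1
    obtain ⟨m, hm⟩ := hoddn
    rw [hm, pow_succ, pow_mul, pow_two, hc2, one_pow, one_mul] at hcn
    rw [hc, hcn, one_smul]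
    rfl
  · -- almost simple
    by_cases hF₁ : ∃ F₁ : Subfield F, F₁ ≠ ⊤ ∧ Geo.RealisableOver F₁ (Geo.matrixSet P)
    · obtain ⟨F₁, h1, h2'⟩ := hF₁
      exact Or.inr (Or.inl (hsub F₁ hP.le hP.absIrred hP.normal h1 h2'))
    push Not at hF₁
    refine Or.inr (Or.inr ⟨P, hP.isResidualCore hF₁, ?_⟩)
    rintro ⟨σ, f, hf, hfix⟩
    have h := exists_herm hf
    exact hF₁ (fixedField σ) h.fixedField_ne_top
      (h.realisable_of_bilinear hP.absIrred hfix hb hBnd (fix hP.le))

/-- The polar of the standard form has integral coordinates. -/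
theorem polar_quadFormOdd_mem (m : ℕ) (F₀ : Subfield F) (i j : Unit ⊕ (Fin m ⊕ Fin m)) :
    QuadraticMap.polar (quadFormOdd m F) (Pi.single i 1) (Pi.single j 1) ∈ F₀ := by
  have hs : ∀ i k : Unit ⊕ (Fin m ⊕ Fin m), (Pi.single i 1 : _ → F) k ∈ F₀ := fun i k => by
    rw [Pi.single_apply]
    split_ifs
    · exact one_mem _
    · exact zero_mem _
  simp only [QuadraticMap.polar, quadFormOdd, Pi.add_apply]
  apply_rules [sub_mem, add_mem, sum_mem, mul_mem, pow_mem, hs]
  all_goals intros; apply_rules [add_mem, mul_mem, hs]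

end Cfsg.Agent.Aschbacher
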