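import Cfsg.Prelude.Def_GeometricClasses

/-!
Transport of the vocabulary of the geometric classes along a bijection of index types.
-/

set_option autoImplicit false

namespace Cfsg.Agent.Aschbacher.Reindex

open Matrix
open scoped MatrixGroups

variable {κ ι : Type} [Fintype κ] [DecidableEq κ] [Fintype ι] [DecidableEq ι] {F : Type*} [Field F]
  (e : κ ≃ ι)

/-- Reindexed vectors. -/
def tv : (κ → F) ≃ₗ[F] (ι → F) := LinearEquiv.funCongrLeft F F e.symm

/-- Reindexed matrices. -/
def tm : Matrix κ κ F ≃ₐ[F] Matrix ι ι F := Matrix.reindexAlgEquiv F F e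

/-- Reindexed invertible matrices. -/
def tg : GL κ F ≃* GL ι F := Geo.glReindex e

/-- The form on reindexed vectors. -/
def pull (f : (ι → F) → (ι → F) → F) : (κ → F) → (κ → F) → F := fun u v => f (tv e u) (tv e v)

theorem tv_apply (v : κ → F) (i : ι) : tv e v i = v (e.symm i) := rfl

theorem tm_apply (M : Matrix κ κ F) (i j : ι) : tm e M i j = M (e.symm i) (e.symm j) := rfl

theorem coe_tg (g : GL κ F) : (tg e g : Matrix ι ι F) = tm e (g : Matrix κ κ F) := rfl

theorem tm_mulVec (M : Matrix κ κ F) (v : κ → F) : tm e M *ᵥ tv e v = tv e (M *ᵥ v) := by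
  funext i
  show ∑ j, M (e.symm i) (e.symm j) * v (e.symm j) = _
  exact e.symm.sum_comp (fun j => M (e.symm i) j * v j)

theorem tg_mulVec (g : GL κ F) (v : κ → F) :
    (tg e g : Matrix ι ι F) *ᵥ tv e v = tv e ((g : Matrix κ κ F) *ᵥ v) := by
  rw [coe_tg, tm_mulVec]

theorem comap_injective : Function.Injective (Subgroup.comap (tg (F := F) e).toMonoidHom) :=
  Subgroup.comap_injective (tg e).surjective

theorem eq_inf_of_comap {H X I : Subgroup (GL ι F)} {X' I' : Subgroup (GL κ F)}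
    (hX : X.comap (tg e).toMonoidHom = X') (hI : I.comap (tg e).toMonoidHom = I')
    (h : H.comap (tg e).toMonoidHom = X' ⊓ I') : H = X ⊓ I :=
  comap_injective e (by rw [h, Subgroup.comap_inf, hX, hI])

theorem isMaximalIn {K H : Subgroup (GL ι F)} (h : Geo.IsMaximalIn K H) :
    Geo.IsMaximalIn (K.comap (tg e).toMonoidHom) (H.comap (tg e).toMonoidHom) := by
  refine ⟨lt_of_le_of_ne (Subgroup.comap_mono h.1.le) fun h' => h.1.ne (comap_injective e h'), ?_⟩
  intro M hHM hMK
  have hM : (M.map (tg e).toMonoidHom).comap (tg e).toMonoidHom = M :=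
    Subgroup.comap_map_eq_self_of_injective (tg e).injective M
  have h1 : H ≤ M.map (tg e).toMonoidHom := by
    intro g hg
    obtain ⟨g, rfl⟩ := (tg e).surjective g
    exact ⟨g, hHM hg, rfl⟩
  have h2 : M.map (tg e).toMonoidHom ≤ K := Subgroup.map_le_iff_le_comap.2 hMK
  rcases h.2 _ h1 h2 with h3 | h3
  · left; rw [← h3, hM]
  · right; rw [← h3, hM]

theorem preserving_comap (f : (ι → F) → (ι → F) → F) :
    (preserving (glToMat ι F) f).comap (tg e).toMonoidHom = preserving (glToMat κ F) (pull e f) := by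
  ext g
  show (∀ u v, f ((tg e g : Matrix ι ι F) *ᵥ u) ((tg e g : Matrix ι ι F) *ᵥ v) = f u v) ↔
    ∀ u v, f (tv e ((g : Matrix κ κ F) *ᵥ u)) (tv e ((g : Matrix κ κ F) *ᵥ v)) = f (tv e u) (tv e v)
  simp only [(tv e).surjective.forall₂, tg_mulVec]

theorem isSymplecticForm {f : (ι → F) → (ι → F) → F} (h : Geo.IsSymplecticForm f) :
    Geo.IsSymplecticForm (pull e f) where
  bilinear :=
    ⟨fun x y v => by simp only [pull, map_add, h.bilinear.add_left],
      fun c x v => by simp only [pull, map_smul, h.bilinear.smul_left],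
      fun v x y => by simp only [pull, map_add, h.bilinear.add_right],
      fun c v x => by simp only [pull, map_smul, h.bilinear.smul_right]⟩
  skew v w := h.skew _ _
  alternating v := h.alternating _
  nondegenerate v hv := by
    obtain ⟨h1, h2⟩ := h.nondegenerate (tv e v) (mt (map_eq_zero_iff (tv e) (tv e).injective).1 hv)
    rw [(tv e).surjective.exists] at h1 h2
    exact ⟨h1, h2⟩

/-! ### Subspaces -/

/-- The image of a subspace. -/
def tw (W : Submodule F (κ → F)) : Submodule F (ι → F) := W.map (tv e).toLinearMap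

theorem mem_tw {W : Submodule F (κ → F)} {v : κ → F} : tv e v ∈ tw e W ↔ v ∈ W := by
  simp [tw]

theorem tw_ne_bot {W : Submodule F (κ → F)} (h : W ≠ ⊥) : tw e W ≠ ⊥ := by
  simpa [tw] using h

theorem isTotallySingularFor {f : (ι → F) → (ι → F) → F} {W : Submodule F (κ → F)}
    (h : Geo.IsTotallySingularFor (pull e f) W) : Geo.IsTotallySingularFor f (tw e W) := by
  rintro _ ⟨u, hu, rfl⟩ _ ⟨v, hv, rfl⟩
  exact h u hu v hv

theorem subspaceStabilizer_comap (W : Submodule F (κ → F)) :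
    (Geo.subspaceStabilizer (tw e W)).comap (tg e).toMonoidHom = Geo.subspaceStabilizer W := by
  ext g
  show (∀ v, v ∈ tw e W ↔ (tg e g : Matrix ι ι F) *ᵥ v ∈ tw e W) ↔
    ∀ v, v ∈ W ↔ (g : Matrix κ κ F) *ᵥ v ∈ W
  simp only [(tv e).surjective.forall, tg_mulVec, mem_tw]

theorem isMDecomposition {m t : ℕ} {D : Fin t → Submodule F (κ → F)} (h : Geo.IsMDecomposition m D) :
    Geo.IsMDecomposition m fun i => tw e (D i) where
  two_le := h.two_le
  pos := h.pos
  finrank_eq i := by rw [← h.finrank_eq i]; exact LinearEquiv.finrank_map_eq (tv e) (D i)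
  indep := LinearMap.iSupIndep_map (tv e).toLinearMap (tv e).injective h.indep
  iSup_eq_top := by
    show ⨆ i, (D i).map (tv e).toLinearMap = ⊤
    rw [← Submodule.map_iSup, h.iSup_eq_top, Submodule.map_top, LinearEquiv.range]

theorem isNondegenerateMDecomposition {f : (ι → F) → (ι → F) → F} {m t : ℕ}
    {D : Fin t → Submodule F (κ → F)} (h : Geo.IsNondegenerateMDecomposition (pull e f) m D) :
    Geo.IsNondegenerateMDecomposition f m fun i => tw e (D i) where
  decomp := isMDecomposition e h.decomp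
  nondegenerate i := by
    rintro _ ⟨w, hw, rfl⟩ hw0
    obtain ⟨⟨x, hx, hx'⟩, y, hy, hy'⟩ := h.nondegenerate i w hw fun h0 => hw0 (by rw [h0, map_zero])
    exact ⟨⟨_, (mem_tw e).2 hx, hx'⟩, _, (mem_tw e).2 hy, hy'⟩
  orthogonal i j hij := by
    rintro _ ⟨u, hu, rfl⟩ _ ⟨v, hv, rfl⟩
    exact h.orthogonal i j hij u hu v hv

theorem decompositionStabilizer_comap {t : ℕ} (D : Fin t → Submodule F (κ → F)) :
    (Geo.decompositionStabilizer fun i => tw e (D i)).comap (tg e).toMonoidHom =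
      Geo.decompositionStabilizer D := by
  ext g
  show (∃ σ : Equiv.Perm (Fin t), ∀ i,
      (tw e (D i)).map (Matrix.toLin' (tg e g : Matrix ι ι F)) = tw e (D (σ i))) ↔
    ∃ σ : Equiv.Perm (Fin t), ∀ i, (D i).map (Matrix.toLin' (g : Matrix κ κ F)) = D (σ i)
  have key : ∀ W : Submodule F (κ → F), (tw e W).map (Matrix.toLin' (tg e g : Matrix ι ι F)) =
      tw e (W.map (Matrix.toLin' (g : Matrix κ κ F))) := by
    intro W
    simp only [tw, ← Submodule.map_comp]
    congr 1
    refine LinearMap.ext fun v => ?_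
    simp [tg_mulVec]
  simp only [key]
  exact exists_congr fun σ => forall_congr' fun i =>
    (Submodule.map_injective_of_injective (tv e).injective).eq_iff

/-! ### Subalgebras -/

/-- The image of a subalgebra. -/
def tk (K : Subalgebra F (Matrix κ κ F)) : Subalgebra F (Matrix ι ι F) := K.map (tm e).toAlgHom

theorem mem_tk {K : Subalgebra F (Matrix κ κ F)} {M : Matrix κ κ F} : tm e M ∈ tk e K ↔ M ∈ K :=
  ⟨fun ⟨M', hM', h⟩ => (tm e).injective h ▸ hM', fun h => ⟨M, h, rfl⟩⟩

theorem isFieldSubalgebra {r : ℕ} {K : Subalgebra F (Matrix κ κ F)} (h : Geo.IsFieldSubalgebra r K) :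
    Geo.IsFieldSubalgebra r (tk e K) where
  comm := by
    rintro _ ⟨x, hx, rfl⟩ _ ⟨y, hy, rfl⟩
    rw [← map_mul, h.comm x hx y hy, map_mul]
  inv := by
    rintro _ ⟨x, hx, rfl⟩ hx0
    obtain ⟨y, hy, hxy⟩ := h.inv x hx fun h0 => hx0 (by rw [h0, map_zero])
    exact ⟨_, ⟨y, hy, rfl⟩, by rw [← map_mul, hxy, map_one]⟩
  finrank_eq := by
    rw [← h.finrank_eq]
    exact ((Subalgebra.equivMapOfInjective K (tm e).toAlgHom (tm e).injective).toLinearEquiv.finrank_eq).symm

theorem isSelfAdjointFor_iff {f : (ι → F) → (ι → F) → F} {K : Subalgebra F (Matrix κ κ F)} :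
    Geo.IsSelfAdjointFor f (tk e K) ↔ Geo.IsSelfAdjointFor (pull e f) K := by
  constructor
  · intro h k hk u v
    have := h _ ((mem_tk e).2 hk) (tv e u) (tv e v)
    rwa [tm_mulVec, tm_mulVec] at this
  · rintro h _ ⟨k, hk, rfl⟩ u v
    obtain ⟨u, rfl⟩ := (tv e).surjective u
    obtain ⟨v, rfl⟩ := (tv e).surjective v
    show f (tm e k *ᵥ tv e u) (tv e v) = f (tv e u) (tm e k *ᵥ tv e v)
    rw [tm_mulVec, tm_mulVec]
    exact h k hk u v

theorem isAdjointClosedFor {f : (ι → F) → (ι → F) → F} {K : Subalgebra F (Matrix κ κ F)}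
    (h : Geo.IsAdjointClosedFor (pull e f) K) : Geo.IsAdjointClosedFor f (tk e K) := by
  rintro _ ⟨k, hk, rfl⟩
  obtain ⟨k', hk', hkk⟩ := h k hk
  refine ⟨_, ⟨k', hk', rfl⟩, fun u v => ?_⟩
  obtain ⟨u, rfl⟩ := (tv e).surjective u
  obtain ⟨v, rfl⟩ := (tv e).surjective v
  show f (tm e k *ᵥ tv e u) (tv e v) = f (tv e u) (tm e k' *ᵥ tv e v)
  rw [tm_mulVec, tm_mulVec]
  exact hkk u v

theorem alternating_tk {f : (ι → F) → (ι → F) → F} {K : Subalgebra F (Matrix κ κ F)}
    (h : ∀ k ∈ K, ∀ v : κ → F, pull e f (k *ᵥ v) v = 0) :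
    ∀ k ∈ tk e K, ∀ v : ι → F, f (k *ᵥ v) v = 0 := by
  rintro _ ⟨k, hk, rfl⟩ v
  obtain ⟨v, rfl⟩ := (tv e).surjective v
  show f (tm e k *ᵥ tv e v) (tv e v) = 0
  rw [tm_mulVec]
  exact h k hk v

theorem subalgebraNormalizer_comap (K : Subalgebra F (Matrix κ κ F)) :
    (Geo.subalgebraNormalizer (tk e K)).comap (tg e).toMonoidHom = Geo.subalgebraNormalizer K := by
  ext g
  show (∀ k, k ∈ tk e K ↔
      (tg e g : Matrix ι ι F) * k * (((tg e g)⁻¹ : GL ι F) : Matrix ι ι F) ∈ tk e K) ↔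
    ∀ k, k ∈ K ↔ (g : Matrix κ κ F) * k * ((g⁻¹ : GL κ F) : Matrix κ κ F) ∈ K
  simp only [(tm e).surjective.forall, ← map_inv, coe_tg, ← map_mul, mem_tk]

/-! ### Subfields -/

theorem tm_scalar (c : F) : tm e (c • (1 : Matrix κ κ F)) = c • 1 := by
  rw [map_smul, map_one]

theorem tg_mem_scalars {g : GL κ F} : tg e g ∈ Geo.scalars ι F ↔ g ∈ Geo.scalars κ F := by
  rw [Geo.mem_scalars_iff, Geo.mem_scalars_iff]
  refine exists_congr fun c => ?_
  rw [coe_tg, ← tm_scalar e, (tm e).injective.eq_iff]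

theorem scalars_comap : (Geo.scalars ι F).comap (tg e).toMonoidHom = Geo.scalars κ F := by
  ext g; exact tg_mem_scalars e

theorem scalars_map : (Geo.scalars κ F).map (tg e).toMonoidHom = Geo.scalars ι F := by
  rw [← scalars_comap e]
  exact Subgroup.map_comap_eq_self_of_surjective (tg e).surjective _

theorem range_map (F₀ : Subfield F) :
    (Matrix.GeneralLinearGroup.map (n := κ) (F₀.subtype : F₀ →+* F)).range.map (tg e).toMonoidHom =
      (Matrix.GeneralLinearGroup.map (n := ι) (F₀.subtype : F₀ →+* F)).range := by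
  apply le_antisymm
  · rintro _ ⟨_, ⟨g, rfl⟩, rfl⟩
    exact ⟨tg e g, rfl⟩
  · rintro _ ⟨g, rfl⟩
    obtain ⟨g, rfl⟩ := (tg e).surjective g
    exact ⟨_, ⟨g, rfl⟩, rfl⟩

theorem subfieldSubgroup_comap (F₀ : Subfield F) (P : GL κ F) :
    (Geo.subfieldSubgroup F₀ (tg e P)).comap (tg e).toMonoidHom = Geo.subfieldSubgroup F₀ P := by
  have h : Geo.subfieldSubgroup F₀ (tg e P) = (Geo.subfieldSubgroup F₀ P).map (tg e).toMonoidHom := by
    unfold Geo.subfieldSubgroup
    rw [← range_map e, ← scalars_map e, ← Subgroup.map_sup, Subgroup.map_map, Subgroup.map_map]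
    congr 1
    refine MonoidHom.ext fun g => ?_
    show tg e P * tg e g * (tg e P)⁻¹ = tg e (P * g * P⁻¹)
    simp
  rw [h, Subgroup.comap_map_eq_self_of_injective]
  exact (tg e).injective

theorem isFormRationalStructure {f : (ι → F) → (ι → F) → F} {F₀ : Subfield F} {ζ : F} {P : GL κ F}
    (h : Geo.IsFormRationalStructure (pull e f) F₀ ζ P) :
    Geo.IsFormRationalStructure f F₀ ζ (tg e P) := by
  intro u v hu hv
  obtain ⟨u, rfl⟩ := (tv e).surjective u
  obtain ⟨v, rfl⟩ := (tv e).surjective v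
  rw [tg_mulVec, tg_mulVec]
  exact h u v (fun i => by simpa [tv_apply] using hu (e i)) fun i => by simpa [tv_apply] using hv (e i)

theorem realisableOver {F₀ : Subfield F} {P : Subgroup (GL κ F)}
    (h : Geo.RealisableOver F₀ (Geo.matrixSet (P.map (tg e).toMonoidHom))) :
    Geo.RealisableOver F₀ (Geo.matrixSet P) := by
  obtain ⟨B, hB⟩ := h
  obtain ⟨B, rfl⟩ := (tg e).surjective B
  refine ⟨B, ?_⟩
  rintro _ ⟨x, hx, rfl⟩ i j
  have h1 := hB _ ⟨tg e x, ⟨x, hx, rfl⟩, rfl⟩ (e i) (e j)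
  beta_reduce at h1 ⊢
  rw [← map_inv, coe_tg, coe_tg, coe_tg, ← map_mul, ← map_mul, tm_apply] at h1
  simpa using h1

/-! ### Subgroups -/

theorem subgroupNormalizer_comap (R : Subgroup (GL κ F)) :
    (Geo.subgroupNormalizer (R.map (tg e).toMonoidHom)).comap (tg e).toMonoidHom =
      Geo.subgroupNormalizer R := by
  ext g
  show tg e g ∈ Subgroup.normalizer _ ↔ g ∈ Subgroup.normalizer _
  simp only [Subgroup.mem_normalizer_iff, (tg e).surjective.forall, ← map_inv, ← map_mul]
  refine forall_congr' fun x => ?_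
  exact iff_congr (Subgroup.mem_map_iff_mem (tg e).injective) (Subgroup.mem_map_iff_mem (tg e).injective)

theorem actsAbsolutelyIrreducibly {R : Subgroup (GL κ F)}
    (h : Geo.ActsAbsolutelyIrreducibly (Geo.matrixSet R)) :
    Geo.ActsAbsolutelyIrreducibly (Geo.matrixSet (R.map (tg e).toMonoidHom)) := by
  refine ⟨fun W hW => ?_, fun M hM => ?_⟩
  · rcases h.1 (W.comap (tv e).toLinearMap) (by
      rintro _ ⟨x, hx, rfl⟩ _ ⟨v, hv, rfl⟩
      show tv e ((x : Matrix κ κ F) *ᵥ v) ∈ W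
      rw [← tg_mulVec]
      exact hW _ ⟨tg e x, ⟨x, hx, rfl⟩, rfl⟩ ⟨_, hv, rfl⟩) with h1 | h1
    · left
      refine (Submodule.eq_bot_iff W).2 fun v hv => ?_
      obtain ⟨v, rfl⟩ := (tv e).surjective v
      have h2 : v ∈ W.comap (tv e).toLinearMap := hv
      rw [h1, Submodule.mem_bot] at h2
      rw [h2, map_zero]
    · right
      refine eq_top_iff.2 fun v _ => ?_
      obtain ⟨v, rfl⟩ := (tv e).surjective v
      exact (h1.ge (Submodule.mem_top : v ∈ ⊤) : v ∈ W.comap (tv e).toLinearMap)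
  · obtain ⟨M, rfl⟩ := (tm e).surjective M
    obtain ⟨c, hc⟩ := h.2 M (by
      rintro _ ⟨x, hx, rfl⟩
      have h1 := hM _ ⟨tg e x, ⟨x, hx, rfl⟩, rfl⟩
      beta_reduce at h1 ⊢
      rw [coe_tg, ← map_mul, ← map_mul] at h1
      exact (tm e).injective h1)
    exact ⟨c, by rw [hc, tm_scalar]⟩

theorem similarityGroup {f : (ι → F) → (ι → F) → F} {R : Subgroup (GL κ F)}
    (h : R ≤ Geo.similarityGroup (pull e f)) :
    R.map (tg e).toMonoidHom ≤ Geo.similarityGroup f := by
  rintro _ ⟨x, hx, rfl⟩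
  obtain ⟨c, hc⟩ := h hx
  refine ⟨c, fun u v => ?_⟩
  obtain ⟨u, rfl⟩ := (tv e).surjective u
  obtain ⟨v, rfl⟩ := (tv e).surjective v
  show f ((tg e x : Matrix ι ι F) *ᵥ tv e u) ((tg e x : Matrix ι ι F) *ᵥ tv e v) = _
  rw [tg_mulVec, tg_mulVec]
  exact hc u v

theorem card_center_congr {G₁ G₂ : Type*} [Group G₁] [Group G₂] (φ : G₁ ≃* G₂) : Nat.card (Subgroup.center G₁) = Nat.card (Subgroup.center G₂) :=
  Nat.card_congr
    { toFun := fun z => ⟨φ z, Subgroup.mem_center_iff.2 fun g => by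
        obtain ⟨g, rfl⟩ := φ.surjective g
        rw [← map_mul, Subgroup.mem_center_iff.1 z.2 g, map_mul]⟩
      invFun := fun z => ⟨φ.symm z, Subgroup.mem_center_iff.2 fun g => by
        obtain ⟨g, rfl⟩ := φ.symm.surjective g
        rw [← map_mul, Subgroup.mem_center_iff.1 z.2 g, map_mul]⟩
      left_inv := fun z => by simp
      right_inv := fun z => by simp }

/-- The restriction of the reindexing to a subgroup. -/
noncomputable def tsub (R : Subgroup (GL κ F)) : R ≃* R.map (tg e).toMonoidHom :=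
  R.equivMapOfInjective _ (tg e).injective

theorem isSymplecticTypeGroup {r : ℕ} {R : Subgroup (GL κ F)} (h : Geo.IsSymplecticTypeGroup r R) :
    Geo.IsSymplecticTypeGroup r (R.map (tg e).toMonoidHom) where
  prime := h.prime
  pGroup := h.pGroup.of_equiv (tsub e R)
  cyclic_of_characteristic A hA hAc := by
    set φ := tsub e R
    set B : Subgroup R := A.comap φ.toMonoidHom with hB
    have hBc : B.Characteristic := by
      refine Subgroup.characteristic_iff_comap_le.2 fun ψ x hx => ?_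
      have h1 := Subgroup.characteristic_iff_comap_le.1 hA ((φ.symm.trans ψ).trans φ)
      have h2 : φ x ∈ A.comap ((φ.symm.trans ψ).trans φ).toMonoidHom := by
        show φ (ψ (φ.symm (φ x))) ∈ A
        rw [MulEquiv.symm_apply_apply]
        exact hx
      exact h1 h2
    have hBm : IsMulCommutative B := ⟨⟨fun x y => by
      have hc := hAc.is_comm.comm ⟨φ x.1, x.2⟩ ⟨φ y.1, y.2⟩
      exact Subtype.ext (φ.injective (by
        rw [Subgroup.coe_mul, Subgroup.coe_mul, map_mul, map_mul]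
        exact congrArg Subtype.val hc))⟩⟩
    haveI := h.cyclic_of_characteristic B hBc hBm
    refine isCyclic_of_surjective
      (({ toFun := fun x => ⟨φ x.1, x.2⟩
          map_one' := Subtype.ext (map_one φ)
          map_mul' := fun x y => Subtype.ext (map_mul φ x.1 y.1) } : B →* A)) fun a => ?_
    exact ⟨⟨φ.symm a.1, by show φ (φ.symm a.1) ∈ A; rw [MulEquiv.apply_symm_apply]; exact a.2⟩,
      Subtype.ext (φ.apply_symm_apply a.1)⟩
  exponent_eq := by rw [← Monoid.exponent_eq_of_mulEquiv (tsub e R), h.exponent_eq]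

theorem isOfMinusType {k : ℕ} {R : Subgroup (GL κ F)} (h : Geo.IsOfMinusType k R) :
    Geo.IsOfMinusType k (R.map (tg e).toMonoidHom) := by
  intro A hAc hA
  set φ := tsub e R
  have h1 : Nat.card (A.comap φ.toMonoidHom) = Nat.card A :=
    Nat.card_congr (φ.toEquiv.subtypeEquiv fun x => Iff.rfl)
  rw [← h1]
  refine h _ ⟨⟨fun x y => ?_⟩⟩ fun x hx => φ.injective (by rw [map_mul, map_one]; exact hA _ hx)
  have hc := hAc.is_comm.comm ⟨φ x.1, x.2⟩ ⟨φ y.1, y.2⟩
  exact Subtype.ext (φ.injective (by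
    rw [Subgroup.coe_mul, Subgroup.coe_mul, map_mul, map_mul]
    exact congrArg Subtype.val hc))

/-! ### Quadratic forms -/

theorem isNondegenerateQuadraticForm {Q : (κ → F) → F} (h : Geo.IsNondegenerateQuadraticForm Q) :
    Geo.IsNondegenerateQuadraticForm fun v => Q ((tv e).symm v) := by
  have hp : ∀ u v, QuadraticMap.polar (fun v => Q ((tv e).symm v)) u v =
      QuadraticMap.polar Q ((tv e).symm u) ((tv e).symm v) := fun u v => by
    simp only [QuadraticMap.polar, map_add]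
  refine ⟨fun c v => by simp only [map_smul, h.smul], ?_, ?_⟩
  · exact ⟨fun x y v => by simp only [hp, map_add, h.polar_bilinear.add_left],
      fun c x v => by simp only [hp, map_smul, h.polar_bilinear.smul_left],
      fun v x y => by simp only [hp, map_add, h.polar_bilinear.add_right],
      fun c v x => by simp only [hp, map_smul, h.polar_bilinear.smul_right]⟩
  · intro v hv
    obtain ⟨h1, h2⟩ := h.nondegenerate ((tv e).symm v)
      (mt (map_eq_zero_iff (tv e).symm (tv e).symm.injective).1 hv)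
    simp only [hp]
    rw [(tv e).symm.surjective.exists] at h1 h2
    exact ⟨h1, h2⟩

theorem quadSimilarityGroup_comap (Q : (κ → F) → F) :
    (Geo.quadSimilarityGroup fun v => Q ((tv e).symm v)).comap (tg e).toMonoidHom =
      Geo.quadSimilarityGroup Q := by
  ext g
  show (∃ c : Fˣ, ∀ v, Q ((tv e).symm ((tg e g : Matrix ι ι F) *ᵥ v)) = (c : F) * Q ((tv e).symm v)) ↔
    ∃ c : Fˣ, ∀ v, Q ((g : Matrix κ κ F) *ᵥ v) = (c : F) * Q v
  simp only [(tv e).surjective.forall, tg_mulVec, LinearEquiv.symm_apply_apply]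

/-! ### The residual class -/

theorem isResidualCore {H : Subgroup (GL ι F)} {P : Subgroup (GL κ F)}
    (h : Geo.IsResidualCore (H.comap (tg e).toMonoidHom) P) :
    Geo.IsResidualCore H (P.map (tg e).toMonoidHom) := by
  have hsub : ((Geo.scalars ι F).subgroupOf (P.map (tg e).toMonoidHom)).comap (tsub e P).toMonoidHom =
      (Geo.scalars κ F).subgroupOf P := by
    ext x
    exact tg_mem_scalars e
  let ψ : P ⧸ (Geo.scalars κ F).subgroupOf P ≃*
      P.map (tg e).toMonoidHom ⧸ (Geo.scalars ι F).subgroupOf (P.map (tg e).toMonoidHom) :=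
    QuotientGroup.congr _ _ (tsub e P) (by
      rw [← hsub]
      exact Subgroup.map_comap_eq_self_of_surjective (tsub e P).surjective _)
  refine ⟨Subgroup.map_le_iff_le_comap.2 h.le, ?_, ?_, ?_, ?_, ?_, actsAbsolutelyIrreducibly e h.absIrred,
    fun F₀ hF₀ hr => h.no_subfield F₀ hF₀ (realisableOver e hr)⟩
  · intro g hg _ hx
    obtain ⟨x, hx, rfl⟩ := hx
    obtain ⟨g, rfl⟩ := (tg e).surjective g
    exact ⟨_, h.normal g hg x hx, by simp⟩
  · rw [← Subgroup.map_commutator, h.perfect]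
  · haveI := h.simple
    haveI : Nontrivial (P.map (tg e).toMonoidHom ⧸ (Geo.scalars ι F).subgroupOf (P.map (tg e).toMonoidHom)) :=
      ψ.symm.toEquiv.nontrivial
    exact IsSimpleGroup.isSimpleGroup_of_surjective ψ.toMonoidHom ψ.surjective
  · intro hc
    exact h.nonabelian ⟨⟨fun a b => ψ.injective (by rw [map_mul, map_mul, hc.is_comm.comm])⟩⟩
  · intro g hg hcent
    obtain ⟨g, rfl⟩ := (tg e).surjective g
    refine (tg_mem_scalars e).2 (h.centralizer_scalar g hg fun x hx => (tg_mem_scalars e).1 ?_)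
    have := hcent _ ⟨x, hx, rfl⟩
    simpa using this

theorem fixesQuadForm {P : Subgroup (GL κ F)} {Q : (ι → F) → F}
    (h : Geo.FixesQuadForm (Geo.matrixSet (P.map (tg e).toMonoidHom)) Q) :
    Geo.FixesQuadForm (Geo.matrixSet P) fun v => Q (tv e v) := by
  rintro _ ⟨x, hx, rfl⟩ v
  show Q (tv e ((x : Matrix κ κ F) *ᵥ v)) = Q (tv e v)
  rw [← tg_mulVec]
  exact h _ ⟨tg e x, ⟨x, hx, rfl⟩, rfl⟩ _

theorem fixesForm {P : Subgroup (GL κ F)} {f : (ι → F) → (ι → F) → F}
    (h : Geo.FixesForm (Geo.matrixSet (P.map (tg e).toMonoidHom)) f) :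
    Geo.FixesForm (Geo.matrixSet P) (pull e f) := by
  rintro _ ⟨x, hx, rfl⟩ u v
  show f (tv e ((x : Matrix κ κ F) *ᵥ u)) (tv e ((x : Matrix κ κ F) *ᵥ v)) = f (tv e u) (tv e v)
  rw [← tg_mulVec, ← tg_mulVec]
  exact h _ ⟨tg e x, ⟨x, hx, rfl⟩, rfl⟩ _ _

theorem isUnitaryForm {σ : F ≃+* F} {f : (ι → F) → (ι → F) → F} (h : Geo.IsUnitaryForm σ f) :
    Geo.IsUnitaryForm σ (pull e f) where
  ne_refl := h.ne_refl
  involutive := h.involutive
  add_left x y v := by simp only [pull, map_add, h.add_left]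
  smul_left c x v := by simp only [pull, map_smul, h.smul_left]
  herm v w := h.herm _ _
  nondegenerate v hv := by
    obtain ⟨h1, h2⟩ := h.nondegenerate (tv e v) (mt (map_eq_zero_iff (tv e) (tv e).injective).1 hv)
    rw [(tv e).surjective.exists] at h1 h2
    exact ⟨h1, h2⟩

theorem inSymplecticResidualClass {H : Subgroup (GL ι F)}
    (h : Geo.InSymplecticResidualClass (H.comap (tg e).toMonoidHom)) :
    Geo.InSymplecticResidualClass H := by
  obtain ⟨P, hP, hQ, hU⟩ := h
  refine ⟨_, isResidualCore e hP, ?_, ?_⟩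
  · rintro ⟨Q, hQ', hfix⟩
    refine hQ ⟨_, ?_, fixesQuadForm e hfix⟩
    have := isNondegenerateQuadraticForm e.symm hQ'
    exact this
  · rintro ⟨σ, f, hf, hfix⟩
    exact hU ⟨σ, _, isUnitaryForm e hf, fixesForm e hfix⟩

end Cfsg.Agent.Aschbacher.Reindex
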