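import Mathlib

/-!
`11 : 5 < L₂(11) < SU₅(2)` in coordinates over a model of the field of order four on `Fin 4`
(`0, 1, ω, ω + 1`), with kernel-checked tables.
-/

set_option autoImplicit false
set_option maxRecDepth 10000

namespace Cfsg.Agent.Aschbacher.SUFiveTwo

/-- Vectors over the model of the field of order four. -/
abbrev Vec := Fin 5 → Fin 4

/-- Matrices over the model of the field of order four. -/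
abbrev Mat := Fin 5 → Fin 5 → Fin 4

/-- Addition of the model. -/
def fadd : Fin 4 → Fin 4 → Fin 4 := ![![0, 1, 2, 3], ![1, 0, 3, 2], ![2, 3, 0, 1], ![3, 2, 1, 0]]

/-- Multiplication of the model. -/
def fmul : Fin 4 → Fin 4 → Fin 4 := ![![0, 0, 0, 0], ![0, 1, 2, 3], ![0, 2, 3, 1], ![0, 3, 1, 2]]

/-- The automorphism of the model. -/
def fconj : Fin 4 → Fin 4 := ![0, 1, 3, 2]

/-- A sum of five terms. -/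
def sum5 (p : Fin 5 → Fin 4) : Fin 4 := fadd (fadd (fadd (fadd (p 0) (p 1)) (p 2)) (p 3)) (p 4)

/-- Matrix product. -/
def mmul (A B : Mat) : Mat := fun i j => sum5 fun k => fmul (A i k) (B k j)

/-- Matrix times vector. -/
def mvec (A : Mat) (v : Vec) : Vec := fun i => sum5 fun k => fmul (A i k) (v k)

/-- The identity matrix. -/
def mone : Mat := fun i j => if i = j then 1 else 0

/-- Conjugate transpose. -/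
def mconjT (A : Mat) : Mat := fun i j => fconj (A j i)

/-- The trace. -/
def mtrace (A : Mat) : Fin 4 := sum5 fun i => A i i

def zPow : Fin 11 → Mat :=
  ![![![1, 0, 0, 0, 0], ![0, 1, 0, 0, 0], ![0, 0, 1, 0, 0], ![0, 0, 0, 1, 0], ![0, 0, 0, 0, 1]],
    ![![0, 1, 2, 1, 0], ![0, 1, 2, 0, 3], ![3, 1, 2, 0, 0], ![1, 3, 2, 2, 1], ![3, 3, 3, 1, 3]],
    ![![0, 0, 3, 2, 2], ![3, 1, 3, 3, 1], ![1, 0, 0, 3, 3], ![0, 2, 0, 3, 3], ![1, 2, 1, 2, 1]],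
    ![![1, 3, 3, 1, 3], ![2, 0, 0, 3, 3], ![1, 1, 1, 3, 1], ![1, 2, 0, 2, 0], ![2, 0, 3, 3, 0]],
    ![![1, 0, 2, 0, 1], ![1, 2, 0, 0, 1], ![3, 0, 0, 1, 3], ![2, 2, 2, 2, 3], ![1, 3, 3, 3, 3]],
    ![![2, 0, 2, 0, 3], ![3, 0, 2, 0, 2], ![3, 2, 1, 2, 3], ![1, 1, 2, 2, 1], ![3, 1, 1, 3, 3]],
    ![![3, 2, 2, 1, 2], ![0, 0, 3, 1, 1], ![3, 3, 1, 3, 1], ![0, 0, 3, 3, 2], ![2, 3, 2, 1, 2]],
    ![![1, 1, 2, 3, 1], ![0, 3, 0, 3, 2], ![3, 0, 0, 3, 2], ![0, 0, 1, 3, 2], ![1, 1, 2, 2, 2]],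
    ![![1, 3, 1, 1, 3], ![2, 0, 1, 3, 0], ![2, 0, 1, 0, 2], ![1, 2, 2, 3, 2], ![2, 2, 1, 0, 0]],
    ![![0, 2, 1, 0, 1], ![0, 1, 0, 3, 3], ![2, 2, 0, 0, 1], ![3, 2, 2, 2, 3], ![3, 1, 2, 2, 1]],
    ![![0, 0, 2, 1, 2], ![1, 1, 1, 2, 2], ![3, 3, 3, 3, 2], ![1, 0, 0, 3, 1], ![0, 2, 0, 1, 2]]]

def fPow : Fin 5 → Mat :=
  ![![![1, 0, 0, 0, 0], ![0, 1, 0, 0, 0], ![0, 0, 1, 0, 0], ![0, 0, 0, 1, 0], ![0, 0, 0, 0, 1]],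
    ![![0, 0, 1, 2, 2], ![1, 1, 1, 3, 1], ![3, 2, 1, 3, 1], ![0, 0, 3, 3, 2], ![1, 2, 3, 2, 3]],
    ![![1, 1, 1, 1, 3], ![3, 1, 0, 2, 0], ![0, 2, 1, 3, 0], ![0, 2, 0, 3, 3], ![3, 2, 3, 1, 2]],
    ![![1, 2, 0, 0, 2], ![1, 1, 3, 3, 3], ![1, 0, 1, 0, 2], ![1, 3, 2, 2, 1], ![2, 0, 0, 2, 3]],
    ![![0, 1, 2, 0, 1], ![0, 1, 3, 0, 3], ![1, 1, 1, 2, 2], ![3, 2, 2, 2, 3], ![3, 1, 1, 3, 2]]]

def invol : Mat :=
  ![![0, 0, 2, 0, 0], ![0, 0, 0, 3, 0], ![3, 0, 0, 0, 0], ![0, 2, 0, 0, 0], ![0, 0, 0, 0, 1]]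

def transv : Mat :=
  ![![1, 0, 0, 0, 0], ![0, 1, 0, 0, 0], ![0, 0, 1, 0, 0], ![0, 0, 0, 0, 1], ![0, 0, 0, 1, 0]]

def krylov : Mat :=
  ![![1, 0, 0, 1, 1], ![0, 0, 3, 2, 1], ![0, 3, 1, 1, 3], ![0, 1, 0, 1, 2], ![0, 3, 1, 2, 1]]

def krylovInv : Mat :=
  ![![1, 1, 0, 2, 3], ![0, 3, 3, 0, 1], ![0, 2, 1, 0, 1], ![0, 2, 1, 3, 0], ![0, 3, 1, 1, 3]]

def orbit : Fin 55 → Vec :=
  ![![0, 0, 0, 0, 1], ![0, 1, 0, 1, 1], ![0, 1, 2, 0, 1], ![0, 1, 3, 3, 0], ![0, 2, 1, 0, 1],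
    ![0, 2, 1, 3, 0], ![0, 2, 2, 0, 2], ![0, 3, 0, 1, 3], ![0, 3, 0, 2, 1], ![0, 3, 3, 2, 0],
    ![1, 0, 1, 0, 1], ![1, 0, 1, 1, 0], ![1, 0, 3, 0, 3], ![1, 1, 0, 1, 0], ![1, 1, 1, 1, 1],
    ![1, 1, 2, 3, 1], ![1, 1, 3, 3, 3], ![1, 2, 0, 2, 0], ![1, 2, 1, 2, 1], ![1, 2, 2, 2, 2],
    ![1, 2, 3, 2, 3], ![1, 3, 1, 3, 1], ![1, 3, 2, 2, 1], ![1, 3, 2, 3, 2], ![1, 3, 2, 3, 3],
    ![2, 0, 0, 3, 1], ![2, 0, 2, 1, 0], ![2, 0, 3, 0, 1], ![2, 1, 1, 2, 2], ![2, 1, 1, 2, 3],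
    ![2, 1, 2, 1, 1], ![2, 1, 3, 3, 1], ![2, 2, 0, 3, 0], ![2, 2, 1, 3, 1], ![2, 2, 2, 1, 2],
    ![2, 2, 3, 1, 1], ![2, 3, 2, 1, 3], ![2, 3, 2, 3, 1], ![2, 3, 3, 0, 0], ![2, 3, 3, 2, 1],
    ![3, 0, 0, 2, 1], ![3, 0, 0, 3, 2], ![3, 0, 2, 2, 0], ![3, 1, 2, 0, 0], ![3, 1, 2, 2, 1],
    ![3, 1, 3, 1, 1], ![3, 1, 3, 3, 2], ![3, 2, 1, 1, 1], ![3, 2, 3, 1, 2], ![3, 2, 3, 1, 3],
    ![3, 2, 3, 2, 1], ![3, 3, 1, 0, 0], ![3, 3, 1, 1, 3], ![3, 3, 1, 2, 1], ![3, 3, 1, 3, 2]]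

def zPerm : Fin 55 → Fin 55 :=
  ![7, 4, 30, 41, 8, 40, 10, 31, 12, 6, 29, 47, 24, 2, 25, 14, 49, 5, 38, 42, 13, 34, 39, 46, 50, 53, 37, 17, 19, 15, 45, 51, 20, 52, 0, 26, 18, 54, 35, 3, 36, 43, 21, 32, 1, 22, 44, 23, 33, 28, 11, 16, 9, 48, 27]

def fPerm : Fin 55 → Fin 55 :=
  ![29, 7, 5, 27, 49, 1, 20, 53, 21, 3, 45, 51, 31, 37, 22, 13, 48, 47, 4, 33, 18, 25, 40, 0, 28, 43, 8, 12, 14, 41, 38, 9, 17, 32, 52, 46, 23, 11, 50, 35, 24, 36, 10, 26, 42, 54, 16, 19, 39, 6, 34, 15, 30, 2, 44]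

def sPerm : Fin 55 → Fin 55 :=
  ![0, 8, 40, 17, 25, 32, 41, 7, 1, 13, 27, 38, 12, 9, 39, 50, 20, 3, 31, 46, 16, 35, 45, 48, 49, 4, 51, 10, 28, 29, 53, 18, 5, 33, 54, 21, 52, 47, 11, 14, 2, 6, 43, 42, 44, 22, 19, 37, 23, 24, 15, 26, 36, 30, 34]

def moved : Fin 55 := 0

theorem zPow_zero : zPow 0 = mone := by decide

theorem zPow_succ : ∀ i, mmul (zPow i) (zPow 1) = zPow (i + 1) := by decide

theorem fPow_zero : fPow 0 = mone := by decide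

theorem fPow_succ : ∀ i, mmul (fPow i) (fPow 1) = fPow (i + 1) := by decide

theorem fPow_conj : mmul (mmul (fPow 1) (zPow 1)) (fPow 4) = zPow 4 := by decide

theorem invol_sq : mmul invol invol = mone := by decide

theorem transv_sq : mmul transv transv = mone := by decide

theorem unitary_gens : mmul (mconjT (zPow 1)) (zPow 1) = mone ∧ mmul (mconjT (fPow 1)) (fPow 1) = mone ∧
    mmul (mconjT invol) invol = mone ∧ mmul (mconjT transv) transv = mone := by decide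

theorem trace_zPow : ∀ i : Fin 11, mtrace (zPow i) = mtrace (zPow 1) →
    i = 1 ∨ i = 4 ∨ i = 5 ∨ i = 9 ∨ i = 3 := by decide

theorem invol_conj : ∀ i, mmul (mmul invol (zPow 1)) invol ≠ zPow i := by decide

theorem orbit_zPerm : ∀ a, mvec (zPow 1) (orbit a) = orbit (zPerm a) := by decide

theorem orbit_fPerm : ∀ a, mvec (fPow 1) (orbit a) = orbit (fPerm a) := by decide

theorem orbit_sPerm : ∀ a, mvec invol (orbit a) = orbit (sPerm a) := by decide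

theorem orbit_moved : ∀ a, orbit a ≠ mvec transv (orbit moved) := by decide

theorem krylov_inv : mmul krylov krylovInv = mone := by decide

theorem krylov_col : ∀ (i : Fin 5) (j : Fin 5), krylov i j = zPow (Fin.castLE (by omega) j) i 0 := by decide

end Cfsg.Agent.Aschbacher.SUFiveTwo
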