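import Cfsg.Agent.Lib.Aschbacher.Unitary
import Cfsg.Agent.Lib.Aschbacher.SUFiveTwoModel
import Cfsg.Agent.Lib.Forms.Herm

/-!
In `SU₅(2)` the normaliser of a field of degree five is not maximal: it lies in a copy of `L₂(11)`.
-/

set_option autoImplicit false

namespace Cfsg.Agent.Aschbacher.SUFiveTwo

open Matrix
open Fin.NatCast
open scoped MatrixGroups

variable {F : Type*} [Field F]

/-- The model inside `F`. -/
def toF (ω : F) : Fin 4 → F := ![0, 1, ω, ω + 1]

/-- Vectors of the model inside `F`. -/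
def toV (ω : F) (v : Vec) : Fin 5 → F := fun i => toF ω (v i)

/-- Matrices of the model inside `F`. -/
def toM (ω : F) (A : Mat) : Matrix (Fin 5) (Fin 5) F := Matrix.of fun i j => toF ω (A i j)

variable {ω : F} (hω : ω * ω = ω + 1) (h2 : (2 : F) = 0)

include hω in
theorem omega_ne : ω ≠ 0 ∧ ω ≠ 1 := by
  constructor
  · rintro rfl; simp at hω
  · rintro rfl; simp at hω

include h2 in
theorem toF_fadd (a b : Fin 4) : toF ω (fadd a b) = toF ω a + toF ω b := by
  fin_cases a <;> fin_cases b <;> simp [toF, fadd]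
  all_goals first
    | ring1 | linear_combination h2 | linear_combination -h2
    | linear_combination ω * h2 | linear_combination -ω * h2
    | linear_combination (ω + 1) * h2 | linear_combination -(ω + 1) * h2

include hω h2 in
theorem toF_fmul (a b : Fin 4) : toF ω (fmul a b) = toF ω a * toF ω b := by
  fin_cases a <;> fin_cases b <;> simp [toF, fmul]
  all_goals first
    | ring1 | linear_combination hω | linear_combination -hω
    | linear_combination -hω - ω * h2 | linear_combination -hω - (ω + 1) * h2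
    | linear_combination hω + ω * h2 | linear_combination hω + (ω + 1) * h2

include hω h2 in
theorem toF_fconj (a : Fin 4) : toF ω (fconj a) = toF ω a ^ 2 := by
  fin_cases a <;> simp [toF, fconj]
  all_goals first
    | ring1 | linear_combination -hω | linear_combination hω
    | linear_combination -hω - (ω + 1) * h2 | linear_combination hω + (ω + 1) * h2

include hω h2 in
theorem toF_injective : Function.Injective (toF ω) := by
  obtain ⟨h0, h1⟩ := omega_ne hω
  have h3 : ω + 1 ≠ 0 := fun h => h1 (by linear_combination h - h2)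
  intro a b
  fin_cases a <;> fin_cases b <;> simp [toF, h0, h1, h3, Ne.symm h0, Ne.symm h1, Ne.symm h3]

include hω h2

theorem toF_sum5 (p : Fin 5 → Fin 4) : toF ω (sum5 p) = ∑ i, toF ω (p i) := by
  simp only [sum5, toF_fadd h2, Fin.sum_univ_five]

theorem toM_mmul (A B : Mat) : toM ω (mmul A B) = toM ω A * toM ω B := by
  ext i j
  simp only [toM, Matrix.of_apply, mmul, Matrix.mul_apply, toF_sum5 hω h2, toF_fmul hω h2]

theorem toV_mvec (A : Mat) (v : Vec) : toV ω (mvec A v) = toM ω A *ᵥ toV ω v := by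
  funext i
  simp only [toV, mvec, toF_sum5 hω h2, toF_fmul hω h2, Matrix.mulVec, dotProduct, toM, Matrix.of_apply]

theorem toM_mone : toM ω mone = 1 := by
  ext i j
  by_cases h : i = j <;> simp [toM, mone, toF, h, Matrix.one_apply]

theorem toM_injective : Function.Injective (toM ω) := fun A B h => funext fun i => funext fun j =>
  toF_injective hω h2 (congrFun (congrFun h i) j)

theorem toV_injective : Function.Injective (toV ω) := fun v w h => funext fun i =>
  toF_injective hω h2 (congrFun h i)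

theorem trace_toM (A : Mat) : (toM ω A).trace = toF ω (mtrace A) := by
  simp only [mtrace, toF_sum5 hω h2, Matrix.trace, Matrix.diag_apply, toM, Matrix.of_apply]

/-- An invertible matrix of the model. -/
def glOf (A B : Mat) (hAB : mmul A B = mone) (hBA : mmul B A = mone) : GL (Fin 5) F where
  val := toM ω A
  inv := toM ω B
  val_inv := by rw [← toM_mmul hω h2, hAB, toM_mone hω h2]
  inv_val := by rw [← toM_mmul hω h2, hBA, toM_mone hω h2]

theorem glOf_val (A B : Mat) (hAB : mmul A B = mone) (hBA : mmul B A = mone) :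
    ((glOf hω h2 A B hAB hBA : GL (Fin 5) F) : Matrix (Fin 5) (Fin 5) F) = toM ω A := rfl

omit hω h2

variable [Fintype F]

theorem mem_GU_iff {σ : F ≃+* F} (hσ : ∀ a, σ a = a ^ 2) {g : GL (Fin 5) F} :
    g ∈ GU 5 F 2 ↔ ((g : Matrix (Fin 5) (Fin 5) F).map σ)ᵀ * (g : Matrix (Fin 5) (Fin 5) F) = 1 := by
  have hf : ∀ u v, hermForm 5 F 2 u v = matForm σ (1 : Matrix (Fin 5) (Fin 5) F) u v := fun u v => by
    simp [hermForm, matForm, dotProduct, hσ]
  constructor
  · intro hg
    rw [← Matrix.transpose_inj]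
    rw [Matrix.transpose_mul, Matrix.transpose_transpose, Matrix.transpose_one]
    ext i j
    rw [← matForm_single σ (_ * _)]
    conv_lhs => rw [← mul_one (g : Matrix (Fin 5) (Fin 5) F)ᵀ]
    rw [← matForm_mulVec, ← hf, ← matForm_single σ (1 : Matrix (Fin 5) (Fin 5) F), ← hf]
    exact hg _ _
  · intro hg u v
    have h1 := congrArg Matrix.transpose hg
    rw [Matrix.transpose_mul, Matrix.transpose_transpose, Matrix.transpose_one] at h1
    show hermForm 5 F 2 ((g : Matrix (Fin 5) (Fin 5) F) *ᵥ u) ((g : Matrix (Fin 5) (Fin 5) F) *ᵥ v) = _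
    rw [hf, hf, matForm_mulVec, mul_one, h1]

theorem glOf_mem_GU {σ : F ≃+* F} (hσ : ∀ a, σ a = a ^ 2) (hω : ω * ω = ω + 1) (h2 : (2 : F) = 0)
    {A B : Mat} (hAB : mmul A B = mone) (hBA : mmul B A = mone) (hu : mmul (mconjT A) A = mone) :
    glOf hω h2 A B hAB hBA ∈ GU 5 F 2 := by
  rw [mem_GU_iff hσ, glOf_val]
  have h1 := congrArg (toM ω) hu
  rw [toM_mmul hω h2, toM_mone hω h2] at h1
  rw [show ((toM ω A).map σ)ᵀ = toM ω (mconjT A) from Matrix.ext fun i j => by
    simp [toM, mconjT, toF_fconj hω h2, hσ]]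
  exact h1

theorem not_maximal_fieldCase {F : Type*} [Field F] [Fintype F] (hF : Fintype.card F = 2 ^ 2)
    {H : Subgroup (GL (Fin 5) F)}
    (hH : Geo.IsMaximalIn (GU 5 F 2 ⊓ Geo.specialLinear (Fin 5) F) H)
    {K : Subalgebra F (Matrix (Fin 5) (Fin 5) F)} (hK : Geo.IsFieldSubalgebra 5 K)
    (hHK : H ≤ Geo.subalgebraNormalizer K) {x₀ : GL (Fin 5) F} (hx₀H : x₀ ∈ H)
    (hx₀K : (x₀ : Matrix (Fin 5) (Fin 5) F) ∈ K) (hx₀s : x₀ ∉ Geo.scalars (Fin 5) F) : False := by
  classical
  haveI hc2 : CharP F 2 := ringChar.of_eq (FiniteField.even_card_iff_char_two.2 (by rw [hF]; norm_num))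
  haveI : Fact (Nat.Prime 2) := ⟨Nat.prime_two⟩
  have h2 : (2 : F) = 0 := CharTwo.two_eq_zero
  obtain ⟨ω, hω0, hω1⟩ : ∃ ω : F, ω ≠ 0 ∧ ω ≠ 1 := by
    obtain ⟨ω, -, hω⟩ := Finset.exists_mem_notMem_of_card_lt_card
      (s := ({0, 1} : Finset F)) (t := Finset.univ)
      (by rw [Finset.card_univ, hF]; exact Finset.card_le_two.trans_lt (by norm_num))
    simp only [Finset.mem_insert, Finset.mem_singleton, not_or] at hω
    exact ⟨ω, hω⟩
  have hcube : ∀ {a : F}, a ≠ 0 → a ^ 3 = 1 := fun {a} ha => by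
    have := FiniteField.pow_card_sub_one_eq_one a ha
    rwa [hF] at this
  have hω : ω * ω = ω + 1 := by
    have h3 : (ω - 1) * (ω * ω + ω + 1) = 0 := by linear_combination hcube hω0
    linear_combination (mul_eq_zero.1 h3).resolve_left (sub_ne_zero.2 hω1) - (ω + 1) * h2
  obtain ⟨σ, hherm, -⟩ := hermForm_herm (n := 5) (by norm_num) hF
  have hσ := hherm.apply_eq
  -- the generators
  let z : GL (Fin 5) F := glOf hω h2 (zPow 1) (zPow 10)
    (by rw [show zPow 1 = mmul (zPow 0) (zPow 1) from (zPow_succ 0).symm]; decide) (zPow_succ 10 ▸ zPow_zero)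
  let f : GL (Fin 5) F := glOf hω h2 (fPow 1) (fPow 4)
    (by decide) (fPow_succ 4 ▸ fPow_zero)
  let s : GL (Fin 5) F := glOf hω h2 invol invol invol_sq invol_sq
  let t : GL (Fin 5) F := glOf hω h2 transv transv transv_sq transv_sq
  have hzpow : ∀ m : ℕ, ((z ^ m : GL (Fin 5) F) : Matrix (Fin 5) (Fin 5) F) = toM ω (zPow (m : Fin 11)) := by
    intro m
    induction m with
    | zero => rw [pow_zero, Units.val_one, Nat.cast_zero, zPow_zero, toM_mone hω h2]
    | succ m ih => rw [pow_succ, Units.val_mul, ih, glOf_val, ← toM_mmul hω h2, zPow_succ, Nat.cast_succ]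
  have hfpow : ∀ m : ℕ, ((f ^ m : GL (Fin 5) F) : Matrix (Fin 5) (Fin 5) F) = toM ω (fPow (m : Fin 5)) := by
    intro m
    induction m with
    | zero => rw [pow_zero, Units.val_one, Nat.cast_zero, fPow_zero, toM_mone hω h2]
    | succ m ih => rw [pow_succ, Units.val_mul, ih, glOf_val, ← toM_mmul hω h2, fPow_succ, Nat.cast_succ]
  have hz11 : z ^ 11 = 1 := Units.ext (by
    rw [hzpow, show ((11 : ℕ) : Fin 11) = 0 from rfl, zPow_zero, toM_mone hω h2, Units.val_one])
  have hf5 : f ^ 5 = 1 := Units.ext (by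
    rw [hfpow, show ((5 : ℕ) : Fin 5) = 0 from rfl, fPow_zero, toM_mone hω h2, Units.val_one])
  have hz1 : z ≠ 1 := fun h => by
    have h1 : toM ω (zPow 1) = toM ω mone := by
      rw [toM_mone hω h2]
      exact congrArg Units.val h
    exact absurd (toM_injective hω h2 h1) (by decide)
  haveI : Fact (Nat.Prime 11) := ⟨by norm_num⟩
  have hzord : orderOf z = 11 := orderOf_eq_prime hz11 hz1
  have hs2 : s ^ 2 = 1 := by
    rw [pow_two]; exact Units.ext (by rw [Units.val_mul, glOf_val, ← toM_mmul hω h2, invol_sq,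
      toM_mone hω h2, Units.val_one])
  have ht2 : t ^ 2 = 1 := by
    rw [pow_two]; exact Units.ext (by rw [Units.val_mul, glOf_val, ← toM_mmul hω h2, transv_sq,
      toM_mone hω h2, Units.val_one])
  set I := GU 5 F 2 ⊓ Geo.specialLinear (Fin 5) F with hI
  have hdetone : ∀ {g : GL (Fin 5) F} {m : ℕ}, Nat.Coprime m 3 → g ^ m = 1 →
      g ∈ Geo.specialLinear (Fin 5) F := by
    intro g m hm hg
    show Matrix.GeneralLinearGroup.det g = 1
    have h3 : (Matrix.GeneralLinearGroup.det g) ^ 3 = 1 := Units.ext (by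
      rw [Units.val_pow_eq_pow_val, hcube (Units.ne_zero _), Units.val_one])
    have hm' : (Matrix.GeneralLinearGroup.det g) ^ m = 1 := by rw [← map_pow, hg, map_one]
    have := pow_gcd_eq_one.2 ⟨hm', h3⟩
    rwa [hm.gcd_eq_one, pow_one] at this
  obtain ⟨huz, huf, hus, hut⟩ := unitary_gens
  have hzI : z ∈ I := ⟨glOf_mem_GU hσ hω h2 _ _ huz, hdetone (by norm_num) hz11⟩
  have hfI : f ∈ I := ⟨glOf_mem_GU hσ hω h2 _ _ huf, hdetone (by norm_num) hf5⟩
  have hsI : s ∈ I := ⟨glOf_mem_GU hσ hω h2 _ _ hus, hdetone (by norm_num) hs2⟩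
  have htI : t ∈ I := ⟨glOf_mem_GU hσ hω h2 _ _ hut, hdetone (by norm_num) ht2⟩
  -- the field
  letI iC : CommRing K := { (inferInstance : Ring K) with
    mul_comm := fun a b => Subtype.ext (hK.comm _ a.2 _ b.2) }
  haveI : NoZeroDivisors K := ⟨fun {a b} hab => by
    by_contra hne
    push Not at hne
    obtain ⟨y, hy, hay⟩ := hK.inv _ a.2 (fun h => hne.1 (Subtype.ext h))
    refine hne.2 (Subtype.ext ?_)
    show (b : Matrix (Fin 5) (Fin 5) F) = 0
    have hab' : (a : Matrix (Fin 5) (Fin 5) F) * b = 0 := congrArg Subtype.val hab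
    rw [← one_mul (b : Matrix (Fin 5) (Fin 5) F), ← hay, hK.comm _ a.2 _ hy, mul_assoc, hab', mul_zero]⟩
  haveI : IsDomain K := NoZeroDivisors.to_isDomain _
  haveI : Fintype K := Fintype.ofFinite _
  have hcardK : Fintype.card K = 4 ^ 5 := by
    rw [Module.card_eq_pow_finrank (K := F) (V := K), hF, hK.finrank_eq]; norm_num
  -- an element of order eleven in the field
  obtain ⟨x, hxG, hxK, hxord⟩ : ∃ x : GL (Fin 5) F, x ∈ GU 5 F 2 ∧
      (x : Matrix (Fin 5) (Fin 5) F) ∈ K ∧ orderOf x = 11 := by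
    have h1 : x₀ ^ (4 ^ 5 - 1) = 1 := by
      letI := Fintype.fieldOfDomain K
      have hne : (⟨_, hx₀K⟩ : K) ≠ 0 := fun h => x₀.ne_zero (congrArg Subtype.val h)
      have h := FiniteField.pow_card_sub_one_eq_one (⟨_, hx₀K⟩ : K) hne
      rw [hcardK] at h
      refine Units.ext ?_
      rw [Units.val_pow_eq_pow_val, Units.val_one]
      simpa using congrArg Subtype.val h
    have hx₀G : x₀ ∈ GU 5 F 2 := (hH.1.le hx₀H).1
    have h3 : orderOf x₀ ∣ 33 := by
      have ha : orderOf x₀ ∣ 1023 := orderOf_dvd_of_pow_eq_one (by simpa using h1)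
      have hb : orderOf x₀ ∣ 41057280 := by
        have := Subgroup.orderOf_dvd_natCard _ hx₀G
        rwa [Forms.card_GU hF, show (2 : ℕ) ^ (5 * (5 - 1) / 2) * ∏ i ∈ Finset.range 5,
          (if Even i then 2 ^ (i + 1) + 1 else 2 ^ (i + 1) - 1) = 41057280 by decide] at this
      exact (Nat.dvd_gcd ha hb).trans (by norm_num)
    refine ⟨x₀ ^ 3, Subgroup.pow_mem _ hx₀G 3, by
      rw [Units.val_pow_eq_pow_val]; exact pow_mem hx₀K 3, orderOf_eq_prime ?_ fun hx3 => hx₀s ?_⟩
    · rw [← pow_mul]; exact orderOf_dvd_iff_pow_eq_one.1 h3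
    · have hy : (⟨_, hx₀K⟩ : K) ^ 3 = 1 := Subtype.ext (by
        simpa using congrArg Units.val hx3)
      have hprim : IsPrimitiveRoot ω 3 := by
        haveI : Fact (Nat.Prime 3) := ⟨by norm_num⟩
        exact orderOf_eq_prime (hcube hω0) hω1 ▸ IsPrimitiveRoot.orderOf ω
      obtain ⟨i, -, hi⟩ := (hprim.map_of_injective (f := algebraMap F K)
        (RingHom.injective _)).eq_pow_of_pow_eq_one hy
      refine mem_scalars_of_smul_one (c := ω ^ i) ?_
      have := congrArg Subtype.val hi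
      rw [← map_pow] at this
      simpa [Algebra.algebraMap_eq_smul_one] using this.symm
  -- conjugate it to `z`
  set G := GU 5 F 2
  obtain ⟨h, hhG, hhz⟩ : ∃ h : GL (Fin 5) F, h ∈ G ∧ ∃ i : ℕ, h * z * h⁻¹ = x ^ i := by
    haveI : Finite G := inferInstance
    have hfac : (Nat.card G).factorization 11 = 1 := by
      rw [Forms.card_GU hF, show (2 : ℕ) ^ (5 * (5 - 1) / 2) * ∏ i ∈ Finset.range 5,
          (if Even i then 2 ^ (i + 1) + 1 else 2 ^ (i + 1) - 1) = 11 * 3732480 by decide,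
        Nat.factorization_mul (by norm_num) (by norm_num), Finsupp.add_apply,
        Nat.Prime.factorization_self (by norm_num), Nat.factorization_eq_zero_of_not_dvd (by norm_num)]
    have mk : ∀ y : G, orderOf (y : GL (Fin 5) F) = 11 →
        Nat.card (Subgroup.zpowers y) = 11 ^ (Nat.card G).factorization 11 := fun y hy => by
      rw [hfac, pow_one, Nat.card_zpowers, ← Subgroup.orderOf_coe, hy]
    let P : Sylow 11 G := Sylow.ofCard (Subgroup.zpowers ⟨z, hzI.1⟩) (mk _ hzord)
    let P' : Sylow 11 G := Sylow.ofCard (Subgroup.zpowers ⟨x, hxG⟩) (mk _ hxord)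
    obtain ⟨g, hg⟩ := MulAction.exists_smul_eq G P P'
    refine ⟨g, g.2, ?_⟩
    have h1 : g * ⟨z, hzI.1⟩ * g⁻¹ ∈ Subgroup.zpowers (⟨x, hxG⟩ : G) := by
      have h2 : g * ⟨z, hzI.1⟩ * g⁻¹ ∈ ((g • P : Sylow 11 G) : Subgroup G) := by
        rw [Sylow.coe_subgroup_smul, Subgroup.mem_pointwise_smul_iff_inv_smul_mem]
        simp [P, MulAut.smul_def, mul_assoc, Subgroup.mem_zpowers]
      rw [hg] at h2
      exact h2
    obtain ⟨i, hi⟩ := mem_powers_iff_mem_zpowers.2 h1
    exact ⟨i, by simpa using (congrArg Subtype.val hi).symm⟩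
  obtain ⟨i₀, hi₀⟩ := hhz
  have hK' : ∀ m : ℕ, ((h * z ^ m * h⁻¹ : GL (Fin 5) F) : Matrix (Fin 5) (Fin 5) F) ∈ K := fun m => by
    rw [← conj_pow, hi₀, ← pow_mul, Units.val_pow_eq_pow_val]
    exact pow_mem hxK _
  set y := h * z * h⁻¹ with hy
  have hyK : (y : Matrix (Fin 5) (Fin 5) F) ∈ K := by
    have := hK' 1
    rwa [pow_one] at this
  have hroot : ∀ {w : GL (Fin 5) F}, (w : Matrix (Fin 5) (Fin 5) F) ∈ K → w ^ 11 = 1 →
      ∃ i : ℕ, w = y ^ i := by
    intro w hw hw11
    have hy11 : (⟨_, hyK⟩ : K) ^ 11 = 1 := Subtype.ext (by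
      show (y : Matrix (Fin 5) (Fin 5) F) ^ 11 = 1
      rw [← Units.val_pow_eq_pow_val, conj_pow, hz11]
      simp)
    have hprim : IsPrimitiveRoot (⟨_, hyK⟩ : K) 11 := by
      refine orderOf_eq_prime hy11 (fun h1 => hz1 ?_) ▸ IsPrimitiveRoot.orderOf _
      have : y = 1 := Units.ext (congrArg Subtype.val h1)
      rwa [hy, conj_eq_one_iff] at this
    obtain ⟨i, -, hi⟩ := hprim.eq_pow_of_pow_eq_one (ξ := (⟨_, hw⟩ : K)) (Subtype.ext (by
      show (w : Matrix (Fin 5) (Fin 5) F) ^ 11 = 1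
      rw [← Units.val_pow_eq_pow_val, hw11, Units.val_one]))
    exact ⟨i, Units.ext (by simpa using (congrArg Subtype.val hi).symm)⟩
  -- centraliser of `z` in `I`
  have hcent : ∀ c ∈ I, c * z = z * c → ∃ i : ℕ, c = z ^ i := by
    intro c hc hcz
    set Z : Matrix (Fin 5) (Fin 5) F := (z : Matrix (Fin 5) (Fin 5) F) with hZ
    set C : Matrix (Fin 5) (Fin 5) F := (c : Matrix (Fin 5) (Fin 5) F) with hC
    have hCZ : Commute C Z := congrArg Units.val hcz
    set e : Fin 5 → F := Pi.single 0 1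
    set b : Fin 5 → F := toM ω krylovInv *ᵥ (C *ᵥ e)
    let P : Matrix (Fin 5) (Fin 5) F := ∑ i : Fin 5, b i • Z ^ (i : ℕ)
    have hZpow : ∀ m : ℕ, Z ^ m = toM ω (zPow (m : Fin 11)) := fun m => by
      rw [hZ, ← Units.val_pow_eq_pow_val, hzpow]
    have hkr : ∀ j : Fin 5, toM ω krylov *ᵥ Pi.single j 1 = Z ^ (j : ℕ) *ᵥ e := by
      intro j
      rw [hZpow, show ((j : ℕ) : Fin 11) = Fin.castLE (by omega) j from
        Fin.ext (by simp [Fin.val_natCast]; omega)]
      funext i
      simp [e, toM, krylov_col i j]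
    have hPe : P *ᵥ e = C *ᵥ e := by
      have h1 : toM ω krylov *ᵥ b = C *ᵥ e := by
        rw [Matrix.mulVec_mulVec, ← toM_mmul hω h2, krylov_inv, toM_mone hω h2, Matrix.one_mulVec]
      rw [← h1, Matrix.sum_mulVec]
      conv_rhs => rw [pi_eq_sum_univ' b, Matrix.mulVec_sum]
      exact Finset.sum_congr rfl fun i _ => by rw [Matrix.smul_mulVec, Matrix.mulVec_smul, hkr]
    have hPZ : Commute P Z := Commute.sum_left _ _ _ fun i _ =>
      ((Commute.refl Z).pow_left _).smul_left _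
    have hCP : C = P := by
      have h1 : C * toM ω krylov = P * toM ω krylov := Matrix.ext_of_mulVec_single fun j => by
        rw [← Matrix.mulVec_mulVec, ← Matrix.mulVec_mulVec, hkr, Matrix.mulVec_mulVec,
          (hCZ.pow_right _).eq, Matrix.mulVec_mulVec, (hPZ.pow_right _).eq, ← Matrix.mulVec_mulVec,
          ← Matrix.mulVec_mulVec, hPe]
      have h3 := congrArg (· * toM ω krylovInv) h1
      simpa only [mul_assoc, ← toM_mmul hω h2, krylov_inv, toM_mone hω h2, mul_one] using h3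
    -- the conjugate transpose is the thirty-second power
    have h32 : (C.map σ)ᵀ = C ^ 32 := by
      let p : Polynomial F := ∑ i : Fin 5, Polynomial.C (b i) * Polynomial.X ^ (i : ℕ)
      have hp : Polynomial.aeval Z p = C := by
        rw [hCP, map_sum]
        exact Finset.sum_congr rfl fun i _ => by
          rw [map_mul, Polynomial.aeval_C, map_pow, Polynomial.aeval_X, Algebra.smul_def]
      have h1 : C ^ 32 = ∑ i : Fin 5, (b i) ^ 32 • Z ^ ((i : ℕ) * 32) := by
        rw [← hp, ← map_pow, show (32 : ℕ) = 2 ^ 5 by norm_num, sum_pow_char_pow, map_sum]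
        exact Finset.sum_congr rfl fun i _ => by
          rw [mul_pow, ← pow_mul, map_mul, map_pow, map_pow (Polynomial.aeval Z), Polynomial.aeval_X,
            Polynomial.aeval_C, ← map_pow, Algebra.smul_def]
      have hZσ : (Z.map σ)ᵀ = Z ^ 10 := by
        have h4 : (Z.map σ)ᵀ * Z = 1 := (mem_GU_iff hσ).1 hzI.1
        calc (Z.map σ)ᵀ = (Z.map σ)ᵀ * Z ^ 11 := by
              rw [hZ, ← Units.val_pow_eq_pow_val, hz11, Units.val_one, mul_one]
          _ = Z ^ 10 := by rw [pow_succ', ← mul_assoc, h4, one_mul]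
      rw [h1, hCP]
      show (σ.toRingHom.mapMatrix P)ᵀ = _
      rw [map_sum, Matrix.transpose_sum]
      refine Finset.sum_congr rfl fun i _ => ?_
      have h5 : σ.toRingHom.mapMatrix (b i • Z ^ (i : ℕ)) = σ (b i) • (Z.map σ) ^ (i : ℕ) := by
        rw [show (Z.map σ) ^ (i : ℕ) = (Z ^ (i : ℕ)).map σ from (Matrix.map_pow Z σ.toRingHom _).symm]
        exact Matrix.ext fun k l => map_mul σ _ _
      rw [h5, Matrix.transpose_smul, Matrix.transpose_pow, hZσ, ← pow_mul, hσ]
      congr 1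
      · have h4 : ∀ a : F, a ^ 4 = a := fun a => by rw [← show Fintype.card F = 4 by rw [hF]; norm_num]; exact FiniteField.pow_card a
        rw [show b i ^ 32 = ((b i ^ 4) ^ 4) ^ 2 by ring, h4, h4]
      · rw [hZ, ← Units.val_pow_eq_pow_val, ← Units.val_pow_eq_pow_val]
        congr 1
        rw [pow_eq_pow_mod _ hz11, pow_eq_pow_mod ((i : ℕ) * 32) hz11]
        congr 1
        omega
    have hc33 : c ^ 33 = 1 := Units.ext (by
      rw [Units.val_pow_eq_pow_val, Units.val_one, pow_succ, ← hC, ← h32]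
      exact (mem_GU_iff hσ).1 hc.1)
    -- transport into the field
    have hconjK : ((h * c * h⁻¹ : GL (Fin 5) F) : Matrix (Fin 5) (Fin 5) F) ∈ K := by
      rw [Units.val_mul, Units.val_mul, ← hC, hCP, Finset.mul_sum, Finset.sum_mul]
      refine sum_mem fun i _ => ?_
      rw [mul_smul_comm, smul_mul_assoc]
      refine K.smul_mem ?_ _
      simpa [hZ, mul_assoc] using hK' (i : ℕ)
    set w := h * c * h⁻¹ with hw
    have hw11 : (w ^ 11) ^ 3 = 1 := by
      rw [← pow_mul, hw, conj_pow, hc33]; simp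
    have hprim : IsPrimitiveRoot ω 3 := by
      haveI : Fact (Nat.Prime 3) := ⟨by norm_num⟩
      exact orderOf_eq_prime (hcube hω0) hω1 ▸ IsPrimitiveRoot.orderOf ω
    have hwK : ((w ^ 11 : GL (Fin 5) F) : Matrix (Fin 5) (Fin 5) F) ∈ K := by
      rw [Units.val_pow_eq_pow_val]; exact pow_mem hconjK 11
    obtain ⟨j, -, hj⟩ := (hprim.map_of_injective (f := algebraMap F K)
      (RingHom.injective _)).eq_pow_of_pow_eq_one (ξ := (⟨_, hwK⟩ : K)) (Subtype.ext (by
        show ((w ^ 11 : GL (Fin 5) F) : Matrix (Fin 5) (Fin 5) F) ^ 3 = 1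
        rw [← Units.val_pow_eq_pow_val, hw11, Units.val_one]))
    have hsc : ((w ^ 11 : GL (Fin 5) F) : Matrix (Fin 5) (Fin 5) F) = ω ^ j • 1 := by
      have := congrArg Subtype.val hj
      rw [← map_pow] at this
      simpa [Algebra.algebraMap_eq_smul_one] using this.symm
    have hw1 : w ^ 11 = 1 := by
      refine Units.ext ?_
      have hwSL : w ^ 11 ∈ Geo.specialLinear (Fin 5) F := Subgroup.pow_mem _ (by
        show Matrix.GeneralLinearGroup.det w = 1
        have hd : Matrix.GeneralLinearGroup.det c = 1 := hc.2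
        rw [hw, map_mul, map_mul, hd, mul_one, map_inv, mul_inv_cancel]) _
      have hd1 := det_eq_one hwSL
      rw [hsc, Matrix.det_smul, Matrix.det_one, mul_one, Fintype.card_fin] at hd1
      have h3 := hcube (pow_ne_zero j hω0)
      have hsq : (ω ^ j) ^ 2 = 1 := by linear_combination hd1 - (ω ^ j) ^ 2 * h3
      have hone : ω ^ j = 1 := by linear_combination h3 - ω ^ j * hsq
      rw [hsc, hone, one_smul, Units.val_one]
    obtain ⟨i, hi⟩ := hroot hconjK hw1
    refine ⟨i, ?_⟩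
    rwa [hy, conj_pow, hw, mul_left_inj, mul_right_inj] at hi
  -- the normaliser of the field lies in the conjugate of `⟨z, f⟩`
  have hfz : ∀ j : ℕ, f ^ j * z * (f ^ j)⁻¹ = z ^ 4 ^ j := by
    have h1 : f * z * f⁻¹ = z ^ 4 := Units.ext (by
      rw [Units.val_mul, Units.val_mul, hzpow]
      show toM ω (fPow 1) * toM ω (zPow 1) * toM ω (fPow 4) = _
      rw [← toM_mmul hω h2, ← toM_mmul hω h2, fPow_conj]; rfl)
    intro j
    induction j with
    | zero => simp
    | succ j ih =>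
      rw [pow_succ f, _root_.mul_inv_rev, show f ^ j * f * z * (f⁻¹ * (f ^ j)⁻¹) =
        f ^ j * (f * z * f⁻¹) * (f ^ j)⁻¹ by group, h1, ← conj_pow, ih, ← pow_mul, ← pow_succ]
  have hN : ∀ g ∈ H, ∃ i j : ℕ, h⁻¹ * g * h = f ^ j * z ^ i := by
    intro g hg
    set g' := h⁻¹ * g * h with hg'
    have h1 : ((g * y * g⁻¹ : GL (Fin 5) F) : Matrix (Fin 5) (Fin 5) F) ∈ K := by
      rw [Units.val_mul, Units.val_mul]
      exact (hHK hg _).1 hyK
    obtain ⟨i, hi⟩ := hroot h1 (by rw [conj_pow, hy, conj_pow, hz11]; simp)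
    have h3 : g' * z * g'⁻¹ = z ^ i := by
      rw [hy, conj_pow] at hi
      rw [hg', show h⁻¹ * g * h * z * (h⁻¹ * g * h)⁻¹ = h⁻¹ * (g * (h * z * h⁻¹) * g⁻¹) * h by group, hi]
      group
    have htr : mtrace (zPow (i : Fin 11)) = mtrace (zPow 1) := by
      refine toF_injective hω h2 ?_
      rw [← trace_toM hω h2, ← trace_toM hω h2, ← hzpow, ← h3, Units.val_mul, Units.val_mul,
        Matrix.trace_units_conj]
      rfl
    obtain ⟨j, hj⟩ : ∃ j : ℕ, z ^ i = z ^ 4 ^ j := by
      have hi' : z ^ i = z ^ ((i : Fin 11) : ℕ) := by rw [Fin.val_natCast, ← pow_eq_pow_mod _ hz11]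
      rcases trace_zPow _ htr with e | e | e | e | e <;> rw [hi', e]
      · exact ⟨0, rfl⟩
      · exact ⟨1, rfl⟩
      · exact ⟨2, by rw [pow_eq_pow_mod (4 ^ 2) hz11]; rfl⟩
      · exact ⟨3, by rw [pow_eq_pow_mod (4 ^ 3) hz11]; rfl⟩
      · exact ⟨4, by rw [pow_eq_pow_mod (4 ^ 4) hz11]; rfl⟩
    have hgI : g' ∈ I := by
      have hgI := hH.1.le hg
      refine ⟨G.mul_mem (G.mul_mem (G.inv_mem hhG) hgI.1) hhG, ?_⟩
      show Matrix.GeneralLinearGroup.det g' = 1
      have hd : Matrix.GeneralLinearGroup.det g = 1 := hgI.2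
      rw [hg', map_mul, map_mul, hd, mul_one, map_inv, inv_mul_cancel]
    obtain ⟨i', hi'⟩ := hcent ((f ^ j)⁻¹ * g') (mul_mem (inv_mem (pow_mem hfI j)) hgI) (by
      have h5 : g' * z = (z ^ i) * g' := by rw [← h3, inv_mul_cancel_right]
      rw [hj, ← hfz] at h5
      rw [mul_assoc, h5]
      group)
    exact ⟨i', j, by rw [← hi', mul_inv_cancel_left]⟩
  -- the overgroup
  let M₀ : Subgroup (GL (Fin 5) F) := Subgroup.closure {z, f, s}
  let M := M₀.map (MulAut.conj h).toMonoidHom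
  have hzM : z ∈ M₀ := Subgroup.subset_closure (by simp)
  have hfM : f ∈ M₀ := Subgroup.subset_closure (by simp)
  have hsM : s ∈ M₀ := Subgroup.subset_closure (by simp)
  have hHM : H ≤ M := by
    intro g hg
    obtain ⟨i, j, hij⟩ := hN g hg
    exact ⟨h⁻¹ * g * h, hij ▸ mul_mem (pow_mem hfM j) (pow_mem hzM i), by simp [mul_assoc]⟩
  have hconjI : ∀ {g}, g ∈ I → h * g * h⁻¹ ∈ I := fun {g} hg => ⟨G.mul_mem (G.mul_mem hhG hg.1) (G.inv_mem hhG), by
    show Matrix.GeneralLinearGroup.det (h * g * h⁻¹) = 1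
    have hd : Matrix.GeneralLinearGroup.det g = 1 := hg.2
    rw [map_mul, map_mul, hd, mul_one, map_inv, mul_inv_cancel]⟩
  have hMI : M ≤ I := by
    rintro _ ⟨g, hg, rfl⟩
    refine hconjI ((Subgroup.closure_le I).2 ?_ hg)
    rintro _ (rfl | rfl | rfl) <;> assumption
  rcases hH.2 M hHM hMI with hM | hM
  · -- `s` does not normalise `⟨z⟩`
    have hsH : h * s * h⁻¹ ∈ H := hM ▸ ⟨s, hsM, rfl⟩
    obtain ⟨i, j, hij⟩ := hN _ hsH
    rw [show h⁻¹ * (h * s * h⁻¹) * h = s by group] at hij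
    have h1 : s * z * s = z ^ (4 ^ j) := by
      have hsinv : s = s⁻¹ := by
        rw [pow_two] at hs2
        exact eq_inv_of_mul_eq_one_left hs2
      conv_lhs => arg 2; rw [hsinv]
      rw [hij, ← hfz]
      group
    refine invol_conj ((4 ^ j : ℕ) : Fin 11) (toM_injective hω h2 ?_)
    rw [toM_mmul hω h2, toM_mmul hω h2, ← hzpow, ← h1]
    rfl
  · -- `t` moves the orbit
    have htM : t ∈ M₀ := by
      obtain ⟨g, hg, hgt⟩ := hM.ge (hconjI htI)
      have : g = t := (MulAut.conj h).injective hgt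
      exact this ▸ hg
    let S : Set (Fin 5 → F) := Set.range fun a => toV ω (orbit a)
    have hstab : ∀ {g : GL (Fin 5) F} {A : Mat} (π : Fin 55 → Fin 55),
        (g : Matrix (Fin 5) (Fin 5) F) = toM ω A → (∀ a, mvec A (orbit a) = orbit (π a)) →
        g ∈ stabilizing (glToMat (Fin 5) F) S := by
      intro g A π hgA hπ
      have hmap : Set.MapsTo ((g : Matrix (Fin 5) (Fin 5) F) *ᵥ ·) S S := by
        rintro _ ⟨a, rfl⟩
        exact ⟨π a, by simp only [hgA, ← toV_mvec hω h2, hπ]⟩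
      intro v
      refine ⟨fun hv => hmap hv, fun hv => ?_⟩
      obtain ⟨u, hu, huv⟩ := ((Set.Finite.injOn_iff_bijOn_of_mapsTo (Set.toFinite S) hmap).1
          (mulVec_injective g).injOn).surjOn hv
      exact (mulVec_injective g huv) ▸ hu
    have hle : M₀ ≤ stabilizing (glToMat (Fin 5) F) S := by
      rw [Subgroup.closure_le]
      rintro _ (rfl | rfl | rfl)
      · exact hstab zPerm rfl orbit_zPerm
      · exact hstab fPerm rfl orbit_fPerm
      · exact hstab sPerm rfl orbit_sPerm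
    obtain ⟨a, ha⟩ := ((hle htM) (toV ω (orbit moved))).1 ⟨moved, rfl⟩
    refine orbit_moved a (toV_injective hω h2 ?_)
    rw [toV_mvec hω h2]
    exact ha

end Cfsg.Agent.Aschbacher.SUFiveTwo
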