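import Mathlib

/-!
Finite models for `SU₃(3)` and `SU₃(5)`: overgroups (`L₂(7)`, `3.A₇`, `3.M₁₀`) of the normalisers that are not
maximal, given by sets of projective points they permute. The field with `p ^ 2` elements is `ZMod p × ZMod p`
with the square root of 2.
-/

set_option autoImplicit false
set_option maxRecDepth 20000

namespace Cfsg.Agent.Aschbacher.SUThree

/-- The model of the field of order `p ^ 2`. -/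
abbrev K2 (p : ℕ) := ZMod p × ZMod p

/-- Vectors. -/
abbrev Vec (p : ℕ) := Fin 3 → K2 p

/-- Matrices. -/
abbrev Mat (p : ℕ) := Fin 3 → Fin 3 → K2 p

variable {p : ℕ}

/-- Addition. -/
def kadd (x y : K2 p) : K2 p := (x.1 + y.1, x.2 + y.2)

/-- Difference. -/
def ksub (x y : K2 p) : K2 p := (x.1 - y.1, x.2 - y.2)

/-- Multiplication. -/
def kmul (x y : K2 p) : K2 p := (x.1 * y.1 + 2 * (x.2 * y.2), x.1 * y.2 + x.2 * y.1)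

/-- The automorphism. -/
def kconj (x : K2 p) : K2 p := (x.1, -x.2)

/-- One. -/
def kone : K2 p := (1, 0)

/-- Zero. -/
def kzero : K2 p := (0, 0)

/-- Sum of three terms. -/
def sum3 (f : Fin 3 → K2 p) : K2 p := kadd (kadd (f 0) (f 1)) (f 2)

/-- Matrix product. -/
def mmul (A B : Mat p) : Mat p := fun i j => sum3 fun k => kmul (A i k) (B k j)

/-- Matrix times vector. -/
def mvec (A : Mat p) (v : Vec p) : Vec p := fun i => sum3 fun k => kmul (A i k) (v k)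

/-- Identity. -/
def mone : Mat p := fun i j => if i = j then kone else kzero

/-- Conjugate transpose. -/
def mconjT (A : Mat p) : Mat p := fun i j => kconj (A j i)

/-- Trace. -/
def mtrace (A : Mat p) : K2 p := sum3 fun i => A i i

/-- Determinant. -/
def mdet (A : Mat p) : K2 p :=
  kadd (ksub (kadd (ksub (ksub (kmul (kmul (A 0 0) (A 1 1)) (A 2 2)) (kmul (kmul (A 0 0) (A 1 2)) (A 2 1)))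
    (kmul (kmul (A 0 1) (A 1 0)) (A 2 2))) (kmul (kmul (A 0 1) (A 1 2)) (A 2 0)))
    (kmul (kmul (A 0 2) (A 1 1)) (A 2 0))) (kmul (kmul (A 0 2) (A 1 0)) (A 2 1))

/-- Membership in the special unitary group of the standard form. -/
def IsSU (A : Mat p) : Prop := mmul (mconjT A) A = mone ∧ mmul A (mconjT A) = mone ∧ mdet A = kone

instance (A : Mat p) : Decidable (IsSU A) := by unfold IsSU; infer_instance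

/-- An element of the special unitary group. -/
def monD1Mat : Mat 5 :=
  ![![(3, 2), (0, 0), (0, 0)], ![(0, 0), (3, 3), (0, 0)], ![(0, 0), (0, 0), (1, 0)]]

theorem monD1_unitary : IsSU monD1Mat := by decide +kernel

/-- An element of the special unitary group. -/
def monD2Mat : Mat 5 :=
  ![![(1, 0), (0, 0), (0, 0)], ![(0, 0), (3, 2), (0, 0)], ![(0, 0), (0, 0), (3, 3)]]

theorem monD2_unitary : IsSU monD2Mat := by decide +kernel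

/-- An element of the special unitary group. -/
def monSwapMat : Mat 5 :=
  ![![(0, 0), (4, 0), (0, 0)], ![(4, 0), (0, 0), (0, 0)], ![(0, 0), (0, 0), (4, 0)]]

theorem monSwap_unitary : IsSU monSwapMat := by decide +kernel

/-- An element of the special unitary group. -/
def monCycMat : Mat 5 :=
  ![![(0, 0), (1, 0), (0, 0)], ![(0, 0), (0, 0), (1, 0)], ![(1, 0), (0, 0), (0, 0)]]

theorem monCyc_unitary : IsSU monCycMat := by decide +kernel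

/-- An element of the special unitary group. -/
def monSMat : Mat 5 :=
  ![![(2, 1), (2, 4), (2, 1)], ![(2, 4), (2, 1), (3, 4)], ![(2, 4), (3, 1), (0, 2)]]

theorem monS_unitary : IsSU monSMat := by decide +kernel

/-- An element of the special unitary group. -/
def monTMat : Mat 5 :=
  ![![(0, 0), (2, 0), (3, 1)], ![(0, 0), (2, 1), (2, 0)], ![(1, 0), (0, 0), (0, 0)]]

theorem monT_unitary : IsSU monTMat := by decide +kernel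

/-- An element of the special unitary group. -/
def fiveXMat : Mat 5 :=
  ![![(0, 0), (0, 1), (0, 1)], ![(0, 1), (4, 1), (1, 4)], ![(1, 3), (2, 0), (3, 0)]]

theorem fiveX_unitary : IsSU fiveXMat := by decide +kernel

/-- An element of the special unitary group. -/
def fiveFMat : Mat 5 :=
  ![![(3, 3), (2, 3), (4, 4)], ![(4, 4), (3, 2), (3, 3)], ![(1, 0), (1, 1), (4, 0)]]

theorem fiveF_unitary : IsSU fiveFMat := by decide +kernel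

/-- An invariant set of projective points. -/
def monPts : Fin 105 → Vec 5 :=
  ![![(0, 0), (0, 0), (1, 0)], ![(0, 0), (1, 0), (0, 0)], ![(1, 0), (4, 0), (3, 2)],
    ![(1, 0), (0, 0), (0, 0)], ![(1, 0), (3, 2), (4, 0)], ![(1, 0), (3, 2), (1, 0)],
    ![(1, 0), (2, 3), (1, 0)], ![(1, 0), (4, 0), (2, 3)], ![(1, 0), (2, 3), (4, 0)],
    ![(1, 0), (4, 0), (1, 4)], ![(1, 0), (3, 3), (3, 3)], ![(1, 0), (3, 3), (2, 2)],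
    ![(1, 0), (2, 2), (2, 2)], ![(1, 0), (2, 2), (3, 3)], ![(1, 0), (2, 0), (4, 1)],
    ![(1, 0), (4, 1), (2, 0)], ![(1, 0), (4, 4), (4, 4)], ![(1, 0), (3, 2), (2, 0)],
    ![(1, 0), (2, 3), (2, 0)], ![(1, 0), (4, 0), (4, 1)], ![(1, 0), (4, 1), (4, 0)],
    ![(1, 0), (4, 0), (0, 0)], ![(1, 0), (1, 0), (2, 3)], ![(1, 0), (1, 0), (3, 2)],
    ![(1, 0), (3, 0), (3, 2)], ![(1, 0), (1, 4), (4, 0)], ![(1, 0), (1, 1), (3, 3)],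
    ![(1, 0), (4, 1), (3, 0)], ![(1, 0), (1, 4), (3, 0)], ![(1, 0), (3, 0), (2, 3)],
    ![(1, 0), (2, 3), (3, 0)], ![(1, 0), (1, 0), (2, 4)], ![(1, 0), (4, 4), (1, 1)],
    ![(1, 0), (1, 1), (1, 1)], ![(1, 0), (1, 1), (2, 2)], ![(1, 0), (2, 2), (1, 1)],
    ![(1, 0), (0, 4), (1, 2)], ![(1, 0), (2, 0), (1, 4)], ![(1, 0), (3, 0), (1, 4)],
    ![(1, 0), (1, 4), (1, 0)], ![(1, 0), (1, 0), (1, 4)], ![(1, 0), (0, 3), (2, 3)],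
    ![(1, 0), (3, 3), (1, 1)], ![(1, 0), (2, 2), (4, 4)], ![(1, 0), (4, 4), (2, 2)],
    ![(1, 0), (4, 3), (0, 1)], ![(1, 0), (3, 2), (3, 0)], ![(1, 0), (1, 1), (4, 4)],
    ![(1, 0), (1, 3), (4, 2)], ![(1, 0), (3, 2), (0, 0)], ![(1, 0), (2, 3), (0, 0)],
    ![(1, 0), (0, 0), (4, 0)], ![(1, 0), (4, 1), (1, 0)], ![(1, 0), (1, 4), (2, 0)],
    ![(1, 0), (1, 0), (3, 1)], ![(1, 0), (0, 1), (4, 3)], ![(1, 0), (2, 0), (2, 3)],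
    ![(1, 0), (3, 0), (4, 1)], ![(1, 0), (0, 2), (2, 3)], ![(1, 0), (1, 2), (0, 4)],
    ![(1, 0), (3, 3), (4, 4)], ![(1, 0), (4, 2), (1, 3)], ![(1, 0), (2, 3), (0, 3)],
    ![(1, 0), (3, 2), (0, 3)], ![(1, 0), (2, 4), (1, 0)], ![(1, 0), (1, 0), (4, 1)],
    ![(1, 0), (2, 0), (3, 2)], ![(1, 0), (3, 4), (2, 2)], ![(1, 0), (4, 3), (0, 4)],
    ![(1, 0), (0, 2), (3, 2)], ![(1, 0), (3, 2), (0, 2)], ![(1, 0), (3, 3), (2, 1)],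
    ![(1, 0), (4, 4), (3, 3)], ![(1, 0), (2, 2), (2, 1)], ![(1, 0), (3, 1), (4, 0)],
    ![(1, 0), (2, 4), (4, 0)], ![(1, 0), (0, 1), (1, 2)], ![(1, 0), (1, 2), (0, 1)],
    ![(1, 0), (0, 0), (3, 2)], ![(1, 0), (3, 1), (1, 0)], ![(1, 0), (1, 3), (1, 3)],
    ![(1, 0), (3, 4), (3, 3)], ![(1, 0), (3, 3), (3, 4)], ![(1, 0), (4, 2), (4, 2)],
    ![(0, 0), (1, 0), (2, 3)], ![(1, 0), (0, 0), (3, 3)], ![(1, 0), (0, 4), (4, 3)],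
    ![(1, 0), (4, 0), (2, 4)], ![(1, 0), (2, 1), (3, 3)], ![(1, 0), (3, 3), (0, 0)],
    ![(1, 0), (2, 2), (0, 0)], ![(1, 0), (0, 0), (2, 2)], ![(0, 0), (1, 0), (3, 2)],
    ![(0, 0), (1, 0), (4, 0)], ![(0, 0), (1, 0), (3, 3)], ![(0, 0), (1, 0), (2, 2)],
    ![(0, 0), (1, 0), (1, 0)], ![(1, 0), (2, 3), (0, 2)], ![(1, 0), (0, 3), (3, 2)],
    ![(1, 0), (4, 0), (3, 1)], ![(1, 0), (2, 2), (3, 4)], ![(1, 0), (2, 1), (2, 2)],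
    ![(1, 0), (0, 0), (1, 0)], ![(1, 0), (0, 0), (2, 3)], ![(1, 0), (1, 0), (0, 0)]]

/-- Images. -/
def monD1Perm : Fin 105 → Fin 105 :=
  ![0, 1, 5, 3, 11, 10, 13, 4, 12, 17, 7, 2, 23, 22, 27, 32, 37, 42, 35, 46, 44, 49, 8, 6, 39,
    34, 29, 16, 47, 25, 43, 62, 14, 57, 24, 65, 68, 15, 53, 26, 18, 74, 19, 40, 66, 80, 60, 38,
    86, 89, 90, 91, 72, 33, 97, 77, 20, 28, 75, 83, 9, 76, 100, 82, 81, 30, 52, 69, 48, 64, 71,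
    87, 56, 31, 101, 67, 59, 61, 102, 88, 36, 58, 99, 55, 94, 103, 45, 63, 41, 21, 104, 78, 95,
    84, 96, 93, 92, 73, 79, 70, 54, 98, 85, 51, 50]

/-- Multipliers. -/
def monD1Mult : Fin 105 → K2 5 :=
  ![(1, 0), (3, 3), (3, 2), (3, 2), (3, 2), (3, 2), (3, 2), (3, 2), (3, 2), (3, 2), (3, 2),
    (3, 2), (3, 2), (3, 2), (3, 2), (3, 2), (3, 2), (3, 2), (3, 2), (3, 2), (3, 2), (3, 2),
    (3, 2), (3, 2), (3, 2), (3, 2), (3, 2), (3, 2), (3, 2), (3, 2), (3, 2), (3, 2), (3, 2),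
    (3, 2), (3, 2), (3, 2), (3, 2), (3, 2), (3, 2), (3, 2), (3, 2), (3, 2), (3, 2), (3, 2),
    (3, 2), (3, 2), (3, 2), (3, 2), (3, 2), (3, 2), (3, 2), (3, 2), (3, 2), (3, 2), (3, 2),
    (3, 2), (3, 2), (3, 2), (3, 2), (3, 2), (3, 2), (3, 2), (3, 2), (3, 2), (3, 2), (3, 2),
    (3, 2), (3, 2), (3, 2), (3, 2), (3, 2), (3, 2), (3, 2), (3, 2), (3, 2), (3, 2), (3, 2),
    (3, 2), (3, 2), (3, 2), (3, 2), (3, 2), (3, 2), (3, 2), (3, 3), (3, 2), (3, 2), (3, 2),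
    (3, 2), (3, 2), (3, 2), (3, 2), (3, 3), (3, 3), (3, 3), (3, 3), (3, 3), (3, 2), (3, 2),
    (3, 2), (3, 2), (3, 2), (3, 2), (3, 2), (3, 2)]

theorem monD1_maps : ∀ a, mvec monD1Mat (monPts a) = fun i => kmul (monD1Mult a) (monPts (monD1Perm a) i) := by decide +kernel

/-- Images. -/
def monD2Perm : Fin 105 → Fin 105 :=
  ![0, 1, 6, 3, 12, 13, 10, 8, 11, 18, 22, 23, 2, 7, 28, 33, 38, 35, 42, 30, 34, 50, 4, 5, 52,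
    44, 56, 47, 16, 20, 60, 63, 57, 14, 66, 19, 59, 53, 15, 72, 17, 75, 65, 9, 24, 61, 43, 37,
    55, 90, 89, 91, 26, 32, 70, 45, 25, 27, 74, 48, 40, 36, 82, 100, 88, 46, 39, 98, 83, 79, 73,
    31, 29, 87, 67, 101, 68, 80, 102, 81, 76, 41, 54, 86, 95, 103, 77, 62, 58, 104, 21, 78, 94,
    92, 93, 96, 84, 71, 64, 97, 99, 69, 85, 51, 49]

/-- Multipliers. -/
def monD2Mult : Fin 105 → K2 5 :=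
  ![(3, 3), (3, 2), (1, 0), (1, 0), (1, 0), (1, 0), (1, 0), (1, 0), (1, 0), (1, 0), (1, 0),
    (1, 0), (1, 0), (1, 0), (1, 0), (1, 0), (1, 0), (1, 0), (1, 0), (1, 0), (1, 0), (1, 0),
    (1, 0), (1, 0), (1, 0), (1, 0), (1, 0), (1, 0), (1, 0), (1, 0), (1, 0), (1, 0), (1, 0),
    (1, 0), (1, 0), (1, 0), (1, 0), (1, 0), (1, 0), (1, 0), (1, 0), (1, 0), (1, 0), (1, 0),
    (1, 0), (1, 0), (1, 0), (1, 0), (1, 0), (1, 0), (1, 0), (1, 0), (1, 0), (1, 0), (1, 0),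
    (1, 0), (1, 0), (1, 0), (1, 0), (1, 0), (1, 0), (1, 0), (1, 0), (1, 0), (1, 0), (1, 0),
    (1, 0), (1, 0), (1, 0), (1, 0), (1, 0), (1, 0), (1, 0), (1, 0), (1, 0), (1, 0), (1, 0),
    (1, 0), (1, 0), (1, 0), (1, 0), (1, 0), (1, 0), (1, 0), (3, 2), (1, 0), (1, 0), (1, 0),
    (1, 0), (1, 0), (1, 0), (1, 0), (3, 2), (3, 2), (3, 2), (3, 2), (3, 2), (1, 0), (1, 0),
    (1, 0), (1, 0), (1, 0), (1, 0), (1, 0), (1, 0)]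

theorem monD2_maps : ∀ a, mvec monD2Mat (monPts a) = fun i => kmul (monD2Mult a) (monPts (monD2Perm a) i) := by decide +kernel

/-- Images. -/
def monSwapPerm : Fin 105 → Fin 105 :=
  ![0, 3, 7, 1, 11, 10, 12, 2, 13, 19, 5, 4, 6, 8, 29, 34, 39, 42, 43, 9, 47, 21, 22, 23, 37, 32,
    27, 26, 44, 14, 35, 31, 25, 52, 15, 30, 69, 24, 56, 16, 40, 76, 17, 18, 28, 81, 60, 20, 75,
    89, 90, 93, 33, 72, 54, 98, 38, 66, 86, 88, 46, 74, 73, 82, 80, 65, 57, 68, 67, 36, 71, 70,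
    53, 62, 61, 48, 41, 101, 92, 83, 64, 45, 63, 79, 103, 94, 58, 99, 59, 49, 50, 95, 78, 51, 85,
    91, 102, 100, 55, 87, 97, 77, 96, 84, 104]

/-- Multipliers. -/
def monSwapMult : Fin 105 → K2 5 :=
  ![(4, 0), (4, 0), (1, 0), (4, 0), (2, 3), (2, 3), (3, 2), (1, 0), (3, 2), (1, 0), (2, 2),
    (2, 2), (3, 3), (3, 3), (3, 0), (1, 4), (1, 1), (2, 3), (3, 2), (1, 0), (1, 4), (1, 0),
    (4, 0), (4, 0), (2, 0), (4, 1), (4, 4), (1, 4), (4, 1), (2, 0), (3, 2), (4, 0), (1, 1),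
    (4, 4), (4, 4), (3, 3), (0, 1), (3, 0), (2, 0), (4, 1), (4, 0), (0, 2), (2, 2), (3, 3),
    (1, 1), (1, 2), (2, 3), (4, 4), (4, 2), (2, 3), (3, 2), (4, 0), (1, 4), (4, 1), (4, 0),
    (0, 4), (3, 0), (2, 0), (0, 3), (4, 3), (2, 2), (1, 3), (3, 2), (2, 3), (3, 1), (4, 0),
    (3, 0), (2, 1), (1, 2), (0, 3), (2, 3), (2, 2), (1, 1), (3, 3), (2, 4), (3, 1), (0, 4),
    (4, 3), (4, 0), (2, 4), (4, 2), (2, 1), (2, 2), (1, 3), (4, 0), (4, 0), (0, 1), (1, 0),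
    (3, 4), (2, 2), (3, 3), (4, 0), (4, 0), (4, 0), (4, 0), (4, 0), (4, 0), (3, 2), (0, 2),
    (1, 0), (3, 3), (3, 4), (4, 0), (4, 0), (4, 0)]

theorem monSwap_maps : ∀ a, mvec monSwapMat (monPts a) = fun i => kmul (monSwapMult a) (monPts (monSwapPerm a) i) := by decide +kernel

/-- Images. -/
def monCycPerm : Fin 105 → Fin 105 :=
  ![1, 3, 8, 0, 13, 10, 12, 4, 11, 20, 23, 2, 22, 7, 30, 35, 40, 26, 44, 25, 32, 51, 6, 5, 53,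
    47, 57, 42, 43, 15, 34, 64, 9, 65, 14, 29, 70, 46, 18, 16, 39, 77, 66, 56, 38, 82, 72, 19,
    87, 85, 91, 93, 33, 60, 79, 63, 28, 17, 68, 71, 24, 99, 101, 81, 80, 52, 27, 86, 100, 59, 88,
    69, 37, 41, 48, 61, 62, 73, 94, 83, 31, 55, 98, 54, 50, 92, 97, 74, 36, 78, 103, 84, 49, 21,
    89, 90, 104, 67, 45, 75, 58, 76, 96, 95, 102]

/-- Multipliers. -/
def monCycMult : Fin 105 → K2 5 :=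
  ![(1, 0), (1, 0), (4, 0), (1, 0), (3, 2), (3, 2), (2, 3), (4, 0), (2, 3), (4, 0), (3, 3),
    (3, 3), (2, 2), (2, 2), (2, 0), (4, 1), (4, 4), (3, 2), (2, 3), (4, 0), (4, 1), (4, 0),
    (1, 0), (1, 0), (3, 0), (1, 4), (1, 1), (4, 1), (1, 4), (3, 0), (2, 3), (1, 0), (4, 4),
    (1, 1), (1, 1), (2, 2), (0, 4), (2, 0), (3, 0), (1, 4), (1, 0), (0, 3), (3, 3), (2, 2),
    (4, 4), (4, 3), (3, 2), (1, 1), (1, 3), (3, 2), (2, 3), (4, 0), (4, 1), (1, 4), (1, 0),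
    (0, 1), (2, 0), (3, 0), (0, 2), (1, 2), (3, 3), (4, 2), (2, 3), (3, 2), (2, 4), (1, 0),
    (2, 0), (3, 4), (4, 3), (0, 2), (3, 2), (3, 3), (4, 4), (2, 2), (3, 1), (2, 4), (0, 1),
    (1, 2), (3, 2), (3, 1), (1, 3), (3, 4), (3, 3), (4, 2), (1, 0), (3, 3), (0, 4), (4, 0),
    (2, 1), (3, 3), (2, 2), (2, 2), (1, 0), (1, 0), (1, 0), (1, 0), (1, 0), (2, 3), (0, 3),
    (4, 0), (2, 2), (2, 1), (1, 0), (2, 3), (1, 0)]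

theorem monCyc_maps : ∀ a, mvec monCycMat (monPts a) = fun i => kmul (monCycMult a) (monPts (monCycPerm a) i) := by decide +kernel

/-- Images. -/
def monSPerm : Fin 105 → Fin 105 :=
  ![2, 4, 9, 10, 14, 3, 15, 0, 16, 21, 24, 1, 25, 26, 31, 36, 41, 22, 45, 7, 48, 19, 46, 42, 54,
    55, 58, 12, 59, 5, 61, 37, 13, 64, 8, 67, 71, 11, 62, 6, 73, 70, 78, 79, 51, 83, 84, 85, 88,
    38, 92, 94, 95, 96, 29, 82, 49, 89, 63, 80, 23, 81, 65, 76, 77, 97, 100, 74, 43, 27, 86, 98,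
    101, 57, 18, 52, 32, 44, 50, 68, 47, 30, 69, 35, 90, 102, 34, 87, 53, 66, 103, 20, 60, 72,
    33, 93, 91, 56, 39, 99, 40, 75, 28, 17, 104]

/-- Multipliers. -/
def monSMult : Fin 105 → K2 5 :=
  ![(2, 1), (2, 4), (0, 4), (2, 1), (2, 1), (1, 3), (2, 1), (1, 2), (3, 4), (0, 1), (4, 3),
    (1, 2), (0, 4), (4, 2), (1, 0), (2, 1), (3, 2), (3, 4), (4, 2), (0, 3), (1, 3), (0, 2),
    (4, 3), (4, 2), (3, 0), (4, 2), (4, 1), (4, 2), (2, 1), (3, 1), (1, 3), (1, 0), (1, 3),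
    (1, 0), (0, 3), (1, 1), (0, 4), (1, 3), (3, 2), (3, 4), (4, 4), (1, 0), (1, 2), (3, 0),
    (0, 1), (1, 0), (1, 3), (3, 4), (0, 4), (4, 2), (2, 2), (4, 0), (0, 4), (3, 1), (2, 0),
    (4, 3), (1, 2), (3, 4), (3, 3), (3, 2), (3, 1), (4, 3), (1, 1), (0, 3), (0, 3), (4, 1),
    (1, 1), (3, 2), (2, 1), (3, 2), (3, 1), (3, 3), (4, 4), (3, 2), (4, 4), (1, 1), (1, 3),
    (2, 1), (2, 3), (3, 1), (1, 3), (2, 0), (1, 0), (3, 4), (2, 2), (4, 0), (3, 4), (2, 2),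
    (1, 0), (2, 4), (2, 3), (0, 2), (2, 1), (0, 3), (4, 3), (4, 0), (4, 0), (4, 4), (1, 4),
    (3, 2), (1, 4), (2, 2), (4, 2), (2, 4), (4, 0)]

theorem monS_maps : ∀ a, mvec monSMat (monPts a) = fun i => kmul (monSMult a) (monPts (monSPerm a) i) := by decide +kernel

/-- Images. -/
def fiveXPerm : Fin 105 → Fin 105 :=
  ![68, 77, 17, 94, 39, 36, 30, 55, 61, 74, 27, 84, 53, 96, 102, 49, 5, 56, 79, 9, 44, 58, 20,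
    48, 75, 97, 11, 38, 51, 24, 43, 41, 93, 8, 80, 76, 18, 14, 50, 65, 26, 67, 7, 13, 23, 46, 62,
    92, 1, 87, 81, 71, 64, 33, 78, 52, 70, 16, 85, 25, 83, 0, 99, 91, 82, 63, 42, 19, 12, 31, 88,
    40, 86, 60, 69, 103, 10, 22, 101, 90, 59, 35, 66, 45, 28, 37, 2, 89, 72, 32, 57, 47, 4, 95,
    6, 15, 3, 104, 21, 73, 34, 29, 98, 54, 100]

/-- Multipliers. -/
def fiveXMult : Fin 105 → K2 5 :=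
  ![(0, 1), (0, 1), (4, 2), (0, 1), (4, 2), (4, 4), (1, 3), (1, 1), (1, 1), (3, 0), (2, 1),
    (1, 1), (3, 4), (4, 1), (2, 1), (2, 1), (1, 3), (4, 0), (1, 4), (2, 3), (2, 3), (0, 4),
    (1, 3), (4, 4), (4, 1), (3, 0), (3, 4), (2, 2), (3, 4), (1, 0), (1, 0), (3, 3), (3, 1),
    (4, 2), (1, 3), (1, 3), (2, 1), (3, 3), (3, 4), (3, 2), (3, 2), (2, 2), (3, 4), (2, 1),
    (2, 1), (3, 4), (4, 1), (2, 1), (0, 2), (4, 3), (1, 2), (0, 4), (2, 0), (3, 3), (2, 4),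
    (3, 4), (1, 4), (2, 2), (0, 2), (2, 1), (4, 2), (2, 1), (2, 2), (0, 3), (3, 3), (2, 0),
    (4, 0), (2, 0), (4, 4), (3, 3), (3, 3), (3, 0), (4, 2), (1, 4), (2, 2), (3, 1), (1, 1),
    (1, 1), (4, 3), (2, 4), (2, 2), (4, 1), (4, 1), (3, 3), (1, 3), (1, 3), (4, 4), (3, 1),
    (3, 0), (1, 3), (4, 2), (4, 2), (4, 4), (3, 2), (1, 4), (4, 3), (0, 2), (0, 2), (0, 3),
    (2, 2), (2, 0), (1, 4), (0, 1), (1, 2), (0, 1)]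

theorem fiveX_maps : ∀ a, mvec fiveXMat (monPts a) = fun i => kmul (fiveXMult a) (monPts (fiveXPerm a) i) := by decide +kernel

/-- Images. -/
def fiveFPerm : Fin 105 → Fin 105 :=
  ![14, 9, 10, 24, 2, 84, 78, 36, 21, 15, 4, 55, 58, 54, 25, 1, 26, 38, 40, 93, 19, 59, 41, 31,
    46, 0, 42, 65, 66, 83, 29, 95, 77, 102, 68, 63, 51, 80, 91, 56, 82, 49, 16, 75, 74, 13, 3,
    70, 67, 22, 92, 7, 57, 37, 45, 79, 81, 71, 97, 8, 94, 85, 6, 86, 5, 88, 90, 89, 98, 32, 76,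
    52, 50, 96, 87, 99, 47, 69, 62, 11, 53, 39, 18, 30, 64, 100, 35, 44, 27, 48, 28, 17, 72, 20,
    103, 23, 101, 12, 34, 43, 61, 73, 104, 60, 33]

/-- Multipliers. -/
def fiveFMult : Fin 105 → K2 5 :=
  ![(4, 4), (2, 3), (4, 0), (3, 3), (2, 2), (4, 4), (4, 4), (3, 0), (1, 1), (2, 0), (3, 2),
    (1, 4), (3, 4), (0, 2), (1, 4), (1, 1), (3, 0), (4, 4), (3, 3), (4, 2), (3, 3), (1, 0),
    (2, 1), (3, 1), (2, 2), (1, 0), (2, 2), (4, 4), (1, 1), (1, 2), (2, 2), (2, 4), (2, 1),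
    (3, 1), (0, 4), (1, 1), (2, 3), (3, 4), (0, 2), (3, 3), (1, 1), (3, 4), (4, 1), (2, 0),
    (4, 4), (2, 0), (3, 3), (4, 0), (0, 1), (1, 1), (2, 2), (4, 4), (1, 1), (2, 2), (0, 2),
    (4, 3), (4, 4), (3, 2), (2, 2), (4, 1), (1, 3), (1, 0), (4, 2), (0, 3), (0, 1), (4, 1),
    (0, 4), (2, 1), (1, 2), (3, 2), (2, 4), (3, 0), (1, 2), (0, 3), (1, 0), (2, 3), (4, 2),
    (0, 4), (1, 3), (4, 3), (1, 3), (4, 4), (1, 1), (0, 3), (4, 3), (4, 2), (2, 4), (1, 4),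
    (4, 0), (2, 3), (4, 3), (2, 4), (0, 3), (3, 4), (3, 2), (1, 4), (1, 2), (1, 3), (4, 4),
    (1, 1), (3, 1), (2, 2), (2, 2), (0, 3), (0, 1)]

theorem fiveF_maps : ∀ a, mvec fiveFMat (monPts a) = fun i => kmul (fiveFMult a) (monPts (fiveFPerm a) i) := by decide +kernel

/-- A moved point. -/
def monMoved : Fin 105 :=
  0

theorem mon_moved : ∀ b, ∀ c : K2 5, mvec monTMat (monPts monMoved) ≠ fun i => kmul c (monPts b i) := by decide +kernel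

/-- The six signed permutation matrices. -/
def monW : Fin 6 → Mat 5 :=
  ![![![(1, 0), (0, 0), (0, 0)], ![(0, 0), (1, 0), (0, 0)], ![(0, 0), (0, 0), (1, 0)]],
    ![![(0, 0), (1, 0), (0, 0)], ![(0, 0), (0, 0), (1, 0)], ![(1, 0), (0, 0), (0, 0)]],
    ![![(0, 0), (0, 0), (1, 0)], ![(1, 0), (0, 0), (0, 0)], ![(0, 0), (1, 0), (0, 0)]],
    ![![(0, 0), (4, 0), (0, 0)], ![(4, 0), (0, 0), (0, 0)], ![(0, 0), (0, 0), (4, 0)]],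
    ![![(0, 0), (0, 0), (4, 0)], ![(0, 0), (4, 0), (0, 0)], ![(4, 0), (0, 0), (0, 0)]],
    ![![(4, 0), (0, 0), (0, 0)], ![(0, 0), (0, 0), (4, 0)], ![(0, 0), (4, 0), (0, 0)]]]

theorem monW_eq : monW 0 = mone ∧ monW 1 = monCycMat ∧ monW 2 = mmul monCycMat monCycMat ∧ monW 3 = monSwapMat ∧ monW 4 = mmul monSwapMat monCycMat ∧ monW 5 = mmul monSwapMat (mmul monCycMat monCycMat) := by decide +kernel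

/-- A primitive sixth root of unity of norm one. -/
def monRoot : K2 5 :=
  (3, 2)

/-- Its powers. -/
def monRootPow : Fin 6 → K2 5 :=
  ![(1, 0), (3, 2), (2, 2), (4, 0), (2, 3), (3, 3)]

theorem monRootPow_zero : monRootPow 0 = kone := by decide +kernel

theorem monRootPow_succ : ∀ k, kmul (monRootPow k) monRoot = monRootPow (k + 1) := by decide +kernel

theorem monRootPow_injective : ∀ k, monRootPow k = kone → k = 0 := by decide +kernel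

/-- Powers. -/
def monD1Pow : Fin 6 → Mat 5 :=
  ![![![(1, 0), (0, 0), (0, 0)], ![(0, 0), (1, 0), (0, 0)], ![(0, 0), (0, 0), (1, 0)]],
    ![![(3, 2), (0, 0), (0, 0)], ![(0, 0), (3, 3), (0, 0)], ![(0, 0), (0, 0), (1, 0)]],
    ![![(2, 2), (0, 0), (0, 0)], ![(0, 0), (2, 3), (0, 0)], ![(0, 0), (0, 0), (1, 0)]],
    ![![(4, 0), (0, 0), (0, 0)], ![(0, 0), (4, 0), (0, 0)], ![(0, 0), (0, 0), (1, 0)]],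
    ![![(2, 3), (0, 0), (0, 0)], ![(0, 0), (2, 2), (0, 0)], ![(0, 0), (0, 0), (1, 0)]],
    ![![(3, 3), (0, 0), (0, 0)], ![(0, 0), (3, 2), (0, 0)], ![(0, 0), (0, 0), (1, 0)]]]

/-- Powers. -/
def monD2Pow : Fin 6 → Mat 5 :=
  ![![![(1, 0), (0, 0), (0, 0)], ![(0, 0), (1, 0), (0, 0)], ![(0, 0), (0, 0), (1, 0)]],
    ![![(1, 0), (0, 0), (0, 0)], ![(0, 0), (3, 2), (0, 0)], ![(0, 0), (0, 0), (3, 3)]],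
    ![![(1, 0), (0, 0), (0, 0)], ![(0, 0), (2, 2), (0, 0)], ![(0, 0), (0, 0), (2, 3)]],
    ![![(1, 0), (0, 0), (0, 0)], ![(0, 0), (4, 0), (0, 0)], ![(0, 0), (0, 0), (4, 0)]],
    ![![(1, 0), (0, 0), (0, 0)], ![(0, 0), (2, 3), (0, 0)], ![(0, 0), (0, 0), (2, 2)]],
    ![![(1, 0), (0, 0), (0, 0)], ![(0, 0), (3, 3), (0, 0)], ![(0, 0), (0, 0), (3, 2)]]]

theorem monD1Pow_spec : monD1Pow 0 = mone ∧ ∀ k, mmul (monD1Pow k) monD1Mat = monD1Pow (k + 1) := by decide +kernel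

theorem monD2Pow_spec : monD2Pow 0 = mone ∧ ∀ k, mmul (monD2Pow k) monD2Mat = monD2Pow (k + 1) := by decide +kernel

/-- All permutations. -/
def monPerms : Fin 6 → Fin 3 → Fin 3 :=
  ![![0, 1, 2], ![0, 2, 1], ![1, 0, 2], ![1, 2, 0], ![2, 0, 1], ![2, 1, 0]]

theorem monPerms_cover : ∀ i j k : Fin 3, i ≠ j → i ≠ k → j ≠ k → ∃ π, monPerms π = ![i, j, k] := by decide +kernel

/-- Factorisation table of monomial matrices. -/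
def monI : List (Fin 6) :=
  [0, 0, 0, 0, 0, 0, 0, 0, 0, 0, 0, 0, 0, 0, 0, 0, 0, 0, 0, 0, 0, 0, 0, 0, 0, 0, 0, 0, 0, 0, 0, 0, 0, 0, 0, 0, 0, 0, 0, 0, 0, 1, 0, 0, 0, 0, 1, 0, 0, 0, 0, 1, 0, 0, 0, 0, 1, 0, 0, 0, 0, 1, 0, 0, 0, 0, 1, 0, 0, 0, 0, 0, 0, 0, 0, 0, 2, 0, 0, 0, 0, 2, 0, 0, 0, 0, 2, 0, 0, 0, 0, 2, 0, 0, 0, 0, 2, 0, 0, 0, 0, 0, 0, 0, 0, 0, 0, 2, 0, 0, 0, 3, 0, 0, 0, 0, 3, 0, 0, 0, 0, 3, 0, 0, 0, 0, 3, 0, 0, 0, 0, 0, 0, 0, 0, 0, 0, 3, 0, 0, 0, 0, 3, 0, 0, 0, 4, 0, 0, 0, 0, 4, 0, 0, 0, 0, 4, 0, 0, 0, 0, 0, 0, 0, 0, 0, 0, 4, 0, 0, 0, 0, 4, 0, 0, 0, 0, 4, 0, 0, 0, 5, 0, 0, 0, 0, 5, 0, 0, 0, 0, 0, 0, 0, 0, 0, 0, 5, 0, 0, 0, 0, 5, 0, 0, 0, 0, 5, 0, 0, 0, 0, 5, 0, 0, 0, 0, 0, 0, 3, 0, 0, 0, 0, 3, 0, 0, 0, 0, 3, 0, 0, 0, 0, 3, 0, 0, 0, 0, 0, 0, 0, 0, 0, 0, 3, 0, 0, 0, 0, 3, 0, 0, 0,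 4, 0, 0, 0, 0, 4, 0, 0, 0, 0, 4, 0, 0, 0, 0, 0, 0, 0, 0, 0, 0, 4, 0, 0, 0, 0, 4, 0, 0, 0, 0, 4, 0, 0, 0, 5, 0, 0, 0, 0, 5, 0, 0, 0, 0, 0, 0, 0, 0, 0, 0, 5, 0, 0, 0, 0, 5, 0, 0, 0, 0, 5, 0, 0, 0, 0, 5, 0, 0, 0, 0, 0, 0, 0, 0, 0, 0, 0, 0, 0, 0, 0, 0, 0, 0, 0, 0, 0, 0, 0, 0, 0, 0, 0, 0, 0, 0, 0, 0, 0, 0, 0, 0, 0, 0, 0, 0, 0, 0, 0, 0, 1, 0, 0, 0, 0, 1, 0, 0, 0, 0, 1, 0, 0, 0, 0, 1, 0, 0, 0, 0, 1, 0, 0, 0, 0, 1, 0, 0, 0, 0, 0, 0, 0, 0, 0, 2, 0, 0, 0, 0, 2, 0, 0, 0, 0, 2, 0, 0, 0, 0, 2, 0, 0, 0, 0, 2, 0, 0, 0, 0, 0, 0, 0, 0, 0, 0, 2, 0, 0, 0, 3, 0, 0, 0, 0, 4, 0, 0, 0, 0, 5, 0, 0, 0, 0, 0, 0, 0, 0, 0, 0, 0, 0, 0, 0, 0, 1, 0, 0, 0, 0, 2, 0, 0, 0, 3, 0, 0, 0, 0, 4, 0, 0, 0, 0, 5, 0, 0, 0, 0, 0, 0, 0, 0, 0, 0, 0, 0, 0, 0, 0, 1, 0, 0, 0, 0, 2, 0, 0, 0, 3, 0, 0, 0, 0, 4, 0, 0, 0, 0, 0, 0, 0,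 0, 0, 0, 5, 0, 0, 0, 0, 0, 0, 0, 0, 0, 1, 0, 0, 0, 0, 2, 0, 0, 0, 3, 0, 0, 0, 0, 0, 0, 0, 0, 0, 0, 4, 0, 0, 0, 0, 5, 0, 0, 0, 0, 0, 0, 0, 0, 0, 1, 0, 0, 0, 0, 2, 0, 0, 0, 0, 0, 0, 0, 0, 0, 3, 0, 0, 0, 0, 4, 0, 0, 0, 0, 5, 0, 0, 0, 0, 0, 0, 0, 0, 0, 1, 0, 0, 0, 0, 2, 0, 0, 0, 0, 0, 0, 0, 0, 0, 3, 0, 0, 0, 0, 4, 0, 0, 0, 0, 5, 0, 0, 0, 0, 0, 0, 0, 0, 0, 1, 0, 0, 0, 0, 0, 0, 0, 0, 0, 0, 2, 0, 0, 0, 0, 0, 0, 0, 0, 0, 0, 0, 5, 0, 0, 0, 0, 4, 0, 0, 0, 0, 3, 0, 0, 0, 0, 2, 0, 0, 0, 0, 1, 0, 0, 0, 0, 0, 0, 0, 0, 0, 5, 0, 0, 0, 0, 4, 0, 0, 0, 0, 3, 0, 0, 0, 0, 2, 0, 0, 0, 0, 1, 0, 0, 0, 0, 0, 0, 0, 0, 0, 0, 0, 0, 0, 0, 4, 0, 0, 0, 0, 3, 0, 0, 0, 0, 2, 0, 0, 0, 0, 1, 0, 0, 0, 0, 0, 0, 0, 0, 0, 0, 0, 0, 0, 0, 0, 5, 0, 0, 0, 3, 0, 0, 0, 0, 2, 0, 0, 0, 0, 1, 0, 0, 0, 0, 0, 0, 0, 0, 0, 0, 0, 0,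 0, 0, 0, 5, 0, 0, 0, 0, 4, 0, 0, 0, 2, 0, 0, 0, 0, 1, 0, 0, 0, 0, 0, 0, 0, 0, 0, 0, 0, 0, 0, 0, 0, 5, 0, 0, 0, 0, 4, 0, 0, 0, 0, 3, 0, 0, 0, 1, 0, 0, 0, 0, 0, 0, 0, 0, 0, 0, 0, 0, 0, 0, 0, 5, 0, 0, 0, 0, 4, 0, 0, 0, 0, 3, 0, 0, 0, 0, 2, 0, 0, 0, 0, 0, 0, 0, 0, 0, 0, 0, 0, 0, 0, 1, 0, 0, 0, 0, 2, 0, 0, 0, 0, 3, 0, 0, 0, 0, 4, 0, 0, 0, 0, 5, 0, 0, 0, 0, 0, 0, 0, 0, 0, 0, 0, 0, 0, 0, 1, 0, 0, 0, 0, 2, 0, 0, 0, 0, 3, 0, 0, 0, 0, 4, 0, 0, 0, 0, 5, 0, 0, 0, 0, 0, 0, 0, 0, 0, 0, 0, 0, 0, 0, 1, 0, 0, 0, 0, 2, 0, 0, 0, 0, 3, 0, 0, 0, 0, 4, 0, 0, 0, 0, 0, 0, 0, 0, 0, 0, 5, 0, 0, 0, 0, 0, 0, 0, 0, 1, 0, 0, 0, 0, 2, 0, 0, 0, 0, 3, 0, 0, 0, 0, 0, 0, 0, 0, 0, 0, 4, 0, 0, 0, 0, 5, 0, 0, 0, 0, 0, 0, 0, 0, 1, 0, 0, 0, 0, 2, 0, 0, 0, 0, 0, 0, 0, 0, 0, 0, 3, 0, 0, 0, 0, 4, 0, 0, 0, 0, 5, 0, 0, 0, 0,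 0, 0, 0, 0, 1, 0, 0, 0, 0, 0, 0, 0, 0, 0, 0, 2, 0, 0, 0, 0, 3, 0, 0, 0, 0, 4, 0, 0, 0, 0, 5, 0, 0, 0, 0, 0, 0, 0, 0, 0, 0, 0, 5, 0, 0, 0, 0, 4, 0, 0, 0, 0, 3, 0, 0, 0, 0, 0, 0, 0, 0, 0, 0, 2, 0, 0, 0, 0, 1, 0, 0, 0, 5, 0, 0, 0, 0, 4, 0, 0, 0, 0, 3, 0, 0, 0, 0, 0, 0, 0, 0, 0, 0, 2, 0, 0, 0, 0, 1, 0, 0, 0, 0, 0, 0, 0, 0, 4, 0, 0, 0, 0, 3, 0, 0, 0, 0, 0, 0, 0, 0, 0, 0, 2, 0, 0, 0, 0, 1, 0, 0, 0, 0, 0, 0, 0, 0, 0, 5, 0, 0, 0, 3, 0, 0, 0, 0, 0, 0, 0, 0, 0, 0, 2, 0, 0, 0, 0, 1, 0, 0, 0, 0, 0, 0, 0, 0, 0, 5, 0, 0, 0, 0, 4, 0, 0, 0, 0, 0, 0, 0, 0, 0, 2, 0, 0, 0, 0, 1, 0, 0, 0, 0, 0, 0, 0, 0, 0, 5, 0, 0, 0, 0, 4, 0, 0, 0, 0, 3, 0, 0, 0, 0, 0, 0, 0, 0, 0, 1, 0, 0, 0, 0, 0, 0, 0, 0, 0, 5, 0, 0, 0, 0, 4, 0, 0, 0, 0, 3, 0, 0, 0, 0, 0, 0, 0, 0, 0, 0, 2]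

/-- Factorisation table of monomial matrices. -/
def monJ : List (Fin 6) :=
  [0, 0, 0, 0, 0, 0, 0, 0, 0, 0, 0, 1, 0, 0, 0, 0, 2, 0, 0, 0, 0, 3, 0, 0, 0, 0, 4, 0, 0, 0, 0, 5, 0, 0, 0, 0, 0, 0, 0, 0, 0, 1, 0, 0, 0, 0, 2, 0, 0, 0, 0, 3, 0, 0, 0, 0, 4, 0, 0, 0, 0, 5, 0, 0, 0, 0, 0, 0, 0, 0, 0, 0, 0, 0, 0, 0, 2, 0, 0, 0, 0, 3, 0, 0, 0, 0, 4, 0, 0, 0, 0, 5, 0, 0, 0, 0, 0, 0, 0, 0, 0, 0, 0, 0, 0, 0, 0, 1, 0, 0, 0, 3, 0, 0, 0, 0, 4, 0, 0, 0, 0, 5, 0, 0, 0, 0, 0, 0, 0, 0, 0, 0, 0, 0, 0, 0, 0, 1, 0, 0, 0, 0, 2, 0, 0, 0, 4, 0, 0, 0, 0, 5, 0, 0, 0, 0, 0, 0, 0, 0, 0, 0, 0, 0, 0, 0, 0, 1, 0, 0, 0, 0, 2, 0, 0, 0, 0, 3, 0, 0, 0, 5, 0, 0, 0, 0, 0, 0, 0, 0, 0, 0, 0, 0, 0, 0, 0, 1, 0, 0, 0, 0, 2, 0, 0, 0, 0, 3, 0, 0, 0, 0, 4, 0, 0, 0, 0, 0, 0, 3, 0, 0, 0, 0, 2, 0, 0, 0, 0, 1, 0, 0, 0, 0, 0, 0, 0,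 0, 0, 0, 0, 0, 0, 0, 0, 5, 0, 0, 0, 0, 4, 0, 0, 0, 3, 0, 0, 0, 0, 2, 0, 0, 0, 0, 1, 0, 0, 0, 0, 0, 0, 0, 0, 0, 0, 0, 0, 0, 0, 0, 5, 0, 0, 0, 0, 4, 0, 0, 0, 3, 0, 0, 0, 0, 2, 0, 0, 0, 0, 0, 0, 0, 0, 0, 0, 1, 0, 0, 0, 0, 0, 0, 0, 0, 0, 5, 0, 0, 0, 0, 4, 0, 0, 0, 3, 0, 0, 0, 0, 0, 0, 0, 0, 0, 0, 2, 0, 0, 0, 0, 1, 0, 0, 0, 0, 0, 0, 0, 0, 0, 5, 0, 0, 0, 0, 4, 0, 0, 0, 0, 0, 0, 0, 0, 0, 3, 0, 0, 0, 0, 2, 0, 0, 0, 0, 1, 0, 0, 0, 0, 0, 0, 0, 0, 0, 5, 0, 0, 0, 0, 4, 0, 0, 0, 0, 0, 0, 0, 0, 0, 3, 0, 0, 0, 0, 2, 0, 0, 0, 0, 1, 0, 0, 0, 0, 0, 0, 0, 0, 0, 5, 0, 0, 0, 0, 0, 0, 0, 0, 0, 0, 4, 0, 0, 0, 0, 0, 0, 0, 0, 1, 0, 0, 0, 0, 2, 0, 0, 0, 0, 3, 0, 0, 0, 0, 0, 0, 0, 0, 0, 0, 4, 0, 0, 0, 0, 5, 0, 0, 0, 1, 0, 0, 0, 0, 2, 0, 0, 0, 0, 3, 0, 0, 0, 0, 0, 0, 0, 0, 0, 0, 4, 0, 0, 0, 0, 5, 0, 0, 0, 0,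 0, 0, 0, 0, 2, 0, 0, 0, 0, 3, 0, 0, 0, 0, 0, 0, 0, 0, 0, 0, 4, 0, 0, 0, 0, 5, 0, 0, 0, 0, 0, 0, 0, 0, 0, 1, 0, 0, 0, 3, 0, 0, 0, 0, 0, 0, 0, 0, 0, 0, 4, 0, 0, 0, 0, 5, 0, 0, 0, 0, 0, 0, 0, 0, 0, 1, 0, 0, 0, 0, 2, 0, 0, 0, 0, 0, 0, 0, 0, 0, 4, 0, 0, 0, 0, 5, 0, 0, 0, 0, 0, 0, 0, 0, 0, 1, 0, 0, 0, 0, 2, 0, 0, 0, 0, 3, 0, 0, 0, 0, 0, 0, 0, 0, 0, 5, 0, 0, 0, 0, 0, 0, 0, 0, 0, 1, 0, 0, 0, 0, 2, 0, 0, 0, 0, 3, 0, 0, 0, 0, 0, 0, 0, 0, 0, 0, 4, 0, 0, 0, 0, 0, 0, 0, 0, 0, 0, 0, 5, 0, 0, 0, 0, 4, 0, 0, 0, 0, 3, 0, 0, 0, 0, 2, 0, 0, 0, 0, 1, 0, 0, 0, 0, 0, 0, 0, 0, 0, 0, 0, 0, 0, 0, 5, 0, 0, 0, 0, 4, 0, 0, 0, 0, 3, 0, 0, 0, 0, 2, 0, 0, 0, 0, 1, 0, 0, 0, 0, 0, 0, 0, 0, 0, 0, 0, 0, 0, 0, 5, 0, 0, 0, 0, 4, 0, 0, 0, 0, 3, 0, 0, 0, 0, 2, 0, 0, 0, 0, 0, 0, 0, 0, 0, 0, 1, 0, 0, 0, 0, 0, 0, 0, 0, 5,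 0, 0, 0, 0, 4, 0, 0, 0, 0, 3, 0, 0, 0, 0, 0, 0, 0, 0, 0, 0, 2, 0, 0, 0, 0, 1, 0, 0, 0, 0, 0, 0, 0, 0, 5, 0, 0, 0, 0, 4, 0, 0, 0, 0, 0, 0, 0, 0, 0, 0, 3, 0, 0, 0, 0, 2, 0, 0, 0, 0, 1, 0, 0, 0, 0, 0, 0, 0, 0, 5, 0, 0, 0, 0, 0, 0, 0, 0, 0, 0, 4, 0, 0, 0, 0, 3, 0, 0, 0, 0, 2, 0, 0, 0, 0, 1, 0, 0, 0, 0, 0, 0, 0, 0, 0, 0, 0, 0, 0, 0, 0, 0, 0, 0, 0, 0, 0, 0, 0, 0, 0, 0, 0, 0, 0, 0, 0, 0, 0, 0, 0, 0, 0, 0, 0, 0, 0, 0, 0, 0, 5, 0, 0, 0, 0, 5, 0, 0, 0, 0, 5, 0, 0, 0, 0, 5, 0, 0, 0, 0, 5, 0, 0, 0, 0, 5, 0, 0, 0, 0, 0, 0, 0, 0, 0, 4, 0, 0, 0, 0, 4, 0, 0, 0, 0, 4, 0, 0, 0, 0, 4, 0, 0, 0, 0, 4, 0, 0, 0, 0, 0, 0, 0, 0, 0, 0, 4, 0, 0, 0, 3, 0, 0, 0, 0, 3, 0, 0, 0, 0, 3, 0, 0, 0, 0, 3, 0, 0, 0, 0, 0, 0, 0, 0, 0, 0, 3, 0, 0, 0, 0, 3, 0, 0, 0, 2, 0, 0, 0, 0, 2, 0, 0, 0, 0, 2, 0, 0, 0, 0, 0, 0, 0, 0,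 0, 0, 2, 0, 0, 0, 0, 2, 0, 0, 0, 0, 2, 0, 0, 0, 1, 0, 0, 0, 0, 1, 0, 0, 0, 0, 0, 0, 0, 0, 0, 0, 1, 0, 0, 0, 0, 1, 0, 0, 0, 0, 1, 0, 0, 0, 0, 1, 0, 0, 0, 0, 0, 0, 3, 0, 0, 0, 0, 3, 0, 0, 0, 0, 3, 0, 0, 0, 0, 3, 0, 0, 0, 0, 0, 0, 0, 0, 0, 0, 3, 0, 0, 0, 0, 3, 0, 0, 0, 2, 0, 0, 0, 0, 2, 0, 0, 0, 0, 2, 0, 0, 0, 0, 0, 0, 0, 0, 0, 0, 2, 0, 0, 0, 0, 2, 0, 0, 0, 0, 2, 0, 0, 0, 1, 0, 0, 0, 0, 1, 0, 0, 0, 0, 0, 0, 0, 0, 0, 0, 1, 0, 0, 0, 0, 1, 0, 0, 0, 0, 1, 0, 0, 0, 0, 1, 0, 0, 0, 0, 0, 0, 0, 0, 0, 0, 0, 0, 0, 0, 0, 0, 0, 0, 0, 0, 0, 0, 0, 0, 0, 0, 0, 0, 0, 0, 0, 0, 0, 0, 0, 0, 0, 0, 0, 0, 0, 0, 0, 0, 5, 0, 0, 0, 0, 5, 0, 0, 0, 0, 5, 0, 0, 0, 0, 5, 0, 0, 0, 0, 5, 0, 0, 0, 0, 5, 0, 0, 0, 0, 0, 0, 0, 0, 0, 4, 0, 0, 0, 0, 4, 0, 0, 0, 0, 4, 0, 0, 0, 0, 4, 0, 0, 0, 0, 4, 0, 0, 0, 0, 0, 0, 0, 0,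 0, 0, 4]

/-- Factorisation table of monomial matrices. -/
def monK : List (Fin 6) :=
  [0, 0, 0, 0, 0, 0, 0, 0, 0, 0, 0, 0, 0, 0, 0, 0, 0, 0, 0, 0, 0, 0, 0, 0, 0, 0, 0, 0, 0, 0, 0, 0, 0, 0, 0, 0, 0, 0, 0, 0, 0, 0, 0, 0, 0, 0, 0, 0, 0, 0, 0, 0, 0, 0, 0, 0, 0, 0, 0, 0, 0, 0, 0, 0, 0, 0, 0, 0, 0, 0, 0, 0, 0, 0, 0, 0, 0, 0, 0, 0, 0, 0, 0, 0, 0, 0, 0, 0, 0, 0, 0, 0, 0, 0, 0, 0, 0, 0, 0, 0, 0, 0, 0, 0, 0, 0, 0, 0, 0, 0, 0, 0, 0, 0, 0, 0, 0, 0, 0, 0, 0, 0, 0, 0, 0, 0, 0, 0, 0, 0, 0, 0, 0, 0, 0, 0, 0, 0, 0, 0, 0, 0, 0, 0, 0, 0, 0, 0, 0, 0, 0, 0, 0, 0, 0, 0, 0, 0, 0, 0, 0, 0, 0, 0, 0, 0, 0, 0, 0, 0, 0, 0, 0, 0, 0, 0, 0, 0, 0, 0, 0, 0, 0, 0, 0, 0, 0, 0, 0, 0, 0, 0, 0, 0, 0, 0, 0, 0, 0, 0, 0, 0, 0, 0, 0, 0, 0, 0, 0, 0, 0, 0, 0, 0, 0, 0, 0, 0, 0, 5, 0, 0, 0, 0, 5, 0, 0, 0, 0, 5, 0, 0, 0, 0,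 5, 0, 0, 0, 0, 0, 0, 0, 0, 0, 0, 5, 0, 0, 0, 0, 5, 0, 0, 0, 5, 0, 0, 0, 0, 5, 0, 0, 0, 0, 5, 0, 0, 0, 0, 0, 0, 0, 0, 0, 0, 5, 0, 0, 0, 0, 5, 0, 0, 0, 0, 5, 0, 0, 0, 5, 0, 0, 0, 0, 5, 0, 0, 0, 0, 0, 0, 0, 0, 0, 0, 5, 0, 0, 0, 0, 5, 0, 0, 0, 0, 5, 0, 0, 0, 0, 5, 0, 0, 0, 5, 0, 0, 0, 0, 0, 0, 0, 0, 0, 0, 5, 0, 0, 0, 0, 5, 0, 0, 0, 0, 5, 0, 0, 0, 0, 5, 0, 0, 0, 0, 5, 0, 0, 0, 0, 0, 0, 0, 0, 0, 5, 0, 0, 0, 0, 5, 0, 0, 0, 0, 5, 0, 0, 0, 0, 5, 0, 0, 0, 0, 5, 0, 0, 0, 0, 5, 0, 0, 0, 0, 0, 0, 0, 0, 0, 5, 0, 0, 0, 0, 5, 0, 0, 0, 0, 5, 0, 0, 0, 0, 5, 0, 0, 0, 0, 5, 0, 0, 0, 0, 0, 0, 0, 0, 0, 0, 5, 0, 0, 0, 3, 0, 0, 0, 0, 3, 0, 0, 0, 0, 3, 0, 0, 0, 0, 3, 0, 0, 0, 0, 0, 0, 0, 0, 0, 0, 3, 0, 0, 0, 0, 3, 0, 0, 0, 3, 0, 0, 0, 0, 3, 0, 0, 0, 0, 3, 0, 0, 0, 0, 0, 0, 0, 0, 0, 0, 3, 0, 0, 0, 0, 3, 0,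 0, 0, 0, 3, 0, 0, 0, 3, 0, 0, 0, 0, 3, 0, 0, 0, 0, 0, 0, 0, 0, 0, 0, 3, 0, 0, 0, 0, 3, 0, 0, 0, 0, 3, 0, 0, 0, 0, 3, 0, 0, 0, 3, 0, 0, 0, 0, 0, 0, 0, 0, 0, 0, 3, 0, 0, 0, 0, 3, 0, 0, 0, 0, 3, 0, 0, 0, 0, 3, 0, 0, 0, 0, 3, 0, 0, 0, 0, 0, 0, 0, 0, 0, 3, 0, 0, 0, 0, 3, 0, 0, 0, 0, 3, 0, 0, 0, 0, 3, 0, 0, 0, 0, 3, 0, 0, 0, 0, 3, 0, 0, 0, 0, 0, 0, 0, 0, 0, 3, 0, 0, 0, 0, 3, 0, 0, 0, 0, 3, 0, 0, 0, 0, 3, 0, 0, 0, 0, 3, 0, 0, 0, 0, 0, 0, 0, 0, 0, 0, 3, 2, 0, 0, 0, 0, 0, 0, 0, 0, 0, 0, 2, 0, 0, 0, 0, 2, 0, 0, 0, 0, 2, 0, 0, 0, 0, 2, 0, 0, 0, 0, 2, 0, 0, 0, 0, 0, 0, 0, 0, 0, 2, 0, 0, 0, 0, 2, 0, 0, 0, 0, 2, 0, 0, 0, 0, 2, 0, 0, 0, 0, 2, 0, 0, 0, 0, 2, 0, 0, 0, 0, 0, 0, 0, 0, 0, 2, 0, 0, 0, 0, 2, 0, 0, 0, 0, 2, 0, 0, 0, 0, 2, 0, 0, 0, 0, 2, 0, 0, 0, 0, 0, 0, 0, 0, 0, 0, 2, 0, 0, 0, 2, 0, 0,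 0, 0, 2, 0, 0, 0, 0, 2, 0, 0, 0, 0, 2, 0, 0, 0, 0, 0, 0, 0, 0, 0, 0, 2, 0, 0, 0, 0, 2, 0, 0, 0, 2, 0, 0, 0, 0, 2, 0, 0, 0, 0, 2, 0, 0, 0, 0, 0, 0, 0, 0, 0, 0, 2, 0, 0, 0, 0, 2, 0, 0, 0, 0, 2, 0, 0, 0, 2, 0, 0, 0, 0, 2, 0, 0, 0, 0, 0, 0, 0, 0, 0, 0, 2, 0, 0, 0, 0, 2, 0, 0, 0, 0, 2, 0, 0, 0, 0, 2, 0, 0, 0, 1, 0, 0, 0, 0, 0, 0, 0, 0, 0, 0, 1, 0, 0, 0, 0, 1, 0, 0, 0, 0, 1, 0, 0, 0, 0, 1, 0, 0, 0, 0, 1, 0, 0, 0, 0, 0, 0, 0, 0, 0, 1, 0, 0, 0, 0, 1, 0, 0, 0, 0, 1, 0, 0, 0, 0, 1, 0, 0, 0, 0, 1, 0, 0, 0, 0, 1, 0, 0, 0, 0, 0, 0, 0, 0, 0, 1, 0, 0, 0, 0, 1, 0, 0, 0, 0, 1, 0, 0, 0, 0, 1, 0, 0, 0, 0, 1, 0, 0, 0, 0, 0, 0, 0, 0, 0, 0, 1, 0, 0, 0, 1, 0, 0, 0, 0, 1, 0, 0, 0, 0, 1, 0, 0, 0, 0, 1, 0, 0, 0, 0, 0, 0, 0, 0, 0, 0, 1, 0, 0, 0, 0, 1, 0, 0, 0, 1, 0, 0, 0, 0, 1, 0, 0, 0, 0, 1, 0, 0, 0, 0, 0,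 0, 0, 0, 0, 0, 1, 0, 0, 0, 0, 1, 0, 0, 0, 0, 1, 0, 0, 0, 1, 0, 0, 0, 0, 1, 0, 0, 0, 0, 0, 0, 0, 0, 0, 0, 1, 0, 0, 0, 0, 1, 0, 0, 0, 0, 1, 0, 0, 0, 0, 1, 0, 0, 0, 0, 0, 0, 4, 0, 0, 0, 0, 4, 0, 0, 0, 0, 4, 0, 0, 0, 0, 4, 0, 0, 0, 0, 0, 0, 0, 0, 0, 0, 4, 0, 0, 0, 0, 4, 0, 0, 0, 4, 0, 0, 0, 0, 4, 0, 0, 0, 0, 4, 0, 0, 0, 0, 0, 0, 0, 0, 0, 0, 4, 0, 0, 0, 0, 4, 0, 0, 0, 0, 4, 0, 0, 0, 4, 0, 0, 0, 0, 4, 0, 0, 0, 0, 0, 0, 0, 0, 0, 0, 4, 0, 0, 0, 0, 4, 0, 0, 0, 0, 4, 0, 0, 0, 0, 4, 0, 0, 0, 4, 0, 0, 0, 0, 0, 0, 0, 0, 0, 0, 4, 0, 0, 0, 0, 4, 0, 0, 0, 0, 4, 0, 0, 0, 0, 4, 0, 0, 0, 0, 4, 0, 0, 0, 0, 0, 0, 0, 0, 0, 4, 0, 0, 0, 0, 4, 0, 0, 0, 0, 4, 0, 0, 0, 0, 4, 0, 0, 0, 0, 4, 0, 0, 0, 0, 4, 0, 0, 0, 0, 0, 0, 0, 0, 0, 4, 0, 0, 0, 0, 4, 0, 0, 0, 0, 4, 0, 0, 0, 0, 4, 0, 0, 0, 0, 4, 0, 0, 0, 0, 0,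 0, 0, 0, 0, 0, 4]

/-- The monomial matrix with column `i` equal to `z ^ e i` in row `π i`. -/
def monomial (π : Fin 6) (e : Fin 3 → Fin 6) : Mat 5 :=
  fun r c => if monPerms π c = r then monRootPow (e c) else kzero

/-- Position in the tables. -/
def monCode (π : Fin 6) (a b c : Fin 6) : ℕ := 216 * π + 36 * a + 6 * b + c

theorem monomial_factor : ∀ π a b c, mdet (monomial π ![a, b, c]) = kone → monomial π ![a, b, c] =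
    mmul (mmul (monD1Pow (monI.getD (monCode π a b c) 0)) (monD2Pow (monJ.getD (monCode π a b c) 0)))
      (monW (monK.getD (monCode π a b c) 0)) := by decide +kernel

theorem monS_not_monomial : monSMat 0 0 ≠ kzero ∧ monSMat 0 1 ≠ kzero := by decide +kernel

/-- Powers. -/
def fiveXPow : Fin 7 → Mat 5 :=
  ![![![(1, 0), (0, 0), (0, 0)], ![(0, 0), (1, 0), (0, 0)], ![(0, 0), (0, 0), (1, 0)]],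
    ![![(0, 0), (0, 1), (0, 1)], ![(0, 1), (4, 1), (1, 4)], ![(1, 3), (2, 0), (3, 0)]],
    ![![(3, 1), (2, 1), (3, 4)], ![(2, 1), (2, 1), (2, 4)], ![(3, 1), (0, 3), (2, 4)]],
    ![![(4, 0), (3, 2), (1, 4)], ![(3, 2), (1, 1), (3, 3)], ![(2, 0), (2, 3), (2, 3)]],
    ![![(4, 0), (3, 3), (2, 0)], ![(3, 3), (1, 4), (2, 2)], ![(1, 1), (3, 2), (2, 2)]],
    ![![(3, 4), (2, 4), (3, 4)], ![(2, 4), (2, 4), (0, 2)], ![(3, 1), (2, 1), (2, 1)]],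
    ![![(0, 0), (0, 4), (1, 2)], ![(0, 4), (4, 4), (2, 0)], ![(0, 4), (1, 1), (3, 0)]]]

theorem fiveXPow_zero : fiveXPow 0 = mone := by decide +kernel

theorem fiveXPow_succ : ∀ k, mmul (fiveXPow k) fiveXMat = fiveXPow (k + 1) := by decide +kernel

/-- Powers. -/
def fiveFPow : Fin 3 → Mat 5 :=
  ![![![(1, 0), (0, 0), (0, 0)], ![(0, 0), (1, 0), (0, 0)], ![(0, 0), (0, 0), (1, 0)]],
    ![![(3, 3), (2, 3), (4, 4)], ![(4, 4), (3, 2), (3, 3)], ![(1, 0), (1, 1), (4, 0)]],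
    ![![(3, 2), (4, 1), (1, 0)], ![(2, 2), (3, 3), (1, 4)], ![(4, 1), (3, 2), (4, 0)]]]

theorem fiveFPow_spec : fiveFPow 0 = mone ∧ fiveFPow 1 = fiveFMat ∧ fiveFPow 2 = mmul fiveFMat fiveFMat := by decide +kernel

theorem fiveX_nontrivial : fiveXMat ≠ mone := by decide +kernel

theorem fiveF_conj : ∀ i : Fin 7, mtrace (fiveXPow i) = mtrace (fiveXPow 1) →
    ∃ j : Fin 3, mmul (fiveFPow j) (fiveXPow 1) = mmul (fiveXPow i) (fiveFPow j) := by decide +kernel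

theorem five_witness : ∀ i : Fin 7, mmul monSMat fiveXMat ≠ mmul (fiveXPow i) monSMat := by decide +kernel

/-- An element of the special unitary group. -/
def threeXMat : Mat 3 :=
  ![![(0, 0), (0, 0), (1, 0)], ![(1, 1), (1, 1), (0, 0)], ![(2, 1), (1, 2), (0, 0)]]

theorem threeX_unitary : IsSU threeXMat := by decide +kernel

/-- An element of the special unitary group. -/
def threeFMat : Mat 3 :=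
  ![![(2, 0), (0, 1), (2, 1)], ![(1, 1), (2, 1), (0, 0)], ![(0, 1), (1, 0), (2, 2)]]

theorem threeF_unitary : IsSU threeFMat := by decide +kernel

/-- An element of the special unitary group. -/
def threeSMat : Mat 3 :=
  ![![(2, 0), (1, 2), (1, 0)], ![(1, 0), (2, 0), (2, 1)], ![(1, 1), (0, 2), (0, 2)]]

theorem threeS_unitary : IsSU threeSMat := by decide +kernel

/-- An element of the special unitary group. -/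
def threeTMat : Mat 3 :=
  ![![(0, 0), (0, 0), (2, 0)], ![(0, 0), (1, 0), (0, 0)], ![(1, 0), (0, 0), (0, 0)]]

theorem threeT_unitary : IsSU threeTMat := by decide +kernel

/-- An invariant set of projective points. -/
def threePts : Fin 21 → Vec 3 :=
  ![![(0, 0), (1, 0), (1, 0)], ![(1, 0), (1, 1), (1, 2)], ![(1, 0), (0, 2), (2, 2)],
    ![(1, 0), (2, 0), (1, 1)], ![(1, 0), (2, 2), (0, 1)], ![(1, 0), (2, 1), (2, 2)],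
    ![(1, 0), (1, 1), (0, 1)], ![(1, 0), (2, 1), (1, 2)], ![(1, 0), (1, 0), (2, 1)],
    ![(1, 0), (0, 0), (0, 2)], ![(1, 0), (0, 2), (1, 2)], ![(1, 0), (2, 2), (1, 0)],
    ![(1, 0), (0, 2), (2, 1)], ![(1, 0), (1, 1), (2, 2)], ![(1, 0), (0, 1), (0, 0)],
    ![(1, 0), (0, 2), (1, 1)], ![(1, 0), (2, 2), (1, 1)], ![(1, 0), (1, 2), (2, 1)],
    ![(1, 0), (1, 2), (0, 1)], ![(1, 0), (2, 1), (0, 1)], ![(1, 0), (1, 2), (2, 0)]]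

/-- Images. -/
def threeXPerm : Fin 21 → Fin 21 :=
  ![1, 4, 7, 9, 11, 12, 10, 3, 14, 5, 13, 18, 16, 20, 0, 17, 2, 19, 8, 6, 15]

/-- Multipliers. -/
def threeXMult : Fin 21 → K2 3 :=
  ![(1, 0), (1, 2), (2, 2), (1, 1), (0, 1), (2, 2), (0, 1), (1, 2), (2, 1), (0, 2), (1, 2),
    (1, 0), (2, 1), (2, 2), (0, 2), (1, 1), (1, 1), (2, 1), (0, 1), (0, 1), (2, 0)]

theorem threeX_maps : ∀ a, mvec threeXMat (threePts a) = fun i => kmul (threeXMult a) (threePts (threeXPerm a) i) := by decide +kernel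

/-- Images. -/
def threeFPerm : Fin 21 → Fin 21 :=
  ![2, 5, 6, 10, 7, 13, 0, 15, 16, 17, 18, 12, 19, 1, 9, 4, 20, 14, 3, 11, 8]

/-- Multipliers. -/
def threeFMult : Fin 21 → K2 3 :=
  ![(2, 2), (1, 0), (2, 0), (0, 2), (2, 1), (0, 2), (2, 1), (1, 1), (2, 2), (0, 1), (0, 2),
    (2, 0), (0, 1), (0, 1), (1, 0), (1, 0), (1, 2), (0, 2), (2, 0), (0, 1), (1, 0)]

theorem threeF_maps : ∀ a, mvec threeFMat (threePts a) = fun i => kmul (threeFMult a) (threePts (threeFPerm a) i) := by decide +kernel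

/-- Images. -/
def threeSPerm : Fin 21 → Fin 21 :=
  ![3, 6, 8, 9, 2, 12, 14, 1, 10, 15, 13, 18, 0, 17, 16, 20, 11, 19, 7, 4, 5]

/-- Multipliers. -/
def threeSMult : Fin 21 → K2 3 :=
  ![(2, 2), (2, 2), (0, 1), (2, 2), (0, 1), (1, 1), (1, 1), (0, 1), (2, 0), (2, 2), (2, 1),
    (1, 0), (1, 2), (0, 2), (0, 1), (2, 0), (1, 1), (1, 2), (2, 2), (2, 0), (1, 1)]

theorem threeS_maps : ∀ a, mvec threeSMat (threePts a) = fun i => kmul (threeSMult a) (threePts (threeSPerm a) i) := by decide +kernel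

/-- A moved point. -/
def threeMoved : Fin 21 :=
  0

theorem three_moved : ∀ b, ∀ c : K2 3, mvec threeTMat (threePts threeMoved) ≠ fun i => kmul c (threePts b i) := by decide +kernel

/-- Powers. -/
def threeXPow : Fin 7 → Mat 3 :=
  ![![![(1, 0), (0, 0), (0, 0)], ![(0, 0), (1, 0), (0, 0)], ![(0, 0), (0, 0), (1, 0)]],
    ![![(0, 0), (0, 0), (1, 0)], ![(1, 1), (1, 1), (0, 0)], ![(2, 1), (1, 2), (0, 0)]],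
    ![![(2, 1), (1, 2), (0, 0)], ![(0, 2), (0, 2), (1, 1)], ![(2, 0), (2, 0), (2, 1)]],
    ![![(2, 0), (2, 0), (2, 1)], ![(2, 2), (0, 2), (0, 2)], ![(2, 0), (2, 1), (2, 0)]],
    ![![(2, 0), (2, 1), (2, 0)], ![(2, 0), (0, 1), (2, 2)], ![(2, 2), (0, 1), (2, 0)]],
    ![![(2, 2), (0, 1), (2, 0)], ![(1, 1), (0, 1), (2, 0)], ![(0, 0), (1, 2), (2, 2)]],
    ![![(0, 0), (1, 2), (2, 2)], ![(0, 0), (1, 2), (1, 1)], ![(1, 0), (0, 0), (0, 0)]]]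

theorem threeXPow_zero : threeXPow 0 = mone := by decide +kernel

theorem threeXPow_succ : ∀ k, mmul (threeXPow k) threeXMat = threeXPow (k + 1) := by decide +kernel

/-- Powers. -/
def threeFPow : Fin 3 → Mat 3 :=
  ![![![(1, 0), (0, 0), (0, 0)], ![(0, 0), (1, 0), (0, 0)], ![(0, 0), (0, 0), (1, 0)]],
    ![![(2, 0), (0, 1), (2, 1)], ![(1, 1), (2, 1), (0, 0)], ![(0, 1), (1, 0), (2, 2)]],
    ![![(2, 0), (1, 2), (0, 2)], ![(0, 2), (2, 2), (1, 0)], ![(2, 2), (0, 0), (2, 1)]]]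

theorem threeFPow_spec : threeFPow 0 = mone ∧ threeFPow 1 = threeFMat ∧ threeFPow 2 = mmul threeFMat threeFMat := by decide +kernel

theorem threeX_nontrivial : threeXMat ≠ mone := by decide +kernel

theorem threeF_conj : ∀ i : Fin 7, mtrace (threeXPow i) = mtrace (threeXPow 1) →
    ∃ j : Fin 3, mmul (threeFPow j) (threeXPow 1) = mmul (threeXPow i) (threeFPow j) := by decide +kernel

theorem three_witness : ∀ i : Fin 7, mmul threeSMat threeXMat ≠ mmul (threeXPow i) threeSMat := by decide +kernel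

/-- An element of the special unitary group. -/
def symDMat : Mat 5 :=
  ![![(1, 0), (0, 0), (0, 0)], ![(0, 0), (2, 2), (0, 0)], ![(0, 0), (0, 0), (2, 3)]]

theorem symD_unitary : IsSU symDMat := by decide +kernel

/-- An element of the special unitary group. -/
def symCMat : Mat 5 :=
  ![![(0, 0), (1, 0), (0, 0)], ![(0, 0), (0, 0), (1, 0)], ![(1, 0), (0, 0), (0, 0)]]

theorem symC_unitary : IsSU symCMat := by decide +kernel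

/-- An element of the special unitary group. -/
def symAMat : Mat 5 :=
  ![![(3, 1), (2, 1), (3, 1)], ![(2, 1), (3, 1), (3, 1)], ![(2, 1), (2, 1), (0, 3)]]

theorem symA_unitary : IsSU symAMat := by decide +kernel

/-- An element of the special unitary group. -/
def symBMat : Mat 5 :=
  ![![(3, 1), (2, 1), (2, 1)], ![(2, 1), (3, 1), (2, 1)], ![(3, 1), (3, 1), (0, 3)]]

theorem symB_unitary : IsSU symBMat := by decide +kernel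

/-- An element of the special unitary group. -/
def symSMat : Mat 5 :=
  ![![(0, 2), (3, 3), (4, 2)], ![(3, 2), (4, 4), (3, 3)], ![(0, 1), (3, 2), (0, 2)]]

theorem symS_unitary : IsSU symSMat := by decide +kernel

/-- An element of the special unitary group. -/
def symTMat : Mat 5 :=
  ![![(0, 0), (0, 0), (1, 0)], ![(0, 0), (4, 0), (0, 0)], ![(1, 0), (0, 0), (0, 0)]]

theorem symT_unitary : IsSU symTMat := by decide +kernel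

/-- An invariant set of projective points. -/
def symPts : Fin 36 → Vec 5 :=
  ![![(1, 0), (1, 0), (0, 1)], ![(1, 0), (2, 2), (1, 2)], ![(1, 0), (0, 1), (1, 0)],
    ![(1, 0), (1, 0), (4, 3)], ![(1, 0), (2, 3), (0, 4)], ![(1, 0), (2, 3), (4, 2)],
    ![(1, 0), (4, 2), (2, 3)], ![(1, 0), (2, 1), (3, 1)], ![(1, 0), (0, 2), (2, 4)],
    ![(1, 0), (3, 4), (2, 4)], ![(1, 0), (0, 3), (0, 3)], ![(1, 0), (3, 1), (2, 1)],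
    ![(1, 0), (1, 3), (2, 2)], ![(1, 0), (2, 2), (1, 3)], ![(1, 0), (4, 3), (1, 0)],
    ![(1, 0), (2, 2), (0, 1)], ![(1, 0), (3, 4), (3, 4)], ![(1, 0), (1, 2), (2, 2)],
    ![(1, 0), (0, 4), (2, 3)], ![(1, 0), (2, 3), (1, 3)], ![(1, 0), (2, 4), (3, 4)],
    ![(1, 0), (2, 2), (4, 3)], ![(1, 0), (2, 3), (1, 2)], ![(1, 0), (0, 4), (1, 0)],
    ![(1, 0), (2, 4), (0, 2)], ![(1, 0), (1, 0), (0, 4)], ![(1, 0), (4, 3), (2, 2)],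
    ![(1, 0), (4, 2), (1, 0)], ![(1, 0), (1, 2), (2, 3)], ![(1, 0), (2, 1), (0, 3)],
    ![(1, 0), (0, 1), (2, 2)], ![(1, 0), (1, 3), (2, 3)], ![(1, 0), (0, 2), (0, 2)],
    ![(1, 0), (3, 1), (3, 1)], ![(1, 0), (0, 3), (2, 1)], ![(1, 0), (1, 0), (4, 2)]]

/-- Images. -/
def symDPerm : Fin 36 → Fin 36 :=
  ![1, 5, 6, 13, 3, 0, 17, 11, 16, 20, 7, 10, 14, 4, 18, 22, 24, 2, 12, 25, 32, 19, 35, 31, 8,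
    21, 23, 28, 30, 33, 27, 26, 9, 34, 29, 15]

/-- Multipliers. -/
def symDMult : Fin 36 → K2 5 :=
  ![(1, 0), (1, 0), (1, 0), (1, 0), (1, 0), (1, 0), (1, 0), (1, 0), (1, 0), (1, 0), (1, 0),
    (1, 0), (1, 0), (1, 0), (1, 0), (1, 0), (1, 0), (1, 0), (1, 0), (1, 0), (1, 0), (1, 0),
    (1, 0), (1, 0), (1, 0), (1, 0), (1, 0), (1, 0), (1, 0), (1, 0), (1, 0), (1, 0), (1, 0),
    (1, 0), (1, 0), (1, 0)]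

theorem symD_maps : ∀ a, mvec symDMat (symPts a) = fun i => kmul (symDMult a) (symPts (symDPerm a) i) := by decide +kernel

/-- Images. -/
def symCPerm : Fin 36 → Fin 36 :=
  ![2, 6, 10, 14, 12, 17, 7, 1, 4, 21, 0, 5, 8, 18, 16, 28, 3, 11, 24, 26, 19, 31, 30, 32, 13,
    23, 20, 33, 34, 22, 29, 9, 25, 35, 15, 27]

/-- Multipliers. -/
def symCMult : Fin 36 → K2 5 :=
  ![(1, 0), (2, 2), (0, 1), (1, 0), (2, 3), (2, 3), (4, 2), (2, 1), (0, 2), (3, 4), (0, 3),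
    (3, 1), (1, 3), (2, 2), (4, 3), (2, 2), (3, 4), (1, 2), (0, 4), (2, 3), (2, 4), (2, 2),
    (2, 3), (0, 4), (2, 4), (1, 0), (4, 3), (4, 2), (1, 2), (2, 1), (0, 1), (1, 3), (0, 2),
    (3, 1), (0, 3), (1, 0)]

theorem symC_maps : ∀ a, mvec symCMat (symPts a) = fun i => kmul (symCMult a) (symPts (symCPerm a) i) := by decide +kernel

/-- Images. -/
def symAPerm : Fin 36 → Fin 36 :=
  ![0, 7, 11, 3, 12, 17, 2, 5, 16, 22, 6, 10, 13, 24, 8, 9, 18, 1, 14, 30, 33, 34, 26, 29, 4, 35,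
    15, 20, 23, 32, 21, 27, 28, 31, 19, 25]

/-- Multipliers. -/
def symAMult : Fin 36 → K2 5 :=
  ![(2, 0), (3, 4), (3, 4), (3, 0), (1, 1), (4, 4), (2, 0), (0, 1), (1, 4), (1, 1), (0, 1),
    (4, 1), (1, 1), (0, 2), (0, 2), (3, 0), (4, 2), (4, 4), (3, 0), (2, 4), (2, 1), (4, 0),
    (0, 1), (4, 0), (4, 2), (3, 4), (2, 4), (3, 0), (1, 2), (0, 4), (0, 1), (3, 4), (1, 1),
    (2, 2), (2, 2), (1, 2)]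

theorem symA_maps : ∀ a, mvec symAMat (symPts a) = fun i => kmul (symAMult a) (symPts (symAPerm a) i) := by decide +kernel

/-- Images. -/
def symBPerm : Fin 36 → Fin 36 :=
  ![3, 8, 12, 0, 6, 18, 13, 14, 5, 23, 24, 4, 10, 11, 17, 29, 7, 16, 1, 31, 19, 20, 28, 26, 2,
    25, 32, 30, 15, 22, 33, 21, 9, 34, 27, 35]

/-- Multipliers. -/
def symBMult : Fin 36 → K2 5 :=
  ![(2, 4), (2, 2), (2, 4), (4, 2), (1, 2), (0, 2), (0, 2), (2, 0), (4, 0), (4, 2), (0, 3),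
    (2, 0), (4, 4), (4, 4), (4, 2), (3, 4), (1, 3), (2, 2), (1, 2), (1, 1), (4, 2), (0, 2),
    (4, 4), (3, 0), (4, 0), (3, 0), (0, 2), (2, 0), (4, 4), (0, 1), (3, 4), (1, 1), (1, 4),
    (4, 1), (0, 1), (2, 0)]

theorem symB_maps : ∀ a, mvec symBMat (symPts a) = fun i => kmul (symBMult a) (symPts (symBPerm a) i) := by decide +kernel

/-- Images. -/
def symSPerm : Fin 36 → Fin 36 :=
  ![4, 9, 7, 15, 16, 19, 0, 8, 13, 3, 25, 20, 26, 6, 27, 10, 2, 30, 28, 14, 18, 23, 21, 35, 33,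
    24, 17, 11, 5, 32, 12, 34, 31, 1, 22, 29]

/-- Multipliers. -/
def symSMult : Fin 36 → K2 5 :=
  ![(2, 4), (0, 4), (0, 2), (1, 0), (0, 3), (3, 3), (4, 1), (3, 1), (1, 3), (2, 3), (0, 3),
    (2, 2), (2, 1), (4, 3), (4, 0), (2, 3), (1, 0), (1, 3), (4, 0), (0, 1), (3, 2), (1, 4),
    (1, 2), (3, 1), (3, 3), (4, 1), (1, 0), (3, 2), (0, 2), (4, 3), (2, 2), (1, 0), (0, 1),
    (1, 4), (0, 4), (2, 1)]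

theorem symS_maps : ∀ a, mvec symSMat (symPts a) = fun i => kmul (symSMult a) (symPts (symSPerm a) i) := by decide +kernel

/-- A moved point. -/
def symMoved : Fin 36 :=
  0

theorem sym_moved : ∀ b, ∀ c : K2 5, mvec symTMat (symPts symMoved) ≠ fun i => kmul c (symPts b i) := by decide +kernel

/-- The extraspecial group, `z ^ i * d ^ j * c ^ k`. -/
def symR : Fin 3 → Fin 3 → Fin 3 → Mat 5 :=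
  fun i j k => (![![![(1, 0), (0, 0), (0, 0)], ![(0, 0), (1, 0), (0, 0)], ![(0, 0), (0, 0), (1, 0)]],
    ![![(0, 0), (1, 0), (0, 0)], ![(0, 0), (0, 0), (1, 0)], ![(1, 0), (0, 0), (0, 0)]],
    ![![(0, 0), (0, 0), (1, 0)], ![(1, 0), (0, 0), (0, 0)], ![(0, 0), (1, 0), (0, 0)]],
    ![![(1, 0), (0, 0), (0, 0)], ![(0, 0), (2, 2), (0, 0)], ![(0, 0), (0, 0), (2, 3)]],
    ![![(0, 0), (1, 0), (0, 0)], ![(0, 0), (0, 0), (2, 2)], ![(2, 3), (0, 0), (0, 0)]],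
    ![![(0, 0), (0, 0), (1, 0)], ![(2, 2), (0, 0), (0, 0)], ![(0, 0), (2, 3), (0, 0)]],
    ![![(1, 0), (0, 0), (0, 0)], ![(0, 0), (2, 3), (0, 0)], ![(0, 0), (0, 0), (2, 2)]],
    ![![(0, 0), (1, 0), (0, 0)], ![(0, 0), (0, 0), (2, 3)], ![(2, 2), (0, 0), (0, 0)]],
    ![![(0, 0), (0, 0), (1, 0)], ![(2, 3), (0, 0), (0, 0)], ![(0, 0), (2, 2), (0, 0)]],
    ![![(2, 2), (0, 0), (0, 0)], ![(0, 0), (2, 2), (0, 0)], ![(0, 0), (0, 0), (2, 2)]],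
    ![![(0, 0), (2, 2), (0, 0)], ![(0, 0), (0, 0), (2, 2)], ![(2, 2), (0, 0), (0, 0)]],
    ![![(0, 0), (0, 0), (2, 2)], ![(2, 2), (0, 0), (0, 0)], ![(0, 0), (2, 2), (0, 0)]],
    ![![(2, 2), (0, 0), (0, 0)], ![(0, 0), (2, 3), (0, 0)], ![(0, 0), (0, 0), (1, 0)]],
    ![![(0, 0), (2, 2), (0, 0)], ![(0, 0), (0, 0), (2, 3)], ![(1, 0), (0, 0), (0, 0)]],
    ![![(0, 0), (0, 0), (2, 2)], ![(2, 3), (0, 0), (0, 0)], ![(0, 0), (1, 0), (0, 0)]],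
    ![![(2, 2), (0, 0), (0, 0)], ![(0, 0), (1, 0), (0, 0)], ![(0, 0), (0, 0), (2, 3)]],
    ![![(0, 0), (2, 2), (0, 0)], ![(0, 0), (0, 0), (1, 0)], ![(2, 3), (0, 0), (0, 0)]],
    ![![(0, 0), (0, 0), (2, 2)], ![(1, 0), (0, 0), (0, 0)], ![(0, 0), (2, 3), (0, 0)]],
    ![![(2, 3), (0, 0), (0, 0)], ![(0, 0), (2, 3), (0, 0)], ![(0, 0), (0, 0), (2, 3)]],
    ![![(0, 0), (2, 3), (0, 0)], ![(0, 0), (0, 0), (2, 3)], ![(2, 3), (0, 0), (0, 0)]],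
    ![![(0, 0), (0, 0), (2, 3)], ![(2, 3), (0, 0), (0, 0)], ![(0, 0), (2, 3), (0, 0)]],
    ![![(2, 3), (0, 0), (0, 0)], ![(0, 0), (1, 0), (0, 0)], ![(0, 0), (0, 0), (2, 2)]],
    ![![(0, 0), (2, 3), (0, 0)], ![(0, 0), (0, 0), (1, 0)], ![(2, 2), (0, 0), (0, 0)]],
    ![![(0, 0), (0, 0), (2, 3)], ![(1, 0), (0, 0), (0, 0)], ![(0, 0), (2, 2), (0, 0)]],
    ![![(2, 3), (0, 0), (0, 0)], ![(0, 0), (2, 2), (0, 0)], ![(0, 0), (0, 0), (1, 0)]],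
    ![![(0, 0), (2, 3), (0, 0)], ![(0, 0), (0, 0), (2, 2)], ![(1, 0), (0, 0), (0, 0)]],
    ![![(0, 0), (0, 0), (2, 3)], ![(2, 2), (0, 0), (0, 0)], ![(0, 0), (1, 0), (0, 0)]]] : Fin 27 → Mat 5)
    ⟨9 * i.1 + 3 * j.1 + k.1, by omega⟩

theorem symR_mul : ∀ i j k i' j' k', mmul (symR i j k) (symR i' j' k') =
    symR (i + i' + k * j') (j + j') (k + k') := by decide +kernel

theorem symR_base : symR 0 0 0 = mone ∧ symR 0 1 0 = symDMat ∧ symR 0 0 1 = symCMat := by decide +kernel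

theorem symR_injective : ∀ i j k, symR i j k = mone → i = 0 ∧ j = 0 ∧ k = 0 := by decide +kernel

/-- The quaternion group. -/
def symQ : Fin 8 → Mat 5 :=
  ![mone, symAMat, symBMat, (mmul symAMat symAMat), (mmul symAMat symBMat), (mmul symBMat symAMat), (mmul (mmul symAMat symAMat) symAMat), (mmul (mmul symAMat symAMat) symBMat)]

/-- Conjugates of `d`. -/
def symImD : Fin 8 → Fin 3 × Fin 3 × Fin 3 :=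
  ![(0, 1, 0), (1, 1, 2), (0, 2, 2), (1, 2, 0), (2, 0, 2), (2, 0, 1), (2, 2, 1), (2, 1, 1)]

/-- Conjugates of `c`. -/
def symImC : Fin 8 → Fin 3 × Fin 3 × Fin 3 :=
  ![(0, 0, 1), (1, 2, 2), (0, 2, 1), (0, 0, 2), (1, 1, 0), (2, 2, 0), (0, 1, 1), (2, 1, 2)]

theorem symQ_conj : ∀ q, mmul (symQ q) symDMat = mmul (symR (symImD q).1 (symImD q).2.1 (symImD q).2.2) (symQ q) ∧
    mmul (symQ q) symCMat = mmul (symR (symImC q).1 (symImC q).2.1 (symImC q).2.2) (symQ q) := by decide +kernel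

theorem symQ_distinct : ∀ q q', (symImD q).2 = (symImD q').2 → (symImC q).2 = (symImC q').2 → q = q' := by decide +kernel

theorem sym_witness : ∀ i j k, mmul symSMat symDMat ≠ mmul (symR i j k) symSMat := by decide +kernel

end Cfsg.Agent.Aschbacher.SUThree
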