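import Cfsg.Agent.Lib.Aschbacher.Unitary
import Cfsg.Agent.Lib.Aschbacher.SUThreeModel
import Cfsg.Agent.Lib.Forms.Herm

/-!
`SU₃(q)`: transfer from the finite models, overgroups given by invariant sets of points, and the fact that a
group of symplectic type is not normalised by the whole group.
-/

set_option autoImplicit false

namespace Cfsg.Agent.Aschbacher.SUThree

open Matrix
open scoped MatrixGroups

variable {F : Type*} [Field F]

/-- The special unitary group. -/
abbrev SUG (F : Type*) [Field F] [Fintype F] (q : ℕ) : Subgroup (GL (Fin 3) F) :=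
  GU 3 F q ⊓ Geo.specialLinear (Fin 3) F

/-- The data identifying `F` with the model. -/
structure Model [Fintype F] (p : ℕ) [CharP F p] (σ : F ≃+* F) (θ : F) : Prop where
  two_lt : 2 < p
  prime : p.Prime
  card : Fintype.card F = p ^ 2
  apply_eq : ∀ a, σ a = a ^ p
  sq : θ * θ = 2
  conj : σ θ = -θ

section

variable {p : ℕ} [CharP F p]

/-- The model inside `F`. -/
def toF (θ : F) (x : K2 p) : F :=
  ZMod.castHom dvd_rfl F x.1 + ZMod.castHom dvd_rfl F x.2 * θ

/-- Vectors of the model inside `F`. -/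
def toV (θ : F) (v : Vec p) : Fin 3 → F := fun i => toF θ (v i)

/-- Matrices of the model inside `F`. -/
def toM (θ : F) (A : Mat p) : Matrix (Fin 3) (Fin 3) F := Matrix.of fun i j => toF θ (A i j)

variable {θ : F}

theorem toF_kadd (x y : K2 p) : toF θ (kadd x y) = toF θ x + toF θ y := by
  simp only [toF, kadd, map_add]; ring

theorem toF_ksub (x y : K2 p) : toF θ (ksub x y) = toF θ x - toF θ y := by
  simp only [toF, ksub, map_sub]; ring

theorem toF_kone : toF θ (kone : K2 p) = 1 := by simp [toF, kone]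

theorem toF_kzero : toF θ (kzero : K2 p) = 0 := by simp [toF, kzero]

theorem toF_sum3 (f : Fin 3 → K2 p) : toF θ (sum3 f) = ∑ i, toF θ (f i) := by
  simp only [sum3, toF_kadd, Fin.sum_univ_three]

theorem toM_mone : toM θ (mone : Mat p) = 1 := by
  ext i j
  by_cases h : i = j <;> simp [toM, mone, h, toF_kone, toF_kzero, Matrix.one_apply]

theorem toV_apply (v : Vec p) (i : Fin 3) : toV θ v i = toF θ (v i) := rfl

theorem trace_toM (A : Mat p) : (toM θ A).trace = toF θ (mtrace A) := by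
  simp only [mtrace, toF_sum3, Matrix.trace, Matrix.diag_apply, toM, Matrix.of_apply]

variable (hsq : θ * θ = 2)

include hsq in
theorem toF_kmul (x y : K2 p) : toF θ (kmul x y) = toF θ x * toF θ y := by
  simp only [toF, kmul, map_add, map_mul, map_ofNat]
  linear_combination -(ZMod.castHom dvd_rfl F x.2 * ZMod.castHom dvd_rfl F y.2) * hsq

include hsq in
theorem toM_mmul (A B : Mat p) : toM θ (mmul A B) = toM θ A * toM θ B := by
  ext i j
  simp only [toM, Matrix.of_apply, mmul, Matrix.mul_apply, toF_sum3, toF_kmul hsq]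

include hsq in
theorem toV_mvec (A : Mat p) (v : Vec p) : toV θ (mvec A v) = toM θ A *ᵥ toV θ v := by
  funext i
  simp only [toV, mvec, toF_sum3, toF_kmul hsq, Matrix.mulVec, dotProduct, toM, Matrix.of_apply]

include hsq in
theorem det_toM (A : Mat p) : (toM θ A).det = toF θ (mdet A) := by
  rw [Matrix.det_fin_three]
  simp only [toM, Matrix.of_apply, mdet, toF_kadd, toF_ksub, toF_kmul hsq]
  ring

variable [Fintype F] {σ : F ≃+* F}

theorem Model.fixed (hm : Model p σ θ) (a : ZMod p) :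
    σ (ZMod.castHom dvd_rfl F a) = ZMod.castHom dvd_rfl F a := by
  haveI := Fact.mk hm.prime
  rw [hm.apply_eq, ← map_pow, ZMod.pow_card]

theorem Model.toF_kconj (hm : Model p σ θ) (x : K2 p) : toF θ (kconj x) = σ (toF θ x) := by
  simp only [toF, kconj, map_add, map_mul, map_neg, hm.fixed, hm.conj]; ring

theorem Model.toF_injective (hm : Model p σ θ) : Function.Injective (toF θ : K2 p → F) := by
  haveI := Fact.mk hm.prime
  have h2 : (2 : F) ≠ 0 := by
    intro h
    have h' : ((2 : ℕ) : F) = 0 := by simpa using h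
    have := Nat.le_of_dvd two_pos ((CharP.cast_eq_zero_iff F p 2).1 h')
    have := hm.two_lt
    omega
  have hθ : θ ≠ 0 := fun h => h2 (by rw [← hm.sq, h, mul_zero])
  intro x y hxy
  have hd : toF θ (ksub x y) = 0 := by rw [toF_ksub, hxy, sub_self]
  have hσ := congrArg σ hd
  rw [map_zero, ← hm.toF_kconj] at hσ
  simp only [toF, kconj, ksub, map_neg] at hd hσ
  have h1 : 2 * θ * ZMod.castHom dvd_rfl F (x.2 - y.2) = 0 := by linear_combination hd - hσ
  have hb := (mul_eq_zero.1 h1).resolve_left (mul_ne_zero h2 hθ)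
  rw [hb, zero_mul, add_zero] at hd
  have hinj : Function.Injective (ZMod.castHom dvd_rfl F : ZMod p →+* F) := RingHom.injective _
  have e1 := sub_eq_zero.1 (hinj (hd.trans (map_zero _).symm))
  have e2 := sub_eq_zero.1 (hinj (hb.trans (map_zero _).symm))
  exact Prod.ext e1 e2

theorem Model.toF_surjective (hm : Model p σ θ) : Function.Surjective (toF θ : K2 p → F) := by
  haveI := Fact.mk hm.prime
  exact ((Fintype.bijective_iff_injective_and_card _).2
    ⟨hm.toF_injective, by rw [Fintype.card_prod, ZMod.card, hm.card, pow_two]⟩).2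

theorem Model.toM_injective (hm : Model p σ θ) : Function.Injective (toM θ : Mat p → _) :=
  fun _ _ h => funext fun i => funext fun j => hm.toF_injective (congrFun (congrFun h i) j)

theorem Model.toV_injective (hm : Model p σ θ) : Function.Injective (toV θ : Vec p → _) :=
  fun _ _ h => funext fun i => hm.toF_injective (congrFun h i)

/-- The model for `SU₃(3)` and `SU₃(5)`. -/
theorem exists_model (hp : p = 3 ∨ p = 5) (hF : Fintype.card F = p ^ 2) :
    ∃ (σ : F ≃+* F) (θ : F), Model p σ θ := by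
  have hprime : p.Prime := by rcases hp with rfl | rfl <;> norm_num
  have hpow : (2 : ZMod p) ^ (p ^ 2 / 2) = 1 ∧ (2 : ZMod p) ^ (p / 2) = -1 := by
    rcases hp with rfl | rfl <;> exact ⟨rfl, rfl⟩
  haveI := Fact.mk hprime
  have hchar : ringChar F ≠ 2 := by
    rw [ringChar.eq F p]
    omega
  have h2 : (2 : F) ≠ 0 := Ring.two_ne_zero hchar
  obtain ⟨θ, hθ⟩ : IsSquare (2 : F) := by
    refine (FiniteField.isSquare_iff hchar h2).2 ?_
    rw [hF, ← map_ofNat (ZMod.castHom (dvd_refl p) F) 2, ← map_pow, hpow.1, map_one]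
  obtain ⟨σ, hherm, -⟩ := hermForm_herm (n := 3) (by norm_num) hF
  refine ⟨σ, θ, ⟨by omega, hprime, hF, hherm.apply_eq, hθ.symm, ?_⟩⟩
  have hodd : p = 2 * (p / 2) + 1 := by omega
  rw [hherm.apply_eq]
  conv_lhs => rw [hodd, pow_succ, pow_mul, pow_two, ← hθ, ← map_ofNat (ZMod.castHom (dvd_refl p) F) 2,
    ← map_pow, hpow.2, map_neg, map_one, neg_one_mul]

end

section Unitary

variable [Fintype F] {q : ℕ}

theorem mem_GU_iff {σ : F ≃+* F} (hσ : ∀ a, σ a = a ^ q) {g : GL (Fin 3) F} :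
    g ∈ GU 3 F q ↔
      (g : Matrix (Fin 3) (Fin 3) F)ᵀ * (g : Matrix (Fin 3) (Fin 3) F).map σ = 1 := by
  have hf : ∀ u v, hermForm 3 F q u v = matForm σ (1 : Matrix (Fin 3) (Fin 3) F) u v := fun u v => by
    simp [hermForm, matForm, dotProduct, hσ]
  constructor
  · intro hg
    ext i j
    rw [← matForm_single σ (_ * _)]
    conv_lhs => rw [← mul_one (g : Matrix (Fin 3) (Fin 3) F)ᵀ]
    rw [← matForm_mulVec, ← hf, ← matForm_single σ (1 : Matrix (Fin 3) (Fin 3) F), ← hf]
    exact hg _ _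
  · intro hg u v
    show hermForm 3 F q ((g : Matrix (Fin 3) (Fin 3) F) *ᵥ u) ((g : Matrix (Fin 3) (Fin 3) F) *ᵥ v) = _
    rw [hf, hf, matForm_mulVec, mul_one, hg]

theorem det_eq_one' {g : GL (Fin 3) F} (hg : g ∈ Geo.specialLinear (Fin 3) F) :
    Matrix.GeneralLinearGroup.det g = 1 := hg

theorem conj_mem {h g : GL (Fin 3) F} (hh : h ∈ GU 3 F q) (hg : g ∈ SUG F q) :
    h * g * h⁻¹ ∈ SUG F q :=
  ⟨(GU 3 F q).mul_mem ((GU 3 F q).mul_mem hh hg.1) ((GU 3 F q).inv_mem hh), by
    show Matrix.GeneralLinearGroup.det (h * g * h⁻¹) = 1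
    rw [map_mul, map_mul, det_eq_one' hg.2, mul_one, map_inv, mul_inv_cancel]⟩

theorem conj_mem' {h g : GL (Fin 3) F} (hh : h ∈ GU 3 F q) (hg : g ∈ SUG F q) :
    h⁻¹ * g * h ∈ SUG F q := by
  simpa using conj_mem ((GU 3 F q).inv_mem hh) hg

theorem card_SUG (hF : Fintype.card F = q ^ 2) :
    (q + 1) * Nat.card (SUG F q) = q ^ 3 * ((q + 1) * (q ^ 2 - 1) * (q ^ 3 + 1)) := by
  have e : SUG F q ≃ (Forms.guDet 3 F q).ker :=
    { toFun := fun g => ⟨⟨g.1, g.2.1⟩, g.2.2⟩
      invFun := fun g => ⟨g.1.1, g.1.2, g.2⟩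
      left_inv := fun _ => rfl
      right_inv := fun _ => rfl }
  rw [Nat.card_congr (e.trans (Forms.suEquivKer 3 F q).toEquiv.symm),
    Forms.card_SU_mul hF (by norm_num), Forms.card_GU hF]
  congr 1
  simp [Finset.prod_range_succ]

/-- An orthonormal family is the image of the standard one. -/
theorem exists_GU_columns (hF : Fintype.card F = q ^ 2) {v : Fin 3 → Fin 3 → F}
    (hv : ∀ i j, hermForm 3 F q (v i) (v j) = if i = j then 1 else 0) :
    ∃ h ∈ GU 3 F q, ∀ i, (h : Matrix (Fin 3) (Fin 3) F) *ᵥ Pi.single i 1 = v i := by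
  obtain ⟨σ, hherm, -⟩ := hermForm_herm (n := 3) (by norm_num) hF
  let M : Matrix (Fin 3) (Fin 3) F := Matrix.of fun r c => v c r
  have hM : Mᵀ * M.map σ = 1 := by
    ext i j
    rw [Matrix.one_apply, ← hv i j]
    simp [M, Matrix.mul_apply, hermForm, hherm.apply_eq]
  have hdet : IsUnit M.det := by
    have := congrArg Matrix.det hM
    rw [Matrix.det_mul, Matrix.det_transpose, Matrix.det_one] at this
    exact IsUnit.of_mul_eq_one _ this
  let h : GL (Fin 3) F := Matrix.GeneralLinearGroup.mk'' M hdet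
  refine ⟨h, (mem_GU_iff hherm.apply_eq).2 hM, fun i => ?_⟩
  funext r
  show (M *ᵥ Pi.single i 1) r = v i r
  rw [Matrix.mulVec_single_one]
  rfl

/-- Groups of symplectic type are not normalised by `SU₃(q)`. -/
theorem not_normalized (hF : Fintype.card F = q ^ 2) (hq : 3 ≤ q) (N : Subgroup (GL (Fin 3) F)) (ω : F)
    (hN : SymplecticData N ω) (hNa : AbsIrr N) :
    ¬ unitarySL (hermForm 3 F q) ≤ Geo.subgroupNormalizer N := by
  classical
  intro hle
  obtain ⟨a, rfl⟩ : ∃ a, q = a + 1 := ⟨q - 1, by omega⟩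
  obtain ⟨r, hr, hr3, hr2, hrd⟩ :
      ∃ r : ℕ, r.Prime ∧ r ≠ 3 ∧ r ≠ 2 ∧ r ∣ a * (a + 1) + 1 := by
    set m := a * (a + 1) + 1 with hm
    have h9 : ¬ 9 ∣ m := by
      intro h
      have hlt : a % 9 < 9 := Nat.mod_lt _ (by norm_num)
      have := Nat.mod_eq_zero_of_dvd h
      rw [hm, Nat.add_mod, Nat.mul_mod, Nat.add_mod a 1] at this
      interval_cases a % 9 <;> omega
    have heven : ¬ 2 ∣ m := by
      have := Nat.even_mul_succ_self a
      rw [Nat.even_iff] at this
      omega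
    have hbig : 7 ≤ m := by
      have : 2 * 3 ≤ a * (a + 1) := Nat.mul_le_mul (by omega) (by omega)
      omega
    by_contra hcon
    push Not at hcon
    have hall : ∀ r : ℕ, r.Prime → r ∣ m → r = 3 := fun r hr hd => by
      by_contra h3
      exact hcon r hr h3 (fun h2 => heven (h2 ▸ hd)) hd
    have hpow := Nat.eq_prime_pow_of_unique_prime_dvd (p := 3) (by omega) (fun {d} hd hdd => hall d hd hdd)
    rcases h : m.primeFactorsList.length with _ | _ | k <;> rw [h] at hpow
    · simp at hpow; omega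
    · simp at hpow; omega
    · exact h9 ⟨3 ^ k, by rw [hpow, pow_succ, pow_succ]; ring⟩
  haveI := Fact.mk hr
  have hcard : r ∣ Nat.card (SUG F (a + 1)) := by
    have h1 := card_SUG (F := F) hF
    have hfac : (a + 1) ^ 3 + 1 = (a + 2) * (a * (a + 1) + 1) := by ring
    rw [hfac, show (a + 1) ^ 3 * ((a + 1 + 1) * ((a + 1) ^ 2 - 1) * ((a + 2) * (a * (a + 1) + 1))) =
      (a + 1 + 1) * ((a + 1) ^ 3 * ((a + 1) ^ 2 - 1) * (a + 2) * (a * (a + 1) + 1)) by ring] at h1
    rw [mul_left_cancel₀ (by omega) h1]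
    exact dvd_mul_of_dvd_right hrd _
  obtain ⟨y, hy⟩ := exists_prime_orderOf_dvd_card' r hcard
  have hy' : orderOf (y : GL (Fin 3) F) = r := by rw [← hy, Subgroup.orderOf_coe]
  have hyN : ∀ x ∈ N, (y : GL (Fin 3) F) * x * (y : GL (Fin 3) F)⁻¹ ∈ N :=
    fun x hx => (Subgroup.mem_normalizer_iff.1 (hle y.2) x).1 hx
  have hyN' : ∀ x ∈ N, (y : GL (Fin 3) F)⁻¹ * x * y ∈ N := fun x hx => by
    have := (Subgroup.mem_normalizer_iff.1 (Subgroup.inv_mem _ (hle y.2)) x).1 hx
    simpa using this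
  let c : Equiv.Perm N :=
    { toFun := fun x => ⟨_, hyN x x.2⟩
      invFun := fun x => ⟨_, hyN' x x.2⟩
      left_inv := fun x => Subtype.ext (by simp [mul_assoc])
      right_inv := fun x => Subtype.ext (by simp [mul_assoc]) }
  have hc : ∀ (n : ℕ) (x : N), ((c ^ n) x : GL (Fin 3) F) =
      (y : GL (Fin 3) F) ^ n * x * ((y : GL (Fin 3) F) ^ n)⁻¹ := by
    intro n x
    induction n with
    | zero => simp
    | succ n ih =>
      rw [pow_succ', Equiv.Perm.mul_apply]
      show (y : GL (Fin 3) F) * ((c ^ n) x : GL (Fin 3) F) * _ = _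
      rw [ih, pow_succ']
      group
  have hcr : c ^ r ^ 1 = 1 := Equiv.ext fun x => Subtype.ext (by
    rw [pow_one, hc, ← hy', pow_orderOf_eq_one]; simp)
  let C : Subgroup N := (Subgroup.centralizer {(y : GL (Fin 3) F)}).subgroupOf N
  haveI : Fintype N := Fintype.ofFinite _
  have hmod : Nat.card C ≡ 27 [MOD r] := by
    have h := Equiv.Perm.card_compl_support_modEq hcr
    rw [← Nat.card_eq_fintype_card, hN.card_eq, Fintype.card_fin] at h
    suffices (Equiv.Perm.support c)ᶜ.card = Nat.card C by rw [← this]; exact h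
    rw [Nat.card_eq_fintype_card, ← Fintype.card_coe]
    refine Fintype.card_congr (Equiv.subtypeEquivRight fun x => ?_)
    simp only [Finset.mem_compl, Equiv.Perm.mem_support, not_not, C, Subgroup.mem_subgroupOf,
      Subgroup.mem_centralizer_singleton_iff, c, Equiv.coe_fn_mk, Subtype.ext_iff]
    rw [mul_inv_eq_iff_eq_mul]
    exact eq_comm
  have hdvd : Nat.card C ∣ 3 ^ 3 := by
    have := Subgroup.card_subgroup_dvd_card C
    rwa [hN.card_eq, Fintype.card_fin] at this
  have hge : 3 ≤ Nat.card C := by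
    have hZ : Subgroup.center N ≤ C := by
      intro z hz
      rw [Subgroup.mem_subgroupOf, Subgroup.mem_centralizer_singleton_iff]
      have hs := hNa.scalar_of_comm fun x hx =>
        (congrArg Subtype.val (Subgroup.mem_center_iff.1 hz ⟨x, hx⟩)).symm
      exact scalar_comm hs _
    have h := Nat.card_le_card_of_injective _ (Subgroup.inclusion_injective hZ)
    rwa [hN.card_center, Fintype.card_fin] at h
  have h27 : Nat.card C = 27 := by
    obtain ⟨k, hk, hCk⟩ := (Nat.dvd_prime_pow Nat.prime_three).1 hdvd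
    interval_cases k
    · rw [hCk] at hge; norm_num at hge
    · exfalso
      rw [hCk, pow_one] at hmod
      have h24 : r ∣ 2 ^ 3 * 3 := (Nat.modEq_iff_dvd' (by norm_num)).1 hmod
      rcases hr.dvd_mul.1 h24 with h | h
      · exact hr2 ((Nat.prime_dvd_prime_iff_eq hr Nat.prime_two).1 (hr.dvd_of_dvd_pow h))
      · exact hr3 ((Nat.prime_dvd_prime_iff_eq hr Nat.prime_three).1 h)
    · exfalso
      rw [hCk] at hmod
      have h18 : r ∣ 2 * 3 ^ 2 := (Nat.modEq_iff_dvd' (by norm_num)).1 hmod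
      rcases hr.dvd_mul.1 h18 with h | h
      · exact hr2 ((Nat.prime_dvd_prime_iff_eq hr Nat.prime_two).1 h)
      · exact hr3 ((Nat.prime_dvd_prime_iff_eq hr Nat.prime_three).1 (hr.dvd_of_dvd_pow h))
    · exact hCk
  have htop : C = ⊤ := Subgroup.eq_top_of_card_eq C (by
    rw [h27, hN.card_eq, Fintype.card_fin]; rfl)
  have hsc : (y : GL (Fin 3) F) ∈ Geo.scalars (Fin 3) F := hNa.scalar_of_comm fun x hx => by
    have : (⟨x, hx⟩ : N) ∈ C := htop ▸ Subgroup.mem_top _
    rw [Subgroup.mem_subgroupOf, Subgroup.mem_centralizer_singleton_iff] at this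
    exact this.symm
  obtain ⟨l, hl⟩ := (Geo.mem_scalars_iff (y : GL (Fin 3) F)).1 hsc
  have h3 : (y : GL (Fin 3) F) ^ 3 = 1 := by
    have hd := det_eq_one y.2.2
    rw [hl, Matrix.det_smul, Matrix.det_one, mul_one, Fintype.card_fin] at hd
    refine Units.ext ?_
    rw [Units.val_pow_eq_pow_val, hl, smul_pow, one_pow, hd, one_smul, Units.val_one]
  exact hr3 ((Nat.prime_dvd_prime_iff_eq hr Nat.prime_three).1 (hy' ▸ orderOf_dvd_of_pow_eq_one h3))

end Unitary

section Overgroup

variable [Fintype F] {p : ℕ} [CharP F p] {θ : F} {m : ℕ}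

/-- The matrices permuting a set of projective points. -/
def permutes (θ : F) (pts : Fin m → Vec p) : Subgroup (GL (Fin 3) F) :=
  let S : Submonoid (GL (Fin 3) F) :=
    { carrier := {g | ∀ a, ∃ b, ∃ c : F,
        (g : Matrix (Fin 3) (Fin 3) F) *ᵥ toV θ (pts a) = c • toV θ (pts b)}
      one_mem' := fun a => ⟨a, 1, by simp⟩
      mul_mem' := fun {g k} hg hk a => by
        obtain ⟨b, c, hb⟩ := hk a
        obtain ⟨b', c', hb'⟩ := hg b
        exact ⟨b', c * c', by rw [mulVec_mul, hb, Matrix.mulVec_smul, hb', smul_smul]⟩ }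
  { S with
    inv_mem' := fun {g} hg => by
      have h : g⁻¹ = g ^ (orderOf g - 1) := by
        refine inv_eq_of_mul_eq_one_right ?_
        rw [← pow_succ', Nat.sub_add_cancel (orderOf_pos g), pow_orderOf_eq_one]
      show g⁻¹ ∈ S
      rw [h]
      exact pow_mem hg _ }

theorem mem_permutes {pts : Fin m → Vec p} {g : GL (Fin 3) F} :
    g ∈ permutes θ pts ↔ ∀ a, ∃ b, ∃ c : F,
      (g : Matrix (Fin 3) (Fin 3) F) *ᵥ toV θ (pts a) = c • toV θ (pts b) := Iff.rfl

theorem mem_permutes_of_smul {pts : Fin m → Vec p} {g k : GL (Fin 3) F} (hk : k ∈ permutes θ pts) {c : F}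
    (h : (g : Matrix (Fin 3) (Fin 3) F) = c • (k : Matrix (Fin 3) (Fin 3) F)) : g ∈ permutes θ pts := by
  intro a
  obtain ⟨b, d, hb⟩ := hk a
  exact ⟨b, c * d, by rw [h, Matrix.smul_mulVec, hb, smul_smul]⟩

theorem scalars_le_permutes (pts : Fin m → Vec p) : Geo.scalars (Fin 3) F ≤ permutes θ pts := by
  intro g hg
  obtain ⟨c, hc⟩ := (Geo.mem_scalars_iff g).1 hg
  exact mem_permutes_of_smul (one_mem _) (c := c) (by rw [hc, Units.val_one])

variable {σ : F ≃+* F}

/-- An element of the special unitary group from the model. -/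
def glOf (hm : Model p σ θ) (A : Mat p) (hA : IsSU A) : GL (Fin 3) F where
  val := toM θ A
  inv := toM θ (mconjT A)
  val_inv := by rw [← toM_mmul hm.sq, hA.2.1, toM_mone]
  inv_val := by rw [← toM_mmul hm.sq, hA.1, toM_mone]

theorem glOf_val (hm : Model p σ θ) (A : Mat p) (hA : IsSU A) :
    ((glOf hm A hA : GL (Fin 3) F) : Matrix (Fin 3) (Fin 3) F) = toM θ A := rfl

theorem glOf_mem (hm : Model p σ θ) (A : Mat p) (hA : IsSU A) : glOf hm A hA ∈ SUG F p := by
  refine ⟨(mem_GU_iff hm.apply_eq).2 ?_, Units.ext ?_⟩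
  · rw [glOf_val]
    have h1 : (toM θ A).map σ = (toM θ (mconjT A))ᵀ := Matrix.ext fun i j => by
      simp [toM, mconjT, hm.toF_kconj]
    rw [h1, ← Matrix.transpose_mul, ← toM_mmul hm.sq, hA.1, toM_mone, Matrix.transpose_one]
  · rw [Matrix.GeneralLinearGroup.val_det_apply, glOf_val, det_toM hm.sq, hA.2.2, toF_kone, Units.val_one]

theorem glOf_mem_permutes (hm : Model p σ θ) {pts : Fin m → Vec p} {A : Mat p} {π : Fin m → Fin m}
    {mult : Fin m → K2 p} (hA : IsSU A)
    (h : ∀ a, mvec A (pts a) = fun i => kmul (mult a) (pts (π a) i)) :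
    glOf hm A hA ∈ permutes θ pts := by
  intro a
  refine ⟨π a, toF θ (mult a), ?_⟩
  rw [glOf_val, ← toV_mvec hm.sq, h a]
  funext i
  simp only [toV, Pi.smul_apply, smul_eq_mul, toF_kmul hm.sq]

theorem glOf_not_mem_permutes (hm : Model p σ θ) {pts : Fin m → Vec p} {A : Mat p} (hA : IsSU A)
    {a : Fin m} (h : ∀ b, ∀ c : K2 p, mvec A (pts a) ≠ fun i => kmul c (pts b i)) :
    glOf hm A hA ∉ permutes θ pts := by
  intro hmem
  obtain ⟨b, c, hb⟩ := hmem a
  obtain ⟨c', rfl⟩ := hm.toF_surjective c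
  refine h b c' (hm.toV_injective ?_)
  rw [toV_mvec hm.sq, ← glOf_val hm A hA, hb]
  funext i
  simp only [toV, Pi.smul_apply, smul_eq_mul, toF_kmul hm.sq]

/-- The overgroup argument. -/
theorem overgroup_false {q : ℕ} {H : Subgroup (GL (Fin 3) F)} (hH : Geo.IsMaximalIn (SUG F q) H)
    {h : GL (Fin 3) F} (hh : h ∈ GU 3 F q) {pts : Fin m → Vec p}
    (hHM : ∀ g ∈ H, h⁻¹ * g * h ∈ permutes θ pts) {s : GL (Fin 3) F} (hs : s ∈ SUG F q)
    (hsP : s ∈ permutes θ pts) (hsH : h * s * h⁻¹ ∉ H) {t : GL (Fin 3) F} (ht : t ∈ SUG F q)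
    (htP : t ∉ permutes θ pts) : False := by
  let M := (permutes θ pts ⊓ SUG F q).map (MulAut.conj h).toMonoidHom
  have hHM' : H ≤ M := fun g hg =>
    ⟨h⁻¹ * g * h, ⟨hHM g hg, conj_mem' hh (hH.1.le hg)⟩, by simp [mul_assoc]⟩
  have hMI : M ≤ SUG F q := by
    rintro _ ⟨g, hg, rfl⟩
    exact conj_mem hh hg.2
  rcases hH.2 M hHM' hMI with hM | hM
  · exact hsH (hM ▸ ⟨s, ⟨hsP, hs⟩, rfl⟩)
  · obtain ⟨g, hg, hgt⟩ := hM.ge (conj_mem hh ht)
    have : g = t := (MulAut.conj h).injective hgt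
    exact htP (this ▸ hg.1)

end Overgroup

end Cfsg.Agent.Aschbacher.SUThree
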