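import Cfsg.Agent.Lib.Aschbacher.SUThree
import Cfsg.Agent.Lib.Aschbacher.FieldNorm

/-!
In `SU₃(3)` and `SU₃(5)` the normaliser of a field of degree three is not maximal.
-/

set_option autoImplicit false

namespace Cfsg.Agent.Aschbacher.SUThree

open Matrix
open Fin.NatCast
open scoped MatrixGroups

variable {F : Type*} [Field F] [Fintype F]

theorem pow_seven_mul_two {G : Type*} [Group G] {w y : G} {m : ℕ} (hwy : Commute w y)
    (hw : w ^ 3 = y ^ m) (hy : y ^ 7 = 1) : (w * y ^ (2 * m)) ^ 3 = 1 := by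
  rw [(hwy.pow_right _).mul_pow, hw, ← pow_mul, ← pow_add, show m + 2 * m * 3 = 7 * m by ring, pow_mul, hy,
    one_pow]

variable {p : ℕ} [CharP F p] {σ : F ≃+* F} {θ : F}

theorem field_false (hm : Model p σ θ) {m : ℕ} {pts : Fin m → Vec p} {X Fm S T : Mat p}
    (hX : IsSU X) (hFm : IsSU Fm) (hS : IsSU S) (hT : IsSU T)
    (hXp : glOf hm X hX ∈ permutes θ pts) (hFp : glOf hm Fm hFm ∈ permutes θ pts)
    (hSp : glOf hm S hS ∈ permutes θ pts) (hTp : glOf hm T hT ∉ permutes θ pts)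
    (XP : Fin 7 → Mat p) (hX0 : XP 0 = mone) (hXs : ∀ k, mmul (XP k) X = XP (k + 1))
    (hX1 : X ≠ mone) (FP : Fin 3 → Mat p)
    (hF0 : FP 0 = mone ∧ FP 1 = Fm ∧ FP 2 = mmul Fm Fm)
    (hconj : ∀ i : Fin 7, mtrace (XP i) = mtrace (XP 1) →
      ∃ j : Fin 3, mmul (FP j) (XP 1) = mmul (XP i) (FP j))
    (hwit : ∀ i : Fin 7, mmul S X ≠ mmul (XP i) S)
    (hfac : (Nat.card (SUG F p)).factorization 7 = 1)
    (hgcd : Nat.gcd (((p ^ 2) ^ 3 - 1) / (p ^ 2 - 1)) (Nat.card (SUG F p)) ∣ 21)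
    (hthree : Nat.gcd 3 ((p ^ 2) ^ 3 - 1) ∣ p ^ 2 - 1)
    (hcop : ∀ l : ℕ, 0 < l → l < 3 → Nat.Coprime 7 ((p ^ 2) ^ l - 1))
    {H : Subgroup (GL (Fin 3) F)} (hH : Geo.IsMaximalIn (SUG F p) H)
    {K : Subalgebra F (Matrix (Fin 3) (Fin 3) F)} (hK : Geo.IsFieldSubalgebra 3 K)
    (hHK : H ≤ Geo.subalgebraNormalizer K) {x₀ : GL (Fin 3) F} (hx₀H : x₀ ∈ H)
    (hx₀K : (x₀ : Matrix (Fin 3) (Fin 3) F) ∈ K) (hx₀s : x₀ ∉ Geo.scalars (Fin 3) F) : False := by
  classical
  have hmsq := hm.sq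
  -- the generators
  let z : GL (Fin 3) F := glOf hm X hX
  let f : GL (Fin 3) F := glOf hm Fm hFm
  have hzpow : ∀ n : ℕ, ((z ^ n : GL (Fin 3) F) : Matrix (Fin 3) (Fin 3) F) = toM θ (XP (n : Fin 7)) := by
    intro n
    induction n with
    | zero => rw [pow_zero, Units.val_one, Nat.cast_zero, hX0, toM_mone]
    | succ n ih => rw [pow_succ, Units.val_mul, ih, glOf_val, ← toM_mmul hmsq, hXs, Nat.cast_succ]
  have hz7 : z ^ 7 = 1 := Units.ext (by
    rw [hzpow, show ((7 : ℕ) : Fin 7) = 0 from rfl, hX0, toM_mone, Units.val_one])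
  have hz1 : z ≠ 1 := fun h => hX1 (hm.toM_injective (by
    rw [toM_mone]; exact congrArg Units.val h))
  haveI : Fact (Nat.Prime 7) := ⟨by norm_num⟩
  have hzI : z ∈ SUG F p := glOf_mem hm X hX
  -- the field
  letI iC : CommRing K := { (inferInstance : Ring K) with
    mul_comm := fun a b => Subtype.ext (hK.comm _ a.2 _ b.2) }
  haveI : NoZeroDivisors K := ⟨fun {a b} hab => by
    by_contra hne
    push Not at hne
    obtain ⟨y, hy, hay⟩ := hK.inv _ a.2 (fun h => hne.1 (Subtype.ext h))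
    refine hne.2 (Subtype.ext ?_)
    show (b : Matrix (Fin 3) (Fin 3) F) = 0
    have hab' : (a : Matrix (Fin 3) (Fin 3) F) * b = 0 := congrArg Subtype.val hab
    rw [← one_mul (b : Matrix (Fin 3) (Fin 3) F), ← hay, hK.comm _ a.2 _ hy, mul_assoc, hab', mul_zero]⟩
  haveI : IsDomain K := NoZeroDivisors.to_isDomain _
  haveI : Fintype K := Fintype.ofFinite _
  have hone : ∀ {w : GL (Fin 3) F} (hw : (w : Matrix (Fin 3) (Fin 3) F) ∈ K) (n : ℕ), w ^ n = 1 →
      (⟨_, hw⟩ : K) ^ n = 1 := fun {w} hw n hn => Subtype.ext (by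
    show (w : Matrix (Fin 3) (Fin 3) F) ^ n = 1
    rw [← Units.val_pow_eq_pow_val, hn, Units.val_one])
  -- cube roots of unity in the field are scalars
  have hcubeK : ∀ w : GL (Fin 3) F, (w : Matrix (Fin 3) (Fin 3) F) ∈ K → w ^ 3 = 1 →
      w ∈ Geo.scalars (Fin 3) F := by
    intro w hw hw3
    letI := Fintype.fieldOfDomain K
    have hcardK : Fintype.card K = (p ^ 2) ^ 3 := by
      rw [Module.card_eq_pow_finrank (K := F) (V := K), hm.card, hK.finrank_eq]
    have hne : (⟨_, hw⟩ : K) ≠ 0 := fun h => w.ne_zero (congrArg Subtype.val h)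
    have h1 := FiniteField.pow_card_sub_one_eq_one (⟨_, hw⟩ : K) hne
    rw [hcardK] at h1
    have h2 : (⟨_, hw⟩ : K) ^ (p ^ 2 - 1) = 1 := orderOf_dvd_iff_pow_eq_one.1
      ((Nat.dvd_gcd (orderOf_dvd_of_pow_eq_one (hone hw 3 hw3)) (orderOf_dvd_of_pow_eq_one h1)).trans hthree)
    obtain ⟨g, hg⟩ := IsCyclic.exists_ofOrder_eq_natCard (α := Fˣ)
    rw [Nat.card_units, Nat.card_eq_fintype_card, hm.card, ← orderOf_units] at hg
    haveI : NeZero (p ^ 2 - 1) := ⟨by
      have := Nat.pow_le_pow_left hm.prime.two_le 2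
      omega⟩
    have hprim : IsPrimitiveRoot (g : F) (p ^ 2 - 1) := hg ▸ IsPrimitiveRoot.orderOf _
    obtain ⟨i, -, hi⟩ := (hprim.map_of_injective (f := algebraMap F K)
      (RingHom.injective _)).eq_pow_of_pow_eq_one h2
    refine mem_scalars_of_smul_one (c := (g : F) ^ i) ?_
    have := congrArg Subtype.val hi
    rw [← map_pow] at this
    simpa [Algebra.algebraMap_eq_smul_one] using this.symm
  -- an element of order seven in the field
  have hord : ∀ w : GL (Fin 3) F, w ∈ SUG F p → (w : Matrix (Fin 3) (Fin 3) F) ∈ K → w ^ 21 = 1 := by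
    intro w hw hwK
    have hd := det_smul_one_eq_pow (F := F) (ι := Fin 3) (K := K) (by rwa [Fintype.card_fin]) hwK
    rw [det_eq_one hw.2, one_smul, Fintype.card_fin, hm.card] at hd
    have h1 : w ^ (((p ^ 2) ^ 3 - 1) / (p ^ 2 - 1)) = 1 := Units.ext (by
      rw [Units.val_pow_eq_pow_val, ← hd, Units.val_one])
    exact orderOf_dvd_iff_pow_eq_one.1
      ((Nat.dvd_gcd (orderOf_dvd_of_pow_eq_one h1) (Subgroup.orderOf_dvd_natCard _ hw)).trans hgcd)
  obtain ⟨x, hxI, hxK, hxord⟩ : ∃ x ∈ SUG F p, (x : Matrix (Fin 3) (Fin 3) F) ∈ K ∧ orderOf x = 7 := by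
    have hx₀I := hH.1.le hx₀H
    refine ⟨x₀ ^ 3, pow_mem hx₀I 3, by rw [Units.val_pow_eq_pow_val]; exact pow_mem hx₀K 3,
      orderOf_eq_prime ?_ fun h => hx₀s (hcubeK _ hx₀K h)⟩
    rw [← pow_mul]
    exact hord _ hx₀I hx₀K
  -- conjugate `z` into the field
  obtain ⟨h, hhI, i₀, hi₀⟩ : ∃ h ∈ SUG F p, ∃ i : ℕ, h * z * h⁻¹ = x ^ i := by
    have hord7 : orderOf z = 7 := orderOf_eq_prime hz7 hz1
    have mk : ∀ y : SUG F p, orderOf (y : GL (Fin 3) F) = 7 →
        Nat.card (Subgroup.zpowers y) = 7 ^ (Nat.card (SUG F p)).factorization 7 := fun y hy => by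
      rw [hfac, pow_one, Nat.card_zpowers, ← Subgroup.orderOf_coe, hy]
    let P : Sylow 7 (SUG F p) := Sylow.ofCard (Subgroup.zpowers ⟨z, hzI⟩) (mk _ hord7)
    let P' : Sylow 7 (SUG F p) := Sylow.ofCard (Subgroup.zpowers ⟨x, hxI⟩) (mk _ hxord)
    obtain ⟨g, hg⟩ := MulAction.exists_smul_eq (SUG F p) P P'
    refine ⟨g, g.2, ?_⟩
    have h1 : g * ⟨z, hzI⟩ * g⁻¹ ∈ Subgroup.zpowers (⟨x, hxI⟩ : SUG F p) := by
      have h2 : g * ⟨z, hzI⟩ * g⁻¹ ∈ ((g • P : Sylow 7 (SUG F p)) : Subgroup (SUG F p)) := by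
        rw [Sylow.coe_subgroup_smul, Subgroup.mem_pointwise_smul_iff_inv_smul_mem]
        simp [P, MulAut.smul_def, mul_assoc, Subgroup.mem_zpowers]
      rw [hg] at h2
      exact h2
    obtain ⟨i, hi⟩ := mem_powers_iff_mem_zpowers.2 h1
    exact ⟨i, by simpa using (congrArg Subtype.val hi).symm⟩
  set y := h * z * h⁻¹ with hy
  have hy7 : y ^ 7 = 1 := by rw [hy, conj_pow, hz7, mul_one, mul_inv_cancel]
  have hy1 : y ≠ 1 := fun h1 => hz1 (by rwa [hy, conj_eq_one_iff] at h1)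
  have hyK : (y : Matrix (Fin 3) (Fin 3) F) ∈ K := by
    rw [hi₀, Units.val_pow_eq_pow_val]; exact pow_mem hxK _
  have hroot : ∀ {w : GL (Fin 3) F}, (w : Matrix (Fin 3) (Fin 3) F) ∈ K → w ^ 7 = 1 →
      ∃ i : ℕ, w = y ^ i := by
    intro w hw hw7
    have hne : (⟨_, hyK⟩ : K) ≠ 1 := fun h1 => hy1 (Units.ext (congrArg Subtype.val h1))
    have hprim : IsPrimitiveRoot (⟨_, hyK⟩ : K) 7 :=
      orderOf_eq_prime (hone hyK 7 hy7) hne ▸ IsPrimitiveRoot.orderOf _
    obtain ⟨i, -, hi⟩ := hprim.eq_pow_of_pow_eq_one (hone hw 7 hw7)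
    exact ⟨i, Units.ext (by simpa using (congrArg Subtype.val hi).symm)⟩
  -- the centraliser of `y` lies in the field
  have hcentK : ∀ w : GL (Fin 3) F, w * y = y * w → (w : Matrix (Fin 3) (Fin 3) F) ∈ K := by
    intro w hwy
    let C : Subalgebra F K := (Subalgebra.centralizer F {(w : Matrix (Fin 3) (Fin 3) F)}).comap K.val
    have hmemC : ∀ k : K, k ∈ C ↔
        (w : Matrix (Fin 3) (Fin 3) F) * k = (k : Matrix (Fin 3) (Fin 3) F) * w := fun k => by
      simp [C, Subalgebra.mem_centralizer_iff]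
    have hyC : (⟨_, hyK⟩ : K) ∈ C := (hmemC _).2 (by simpa using congrArg Units.val hwy)
    have htop : C = ⊤ := by
      by_contra hne
      have hlt : Module.finrank F C < 3 := by
        exact lt_of_lt_of_eq
          (Submodule.finrank_lt (s := C.toSubmodule) fun h => hne (Algebra.toSubmodule_eq_top.1 h)) hK.finrank_eq
      have hpos : 0 < Module.finrank F C := Module.finrank_pos
      haveI : Fintype C := Fintype.ofFinite _
      letI := Fintype.fieldOfDomain C
      have hne0 : (⟨_, hyC⟩ : C) ≠ 0 := fun h0 => y.ne_zero (congrArg (fun k : C => ((k : K) : Matrix (Fin 3) (Fin 3) F)) h0)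
      have h1 := FiniteField.pow_card_sub_one_eq_one (⟨_, hyC⟩ : C) hne0
      rw [Module.card_eq_pow_finrank (K := F) (V := C), hm.card] at h1
      have h2 : y ^ ((p ^ 2) ^ Module.finrank F C - 1) = 1 := Units.ext (by
        rw [Units.val_pow_eq_pow_val, Units.val_one]
        simpa using congrArg (fun k : C => ((k : K) : Matrix (Fin 3) (Fin 3) F)) h1)
      have := pow_gcd_eq_one.2 ⟨hy7, h2⟩
      rw [(hcop _ hpos hlt).gcd_eq_one, pow_one] at this
      exact hy1 this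
    have hev := evalAt_bijective (K := K) (by rwa [Fintype.card_fin])
      (v := (Pi.single 0 1 : Fin 3 → F)) (fun h => by simpa using congrFun h 0)
    obtain ⟨k, hk⟩ := hev.2 ((w : Matrix (Fin 3) (Fin 3) F) *ᵥ Pi.single 0 1)
    suffices (w : Matrix (Fin 3) (Fin 3) F) = k by rw [this]; exact k.2
    refine Matrix.ext_of_mulVec_single fun i => ?_
    obtain ⟨l, hl⟩ := hev.2 (Pi.single i 1)
    change (l : Matrix (Fin 3) (Fin 3) F) *ᵥ Pi.single 0 1 = Pi.single i 1 at hl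
    change (k : Matrix (Fin 3) (Fin 3) F) *ᵥ Pi.single 0 1 = _ at hk
    rw [← hl, Matrix.mulVec_mulVec, (hmemC l).1 (htop ▸ Algebra.mem_top), ← Matrix.mulVec_mulVec, ← hk,
      Matrix.mulVec_mulVec, Matrix.mulVec_mulVec, hK.comm _ k.2 _ l.2]
  -- the normaliser of the field
  have hhG : h ∈ GU 3 F p := hhI.1
  have hFj : ∀ j : Fin 3, ∃ g ∈ permutes θ pts ⊓ SUG F p,
      (g : Matrix (Fin 3) (Fin 3) F) = toM θ (FP j) := by
    intro j
    obtain ⟨h0, h1, h2⟩ := hF0
    have hf : f ∈ permutes θ pts ⊓ SUG F p := ⟨hFp, glOf_mem hm Fm hFm⟩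
    fin_cases j
    · exact ⟨1, one_mem _, by simp only [h0, toM_mone, Units.val_one, Fin.zero_eta]⟩
    · exact ⟨f, hf, by rw [glOf_val]; exact congrArg (toM θ) h1.symm⟩
    · exact ⟨f * f, mul_mem hf hf, by
        rw [Units.val_mul, glOf_val, ← toM_mmul hmsq]; exact congrArg (toM θ) h2.symm⟩
  have hN : ∀ g ∈ H, ∃ i : ℕ, (h⁻¹ * g * h) * z * (h⁻¹ * g * h)⁻¹ = z ^ i := by
    intro g hg
    have h1 : ((g * y * g⁻¹ : GL (Fin 3) F) : Matrix (Fin 3) (Fin 3) F) ∈ K := by
      rw [Units.val_mul, Units.val_mul]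
      exact (hHK hg _).1 hyK
    obtain ⟨i, hi⟩ := hroot h1 (by rw [conj_pow, hy7, mul_one, mul_inv_cancel])
    refine ⟨i, ?_⟩
    rw [hy, conj_pow] at hi
    rw [show h⁻¹ * g * h * z * (h⁻¹ * g * h)⁻¹ = h⁻¹ * (g * (h * z * h⁻¹) * g⁻¹) * h by group, hi]
    group
  refine overgroup_false hH hhG (pts := pts) (fun g hg => ?_) (glOf_mem hm _ hS) hSp (fun hs => ?_)
    (glOf_mem hm _ hT) hTp
  · obtain ⟨i, hi⟩ := hN g hg
    have hg' := conj_mem' hhG (hH.1.le hg)
    set g' := h⁻¹ * g * h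
    have hz' : toM θ (XP 1) = (z : Matrix (Fin 3) (Fin 3) F) := by
      have := hzpow 1
      rw [pow_one, Nat.cast_one] at this
      exact this.symm
    obtain ⟨j, hj⟩ := hconj (i : Fin 7) (hm.toF_injective (by
      rw [← trace_toM, ← trace_toM, ← hzpow, ← hi, hz', Units.val_mul, Units.val_mul,
        Matrix.trace_units_conj]))
    obtain ⟨fj, hfj, hfje⟩ := hFj j
    have hfz : fj * z = z ^ i * fj := Units.ext (by
      rw [Units.val_mul, Units.val_mul, hfje, hzpow, ← hz', ← toM_mmul hmsq, ← toM_mmul hmsq, hj])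
    set c := fj⁻¹ * g'
    have hcz : c * z = z * c := by
      have h5 : g' * z = z ^ i * g' := by rw [← hi, inv_mul_cancel_right]
      calc fj⁻¹ * g' * z = fj⁻¹ * (z ^ i * fj) * (fj⁻¹ * g') := by
            rw [mul_assoc fj⁻¹ g' z, h5]; group
        _ = z * (fj⁻¹ * g') := by rw [← hfz]; group
    have hcI : c ∈ SUG F p := mul_mem (inv_mem hfj.2) hg'
    set w := h * c * h⁻¹ with hw
    have hwy : w * y = y * w := by
      rw [hw, hy, show h * c * h⁻¹ * (h * z * h⁻¹) = h * (c * z) * h⁻¹ by group, hcz]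
      group
    have hwK := hcentK w hwy
    have hwI : w ∈ SUG F p := conj_mem hhG hcI
    obtain ⟨m', hm'⟩ := hroot (w := w ^ 3)
      (by rw [Units.val_pow_eq_pow_val]; exact pow_mem hwK 3)
      (by rw [← pow_mul]; exact hord w hwI hwK)
    have hsc : w * y ^ (2 * m') ∈ Geo.scalars (Fin 3) F := hcubeK _
      (by rw [Units.val_mul, Units.val_pow_eq_pow_val]; exact mul_mem hwK (pow_mem hyK _))
      (pow_seven_mul_two hwy hm' hy7)
    have hsc' : w * y ^ (2 * m') = c * z ^ (2 * m') := by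
      have hwconj : h * (c * z ^ (2 * m')) * h⁻¹ = w * y ^ (2 * m') := by
        rw [hy, conj_pow, hw]; group
      calc w * y ^ (2 * m') = h⁻¹ * ((w * y ^ (2 * m')) * h) := by
            rw [scalar_comm hsc h, inv_mul_cancel_left]
        _ = c * z ^ (2 * m') := by rw [← hwconj]; group
    have hcP : c ∈ permutes θ pts := by
      have h1 : c * z ^ (2 * m') ∈ permutes θ pts := hsc' ▸ scalars_le_permutes pts hsc
      have hzP : z ∈ permutes θ pts := hXp
      have h2 := mul_mem h1 (inv_mem (pow_mem hzP (2 * m')))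
      rwa [mul_inv_cancel_right] at h2
    have := mul_mem hfj.1 hcP
    rwa [mul_inv_cancel_left] at this
  · obtain ⟨i, hi⟩ := hN _ hs
    rw [show h⁻¹ * (h * glOf hm S hS * h⁻¹) * h = glOf hm S hS by group, mul_inv_eq_iff_eq_mul] at hi
    have h1 := congrArg Units.val hi
    rw [Units.val_mul, Units.val_mul, hzpow, glOf_val, glOf_val, ← toM_mmul hmsq, ← toM_mmul hmsq] at h1
    exact hwit _ (hm.toM_injective h1)

omit [CharP F p] in
theorem card_SUG_three (hF : Fintype.card F = 3 ^ 2) : Nat.card (SUG F 3) = 6048 := by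
  exact Nat.eq_of_mul_eq_mul_left (by norm_num) ((card_SUG (F := F) hF).trans (by norm_num))

omit [CharP F p] in
theorem card_SUG_five (hF : Fintype.card F = 5 ^ 2) : Nat.card (SUG F 5) = 378000 := by
  exact Nat.eq_of_mul_eq_mul_left (by norm_num) ((card_SUG (F := F) hF).trans (by norm_num))

/-- The field normaliser is not maximal in `SU₃(3)`. -/
theorem field_three [CharP F 3] (hF : Fintype.card F = 3 ^ 2)
    {H : Subgroup (GL (Fin 3) F)} (hH : Geo.IsMaximalIn (SUG F 3) H)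
    {K : Subalgebra F (Matrix (Fin 3) (Fin 3) F)} (hK : Geo.IsFieldSubalgebra 3 K)
    (hHK : H ≤ Geo.subalgebraNormalizer K) {x₀ : GL (Fin 3) F} (hx₀H : x₀ ∈ H)
    (hx₀K : (x₀ : Matrix (Fin 3) (Fin 3) F) ∈ K) (hx₀s : x₀ ∉ Geo.scalars (Fin 3) F) : False := by
  obtain ⟨σ, θ, hm⟩ := exists_model (F := F) (p := 3) (Or.inl rfl) hF
  refine field_false hm threeX_unitary threeF_unitary threeS_unitary threeT_unitary
    (glOf_mem_permutes hm threeX_unitary threeX_maps) (glOf_mem_permutes hm threeF_unitary threeF_maps)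
    (glOf_mem_permutes hm threeS_unitary threeS_maps) (glOf_not_mem_permutes hm threeT_unitary three_moved)
    threeXPow threeXPow_zero threeXPow_succ threeX_nontrivial threeFPow threeFPow_spec threeF_conj
    three_witness ?_ ?_ (by decide) (fun l hl hl3 => by interval_cases l <;> decide) hH hK hHK hx₀H hx₀K hx₀s
  · rw [card_SUG_three hF, show (6048 : ℕ) = 7 * 864 by norm_num,
      Nat.factorization_mul (by norm_num) (by norm_num), Finsupp.add_apply,
      Nat.Prime.factorization_self (by norm_num), Nat.factorization_eq_zero_of_not_dvd (by norm_num)]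
  · rw [card_SUG_three hF]; norm_num

/-- The field normaliser is not maximal in `SU₃(5)`. -/
theorem field_five [CharP F 5] (hF : Fintype.card F = 5 ^ 2)
    {H : Subgroup (GL (Fin 3) F)} (hH : Geo.IsMaximalIn (SUG F 5) H)
    {K : Subalgebra F (Matrix (Fin 3) (Fin 3) F)} (hK : Geo.IsFieldSubalgebra 3 K)
    (hHK : H ≤ Geo.subalgebraNormalizer K) {x₀ : GL (Fin 3) F} (hx₀H : x₀ ∈ H)
    (hx₀K : (x₀ : Matrix (Fin 3) (Fin 3) F) ∈ K) (hx₀s : x₀ ∉ Geo.scalars (Fin 3) F) : False := by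
  obtain ⟨σ, θ, hm⟩ := exists_model (F := F) (p := 5) (Or.inr rfl) hF
  refine field_false hm fiveX_unitary fiveF_unitary monS_unitary monT_unitary
    (glOf_mem_permutes hm fiveX_unitary fiveX_maps) (glOf_mem_permutes hm fiveF_unitary fiveF_maps)
    (glOf_mem_permutes hm monS_unitary monS_maps) (glOf_not_mem_permutes hm monT_unitary mon_moved)
    fiveXPow fiveXPow_zero fiveXPow_succ fiveX_nontrivial fiveFPow fiveFPow_spec fiveF_conj
    five_witness ?_ ?_ (by decide) (fun l hl hl3 => by interval_cases l <;> decide) hH hK hHK hx₀H hx₀K hx₀s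
  · rw [card_SUG_five hF, show (378000 : ℕ) = 7 * 54000 by norm_num,
      Nat.factorization_mul (by norm_num) (by norm_num), Finsupp.add_apply,
      Nat.Prime.factorization_self (by norm_num), Nat.factorization_eq_zero_of_not_dvd (by norm_num)]
  · rw [card_SUG_five hF]; norm_num

end Cfsg.Agent.Aschbacher.SUThree
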