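import Cfsg.Agent.Lib.Aschbacher.SUThreeModel

/-!
Finite model for the orthogonal subgroup of `SU₃(5)`: it permutes the 105 points of a copy of `3.A₇`.
-/

set_option autoImplicit false
set_option maxRecDepth 20000

namespace Cfsg.Agent.Aschbacher.SUThree

/-- An element of the special unitary group. -/
def orthD1Mat : Mat 5 :=
  ![![(4, 0), (0, 0), (0, 0)], ![(0, 0), (4, 0), (0, 0)], ![(0, 0), (0, 0), (1, 0)]]

theorem orthD1_unitary : IsSU orthD1Mat := by decide +kernel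

/-- An element of the special unitary group. -/
def orthD2Mat : Mat 5 :=
  ![![(1, 0), (0, 0), (0, 0)], ![(0, 0), (4, 0), (0, 0)], ![(0, 0), (0, 0), (4, 0)]]

theorem orthD2_unitary : IsSU orthD2Mat := by decide +kernel

/-- An element of the special unitary group. -/
def orthSwapMat : Mat 5 :=
  ![![(0, 0), (4, 0), (0, 0)], ![(4, 0), (0, 0), (0, 0)], ![(0, 0), (0, 0), (4, 0)]]

theorem orthSwap_unitary : IsSU orthSwapMat := by decide +kernel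

/-- An element of the special unitary group. -/
def orthCycMat : Mat 5 :=
  ![![(0, 0), (1, 0), (0, 0)], ![(0, 0), (0, 0), (1, 0)], ![(1, 0), (0, 0), (0, 0)]]

theorem orthCyc_unitary : IsSU orthCycMat := by decide +kernel

/-- An element of the special unitary group. -/
def orthRMat : Mat 5 :=
  ![![(1, 0), (1, 0), (2, 0)], ![(1, 0), (2, 0), (1, 0)], ![(2, 0), (1, 0), (1, 0)]]

theorem orthR_unitary : IsSU orthRMat := by decide +kernel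

/-- An element of the special unitary group. -/
def orthSMat : Mat 5 :=
  ![![(1, 1), (3, 0), (1, 2)], ![(1, 4), (1, 1), (0, 4)], ![(0, 1), (4, 3), (0, 0)]]

theorem orthS_unitary : IsSU orthSMat := by decide +kernel

/-- An element of the special unitary group. -/
def orthTMat : Mat 5 :=
  ![![(0, 0), (2, 0), (3, 1)], ![(0, 0), (2, 1), (2, 0)], ![(1, 0), (0, 0), (0, 0)]]

theorem orthT_unitary : IsSU orthTMat := by decide +kernel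

/-- An invariant set of projective points. -/
def orthPts : Fin 105 → Vec 5 :=
  ![![(0, 0), (0, 0), (1, 0)], ![(0, 0), (1, 0), (0, 0)], ![(1, 0), (3, 0), (3, 0)],
    ![(1, 0), (3, 3), (0, 0)], ![(1, 0), (0, 0), (0, 0)], ![(1, 0), (2, 0), (1, 0)],
    ![(1, 0), (2, 2), (3, 1)], ![(1, 0), (3, 0), (2, 0)], ![(1, 0), (2, 0), (2, 0)],
    ![(1, 0), (1, 0), (2, 0)], ![(1, 0), (1, 4), (1, 1)], ![(1, 0), (2, 2), (0, 0)],
    ![(1, 0), (0, 0), (3, 2)], ![(1, 0), (3, 2), (0, 0)], ![(1, 0), (4, 1), (4, 4)],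
    ![(1, 0), (2, 2), (2, 4)], ![(1, 0), (2, 0), (4, 0)], ![(1, 0), (3, 0), (4, 0)],
    ![(1, 0), (4, 1), (2, 2)], ![(1, 0), (3, 3), (2, 4)], ![(1, 0), (2, 1), (2, 3)],
    ![(1, 0), (2, 3), (2, 1)], ![(1, 0), (3, 2), (1, 1)], ![(1, 0), (2, 0), (3, 0)],
    ![(1, 0), (4, 0), (2, 0)], ![(1, 0), (1, 0), (3, 0)], ![(1, 0), (3, 0), (1, 0)],
    ![(1, 0), (4, 0), (3, 0)], ![(1, 0), (2, 3), (4, 4)], ![(1, 0), (1, 4), (4, 4)],
    ![(1, 0), (4, 4), (2, 3)], ![(1, 0), (4, 1), (3, 3)], ![(1, 0), (0, 0), (2, 3)],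
    ![(1, 0), (2, 3), (0, 0)], ![(1, 0), (4, 2), (4, 3)], ![(0, 0), (1, 0), (3, 3)],
    ![(0, 0), (1, 0), (3, 2)], ![(1, 0), (1, 4), (2, 2)], ![(1, 0), (0, 0), (3, 3)],
    ![(1, 0), (4, 4), (4, 1)], ![(1, 0), (2, 2), (4, 1)], ![(1, 0), (4, 1), (1, 1)],
    ![(1, 0), (2, 3), (1, 1)], ![(1, 0), (1, 1), (2, 3)], ![(1, 0), (1, 3), (1, 2)],
    ![(1, 0), (3, 3), (3, 1)], ![(1, 0), (3, 4), (2, 3)], ![(1, 0), (2, 3), (3, 4)],
    ![(1, 0), (1, 4), (3, 3)], ![(1, 0), (1, 1), (1, 4)], ![(1, 0), (2, 1), (3, 2)],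
    ![(1, 0), (3, 2), (2, 1)], ![(1, 0), (3, 4), (3, 2)], ![(1, 0), (4, 2), (1, 2)],
    ![(1, 0), (1, 2), (4, 2)], ![(1, 0), (3, 2), (3, 4)], ![(1, 0), (3, 1), (2, 2)],
    ![(1, 0), (1, 1), (3, 2)], ![(1, 0), (3, 2), (4, 4)], ![(1, 0), (3, 3), (4, 1)],
    ![(0, 0), (1, 0), (2, 2)], ![(1, 0), (1, 3), (4, 3)], ![(1, 0), (4, 4), (3, 2)],
    ![(1, 0), (1, 0), (0, 2)], ![(1, 0), (1, 1), (4, 1)], ![(0, 0), (1, 0), (2, 3)],
    ![(1, 0), (0, 0), (2, 2)], ![(1, 0), (4, 3), (4, 2)], ![(1, 0), (2, 2), (3, 2)],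
    ![(1, 0), (3, 1), (3, 3)], ![(1, 0), (2, 2), (1, 4)], ![(1, 0), (0, 2), (1, 0)],
    ![(1, 0), (0, 1), (0, 1)], ![(1, 0), (4, 4), (1, 4)], ![(1, 0), (3, 2), (3, 3)],
    ![(1, 0), (3, 3), (1, 4)], ![(1, 0), (4, 0), (0, 0)], ![(1, 0), (3, 2), (2, 2)],
    ![(1, 0), (2, 4), (3, 3)], ![(1, 0), (4, 3), (1, 3)], ![(1, 0), (2, 4), (2, 2)],
    ![(1, 0), (1, 0), (0, 3)], ![(1, 0), (1, 2), (1, 3)], ![(1, 0), (1, 0), (4, 0)],
    ![(1, 0), (0, 3), (1, 0)], ![(1, 0), (2, 3), (3, 3)], ![(0, 0), (1, 0), (4, 0)],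
    ![(1, 0), (4, 0), (4, 0)], ![(1, 0), (3, 3), (2, 3)], ![(1, 0), (4, 0), (0, 3)],
    ![(1, 0), (2, 2), (2, 3)], ![(1, 0), (0, 4), (0, 1)], ![(1, 0), (1, 0), (0, 0)],
    ![(1, 0), (0, 2), (4, 0)], ![(1, 0), (0, 3), (4, 0)], ![(1, 0), (0, 4), (0, 4)],
    ![(1, 0), (0, 0), (1, 0)], ![(1, 0), (0, 1), (0, 4)], ![(0, 0), (1, 0), (1, 0)],
    ![(1, 0), (4, 0), (1, 0)], ![(1, 0), (2, 3), (2, 2)], ![(1, 0), (3, 3), (3, 2)],
    ![(1, 0), (0, 0), (4, 0)], ![(1, 0), (4, 0), (0, 2)], ![(1, 0), (1, 0), (1, 0)]]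

/-- Images. -/
def orthD1Perm : Fin 105 → Fin 105 :=
  ![0, 1, 7, 3, 4, 16, 15, 2, 23, 25, 29, 11, 32, 13, 41, 6, 5, 26, 31, 45, 50, 47, 58, 8, 27, 9,
    17, 24, 42, 10, 62, 18, 12, 33, 53, 60, 65, 48, 66, 73, 70, 14, 28, 57, 61, 19, 52, 21, 37,
    64, 20, 55, 46, 34, 82, 51, 69, 43, 22, 75, 35, 44, 30, 81, 49, 36, 38, 79, 90, 56, 40, 93,
    97, 39, 77, 59, 76, 74, 80, 67, 78, 63, 54, 104, 94, 100, 98, 99, 101, 103, 68, 95, 92, 71,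
    84, 91, 102, 72, 86, 87, 85, 88, 96, 89, 83]

/-- Multipliers. -/
def orthD1Mult : Fin 105 → K2 5 :=
  ![(1, 0), (4, 0), (4, 0), (4, 0), (4, 0), (4, 0), (4, 0), (4, 0), (4, 0), (4, 0), (4, 0),
    (4, 0), (4, 0), (4, 0), (4, 0), (4, 0), (4, 0), (4, 0), (4, 0), (4, 0), (4, 0), (4, 0),
    (4, 0), (4, 0), (4, 0), (4, 0), (4, 0), (4, 0), (4, 0), (4, 0), (4, 0), (4, 0), (4, 0),
    (4, 0), (4, 0), (4, 0), (4, 0), (4, 0), (4, 0), (4, 0), (4, 0), (4, 0), (4, 0), (4, 0),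
    (4, 0), (4, 0), (4, 0), (4, 0), (4, 0), (4, 0), (4, 0), (4, 0), (4, 0), (4, 0), (4, 0),
    (4, 0), (4, 0), (4, 0), (4, 0), (4, 0), (4, 0), (4, 0), (4, 0), (4, 0), (4, 0), (4, 0),
    (4, 0), (4, 0), (4, 0), (4, 0), (4, 0), (4, 0), (4, 0), (4, 0), (4, 0), (4, 0), (4, 0),
    (4, 0), (4, 0), (4, 0), (4, 0), (4, 0), (4, 0), (4, 0), (4, 0), (4, 0), (4, 0), (4, 0),
    (4, 0), (4, 0), (4, 0), (4, 0), (4, 0), (4, 0), (4, 0), (4, 0), (4, 0), (4, 0), (4, 0),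
    (4, 0), (4, 0), (4, 0), (4, 0), (4, 0), (4, 0)]

theorem orthD1_maps : ∀ a, mvec orthD1Mat (orthPts a) = fun i => kmul (orthD1Mult a) (orthPts (orthD1Perm a) i) := by decide +kernel

/-- Images. -/
def orthD2Perm : Fin 105 → Fin 105 :=
  ![0, 1, 8, 11, 4, 17, 19, 23, 2, 27, 14, 3, 32, 33, 10, 45, 26, 5, 48, 6, 52, 55, 28, 7, 25,
    24, 16, 9, 22, 41, 57, 37, 12, 13, 44, 35, 36, 31, 66, 49, 75, 29, 58, 62, 34, 15, 50, 51,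
    18, 39, 46, 47, 20, 61, 79, 21, 78, 30, 42, 70, 60, 53, 43, 89, 73, 65, 38, 82, 88, 80, 59,
    94, 95, 64, 100, 40, 92, 85, 56, 54, 69, 103, 67, 99, 93, 77, 86, 104, 68, 63, 101, 97, 76,
    84, 71, 72, 102, 91, 98, 83, 74, 90, 96, 81, 87]

/-- Multipliers. -/
def orthD2Mult : Fin 105 → K2 5 :=
  ![(4, 0), (4, 0), (1, 0), (1, 0), (1, 0), (1, 0), (1, 0), (1, 0), (1, 0), (1, 0), (1, 0),
    (1, 0), (1, 0), (1, 0), (1, 0), (1, 0), (1, 0), (1, 0), (1, 0), (1, 0), (1, 0), (1, 0),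
    (1, 0), (1, 0), (1, 0), (1, 0), (1, 0), (1, 0), (1, 0), (1, 0), (1, 0), (1, 0), (1, 0),
    (1, 0), (1, 0), (4, 0), (4, 0), (1, 0), (1, 0), (1, 0), (1, 0), (1, 0), (1, 0), (1, 0),
    (1, 0), (1, 0), (1, 0), (1, 0), (1, 0), (1, 0), (1, 0), (1, 0), (1, 0), (1, 0), (1, 0),
    (1, 0), (1, 0), (1, 0), (1, 0), (1, 0), (4, 0), (1, 0), (1, 0), (1, 0), (1, 0), (4, 0),
    (1, 0), (1, 0), (1, 0), (1, 0), (1, 0), (1, 0), (1, 0), (1, 0), (1, 0), (1, 0), (1, 0),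
    (1, 0), (1, 0), (1, 0), (1, 0), (1, 0), (1, 0), (1, 0), (1, 0), (1, 0), (4, 0), (1, 0),
    (1, 0), (1, 0), (1, 0), (1, 0), (1, 0), (1, 0), (1, 0), (1, 0), (1, 0), (1, 0), (4, 0),
    (1, 0), (1, 0), (1, 0), (1, 0), (1, 0), (1, 0)]

theorem orthD2_maps : ∀ a, mvec orthD2Mat (orthPts a) = fun i => kmul (orthD2Mult a) (orthPts (orthD2Perm a) i) := by decide +kernel

/-- Images. -/
def orthSwapPerm : Fin 105 → Fin 105 :=
  ![0, 4, 5, 13, 1, 2, 21, 16, 26, 9, 30, 33, 36, 3, 43, 47, 7, 23, 49, 51, 54, 6, 59, 17, 27,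
    25, 8, 24, 40, 62, 10, 64, 65, 11, 69, 38, 12, 39, 35, 37, 28, 57, 70, 14, 78, 55, 79, 15,
    73, 18, 82, 19, 67, 56, 20, 45, 53, 41, 75, 22, 66, 80, 29, 63, 31, 32, 60, 52, 85, 34, 42,
    95, 84, 48, 88, 58, 76, 101, 44, 46, 61, 81, 50, 83, 72, 68, 102, 99, 74, 103, 100, 93, 92,
    91, 97, 71, 98, 94, 96, 87, 90, 77, 86, 89, 104]

/-- Multipliers. -/
def orthSwapMult : Fin 105 → K2 5 :=
  ![(4, 0), (4, 0), (2, 0), (2, 2), (4, 0), (3, 0), (3, 3), (2, 0), (3, 0), (4, 0), (4, 1),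
    (3, 3), (4, 0), (2, 3), (1, 4), (3, 3), (3, 0), (2, 0), (1, 4), (2, 2), (3, 4), (3, 2),
    (2, 3), (3, 0), (1, 0), (4, 0), (2, 0), (1, 0), (3, 2), (4, 1), (1, 1), (1, 4), (4, 0),
    (3, 2), (1, 3), (4, 0), (4, 0), (4, 1), (4, 0), (1, 1), (3, 3), (1, 4), (3, 2), (4, 4),
    (4, 2), (2, 2), (2, 1), (3, 2), (4, 1), (4, 4), (3, 4), (2, 3), (2, 1), (1, 3), (4, 3),
    (2, 3), (2, 4), (4, 4), (2, 3), (2, 2), (4, 0), (4, 2), (1, 1), (4, 0), (4, 4), (4, 0),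
    (4, 0), (1, 2), (3, 3), (2, 4), (3, 3), (0, 3), (0, 4), (1, 1), (2, 3), (2, 2), (1, 0),
    (2, 3), (3, 1), (1, 2), (3, 1), (4, 0), (4, 3), (4, 0), (0, 2), (3, 2), (4, 0), (1, 0),
    (2, 2), (1, 0), (3, 3), (0, 1), (4, 0), (0, 3), (0, 2), (0, 1), (4, 0), (0, 4), (4, 0),
    (1, 0), (3, 2), (2, 2), (4, 0), (1, 0), (4, 0)]

theorem orthSwap_maps : ∀ a, mvec orthSwapMat (orthPts a) = fun i => kmul (orthSwapMult a) (orthPts (orthSwapPerm a) i) := by decide +kernel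

/-- Images. -/
def orthCycPerm : Fin 105 → Fin 105 :=
  ![1, 4, 9, 12, 0, 2, 20, 24, 25, 5, 28, 32, 35, 38, 42, 46, 23, 7, 10, 50, 53, 56, 31, 27, 17,
    26, 8, 16, 18, 58, 49, 41, 60, 66, 45, 3, 13, 14, 36, 70, 30, 22, 37, 39, 19, 52, 61, 80, 29,
    40, 44, 78, 34, 6, 21, 69, 54, 64, 48, 57, 11, 15, 73, 71, 59, 33, 65, 55, 88, 67, 43, 95,
    81, 75, 85, 62, 102, 74, 82, 47, 79, 84, 51, 99, 72, 77, 76, 83, 101, 93, 90, 103, 96, 97,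
    91, 63, 98, 89, 92, 87, 100, 68, 86, 94, 104]

/-- Multipliers. -/
def orthCycMult : Fin 105 → K2 5 :=
  ![(1, 0), (1, 0), (3, 0), (3, 3), (1, 0), (2, 0), (2, 2), (3, 0), (2, 0), (1, 0), (1, 4),
    (2, 2), (3, 2), (3, 2), (4, 1), (2, 2), (2, 0), (3, 0), (4, 1), (3, 3), (2, 1), (2, 3),
    (3, 2), (2, 0), (4, 0), (1, 0), (3, 0), (4, 0), (2, 3), (1, 4), (4, 4), (4, 1), (2, 3),
    (2, 3), (4, 2), (1, 0), (1, 0), (1, 4), (3, 3), (4, 4), (2, 2), (4, 1), (2, 3), (1, 1),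
    (1, 3), (3, 3), (3, 4), (2, 3), (1, 4), (1, 1), (2, 1), (3, 2), (3, 4), (4, 2), (1, 2),
    (3, 2), (3, 1), (1, 1), (3, 2), (3, 3), (1, 0), (1, 3), (4, 4), (1, 0), (1, 1), (1, 0),
    (2, 2), (4, 3), (2, 2), (3, 1), (2, 2), (0, 2), (0, 1), (4, 4), (3, 2), (3, 3), (4, 0),
    (3, 2), (2, 4), (4, 3), (2, 4), (1, 0), (1, 2), (1, 0), (0, 3), (2, 3), (1, 0), (4, 0),
    (3, 3), (4, 0), (2, 2), (0, 4), (1, 0), (0, 2), (0, 3), (0, 4), (1, 0), (0, 1), (1, 0),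
    (4, 0), (2, 3), (3, 3), (4, 0), (4, 0), (1, 0)]

theorem orthCyc_maps : ∀ a, mvec orthCycMat (orthPts a) = fun i => kmul (orthCycMult a) (orthPts (orthCycPerm a) i) := by decide +kernel

/-- Images. -/
def orthRPerm : Fin 105 → Fin 105 :=
  ![2, 5, 0, 14, 9, 1, 22, 17, 25, 4, 28, 34, 37, 39, 3, 48, 27, 7, 18, 44, 41, 57, 6, 23, 24, 8,
    26, 16, 10, 61, 30, 53, 52, 67, 11, 42, 70, 12, 43, 13, 49, 20, 35, 38, 19, 60, 58, 75, 15,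
    40, 50, 82, 32, 31, 64, 65, 59, 21, 46, 56, 45, 29, 79, 72, 54, 55, 69, 33, 91, 66, 36, 84,
    63, 80, 89, 47, 86, 93, 78, 62, 73, 95, 51, 98, 71, 97, 76, 92, 94, 74, 100, 68, 87, 77, 88,
    81, 99, 85, 83, 96, 90, 103, 102, 101, 104]

/-- Multipliers. -/
def orthRMult : Fin 105 → K2 5 :=
  ![(2, 0), (1, 0), (3, 0), (4, 3), (1, 0), (1, 0), (4, 4), (3, 0), (2, 0), (1, 0), (4, 1),
    (3, 2), (2, 4), (4, 2), (3, 4), (2, 0), (1, 0), (2, 0), (4, 0), (3, 1), (2, 2), (2, 0),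
    (1, 4), (4, 0), (4, 0), (3, 0), (1, 0), (1, 0), (1, 1), (0, 2), (4, 0), (1, 2), (0, 1),
    (3, 3), (3, 3), (2, 1), (2, 4), (1, 3), (2, 1), (3, 1), (1, 4), (2, 3), (1, 2), (1, 2),
    (4, 2), (0, 2), (3, 0), (4, 1), (3, 0), (4, 4), (4, 0), (3, 4), (0, 3), (2, 1), (0, 1),
    (0, 3), (3, 0), (3, 0), (2, 0), (2, 0), (0, 4), (0, 4), (1, 3), (2, 4), (0, 3), (0, 1),
    (0, 4), (3, 2), (4, 1), (0, 2), (1, 3), (3, 2), (1, 3), (2, 2), (0, 3), (1, 1), (4, 0),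
    (3, 1), (4, 0), (2, 4), (2, 3), (2, 1), (4, 3), (2, 0), (3, 3), (4, 4), (4, 0), (3, 0),
    (3, 4), (0, 1), (2, 3), (1, 1), (2, 0), (4, 2), (4, 3), (1, 2), (3, 0), (1, 4), (3, 0),
    (2, 0), (2, 2), (0, 2), (4, 0), (0, 4), (4, 0)]

theorem orthR_maps : ∀ a, mvec orthRMat (orthPts a) = fun i => kmul (orthRMult a) (orthPts (orthRPerm a) i) := by decide +kernel

/-- Images. -/
def orthSPerm : Fin 105 → Fin 105 :=
  ![3, 6, 10, 0, 15, 18, 4, 5, 20, 28, 31, 11, 22, 40, 44, 1, 2, 46, 29, 45, 48, 30, 60, 53, 35,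
    9, 61, 12, 42, 7, 63, 16, 24, 68, 8, 58, 71, 50, 72, 74, 76, 52, 25, 77, 17, 19, 14, 49, 34,
    81, 23, 83, 26, 37, 84, 85, 86, 87, 32, 88, 27, 41, 47, 64, 21, 79, 56, 36, 92, 38, 13, 96,
    98, 99, 57, 101, 70, 73, 80, 102, 95, 62, 54, 89, 94, 103, 97, 39, 59, 100, 33, 78, 90, 65,
    82, 91, 67, 66, 69, 43, 51, 75, 93, 104, 55]

/-- Multipliers. -/
def orthSMult : Fin 105 → K2 5 :=
  ![(1, 2), (3, 0), (3, 2), (0, 2), (1, 1), (3, 3), (4, 4), (2, 0), (4, 0), (1, 0), (4, 1),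
    (2, 2), (2, 4), (0, 2), (3, 1), (4, 1), (1, 4), (4, 4), (3, 0), (3, 3), (1, 1), (3, 0),
    (1, 3), (0, 2), (0, 1), (2, 2), (1, 3), (1, 2), (2, 2), (4, 0), (2, 0), (3, 3), (0, 3),
    (2, 0), (4, 3), (3, 4), (4, 3), (4, 4), (1, 0), (1, 2), (0, 1), (3, 2), (2, 3), (3, 1),
    (3, 4), (2, 2), (4, 0), (1, 0), (4, 2), (1, 0), (3, 2), (1, 2), (1, 1), (2, 1), (1, 2),
    (4, 2), (2, 1), (0, 2), (0, 4), (3, 4), (3, 1), (0, 1), (4, 1), (2, 3), (2, 3), (2, 2),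
    (1, 2), (2, 2), (3, 0), (0, 3), (4, 3), (2, 4), (1, 0), (0, 4), (0, 1), (2, 1), (3, 1),
    (0, 3), (2, 2), (1, 0), (2, 4), (1, 4), (2, 2), (3, 4), (2, 2), (2, 4), (2, 3), (2, 4),
    (4, 2), (0, 4), (1, 4), (0, 4), (4, 1), (0, 2), (0, 3), (2, 2), (2, 3), (2, 3), (4, 2),
    (4, 3), (2, 1), (1, 3), (0, 4), (1, 3), (0, 3)]

theorem orthS_maps : ∀ a, mvec orthSMat (orthPts a) = fun i => kmul (orthSMult a) (orthPts (orthSPerm a) i) := by decide +kernel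

/-- A moved point. -/
def orthMoved : Fin 105 :=
  0

theorem orth_moved : ∀ b, ∀ c : K2 5, mvec orthTMat (orthPts orthMoved) ≠ fun i => kmul c (orthPts b i) := by decide +kernel

theorem orth_swap_cyc : orthSwapMat = monSwapMat ∧ orthCycMat = monCycMat := by decide +kernel

theorem orth_witness : (kmul (orthSMat 0 0) (kconj (orthSMat 0 1))).2 ≠ 0 := by decide +kernel

/-- A matrix over the prime field in the model. -/
def emb {p : ℕ} (A : Matrix (Fin 3) (Fin 3) (ZMod p)) : Mat p := fun i j => (A i j, 0)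

/-- The orthogonal matrix `orthRMat` over the prime field. -/
def orthR₀ : Matrix (Fin 3) (Fin 3) (ZMod 5) := Matrix.of ![![1, 1, 2], ![1, 2, 1], ![2, 1, 1]]

theorem emb_orthR : emb orthR₀ = orthRMat := by decide +kernel

/-- The six permutations of three letters. -/
def perm3 : Fin 6 → Fin 3 → Fin 3 :=
  ![![0, 1, 2], ![0, 2, 1], ![1, 0, 2], ![1, 2, 0], ![2, 0, 1], ![2, 1, 0]]

/-- Signed permutation matrices. -/
def signed (p : ℕ) (e : Fin 2 × Fin 2 × Fin 2) (π : Fin 6) : Matrix (Fin 3) (Fin 3) (ZMod p) :=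
  Matrix.of fun r c => if perm3 π c = r then (-1) ^ ((![e.1, e.2.1, e.2.2] c : Fin 2) : ℕ) else 0

theorem signed_orth : ∀ e π, (signed 5 e π).transpose * signed 5 e π = 1 := by decide +kernel

theorem orthR₀_orth : orthR₀.transpose * orthR₀ = 1 := by decide +kernel

theorem signed_factor : ∀ e π, ∃ ε i j : Fin 2, ∃ w : Fin 6, emb (signed 5 e π) =
    fun r c => kmul (if ε = 0 then kone else (-1, 0))
      (mmul (mmul (if i = 0 then mone else orthD1Mat) (if j = 0 then mone else orthD2Mat)) (monW w) r c) := by decide +kernel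

theorem signed_block : ∀ a b c d : ZMod 5, a * a + c * c = 1 → b * b + d * d = 1 → a * b + c * d = 0 →
    ∃ e π, (Matrix.of ![![1, 0, 0], ![0, a, b], ![0, c, d]] : Matrix (Fin 3) (Fin 3) (ZMod 5)) = signed 5 e π := by decide +kernel

theorem unit_orbit : ∀ x y z : ZMod 5, x * x + y * y + z * z = 1 →
    ∃ e π, (∀ r, signed 5 e π r 0 = ![x, y, z] r) ∨ (∀ r, (signed 5 e π * orthR₀) r 0 = ![x, y, z] r) := by decide +kernel

theorem unit_weight : ∀ x y z : ZMod 3, x * x + y * y + z * z = 1 → ∃ i : Fin 3, ∀ j, j ≠ i → ![x, y, z] j = 0 := by decide +kernel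

theorem square_class_3 : ∀ d : ZMod 3, d ≠ 0 → ∃ s : ZMod 3, s ≠ 0 ∧ (d * (s * s) = 1 ∨ d * (s * s) = 2) := by decide +kernel

theorem similarity_3 : ∀ μ d : ZMod 3, μ * μ * μ * (d * d) = 1 → ∃ ν : ZMod 3, ν * ν = μ := by decide +kernel

/-- Changes of basis making a diagonal form scalar. -/
def equalT3 : Fin 8 → Fin 3 → Fin 3 → ZMod 3 :=
  ![![![1, 0, 0], ![0, 1, 0], ![0, 0, 1]], ![![1, 1, 0], ![1, 2, 0], ![0, 0, 1]],
    ![![1, 0, 1], ![0, 1, 0], ![1, 0, 2]], ![![1, 0, 0], ![0, 2, 2], ![0, 2, 1]],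
    ![![1, 0, 0], ![0, 1, 1], ![0, 1, 2]], ![![2, 0, 2], ![0, 1, 0], ![2, 0, 1]],
    ![![2, 2, 0], ![2, 1, 0], ![0, 0, 1]], ![![1, 0, 0], ![0, 1, 0], ![0, 0, 1]]]

theorem equalise_3 : ∀ c : Fin 2 × Fin 2 × Fin 2, ∃ k : Fin 8, ∃ a : ZMod 3, a ≠ 0 ∧ (Matrix.of (equalT3 k)).transpose *
    Matrix.diagonal (fun i => ((![c.1, c.2.1, c.2.2] i : Fin 2) : ℕ) + 1 : Fin 3 → ZMod 3) * Matrix.of (equalT3 k) = a • 1 := by decide +kernel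

theorem square_class_5 : ∀ d : ZMod 5, d ≠ 0 → ∃ s : ZMod 5, s ≠ 0 ∧ (d * (s * s) = 1 ∨ d * (s * s) = 2) := by decide +kernel

theorem similarity_5 : ∀ μ d : ZMod 5, μ * μ * μ * (d * d) = 1 → ∃ ν : ZMod 5, ν * ν = μ := by decide +kernel

/-- Changes of basis making a diagonal form scalar. -/
def equalT5 : Fin 8 → Fin 3 → Fin 3 → ZMod 5 :=
  ![![![1, 0, 0], ![0, 1, 0], ![0, 0, 1]], ![![1, 1, 0], ![1, 4, 0], ![0, 0, 1]],
    ![![1, 0, 1], ![0, 1, 0], ![1, 0, 4]], ![![1, 0, 0], ![0, 3, 3], ![0, 3, 2]],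
    ![![1, 0, 0], ![0, 1, 1], ![0, 1, 4]], ![![3, 0, 3], ![0, 1, 0], ![3, 0, 2]],
    ![![3, 3, 0], ![3, 2, 0], ![0, 0, 1]], ![![1, 0, 0], ![0, 1, 0], ![0, 0, 1]]]

theorem equalise_5 : ∀ c : Fin 2 × Fin 2 × Fin 2, ∃ k : Fin 8, ∃ a : ZMod 5, a ≠ 0 ∧ (Matrix.of (equalT5 k)).transpose *
    Matrix.diagonal (fun i => ((![c.1, c.2.1, c.2.2] i : Fin 2) : ℕ) + 1 : Fin 3 → ZMod 5) * Matrix.of (equalT5 k) = a • 1 := by decide +kernel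

end Cfsg.Agent.Aschbacher.SUThree
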