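import Cfsg.Agent.Lib.Aschbacher.SUThree
import Cfsg.Agent.Lib.Aschbacher.SUThreeModelOrth

/-!
`SU₃(q)`, `q ∈ {3, 5}`: the monomial group for `q = 5` is not maximal, and neither is the orthogonal group for
`q = 5`; the orthogonal group for `q = 3` preserves a frame.
-/

set_option autoImplicit false

namespace Cfsg.Agent.Aschbacher.SUThree

open Matrix
open scoped MatrixGroups

variable {F : Type*} [Field F] [Fintype F]

/-- An orthonormal basis adapted to a decomposition. -/
theorem exists_GU_of_decomposition {q : ℕ} (hF : Fintype.card F = q ^ 2)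
    {D : Fin 3 → Submodule F (Fin 3 → F)}
    (hD : Geo.IsNondegenerateMDecomposition (hermForm 3 F q) 1 D) :
    ∃ h ∈ GU 3 F q, ∀ g ∈ Geo.decompositionStabilizer D, ∃ π : Equiv.Perm (Fin 3), ∀ i, ∃ c : F,
      ((h⁻¹ * g * h : GL (Fin 3) F) : Matrix (Fin 3) (Fin 3) F) *ᵥ Pi.single i 1 =
        c • Pi.single (π i) 1 := by
  classical
  obtain ⟨σ, hh, -⟩ := hermForm_herm (n := 3) (by norm_num) hF
  set f := hermForm 3 F q
  have hline : ∀ i, ∃ v : Fin 3 → F, v ∈ D i ∧ f v v = 1 ∧ ∀ w ∈ D i, ∃ c : F, w = c • v := by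
    intro i
    obtain ⟨⟨v, hv⟩, hv0, hspan⟩ := finrank_eq_one_iff'.1 (hD.decomp.finrank_eq i)
    have hv0' : v ≠ 0 := fun h => hv0 (Subtype.ext h)
    have hall : ∀ w ∈ D i, ∃ c : F, w = c • v := fun w hw => by
      obtain ⟨c, hc⟩ := hspan ⟨w, hw⟩
      exact ⟨c, (congrArg Subtype.val hc).symm⟩
    have hne : f v v ≠ 0 := by
      obtain ⟨⟨x, hx, hxv⟩, -⟩ := hD.nondegenerate i v hv hv0'
      obtain ⟨c, rfl⟩ := hall x hx
      intro h0
      exact hxv (by rw [hh.sesq.smul_left, h0, mul_zero])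
    obtain ⟨a, ha⟩ := hh.exists_norm (inv_ne_zero hne) (by
      rw [map_inv₀, ← hh.form.herm])
    have ha0 : a ≠ 0 := fun h => inv_ne_zero hne (by rw [← ha, h, zero_mul])
    refine ⟨a • v, (D i).smul_mem a hv, ?_, fun w hw => ?_⟩
    · rw [hh.sesq.smul_left, hh.sesq.smul_right]
      show a * (σ a * f v v) = 1
      rw [← mul_assoc, ha, inv_mul_cancel₀ hne]
    · obtain ⟨c, rfl⟩ := hall w hw
      exact ⟨c / a, by rw [smul_smul, div_mul_cancel₀ c ha0]⟩
  choose v hv hvv hvs using hline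
  obtain ⟨h, hhG, hcol⟩ := exists_GU_columns hF (v := v) (fun i j => by
    by_cases hij : i = j
    · subst hij; rw [if_pos rfl]; exact hvv i
    · rw [if_neg hij]; exact hD.orthogonal i j hij _ (hv i) _ (hv j))
  refine ⟨h, hhG, fun g hg => ?_⟩
  obtain ⟨π, hπ⟩ := hg
  refine ⟨π, fun i => ?_⟩
  have h1 : (g : Matrix (Fin 3) (Fin 3) F) *ᵥ v i ∈ D (π i) := by
    rw [← hπ i]
    exact Submodule.mem_map.2 ⟨v i, hv i, Matrix.toLin'_apply _ _⟩
  obtain ⟨c, hc⟩ := hvs (π i) _ h1
  refine ⟨c, ?_⟩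
  rw [mulVec_mul, mulVec_mul, hcol, hc, Matrix.mulVec_smul, ← hcol, inv_mulVec]

section Five

variable [CharP F 5] {σ : F ≃+* F} {θ : F}

open Fin.NatCast in
theorem mem_of_model_pow (hm : Model 5 σ θ) {M : Subgroup (GL (Fin 3) F)} {A : Mat 5} (hA : IsSU A)
    (hAM : glOf hm A hA ∈ M) (P : Fin 6 → Mat 5) (h0 : P 0 = mone)
    (hs : ∀ k, mmul (P k) A = P (k + 1)) :
    ∀ i : Fin 6, ∃ g ∈ M, (g : Matrix (Fin 3) (Fin 3) F) = toM θ (P i) := by
  have key : ∀ n : ℕ, ∃ g ∈ M, (g : Matrix (Fin 3) (Fin 3) F) = toM θ (P (n : Fin 6)) := by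
    intro n
    induction n with
    | zero => exact ⟨1, one_mem _, by rw [Nat.cast_zero, h0, toM_mone, Units.val_one]⟩
    | succ n ih =>
      obtain ⟨g, hg, he⟩ := ih
      exact ⟨g * glOf hm A hA, mul_mem hg hAM, by
        rw [Units.val_mul, he, glOf_val, ← toM_mmul hm.sq, hs, Nat.cast_succ]⟩
  intro i
  obtain ⟨g, hg, he⟩ := key i.val
  exact ⟨g, hg, by rw [he, Fin.cast_val_eq_self]⟩

theorem mem_of_monW (hm : Model 5 σ θ) {M : Subgroup (GL (Fin 3) F)}
    (hc : glOf hm monCycMat monCyc_unitary ∈ M) (hs : glOf hm monSwapMat monSwap_unitary ∈ M) (w : Fin 6) :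
    ∃ g ∈ M, (g : Matrix (Fin 3) (Fin 3) F) = toM θ (monW w) := by
  obtain ⟨h0, h1, h2, h3, h4, h5⟩ := monW_eq
  fin_cases w
  · exact ⟨1, one_mem _, by simp only [h0, toM_mone, Units.val_one, Fin.zero_eta]⟩
  · exact ⟨_, hc, by rw [glOf_val]; exact congrArg (toM θ) h1.symm⟩
  · exact ⟨_, mul_mem hc hc, by
      rw [Units.val_mul, glOf_val, ← toM_mmul hm.sq]; exact congrArg (toM θ) h2.symm⟩
  · exact ⟨_, hs, by rw [glOf_val]; exact congrArg (toM θ) h3.symm⟩
  · exact ⟨_, mul_mem hs hc, by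
      rw [Units.val_mul, glOf_val, glOf_val, ← toM_mmul hm.sq]; exact congrArg (toM θ) h4.symm⟩
  · exact ⟨_, mul_mem hs (mul_mem hc hc), by
      rw [Units.val_mul, Units.val_mul, glOf_val, glOf_val, ← toM_mmul hm.sq, ← toM_mmul hm.sq]
      exact congrArg (toM θ) h5.symm⟩

theorem monRootPow_cover : ∀ x : K2 5, kmul x (kconj x) = kone → ∃ k, monRootPow k = x := by
  decide +kernel

theorem perm_cover : ∀ σ : Equiv.Perm (Fin 3), ∃ w, ∀ i, monPerms w i = σ i := by
  intro σ
  obtain ⟨w, hw⟩ := monPerms_cover (σ 0) (σ 1) (σ 2) (σ.injective.ne (by decide))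
    (σ.injective.ne (by decide)) (σ.injective.ne (by decide))
  refine ⟨w, fun i => ?_⟩
  rw [hw]
  fin_cases i <;> rfl

/-- The monomial group is not maximal in `SU₃(5)`. -/
theorem decomposition_five (hF : Fintype.card F = 5 ^ 2) {H : Subgroup (GL (Fin 3) F)}
    (hH : Geo.IsMaximalIn (SUG F 5) H) {D : Fin 3 → Submodule F (Fin 3 → F)}
    (hD : Geo.IsNondegenerateMDecomposition (hermForm 3 F 5) 1 D)
    (hHD : H ≤ Geo.decompositionStabilizer D) : False := by
  classical
  obtain ⟨σ, θ, hm⟩ := exists_model (F := F) (p := 5) (Or.inr rfl) hF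
  obtain ⟨h, hh, hmon⟩ := exists_GU_of_decomposition hF hD
  set M := permutes θ monPts
  have hd1 := glOf_mem_permutes hm monD1_unitary monD1_maps
  have hd2 := glOf_mem_permutes hm monD2_unitary monD2_maps
  have hsw := glOf_mem_permutes hm monSwap_unitary monSwap_maps
  have hcy := glOf_mem_permutes hm monCyc_unitary monCyc_maps
  refine overgroup_false hH hh (pts := monPts) (fun g hg => ?_) (glOf_mem hm _ monS_unitary)
    (glOf_mem_permutes hm monS_unitary monS_maps) (fun hs => ?_) (glOf_mem hm _ monT_unitary)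
    (glOf_not_mem_permutes hm monT_unitary mon_moved)
  · obtain ⟨π, hπ⟩ := hmon g (hHD hg)
    have hg' := conj_mem' hh (hH.1.le hg)
    set g' := h⁻¹ * g * h
    choose c hc using hπ
    have hentry : ∀ r i, (g' : Matrix (Fin 3) (Fin 3) F) r i = if π i = r then c i else 0 := fun r i => by
      have := congrFun (hc i) r
      rw [Matrix.mulVec_single_one] at this
      rw [show (g' : Matrix (Fin 3) (Fin 3) F) r i = _ from this]
      simp [Pi.single_apply, eq_comm]
    have hnorm : ∀ i, c i * σ (c i) = 1 := fun i => by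
      have h1 : (g' : Matrix (Fin 3) (Fin 3) F)ᵀ * (g' : Matrix (Fin 3) (Fin 3) F).map σ = 1 :=
        (mem_GU_iff hm.apply_eq).1 hg'.1
      have h2 := congrFun (congrFun h1 i) i
      rw [Matrix.mul_apply, Finset.sum_eq_single (π i)] at h2
      · simpa [hentry] using h2
      · intro b _ hb
        simp [hentry, hb.symm]
      · simp
    choose x hx using fun i => hm.toF_surjective (c i)
    have hxk : ∀ i, ∃ k, monRootPow k = x i := fun i => monRootPow_cover _ (hm.toF_injective (by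
      rw [toF_kmul hm.sq, hm.toF_kconj, hx, hnorm, toF_kone]))
    choose e he using hxk
    obtain ⟨w, hw⟩ := perm_cover π
    have hmat : (g' : Matrix (Fin 3) (Fin 3) F) = toM θ (monomial w ![e 0, e 1, e 2]) := by
      have hexp : (![e 0, e 1, e 2] : Fin 3 → Fin 6) = e := funext fun i => by fin_cases i <;> rfl
      ext r i
      rw [hentry, hexp]
      simp only [toM, Matrix.of_apply, monomial, hw]
      split_ifs
      · rw [he, hx]
      · rw [toF_kzero]
    have hdet : mdet (monomial w ![e 0, e 1, e 2]) = kone := hm.toF_injective (by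
      rw [← det_toM hm.sq, ← hmat, det_eq_one hg'.2, toF_kone])
    obtain ⟨g1, hg1, e1⟩ := mem_of_model_pow hm (M := M) monD1_unitary hd1 monD1Pow monD1Pow_spec.1
      monD1Pow_spec.2 (monI.getD (monCode w (e 0) (e 1) (e 2)) 0)
    obtain ⟨g2, hg2, e2⟩ := mem_of_model_pow hm (M := M) monD2_unitary hd2 monD2Pow monD2Pow_spec.1
      monD2Pow_spec.2 (monJ.getD (monCode w (e 0) (e 1) (e 2)) 0)
    obtain ⟨g3, hg3, e3⟩ := mem_of_monW hm (M := M) hcy hsw
      (monK.getD (monCode w (e 0) (e 1) (e 2)) 0)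
    have : g' = g1 * g2 * g3 := Units.ext (by
      rw [hmat, monomial_factor _ _ _ _ hdet, toM_mmul hm.sq, toM_mmul hm.sq, Units.val_mul,
        Units.val_mul, e1, e2, e3])
    rw [this]
    exact mul_mem (mul_mem hg1 hg2) hg3
  · obtain ⟨π, hπ⟩ := hmon _ (hHD hs)
    have hcol : ∀ i : Fin 3, toF θ (monSMat 0 i) ≠ 0 → π i = 0 := by
      intro i hi
      obtain ⟨c, hc⟩ := hπ i
      rw [show h⁻¹ * (h * glOf hm monSMat monS_unitary * h⁻¹) * h = glOf hm monSMat monS_unitary by group,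
        glOf_val, Matrix.mulVec_single_one] at hc
      by_contra hne
      have := congrFun hc 0
      simp [toM, Ne.symm hne] at this
      exact hi this
    have h0 := hcol 0 fun h0 => monS_not_monomial.1 (hm.toF_injective (h0.trans toF_kzero.symm))
    have h1 := hcol 1 fun h0 => monS_not_monomial.2 (hm.toF_injective (h0.trans toF_kzero.symm))
    exact absurd (π.injective (h0.trans h1.symm)) (by decide)

end Five

section Orthogonal

variable {p : ℕ} [CharP F p] {σ : F ≃+* F} {θ : F}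

/-- A rational structure of index two with values in the prime field is an orthogonal frame up to scalars. -/
theorem orthogonal_frame (hm : Model p σ θ)
    (hclass : ∀ d : ZMod p, d ≠ 0 → ∃ s : ZMod p, s ≠ 0 ∧ (d * (s * s) = 1 ∨ d * (s * s) = 2))
    (heq : ∀ c : Fin 2 × Fin 2 × Fin 2, ∃ (T : Matrix (Fin 3) (Fin 3) (ZMod p)) (a : ZMod p), a ≠ 0 ∧
      Tᵀ * Matrix.diagonal (fun i => ((![c.1, c.2.1, c.2.2] i : Fin 2) : ℕ) + 1 : Fin 3 → ZMod p) * T = a • 1)
    (hsim : ∀ μ d : ZMod p, μ * μ * μ * (d * d) = 1 → ∃ ν : ZMod p, ν * ν = μ)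
    {F₀ : Subfield F} {P : GL (Fin 3) F} (hcard : Fintype.card F = Nat.card F₀ ^ 2)
    (hP : Geo.IsFormRationalStructure (hermForm 3 F p) F₀ 1 P) :
    ∃ h ∈ GU 3 F p, ∀ g ∈ Geo.subfieldSubgroup F₀ P ⊓ SUG F p,
      ∃ (c : F) (A : Matrix (Fin 3) (Fin 3) (ZMod p)), Aᵀ * A = 1 ∧
        ((h⁻¹ * g * h : GL (Fin 3) F) : Matrix (Fin 3) (Fin 3) F) =
          c • A.map (ZMod.castHom dvd_rfl F) := by
  classical
  haveI := Fact.mk hm.prime
  set c : ZMod p →+* F := ZMod.castHom dvd_rfl F
  have hc : Function.Injective c := c.injective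
  -- the subfield is the prime field
  have hF₀ : ∀ x ∈ F₀, ∃ a, c a = x := by
    have hk : Nat.card F₀ = p := by
      rw [hm.card] at hcard
      exact (Nat.pow_left_injective (by norm_num) hcard).symm
    have hmem : ∀ a, c a ∈ F₀ := fun a => by
      rw [← ZMod.natCast_zmod_val a, map_natCast]; exact natCast_mem F₀ _
    let e : ZMod p → F₀ := fun a => ⟨c a, hmem a⟩
    have he : Function.Bijective e := (Nat.bijective_iff_injective_and_card e).2
      ⟨fun a b h => hc (congrArg Subtype.val h), by rw [Nat.card_zmod, hk]⟩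
    intro x hx
    obtain ⟨a, ha⟩ := he.2 ⟨x, hx⟩
    exact ⟨a, congrArg Subtype.val ha⟩
  have hfix : ∀ {ι : Type} (A : Matrix ι ι (ZMod p)), (A.map c).map σ = A.map c := fun A =>
    Matrix.ext fun i j => hm.fixed (A i j)
  -- the Gram matrix
  have hform : ∀ u v, hermForm 3 F p u v = matForm σ (1 : Matrix (Fin 3) (Fin 3) F) u v := fun u v => by
    simp [hermForm, matForm, dotProduct, hm.apply_eq]
  have hgram : ∀ i j, ∃ a, c a = ((P : Matrix (Fin 3) (Fin 3) F)ᵀ * (P : Matrix (Fin 3) (Fin 3) F).map σ) i j := by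
    intro i j
    refine hF₀ _ ?_
    have hs : ∀ i k : Fin 3, (Pi.single i 1 : Fin 3 → F) k ∈ F₀ := fun i k => by
      by_cases h : k = i
      · subst h; simp [one_mem]
      · simp [h, zero_mem]
    have := hP (Pi.single i 1) (Pi.single j 1) (hs i) (hs j)
    rwa [one_mul, hform, matForm_mulVec, mul_one, matForm_single] at this
  choose G₀ hG₀ using hgram
  set G : Matrix (Fin 3) (Fin 3) (ZMod p) := Matrix.of G₀
  have hG : (P : Matrix (Fin 3) (Fin 3) F)ᵀ * (P : Matrix (Fin 3) (Fin 3) F).map σ = G.map c :=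
    Matrix.ext fun i j => (hG₀ i j).symm
  have hinv : ∀ a, σ (σ a) = a := fun a => by
    rw [hm.apply_eq, hm.apply_eq, ← pow_mul, ← pow_two, ← hm.card, FiniteField.pow_card]
  have hsymm : G.IsSymm := by
    refine Matrix.ext fun i j => hc ?_
    show c (G₀ j i) = c (G₀ i j)
    rw [← hm.fixed (G₀ j i), hG₀, hG₀]
    simp only [Matrix.mul_apply, Matrix.transpose_apply, Matrix.map_apply, map_sum, map_mul, hinv]
    exact Finset.sum_congr rfl fun k _ => mul_comm _ _
  have hdet : G.det ≠ 0 := by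
    intro h0
    have h1 := congrArg Matrix.det hG
    rw [Matrix.det_mul, Matrix.det_transpose,
      show (P : Matrix (Fin 3) (Fin 3) F).map σ = σ.toRingHom.mapMatrix (P : Matrix (Fin 3) (Fin 3) F) from rfl,
      ← RingHom.map_det, show G.map c = c.mapMatrix G from rfl, ← RingHom.map_det, h0, map_zero] at h1
    have hu : (P : Matrix (Fin 3) (Fin 3) F).det ≠ 0 :=
      (Matrix.GeneralLinearGroup.det P).ne_zero
    exact mul_ne_zero hu (by simpa using hu) h1
  -- a diagonalising basis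
  haveI : Invertible (2 : ZMod p) := invertibleOfNonzero fun h => by
    have h' : ((2 : ℕ) : ZMod p) = 0 := by simpa using h
    have := Nat.le_of_dvd two_pos ((CharP.cast_eq_zero_iff (ZMod p) p 2).1 h')
    have := hm.two_lt
    omega
  obtain ⟨T, d, hT, hTd⟩ : ∃ (T : Matrix (Fin 3) (Fin 3) (ZMod p)) (d : Fin 3 → ZMod p),
      T.det ≠ 0 ∧ Tᵀ * G * T = Matrix.diagonal d := by
    have hB : LinearMap.IsSymm (Matrix.toBilin' G) := ⟨fun x y => by
      simp only [Matrix.toBilin'_apply', RingHom.id_apply]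
      rw [Matrix.dotProduct_mulVec, ← Matrix.mulVec_transpose, hsymm.eq, dotProduct_comm]⟩
    obtain ⟨v, hv⟩ := LinearMap.BilinForm.exists_orthogonal_basis hB
    let e : Fin (Module.finrank (ZMod p) (Fin 3 → ZMod p)) ≃ Fin 3 :=
      finCongr (Module.finrank_fin_fun (ZMod p))
    let w := v.reindex e
    refine ⟨Matrix.of fun r i => w i r, fun i => Matrix.toBilin' G (w i) (w i), ?_, ?_⟩
    · have : IsUnit ((Pi.basisFun (ZMod p) (Fin 3)).det w) := (Pi.basisFun (ZMod p) (Fin 3)).isUnit_det w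
      rw [Module.Basis.det_apply] at this
      exact this.ne_zero
    · ext i j
      have hij : ((Matrix.of fun r i => w i r)ᵀ * G * Matrix.of fun r i => w i r) i j =
          Matrix.toBilin' G (w i) (w j) := by
        rw [Matrix.toBilin'_apply', mul_assoc, Matrix.mul_apply]
        simp [dotProduct, Matrix.mulVec, Matrix.mul_apply]
      rw [hij]
      by_cases h : i = j
      · subst h; simp
      · rw [Matrix.diagonal_apply_ne _ h]
        simp only [w, Module.Basis.reindex_apply]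
        exact hv (e.symm.injective.ne h)
  have hd : ∀ i, d i ≠ 0 := by
    have h1 := congrArg Matrix.det hTd
    rw [Matrix.det_mul, Matrix.det_mul, Matrix.det_transpose, Matrix.det_diagonal] at h1
    intro i hi
    rw [Finset.prod_eq_zero (Finset.mem_univ i) hi] at h1
    exact mul_ne_zero (mul_ne_zero hT hdet) hT h1
  have hcl : ∀ i, ∃ s : ZMod p, ∃ ε : Fin 2, d i * (s * s) = (ε : ℕ) + 1 := fun i => by
    obtain ⟨s, -, h | h⟩ := hclass (d i) (hd i)
    · exact ⟨s, 0, by simp [h]⟩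
    · exact ⟨s, 1, by rw [h]; norm_num⟩
  choose s ε hε using hcl
  obtain ⟨E, a, ha, hE⟩ := heq (ε 0, ε 1, ε 2)
  set U := T * Matrix.diagonal s * E
  have hU : Uᵀ * G * U = a • 1 := by
    rw [← hE]
    simp only [U, Matrix.transpose_mul, Matrix.diagonal_transpose]
    rw [show Eᵀ * (Matrix.diagonal s * Tᵀ) * G * (T * Matrix.diagonal s * E) =
      Eᵀ * (Matrix.diagonal s * (Tᵀ * G * T) * Matrix.diagonal s) * E by simp only [mul_assoc], hTd,
      Matrix.diagonal_mul_diagonal, Matrix.diagonal_mul_diagonal]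
    congr
    funext i
    rw [mul_comm (s i), mul_assoc, hε]
    fin_cases i <;> rfl
  have hUdet : U.det ≠ 0 := by
    intro h0
    have h1 := congrArg Matrix.det hU
    rw [Matrix.det_mul, h0, mul_zero, Matrix.det_smul, Matrix.det_one, mul_one] at h1
    exact pow_ne_zero _ ha h1.symm
  obtain ⟨σ', hherm, -⟩ := hermForm_herm (n := 3) (by norm_num) hm.card
  have hσσ : σ' = σ := RingEquiv.ext fun x => by rw [hherm.apply_eq, hm.apply_eq]
  obtain ⟨l, hl⟩ := hherm.exists_norm (x := c a⁻¹) (by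
    rw [map_ne_zero]; exact inv_ne_zero ha) (by rw [hσσ]; exact hm.fixed _)
  rw [hσσ] at hl
  have hmap : ∀ A : Matrix (Fin 3) (Fin 3) (ZMod p), A.map c = c.mapMatrix A := fun _ => rfl
  let M : Matrix (Fin 3) (Fin 3) F := l • ((P : Matrix (Fin 3) (Fin 3) F) * U.map c)
  have hM : Mᵀ * M.map σ = 1 := by
    have h1 : M.map σ = σ l • ((P : Matrix (Fin 3) (Fin 3) F).map σ * U.map c) := by
      show σ.toRingHom.mapMatrix M = _
      rw [← hfix U]
      ext i j
      simp [M, Matrix.mul_apply, Finset.mul_sum, mul_assoc]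
    rw [h1]
    simp only [M, Matrix.transpose_smul, Matrix.smul_mul, Matrix.mul_smul, smul_smul, Matrix.transpose_mul]
    rw [show (U.map c)ᵀ * (P : Matrix (Fin 3) (Fin 3) F)ᵀ * ((P : Matrix (Fin 3) (Fin 3) F).map σ * U.map c) =
      (U.map c)ᵀ * ((P : Matrix (Fin 3) (Fin 3) F)ᵀ * (P : Matrix (Fin 3) (Fin 3) F).map σ) * U.map c by
        simp only [mul_assoc], hG, ← Matrix.transpose_map, hmap, hmap, hmap, ← map_mul, ← map_mul, hU, mul_comm,
      hl]
    ext i j
    by_cases h : i = j <;> simp [h, Matrix.one_apply, ha]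
  have hMdet : IsUnit M.det := by
    have := congrArg Matrix.det hM
    rw [Matrix.det_mul, Matrix.det_transpose, Matrix.det_one] at this
    exact IsUnit.of_mul_eq_one _ this
  let h : GL (Fin 3) F := Matrix.GeneralLinearGroup.mk'' M hMdet
  refine ⟨h, (mem_GU_iff hm.apply_eq).2 hM, fun g hg => ?_⟩
  obtain ⟨hgS, hgI⟩ := hg
  -- the shape of `g`
  obtain ⟨k, A₀, hk⟩ : ∃ (k : F) (A₀ : Matrix (Fin 3) (Fin 3) (ZMod p)),
      (g : Matrix (Fin 3) (Fin 3) F) * P = k • ((P : Matrix (Fin 3) (Fin 3) F) * A₀.map c) := by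
    obtain ⟨z, hz, rfl⟩ := hgS
    haveI : (Geo.scalars (Fin 3) F).Normal := ⟨fun x hx y => by
      rw [← scalar_comm hx y, mul_inv_cancel_right]; exact hx⟩
    obtain ⟨y, hy, x, hx, rfl⟩ := Subgroup.mem_sup_of_normal_right.1 hz
    obtain ⟨Y, rfl⟩ := hy
    obtain ⟨k, hk⟩ := (Geo.mem_scalars_iff x).1 hx
    choose A₀ hA₀ using fun i j => hF₀ _ ((Y : Matrix (Fin 3) (Fin 3) F₀) i j).2
    refine ⟨k, Matrix.of A₀, ?_⟩
    have hY : ((Matrix.GeneralLinearGroup.map (F₀.subtype : F₀ →+* F) Y : GL (Fin 3) F) :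
        Matrix (Fin 3) (Fin 3) F) = (Matrix.of A₀).map c := Matrix.ext fun i j => (hA₀ i j).symm
    rw [show (MulAut.conj P).toMonoidHom (Matrix.GeneralLinearGroup.map (F₀.subtype : F₀ →+* F) Y * x) =
      P * (Matrix.GeneralLinearGroup.map (F₀.subtype : F₀ →+* F) Y * x) * P⁻¹ from rfl]
    rw [← Units.val_mul, inv_mul_cancel_right, Units.val_mul, Units.val_mul, hY, hk]
    simp
  set A₁ := U⁻¹ * A₀ * U
  have hgM : (g : Matrix (Fin 3) (Fin 3) F) * M = k • (M * A₁.map c) := by
    simp only [M, Matrix.mul_smul, Matrix.smul_mul]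
    rw [← mul_assoc, hk, Matrix.smul_mul, mul_assoc, mul_assoc, hmap, hmap, hmap, ← map_mul, ← map_mul,
      show U * A₁ = A₀ * U by
        simp only [A₁, ← mul_assoc]
        rw [Matrix.mul_nonsing_inv _ (Ne.isUnit hUdet), one_mul], smul_comm]
  have hconj : ((h⁻¹ * g * h : GL (Fin 3) F) : Matrix (Fin 3) (Fin 3) F) = k • A₁.map c := by
    rw [mul_assoc, Units.val_mul, Units.val_mul, show (h : Matrix (Fin 3) (Fin 3) F) = M from rfl, hgM,
      Matrix.mul_smul, ← mul_assoc, show M = (h : Matrix (Fin 3) (Fin 3) F) from rfl, ← Units.val_mul,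
      inv_mul_cancel, Units.val_one, one_mul]
  have hg' := conj_mem' ((mem_GU_iff hm.apply_eq).2 hM : h ∈ GU 3 F p) hgI
  have hnorm := (mem_GU_iff hm.apply_eq).1 hg'.1
  have hdet1 := det_eq_one hg'.2
  rw [hconj] at hnorm hdet1
  have h1 : (k • A₁.map c).map σ = σ k • A₁.map c := by
    conv_rhs => rw [← hfix A₁]
    ext i j; simp
  rw [h1, Matrix.transpose_smul, Matrix.smul_mul, Matrix.mul_smul, smul_smul, ← Matrix.transpose_map, hmap,
    hmap, ← map_mul] at hnorm
  rw [Matrix.det_smul, Fintype.card_fin, hmap, ← RingHom.map_det] at hdet1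
  obtain ⟨⟨μ, β⟩, hμ⟩ := hm.toF_surjective (k * σ k)
  have hβ : toF θ (μ, β) = c μ := by
    have h2 : toF θ (kconj (μ, β)) = toF θ (μ, β) := by
      rw [hm.toF_kconj, hμ, map_mul, hinv, mul_comm]
    have h3 : -β = β := congrArg Prod.snd (hm.toF_injective h2)
    have h4 : (2 : ZMod p) * β = 0 := by linear_combination -h3
    have h5 := (mul_eq_zero.1 h4).resolve_left (Invertible.ne_zero 2)
    simp [toF, h5, c]
  rw [hβ] at hμ
  have hμA : μ • (A₁ᵀ * A₁) = 1 := by
    ext i j
    apply hc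
    have := congrFun (congrFun hnorm i) j
    rw [← hμ] at this
    simp only [Matrix.smul_apply, RingHom.mapMatrix_apply, Matrix.map_apply, smul_eq_mul] at this
    rw [Matrix.smul_apply, smul_eq_mul, map_mul, this, Matrix.one_apply, Matrix.one_apply, apply_ite c,
      map_one, map_zero]
  have hμd : μ * μ * μ * (A₁.det * A₁.det) = 1 := hc (by
    have hcd : σ (c A₁.det) = c A₁.det := hm.fixed _
    have h2 := congrArg σ hdet1
    rw [map_mul, map_pow, hcd, map_one] at h2
    simp only [map_mul, map_one, hμ]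
    linear_combination (σ k ^ 3 * c A₁.det) * hdet1 + h2)
  obtain ⟨ν, hν⟩ := hsim μ _ hμd
  have hν0 : ν ≠ 0 := by
    rintro rfl
    rw [mul_zero] at hν
    rw [← hν] at hμd
    simp at hμd
  refine ⟨k * c ν⁻¹, ν • A₁, ?_, ?_⟩
  · rw [Matrix.transpose_smul, Matrix.smul_mul, Matrix.mul_smul, smul_smul, hν, hμA]
  · rw [hconj]
    ext i j
    simp only [Matrix.smul_apply, Matrix.map_apply, smul_eq_mul, map_mul]
    rw [mul_assoc, ← mul_assoc (c ν⁻¹), ← map_mul, inv_mul_cancel₀ hν0, map_one, one_mul]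

/-- In `SU₃(3)` the orthogonal group is monomial. -/
theorem orthogonal_three (hF : Fintype.card F = 3 ^ 2) {H : Subgroup (GL (Fin 3) F)}
    (hH : Geo.IsMaximalIn (SUG F 3) H) {F₀ : Subfield F} {P : GL (Fin 3) F}
    (hcard : Fintype.card F = Nat.card F₀ ^ 2)
    (hP : Geo.IsFormRationalStructure (hermForm 3 F 3) F₀ 1 P)
    (hHS : H = Geo.subfieldSubgroup F₀ P ⊓ SUG F 3) :
    ∃ D : Fin 3 → Submodule F (Fin 3 → F), Geo.IsNondegenerateMDecomposition (hermForm 3 F 3) 1 D ∧
      H = Geo.decompositionStabilizer D ⊓ SUG F 3 := by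
  classical
  haveI : CharP F 3 := by
    obtain ⟨p, k, hp, hpC, hk, hq, -⟩ := exists_frob hF
    have : p ∣ 3 ^ 1 := by rw [pow_one, hq]; exact dvd_pow_self p (by omega)
    rw [(Nat.prime_dvd_prime_iff_eq hp Nat.prime_three).1 (by simpa using this)] at hpC
    exact hpC
  obtain ⟨σ, θ, hm⟩ := exists_model (F := F) (p := 3) (Or.inl rfl) hF
  obtain ⟨h, hh, hform⟩ := orthogonal_frame hm square_class_3
    (fun c => by obtain ⟨k, a, ha, hk⟩ := equalise_3 c; exact ⟨_, a, ha, hk⟩) similarity_3 hcard hP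
  obtain ⟨σ', hherm, -⟩ := hermForm_herm (n := 3) (by norm_num) hF
  let e : (Fin 3 → F) ≃ₗ[F] (Fin 3 → F) :=
    LinearEquiv.ofBijective (Matrix.toLin' (h : Matrix (Fin 3) (Fin 3) F))
      ⟨fun a b hab => mulVec_injective h (by simpa using hab),
        (LinearMap.injective_iff_surjective).1 (fun a b hab => mulVec_injective h (by simpa using hab))⟩
  let b := (Pi.basisFun F (Fin 3)).map e
  have hb : ∀ i, b i = (h : Matrix (Fin 3) (Fin 3) F) *ᵥ Pi.single i 1 := fun i => by
    simp only [b, e, Module.Basis.map_apply, Pi.basisFun_apply]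
    exact Matrix.toLin'_apply _ _
  have hbo : Orthonormal (hermForm 3 F 3) b := fun i j => by
    rw [hb, hb]
    refine (hh _ _).trans ?_
    obtain ⟨-, -, hstd⟩ := hermForm_herm (n := 3) (by norm_num) hF
    simpa using hstd i j
  refine ⟨lines b, hherm.lines_isNondegenerate (by norm_num) hbo, ?_⟩
  have hle : H ≤ Geo.decompositionStabilizer (lines b) ⊓ SUG F 3 := by
    intro g hg
    refine ⟨mem_decompositionStabilizer_lines b ?_, hH.1.le hg⟩
    obtain ⟨c, A, hA, hAg⟩ := hform g (hHS ▸ hg)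
    have hcol : ∀ i, ∃ j, ∀ k, k ≠ j → A k i = 0 := by
      intro i
      have h1 := congrFun (congrFun hA i) i
      rw [Matrix.mul_apply, Fin.sum_univ_three, Matrix.one_apply_eq] at h1
      obtain ⟨j, hj⟩ := unit_weight (A 0 i) (A 1 i) (A 2 i) (by simpa using h1)
      refine ⟨j, fun k hk => ?_⟩
      have := hj k hk
      fin_cases k <;> simpa using this
    choose π hπ using hcol
    have hne : ∀ i, A (π i) i ≠ 0 := fun i h0 => by
      have h1 := congrFun (congrFun hA i) i
      rw [Matrix.mul_apply, Finset.sum_eq_zero, Matrix.one_apply_eq] at h1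
      · exact zero_ne_one h1
      · intro k _
        by_cases hk : k = π i
        · rw [hk, h0, mul_zero]
        · rw [hπ i k hk, mul_zero]
    have hinj : Function.Injective π := by
      intro i j hij
      by_contra hne'
      have h1 := congrFun (congrFun hA i) j
      rw [Matrix.mul_apply, Finset.sum_eq_single (π i), Matrix.one_apply_ne hne', Matrix.transpose_apply,
        mul_eq_zero] at h1
      · rcases h1 with h1 | h1
        · exact hne i h1
        · exact hne j (hij ▸ h1)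
      · intro k _ hk
        rw [Matrix.transpose_apply, hπ i k hk, zero_mul]
      · simp
    refine ⟨Equiv.ofBijective π ⟨hinj, Finite.surjective_of_injective hinj⟩, fun i =>
      ⟨c * ZMod.castHom dvd_rfl F (A (π i) i), ?_⟩⟩
    show (g : Matrix (Fin 3) (Fin 3) F) *ᵥ b i =
      (c * ZMod.castHom dvd_rfl F (A (π i) i)) • b (π i)
    rw [hb, hb, ← Matrix.mulVec_smul,
      show (g : Matrix (Fin 3) (Fin 3) F) *ᵥ ((h : Matrix (Fin 3) (Fin 3) F) *ᵥ Pi.single i 1) =
        (h : Matrix (Fin 3) (Fin 3) F) *ᵥ (((h⁻¹ * g * h : GL (Fin 3) F) : Matrix (Fin 3) (Fin 3) F) *ᵥ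
          Pi.single i 1) by rw [← mulVec_mul, ← mulVec_mul]; simp [mul_assoc], hAg]
    congr 1
    funext k
    by_cases hk : k = π i
    · subst hk; simp
    · simp [hk, hπ i k hk]
  rcases hH.2 _ hle inf_le_right with heq | heq
  · exact heq.symm
  · exfalso
    refine hherm.specialUnitary_not_le_frameStabilizer hbo (by simp) (by norm_num) fun g hg i => ?_
    obtain ⟨π, hπ⟩ := (heq.ge (show g ∈ SUG F 3 from hg)).1
    have h1 : (g : Matrix (Fin 3) (Fin 3) F) *ᵥ b i ∈ lines b (π i) := by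
      rw [← hπ i]
      exact Submodule.mem_map.2 ⟨b i, Submodule.mem_span_singleton_self _, Matrix.toLin'_apply _ _⟩
    obtain ⟨d, hd⟩ := Submodule.mem_span_singleton.1 h1
    exact ⟨π i, d, hd.symm⟩

end Orthogonal

section OrthogonalFive

variable [CharP F 5] {σ : F ≃+* F} {θ : F}

theorem toM_emb (A : Matrix (Fin 3) (Fin 3) (ZMod 5)) :
    toM θ (emb A) = A.map (ZMod.castHom dvd_rfl F) :=
  Matrix.ext fun i j => by simp [toM, emb, toF]

/-- The orthogonal group is not maximal in `SU₃(5)`. -/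
theorem orthogonal_five (hF : Fintype.card F = 5 ^ 2) {H : Subgroup (GL (Fin 3) F)}
    (hH : Geo.IsMaximalIn (SUG F 5) H) {F₀ : Subfield F} {P : GL (Fin 3) F}
    (hcard : Fintype.card F = Nat.card F₀ ^ 2)
    (hP : Geo.IsFormRationalStructure (hermForm 3 F 5) F₀ 1 P)
    (hHS : H = Geo.subfieldSubgroup F₀ P ⊓ SUG F 5) : False := by
  classical
  obtain ⟨σ, θ, hm⟩ := exists_model (F := F) (p := 5) (Or.inr rfl) hF
  obtain ⟨h, hh, hform⟩ := orthogonal_frame hm square_class_5
    (fun c => by obtain ⟨k, a, ha, hk⟩ := equalise_5 c; exact ⟨_, a, ha, hk⟩) similarity_5 hcard hP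
  set M := permutes θ orthPts
  have hd1 : glOf hm orthD1Mat orthD1_unitary ∈ M := glOf_mem_permutes hm orthD1_unitary orthD1_maps
  have hd2 : glOf hm orthD2Mat orthD2_unitary ∈ M := glOf_mem_permutes hm orthD2_unitary orthD2_maps
  have hsw : glOf hm monSwapMat monSwap_unitary ∈ M := by
    have := glOf_mem_permutes (pts := orthPts) hm orthSwap_unitary orthSwap_maps
    convert this using 2
    exact orth_swap_cyc.1.symm
  have hcy : glOf hm monCycMat monCyc_unitary ∈ M := by
    have := glOf_mem_permutes (pts := orthPts) hm orthCyc_unitary orthCyc_maps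
    convert this using 2
    exact orth_swap_cyc.2.symm
  have hR : glOf hm orthRMat orthR_unitary ∈ M := glOf_mem_permutes hm orthR_unitary orthR_maps
  have hsigned : ∀ e π, ∃ (c : F) (g : GL (Fin 3) F), g ∈ M ∧
      (signed 5 e π).map (ZMod.castHom dvd_rfl F) = c • (g : Matrix (Fin 3) (Fin 3) F) := by
    intro e π
    obtain ⟨ε, i, j, w, hw⟩ := signed_factor e π
    obtain ⟨g3, hg3, e3⟩ := mem_of_monW hm hcy hsw w
    let g1 : GL (Fin 3) F := if i = 0 then 1 else glOf hm orthD1Mat orthD1_unitary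
    let g2 : GL (Fin 3) F := if j = 0 then 1 else glOf hm orthD2Mat orthD2_unitary
    have e1 : (g1 : Matrix (Fin 3) (Fin 3) F) = toM θ (if i = 0 then mone else orthD1Mat) := by
      simp only [g1]; split_ifs
      · rw [toM_mone, Units.val_one]
      · rw [glOf_val]
    have e2 : (g2 : Matrix (Fin 3) (Fin 3) F) = toM θ (if j = 0 then mone else orthD2Mat) := by
      simp only [g2]; split_ifs
      · rw [toM_mone, Units.val_one]
      · rw [glOf_val]
    refine ⟨toF θ (if ε = 0 then kone else (-1, 0)), g1 * g2 * g3, mul_mem (mul_mem ?_ ?_) hg3, ?_⟩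
    · simp only [g1]; split_ifs
      · exact one_mem _
      · exact hd1
    · simp only [g2]; split_ifs
      · exact one_mem _
      · exact hd2
    rw [← toM_emb (θ := θ), hw, Units.val_mul, Units.val_mul, e1, e2, e3, ← toM_mmul hm.sq,
      ← toM_mmul hm.sq]
    ext r i
    simp only [toM, Matrix.of_apply, Matrix.smul_apply, smul_eq_mul, toF_kmul hm.sq]
  have horth : ∀ A : Matrix (Fin 3) (Fin 3) (ZMod 5), Aᵀ * A = 1 → ∃ (c : F) (g : GL (Fin 3) F), g ∈ M ∧
      A.map (ZMod.castHom dvd_rfl F) = c • (g : Matrix (Fin 3) (Fin 3) F) := by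
    have hblock : ∀ B : Matrix (Fin 3) (Fin 3) (ZMod 5), Bᵀ * B = 1 → B 0 0 = 1 → B 1 0 = 0 → B 2 0 = 0 →
        ∃ e π, B = signed 5 e π := by
      intro B hB h0 h1 h2
      have hent := fun i j => congrFun (congrFun hB i) j
      have h01 := hent 0 1
      have h02 := hent 0 2
      have h11 := hent 1 1
      have h22 := hent 2 2
      have h12 := hent 1 2
      simp [Matrix.mul_apply, Fin.sum_univ_three, Matrix.one_apply, h0, h1, h2] at h01 h02 h11 h22 h12
      simp only [h01, h02, mul_zero, zero_add] at h11 h22 h12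
      obtain ⟨e, π, he⟩ := signed_block (B 1 1) (B 1 2) (B 2 1) (B 2 2) h11 h22 h12
      refine ⟨e, π, ?_⟩
      rw [← he]
      ext i j
      fin_cases i <;> fin_cases j <;> simp [h0, h1, h2, h01, h02]
    intro A hA
    have hA00 := congrFun (congrFun hA 0) 0
    rw [Matrix.mul_apply, Fin.sum_univ_three, Matrix.one_apply_eq] at hA00
    obtain ⟨e, π, hv⟩ := unit_orbit (A 0 0) (A 1 0) (A 2 0) (by simpa using hA00)
    have hfirst : ∀ Q : Matrix (Fin 3) (Fin 3) (ZMod 5), Qᵀ * Q = 1 →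
        (∀ r, Q r 0 = ![A 0 0, A 1 0, A 2 0] r) → ∃ e π, A = Q * signed 5 e π := by
      intro Q hQ hcol
      have hQ' : Q * Qᵀ = 1 := mul_eq_one_comm.1 hQ
      have hB0 : ∀ r, (Qᵀ * A) r 0 = (1 : Matrix (Fin 3) (Fin 3) (ZMod 5)) r 0 := fun r => by
        rw [← hQ, Matrix.mul_apply, Matrix.mul_apply]
        refine Finset.sum_congr rfl fun k _ => ?_
        rw [hcol]
        fin_cases k <;> rfl
      obtain ⟨e', π', he⟩ := hblock (Qᵀ * A) (by
        rw [Matrix.transpose_mul, Matrix.transpose_transpose, show Aᵀ * Q * (Qᵀ * A) = Aᵀ * (Q * Qᵀ) * A by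
          simp only [mul_assoc], hQ', mul_one, hA]) ((hB0 0).trans rfl) ((hB0 1).trans rfl) ((hB0 2).trans rfl)
      exact ⟨e', π', by rw [← he, ← mul_assoc, hQ', one_mul]⟩
    rcases hv with hv | hv
    · obtain ⟨e', π', rfl⟩ := hfirst _ (signed_orth e π) hv
      obtain ⟨c, g, hg, hge⟩ := hsigned e π
      obtain ⟨c', g', hg', hge'⟩ := hsigned e' π'
      refine ⟨c * c', g * g', mul_mem hg hg', ?_⟩
      rw [Matrix.map_mul, hge, hge', Matrix.smul_mul, Matrix.mul_smul, smul_smul, Units.val_mul]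
    · obtain ⟨e', π', rfl⟩ := hfirst _ (by
        rw [Matrix.transpose_mul, show orthR₀ᵀ * (signed 5 e π)ᵀ * (signed 5 e π * orthR₀) =
          orthR₀ᵀ * ((signed 5 e π)ᵀ * signed 5 e π) * orthR₀ by simp only [mul_assoc], signed_orth e π,
          mul_one, orthR₀_orth]) hv
      obtain ⟨c, g, hg, hge⟩ := hsigned e π
      obtain ⟨c', g', hg', hge'⟩ := hsigned e' π'
      refine ⟨c * c', g * glOf hm orthRMat orthR_unitary * g', mul_mem (mul_mem hg hR) hg', ?_⟩
      rw [Matrix.map_mul, Matrix.map_mul, hge, hge', ← toM_emb (θ := θ) orthR₀, emb_orthR, Matrix.smul_mul,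
        Matrix.smul_mul, Matrix.mul_smul, smul_smul, Units.val_mul, Units.val_mul, glOf_val]
  refine overgroup_false hH hh (pts := orthPts) (fun g hg => ?_) (glOf_mem hm _ orthS_unitary)
    (glOf_mem_permutes hm orthS_unitary orthS_maps) (fun hs => ?_) (glOf_mem hm _ orthT_unitary)
    (glOf_not_mem_permutes hm orthT_unitary orth_moved)
  · obtain ⟨c, A, hA, hAg⟩ := hform g (hHS ▸ hg)
    obtain ⟨c', k, hk, hke⟩ := horth A hA
    exact mem_permutes_of_smul hk (c := c * c') (by rw [hAg, hke, smul_smul])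
  · obtain ⟨c, A, -, hAg⟩ := hform _ (hHS ▸ hs)
    rw [show h⁻¹ * (h * glOf hm orthSMat orthS_unitary * h⁻¹) * h = glOf hm orthSMat orthS_unitary by group,
      glOf_val] at hAg
    refine orth_witness ?_
    have h1 : ∀ i j, toF θ (orthSMat i j) = c * ZMod.castHom dvd_rfl F (A i j) := fun i j => by
      simpa [toM] using congrFun (congrFun hAg i) j
    obtain ⟨⟨μ, β⟩, hμ⟩ := hm.toF_surjective (c * σ c)
    have hinv : ∀ a, σ (σ a) = a := fun a => by
      rw [hm.apply_eq, hm.apply_eq, ← pow_mul, ← pow_two, ← hm.card, FiniteField.pow_card]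
    have hβ : β = 0 := by
      have h2 : toF θ (kconj (μ, β)) = toF θ (μ, β) := by rw [hm.toF_kconj, hμ, map_mul, hinv, mul_comm]
      have h3 : -β = β := congrArg Prod.snd (hm.toF_injective h2)
      have : ∀ β : ZMod 5, -β = β → β = 0 := by decide
      exact this β h3
    have key : ∀ i j k l, (kmul (orthSMat i j) (kconj (orthSMat k l))).2 = 0 := fun i j k l => by
      have h2 : toF θ (kmul (orthSMat i j) (kconj (orthSMat k l))) = toF θ (μ * (A i j * A k l), (0 : ZMod 5)) := by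
        rw [toF_kmul hm.sq, hm.toF_kconj, h1, h1, map_mul, hm.fixed]
        simp only [toF, map_zero, zero_mul, add_zero, map_mul]
        rw [show ZMod.castHom dvd_rfl F μ = c * σ c by rw [← hμ, hβ]; simp [toF]]
        ring
      exact congrArg Prod.snd (hm.toF_injective h2)
    exact key _ _ _ _

end OrthogonalFive

end Cfsg.Agent.Aschbacher.SUThree
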