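import Cfsg.Agent.Lib.Aschbacher.SUThree

/-!
In `SU₃(5)` the normaliser of an extraspecial group of order 27 is not maximal.
-/

set_option autoImplicit false
set_option maxRecDepth 20000

namespace Cfsg.Agent.Aschbacher.SUThree

open Matrix
open scoped MatrixGroups

/-- The linear map of `(ℤ/3)²` with columns `x`, `y`. -/
def lin (x y v : Fin 3 × Fin 3) : Fin 3 × Fin 3 := (v.1 * x.1 + v.2 * y.1, v.1 * x.2 + v.2 * y.2)

/-- A transvection of `(ℤ/3)²`. -/
def unip (k : Fin 3) (v : Fin 3 × Fin 3) : Fin 3 × Fin 3 := (v.1 + k * v.2, v.2)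

/-- The action of the quaternion group modulo the centre. -/
def linQ (q : Fin 8) : Fin 3 × Fin 3 → Fin 3 × Fin 3 := lin (symImD q).2 (symImC q).2

theorem lin_add : ∀ x y v w : Fin 3 × Fin 3,
    lin x y (v.1 + w.1, v.2 + w.2) = ((lin x y v).1 + (lin x y w).1, (lin x y v).2 + (lin x y w).2) := by
  decide +kernel

theorem lin_base : ∀ x y : Fin 3 × Fin 3, lin x y (0, 0) = (0, 0) ∧ lin x y (1, 0) = x ∧ lin x y (0, 1) = y := by
  decide +kernel

theorem lin_factor : ∀ x y : Fin 3 × Fin 3, x.1 * y.2 - x.2 * y.1 = 1 →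
    ∃ q k, ∀ v, lin x y v = unip k (linQ q v) := by decide +kernel

theorem linQ_surjective : ∀ q v, ∃ w, linQ q w = v := by decide +kernel

theorem unip_cube : ∀ k v, unip k (unip k (unip k v)) = v := by decide +kernel

theorem unip_zero : ∀ k, (∀ v, unip k v = v) → k = 0 := by decide +kernel

theorem unip_zero' : ∀ v, unip 0 v = v := by decide +kernel

theorem symR_isSU : ∀ i j k, IsSU (symR i j k) := by decide +kernel

theorem symR_inj : ∀ i j k i' j' k', symR i j k = symR i' j' k' → i = i' ∧ j = j' ∧ k = k' := by decide +kernel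

theorem symR_scalar : ∀ i, ∃ c : K2 5, symR i 0 0 = fun r s => if r = s then c else kzero := by decide +kernel

theorem cube_root_scalar : ∀ x : K2 5, kmul (kmul x x) x = kone →
    ∃ i, symR i 0 0 = fun r s => if r = s then x else kzero := by decide +kernel

theorem heis_inv : ∀ i j k : Fin 3, ∃ i', i + i' + k * (-j) = 0 ∧ j + -j = 0 ∧ k + -k = 0 := by decide +kernel

theorem heis_split : ∀ i v1 v2 w1 : Fin 3, (i - v2 * w1) + 0 + v2 * w1 = i := by decide +kernel

theorem heis_comm : ∀ a1 a2 x1 x2 y1 y2 : Fin 3,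
    a2 + a1 + y2 * x1 = 1 + (a1 + a2 + x2 * y1) + 0 * (x1 + y1) → x1 * y2 - x2 * y1 = 1 := by decide +kernel

theorem heis_inner : ∀ a b : Fin 3, ∃ j k : Fin 3,
    (0 + 0 + k * 1 = a + 0 + 0 * j ∧ j + 1 = 1 + j ∧ k + 0 = 0 + k) ∧
    (0 + 0 + k * 0 = b + 0 + 1 * j ∧ j + 0 = 0 + j ∧ k + 1 = 1 + k) := by decide +kernel

theorem heis_normal : ∀ a b c i v1 v2 : Fin 3, ∃ i', a + i + c * v1 = i' + a + v2 * b ∧
    b + v1 = v1 + b ∧ c + v2 = v2 + c := by decide +kernel

variable {F : Type*} [Field F] [Fintype F] [CharP F 5] {σ : F ≃+* F} {θ : F}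

/-- The elements of the extraspecial group. -/
def heis (hm : Model 5 σ θ) (i j k : Fin 3) : GL (Fin 3) F := glOf hm (symR i j k) (symR_isSU i j k)

theorem heis_val (hm : Model 5 σ θ) (i j k : Fin 3) :
    ((heis hm i j k : GL (Fin 3) F) : Matrix (Fin 3) (Fin 3) F) = toM θ (symR i j k) := rfl

theorem heis_mul (hm : Model 5 σ θ) (i j k i' j' k' : Fin 3) :
    heis hm i j k * heis hm i' j' k' = heis hm (i + i' + k * j') (j + j') (k + k') :=
  Units.ext (by rw [Units.val_mul, heis_val, heis_val, heis_val, ← toM_mmul hm.sq, symR_mul])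

theorem heis_zero (hm : Model 5 σ θ) : heis hm 0 0 0 = 1 :=
  Units.ext (by rw [heis_val, symR_base.1, toM_mone, Units.val_one])

theorem heis_injective (hm : Model 5 σ θ) {i j k i' j' k' : Fin 3} (h : heis hm i j k = heis hm i' j' k') :
    i = i' ∧ j = j' ∧ k = k' :=
  symR_inj _ _ _ _ _ _ (hm.toM_injective (congrArg Units.val h))

theorem heis_central (hm : Model 5 σ θ) (i : Fin 3) : heis hm i 0 0 ∈ Geo.scalars (Fin 3) F := by
  obtain ⟨c, hc⟩ := symR_scalar i
  refine mem_scalars_of_smul_one (c := toF θ c) ?_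
  rw [heis_val, hc]
  ext r s
  by_cases h : r = s <;> simp [toM, h, toF_kzero, Matrix.one_apply]

theorem heis_split_add (hm : Model 5 σ θ) (i : Fin 3) (v w : Fin 3 × Fin 3) :
    heis hm i (v.1 + w.1) (v.2 + w.2) = heis hm (i - v.2 * w.1) v.1 v.2 * heis hm 0 w.1 w.2 := by
  rw [heis_mul, heis_split i v.1 v.2 w.1]

/-- Generators of the extraspecial group generate it. -/
theorem heis_mem (hm : Model 5 σ θ) {M : Subgroup (GL (Fin 3) F)} (hd : heis hm 0 1 0 ∈ M)
    (hc : heis hm 0 0 1 ∈ M) (i j k : Fin 3) : heis hm i j k ∈ M := by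
  have hz : heis hm 1 0 0 ∈ M := by
    have h : heis hm 1 0 0 * (heis hm 0 1 0 * heis hm 0 0 1) = heis hm 0 0 1 * heis hm 0 1 0 := by
      rw [heis_mul, heis_mul, heis_mul]; rfl
    rw [← mul_inv_eq_iff_eq_mul.2 h.symm]
    exact mul_mem (mul_mem hc hd) (inv_mem (mul_mem hd hc))
  have hz' : ∀ i, heis hm i 0 0 ∈ M := by
    intro i
    fin_cases i
    · show heis hm 0 0 0 ∈ M
      rw [heis_zero]; exact one_mem _
    · exact hz
    · show heis hm 2 0 0 ∈ M
      rw [show heis hm 2 0 0 = heis hm 1 0 0 * heis hm 1 0 0 by rw [heis_mul]; rfl]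
      exact mul_mem hz hz
  have hd' : ∀ j, heis hm 0 j 0 ∈ M := by
    intro j
    fin_cases j
    · show heis hm 0 0 0 ∈ M
      rw [heis_zero]; exact one_mem _
    · exact hd
    · show heis hm 0 2 0 ∈ M
      rw [show heis hm 0 2 0 = heis hm 0 1 0 * heis hm 0 1 0 by rw [heis_mul]; rfl]
      exact mul_mem hd hd
  have hc' : ∀ k, heis hm 0 0 k ∈ M := by
    intro k
    fin_cases k
    · show heis hm 0 0 0 ∈ M
      rw [heis_zero]; exact one_mem _
    · exact hc
    · show heis hm 0 0 2 ∈ M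
      rw [show heis hm 0 0 2 = heis hm 0 0 1 * heis hm 0 0 1 by rw [heis_mul]; rfl]
      exact mul_mem hc hc
  have h : heis hm i j k = heis hm i 0 0 * heis hm 0 j 0 * heis hm 0 0 k := by
    rw [heis_mul, heis_mul]; simp
  rw [h]
  exact mul_mem (mul_mem (hz' i) (hd' j)) (hc' k)

/-- The extraspecial group of order 27. -/
def heisGroup (hm : Model 5 σ θ) : Subgroup (GL (Fin 3) F) where
  carrier := {g | ∃ i j k, heis hm i j k = g}
  one_mem' := ⟨0, 0, 0, heis_zero hm⟩
  mul_mem' := by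
    rintro _ _ ⟨i, j, k, rfl⟩ ⟨i', j', k', rfl⟩
    exact ⟨_, _, _, (heis_mul hm _ _ _ _ _ _).symm⟩
  inv_mem' := by
    rintro _ ⟨i, j, k, rfl⟩
    obtain ⟨i', h1, h2, h3⟩ := heis_inv i j k
    exact ⟨i', -j, -k, eq_inv_of_mul_eq_one_right (by rw [heis_mul, h1, h2, h3, heis_zero])⟩

theorem heisGroup_le (hm : Model 5 σ θ) : heisGroup hm ≤ SUG F 5 := by
  rintro _ ⟨i, j, k, rfl⟩
  exact glOf_mem hm _ _

theorem card_heisGroup (hm : Model 5 σ θ) : Nat.card (heisGroup hm) = 27 := by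
  let f : Fin 3 × Fin 3 × Fin 3 → heisGroup hm := fun x => ⟨heis hm x.1 x.2.1 x.2.2, _, _, _, rfl⟩
  have hf : Function.Bijective f := ⟨fun x y h => by
    obtain ⟨h1, h2, h3⟩ := heis_injective hm (congrArg Subtype.val h)
    exact Prod.ext h1 (Prod.ext h2 h3), fun g => by
    obtain ⟨i, j, k, h⟩ := g.2
    exact ⟨(i, j, k), Subtype.ext h⟩⟩
  rw [← Nat.card_congr (Equiv.ofBijective f hf)]
  simp

/-- `g` induces `L` on the extraspecial group modulo its centre. -/
def IsImg (hm : Model 5 σ θ) (g : GL (Fin 3) F) (L : Fin 3 × Fin 3 → Fin 3 × Fin 3) : Prop :=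
  ∀ i v, ∃ i', g * heis hm i v.1 v.2 * g⁻¹ = heis hm i' (L v).1 (L v).2

theorem IsImg.comp {hm : Model 5 σ θ} {g g' : GL (Fin 3) F} {L L' : Fin 3 × Fin 3 → Fin 3 × Fin 3}
    (hg : IsImg hm g L) (hg' : IsImg hm g' L') : IsImg hm (g * g') (L ∘ L') := by
  intro i v
  obtain ⟨i', h'⟩ := hg' i v
  obtain ⟨i'', h''⟩ := hg i' (L' v)
  refine ⟨i'', ?_⟩
  rw [Function.comp_apply, ← h'', ← h']
  group

theorem IsImg.unique {hm : Model 5 σ θ} {g : GL (Fin 3) F} {L L' : Fin 3 × Fin 3 → Fin 3 × Fin 3}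
    (hg : IsImg hm g L) (hg' : IsImg hm g L') (v : Fin 3 × Fin 3) : L v = L' v := by
  obtain ⟨i, h⟩ := hg 0 v
  obtain ⟨i', h'⟩ := hg' 0 v
  obtain ⟨-, h2, h3⟩ := heis_injective hm (h.symm.trans h')
  exact Prod.ext h2 h3

theorem isImg_lin {hm : Model 5 σ θ} {g : GL (Fin 3) F} {a b : Fin 3} {x y : Fin 3 × Fin 3}
    (hd : g * heis hm 0 1 0 * g⁻¹ = heis hm a x.1 x.2) (hc : g * heis hm 0 0 1 * g⁻¹ = heis hm b y.1 y.2) :
    IsImg hm g (lin x y) := by
  obtain ⟨h0, h1, h2⟩ := lin_base x y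
  have hz : ∀ i, g * heis hm i 0 0 * g⁻¹ = heis hm i 0 0 := fun i => by
    rw [← scalar_comm (heis_central hm i) g, mul_inv_cancel_right]
  let S : Set (Fin 3 × Fin 3) := {v | ∀ i, ∃ i', g * heis hm i v.1 v.2 * g⁻¹ = heis hm i' (lin x y v).1 (lin x y v).2}
  have hadd : ∀ v w, v ∈ S → w ∈ S → (v.1 + w.1, v.2 + w.2) ∈ S := by
    intro v w hv hw i
    obtain ⟨iv, hiv⟩ := hv (i - v.2 * w.1)
    obtain ⟨iw, hiw⟩ := hw 0
    refine ⟨iv + iw + (lin x y v).2 * (lin x y w).1, ?_⟩
    rw [lin_add]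
    show g * heis hm i (v.1 + w.1) (v.2 + w.2) * g⁻¹ = _
    rw [heis_split_add, ← heis_mul, ← hiv, ← hiw]
    group
  have hz0 : ((0, 0) : Fin 3 × Fin 3) ∈ S := fun i => ⟨i, by rw [h0]; exact hz i⟩
  have hx : ((1, 0) : Fin 3 × Fin 3) ∈ S := fun i => by
    refine ⟨i + a + 0 * x.1, ?_⟩
    rw [h1, show heis hm i (1 : Fin 3) 0 = heis hm i 0 0 * heis hm 0 1 0 by rw [heis_mul]; simp]
    rw [show g * (heis hm i 0 0 * heis hm 0 1 0) * g⁻¹ = (g * heis hm i 0 0 * g⁻¹) * (g * heis hm 0 1 0 * g⁻¹)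
      by group, hz, hd, heis_mul]
    simp
  have hy : ((0, 1) : Fin 3 × Fin 3) ∈ S := fun i => by
    refine ⟨i + b + 0 * y.1, ?_⟩
    rw [h2, show heis hm i (0 : Fin 3) 1 = heis hm i 0 0 * heis hm 0 0 1 by rw [heis_mul]; simp]
    rw [show g * (heis hm i 0 0 * heis hm 0 0 1) * g⁻¹ = (g * heis hm i 0 0 * g⁻¹) * (g * heis hm 0 0 1 * g⁻¹)
      by group, hz, hc, heis_mul]
    simp
  have hall : ∀ v, v ∈ S := by
    have hj : ∀ j, ((j, 0) : Fin 3 × Fin 3) ∈ S := by
      intro j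
      fin_cases j
      · exact hz0
      · exact hx
      · show ((2 : Fin 3), (0 : Fin 3)) ∈ S
        rw [show ((2 : Fin 3), (0 : Fin 3)) = ((1 : Fin 3) + 1, (0 : Fin 3) + 0) from rfl]
        exact hadd ((1 : Fin 3), 0) ((1 : Fin 3), 0) hx hx
    have hk : ∀ k, ((0, k) : Fin 3 × Fin 3) ∈ S := by
      intro k
      fin_cases k
      · exact hz0
      · exact hy
      · show ((0 : Fin 3), (2 : Fin 3)) ∈ S
        rw [show ((0 : Fin 3), (2 : Fin 3)) = ((0 : Fin 3) + 0, (1 : Fin 3) + 1) from rfl]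
        exact hadd ((0 : Fin 3), 1) ((0 : Fin 3), 1) hy hy
    intro v
    obtain ⟨v1, v2⟩ := v
    have := hadd (v1, 0) (0, v2) (hj v1) (hk v2)
    rw [show ((v1, v2) : Fin 3 × Fin 3) = (v1 + 0, 0 + v2) by rw [Fin.add_zero, Fin.zero_add]]
    exact this
  exact fun i v => hall v i

theorem normalizes_isImg {hm : Model 5 σ θ} {g : GL (Fin 3) F}
    (hg : ∀ x ∈ heisGroup hm, g * x * g⁻¹ ∈ heisGroup hm) :
    ∃ x y : Fin 3 × Fin 3, IsImg hm g (lin x y) ∧ x.1 * y.2 - x.2 * y.1 = 1 := by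
  obtain ⟨a, x1, x2, hd⟩ := hg _ ⟨0, 1, 0, rfl⟩
  obtain ⟨b, y1, y2, hc⟩ := hg _ ⟨0, 0, 1, rfl⟩
  refine ⟨(x1, x2), (y1, y2), isImg_lin hd.symm hc.symm, ?_⟩
  have hz : g * heis hm 1 0 0 * g⁻¹ = heis hm 1 0 0 := by
    rw [← scalar_comm (heis_central hm 1) g, mul_inv_cancel_right]
  have key : heis hm b y1 y2 * heis hm a x1 x2 = heis hm 1 0 0 * (heis hm a x1 x2 * heis hm b y1 y2) := by
    rw [hd, hc, ← hz]
    have : heis hm 0 0 1 * heis hm 0 1 0 = heis hm 1 0 0 * (heis hm 0 1 0 * heis hm 0 0 1) := by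
      rw [heis_mul, heis_mul, heis_mul]; rfl
    calc g * heis hm 0 0 1 * g⁻¹ * (g * heis hm 0 1 0 * g⁻¹)
        = g * (heis hm 0 0 1 * heis hm 0 1 0) * g⁻¹ := by group
      _ = _ := by rw [this]; group
  rw [heis_mul, heis_mul, heis_mul] at key
  exact heis_comm a b x1 x2 y1 y2 (heis_injective hm key).1

theorem heis_isImg (hm : Model 5 σ θ) (a b c : Fin 3) : IsImg hm (heis hm a b c) id := by
  intro i v
  obtain ⟨i', h1, h2, h3⟩ := heis_normal a b c i v.1 v.2
  exact ⟨i', by rw [mul_inv_eq_iff_eq_mul, heis_mul, heis_mul, id, h1, h2, h3]⟩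

/-- The normaliser of the extraspecial group is not maximal in `SU₃(5)`. -/
theorem symplectic_five (hF : Fintype.card F = 5 ^ 2) {H : Subgroup (GL (Fin 3) F)}
    (hH : Geo.IsMaximalIn (SUG F 5) H) {R : Subgroup (GL (Fin 3) F)} (hRH : R ≤ H)
    (hRcard : Nat.card R = 27) (hRa : AbsIrr R) (hHR : H ≤ Geo.subgroupNormalizer R) : False := by
  classical
  obtain ⟨σ, θ, hm⟩ := exists_model (F := F) (p := 5) (Or.inr rfl) hF
  have hcard : Nat.card (SUG F 5) = 378000 :=
    Nat.eq_of_mul_eq_mul_left (by norm_num) ((card_SUG (F := F) hF).trans (by norm_num))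
  haveI : Fact (Nat.Prime 3) := ⟨Nat.prime_three⟩
  -- conjugate the model group to `R`
  obtain ⟨h, hhI, hconj⟩ : ∃ h ∈ SUG F 5, ∀ x, x ∈ heisGroup hm ↔ h * x * h⁻¹ ∈ R := by
    have hfac : (Nat.card (SUG F 5)).factorization 3 = 3 := by
      rw [hcard, show (378000 : ℕ) = 3 ^ 3 * 14000 by norm_num,
        Nat.factorization_mul (by norm_num) (by norm_num), Finsupp.add_apply,
        Nat.Prime.factorization_pow (by norm_num), Finsupp.single_eq_same,
        Nat.factorization_eq_zero_of_not_dvd (by norm_num)]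
    have mk : ∀ L : Subgroup (GL (Fin 3) F), L ≤ SUG F 5 → Nat.card L = 27 →
        Nat.card (L.subgroupOf (SUG F 5)) = 3 ^ (Nat.card (SUG F 5)).factorization 3 := fun L hL hc => by
      rw [hfac, Nat.card_congr (Subgroup.subgroupOfEquivOfLe hL).toEquiv, hc]; rfl
    let P : Sylow 3 (SUG F 5) := Sylow.ofCard ((heisGroup hm).subgroupOf (SUG F 5))
      (mk _ (heisGroup_le hm) (card_heisGroup hm))
    let P' : Sylow 3 (SUG F 5) := Sylow.ofCard (R.subgroupOf (SUG F 5))
      (mk _ (hRH.trans hH.1.le) hRcard)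
    obtain ⟨g, hg⟩ := MulAction.exists_smul_eq (SUG F 5) P P'
    refine ⟨g, g.2, ?_⟩
    have key : ∀ x : SUG F 5, (x : GL (Fin 3) F) ∈ heisGroup hm ↔
        ((g * x * g⁻¹ : SUG F 5) : GL (Fin 3) F) ∈ R := by
      intro x
      have h1 : g * x * g⁻¹ ∈ ((g • P : Sylow 3 (SUG F 5)) : Subgroup (SUG F 5)) ↔
          (x : GL (Fin 3) F) ∈ heisGroup hm := by
        rw [Sylow.coe_subgroup_smul, Subgroup.mem_pointwise_smul_iff_inv_smul_mem]
        simp [P, MulAut.smul_def, mul_assoc, Subgroup.mem_subgroupOf]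
      rw [← h1, hg]
      exact Iff.rfl
    intro x
    constructor
    · intro hx
      exact (key ⟨x, heisGroup_le hm hx⟩).1 hx
    · intro hx
      have hxI : x ∈ SUG F 5 := by
        have := conj_mem' g.2.1 (hH.1.le (hRH hx))
        simpa [mul_assoc] using this
      exact (key ⟨x, hxI⟩).2 hx
  set P := permutes θ symPts ⊓ SUG F 5
  have hmem : ∀ {A : Mat 5} (hA : IsSU A) {π : Fin 36 → Fin 36} {mult : Fin 36 → K2 5},
      (∀ a, mvec A (symPts a) = fun i => kmul (mult a) (symPts (π a) i)) → glOf hm A hA ∈ P :=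
    fun hA _ _ hmaps => ⟨glOf_mem_permutes hm hA hmaps, glOf_mem hm _ _⟩
  have hd : heis hm 0 1 0 ∈ P := by
    have := hmem symD_unitary symD_maps
    convert this using 1
    exact Units.ext (by rw [heis_val, glOf_val, symR_base.2.1])
  have hc : heis hm 0 0 1 ∈ P := by
    have := hmem symC_unitary symC_maps
    convert this using 1
    exact Units.ext (by rw [heis_val, glOf_val, symR_base.2.2])
  have hheis : heisGroup hm ≤ P := by
    rintro _ ⟨i, j, k, rfl⟩
    exact heis_mem hm hd hc i j k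
  -- the quaternion elements
  have hQ : ∀ q, ∃ g ∈ P, (g : Matrix (Fin 3) (Fin 3) F) = toM θ (symQ q) ∧ IsImg hm g (linQ q) := by
    have hmul : ∀ {A B : Mat 5}, (∃ g ∈ P, (g : Matrix (Fin 3) (Fin 3) F) = toM θ A) →
        (∃ g ∈ P, (g : Matrix (Fin 3) (Fin 3) F) = toM θ B) →
        ∃ g ∈ P, (g : Matrix (Fin 3) (Fin 3) F) = toM θ (mmul A B) := by
      rintro A B ⟨g, hg, eg⟩ ⟨k, hk, ek⟩
      exact ⟨g * k, mul_mem hg hk, by rw [Units.val_mul, eg, ek, toM_mmul hm.sq]⟩
    have ha : ∃ g ∈ P, (g : Matrix (Fin 3) (Fin 3) F) = toM θ symAMat :=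
      ⟨_, hmem symA_unitary symA_maps, glOf_val _ _ _⟩
    have hb : ∃ g ∈ P, (g : Matrix (Fin 3) (Fin 3) F) = toM θ symBMat :=
      ⟨_, hmem symB_unitary symB_maps, glOf_val _ _ _⟩
    intro q
    obtain ⟨g, hg, eg⟩ : ∃ g ∈ P, (g : Matrix (Fin 3) (Fin 3) F) = toM θ (symQ q) := by
      fin_cases q
      · exact ⟨1, one_mem _, by rw [Units.val_one]; exact toM_mone.symm⟩
      · exact ha
      · exact hb
      · exact hmul ha ha
      · exact hmul ha hb
      · exact hmul hb ha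
      · exact hmul (hmul ha ha) ha
      · exact hmul (hmul ha ha) hb
    obtain ⟨hqd, hqc⟩ := symQ_conj q
    refine ⟨g, hg, eg, isImg_lin (a := (symImD q).1) (b := (symImC q).1) ?_ ?_⟩
    · rw [mul_inv_eq_iff_eq_mul]
      exact Units.ext (by rw [Units.val_mul, Units.val_mul, eg, heis_val, heis_val, symR_base.2.1,
        ← toM_mmul hm.sq, ← toM_mmul hm.sq, hqd])
    · rw [mul_inv_eq_iff_eq_mul]
      exact Units.ext (by rw [Units.val_mul, Units.val_mul, eg, heis_val, heis_val, symR_base.2.2,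
        ← toM_mmul hm.sq, ← toM_mmul hm.sq, hqc])
  -- elements centralising modulo the centre lie in the group
  have hkernel : ∀ g ∈ SUG F 5, IsImg hm g id → g ∈ heisGroup hm := by
    intro g hg himg
    obtain ⟨a, ha⟩ := himg 0 (1, 0)
    obtain ⟨b, hb⟩ := himg 0 (0, 1)
    simp only [id] at ha hb
    obtain ⟨j, k, ⟨e1, e2, e3⟩, e4, e5, e6⟩ := heis_inner a b
    set u := heis hm 0 j k with hu
    have hud : u * heis hm 0 1 0 * u⁻¹ = heis hm a 1 0 := by
      rw [mul_inv_eq_iff_eq_mul, hu, heis_mul, heis_mul, e1, e2, e3]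
    have huc : u * heis hm 0 0 1 * u⁻¹ = heis hm b 0 1 := by
      rw [mul_inv_eq_iff_eq_mul, hu, heis_mul, heis_mul, e4, e5, e6]
    set w := u⁻¹ * g with hw
    have hcomm : ∀ {x y : GL (Fin 3) F}, g * x * g⁻¹ = y → u * x * u⁻¹ = y → w * x = x * w := by
      intro x y h1 h2
      rw [← h2, mul_inv_eq_iff_eq_mul] at h1
      rw [hw, mul_assoc, h1]; group
    have hcentral : w ∈ Geo.scalars (Fin 3) F := by
      have hall : ∀ x ∈ heisGroup hm, w * x = x * w := by
        rintro _ ⟨i', j', k', rfl⟩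
        have h1 := heis_mem hm (M := Subgroup.centralizer {w})
          (Subgroup.mem_centralizer_singleton_iff.2 (hcomm ha hud).symm)
          (Subgroup.mem_centralizer_singleton_iff.2 (hcomm hb huc).symm) i' j' k'
        exact (Subgroup.mem_centralizer_singleton_iff.1 h1).symm
      have h2 : h * w * h⁻¹ ∈ Geo.scalars (Fin 3) F := hRa.scalar_of_comm fun x hx => by
        have h3 := hall (h⁻¹ * x * h) ((hconj _).2 (by simpa [mul_assoc] using hx))
        calc h * w * h⁻¹ * x = h * (w * (h⁻¹ * x * h)) * h⁻¹ := by group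
          _ = x * (h * w * h⁻¹) := by rw [h3]; group
      have h4 := scalar_comm h2 h
      rw [inv_mul_cancel_right] at h4
      have h5 : w = h * w * h⁻¹ := mul_left_cancel (h4.trans rfl)
      rwa [← h5] at h2
    have hwI : w ∈ SUG F 5 := mul_mem (inv_mem (heisGroup_le hm ⟨_, _, _, rfl⟩)) hg
    obtain ⟨l, hl⟩ := (Geo.mem_scalars_iff w).1 hcentral
    obtain ⟨x, hx⟩ := hm.toF_surjective (l : F)
    have hl3 : kmul (kmul x x) x = kone := hm.toF_injective (by
      have hd := det_eq_one hwI.2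
      rw [hl, Matrix.det_smul, Matrix.det_one, mul_one, Fintype.card_fin] at hd
      rw [toF_kmul hm.sq, toF_kmul hm.sq, hx, toF_kone, ← hd]; ring)
    obtain ⟨i, hi⟩ := cube_root_scalar x hl3
    have hwz : w = heis hm i 0 0 := Units.ext (by
      rw [heis_val, hi, hl, ← hx]
      ext r s
      by_cases hrs : r = s <;> simp [toM, hrs, toF_kzero, Matrix.one_apply])
    rw [show g = u * w by rw [hw, mul_inv_cancel_left], hwz]
    exact mul_mem ⟨_, _, _, rfl⟩ ⟨_, _, _, rfl⟩
  have hnorm : ∀ g ∈ H, ∀ x ∈ heisGroup hm, (h⁻¹ * g * h) * x * (h⁻¹ * g * h)⁻¹ ∈ heisGroup hm := by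
    intro g hg x hx
    rw [hconj]
    have := (Subgroup.mem_normalizer_iff.1 (hHR hg) _).1 ((hconj x).1 hx)
    convert this using 1
    group
  refine overgroup_false hH hhI.1 (pts := symPts) (fun g hg => ?_) (glOf_mem hm _ symS_unitary)
    (glOf_mem_permutes hm symS_unitary symS_maps) (fun hs => ?_) (glOf_mem hm _ symT_unitary)
    (glOf_not_mem_permutes hm symT_unitary sym_moved)
  · have hg' := conj_mem' hhI.1 (hH.1.le hg)
    have hg'n := hnorm g hg
    set g' := h⁻¹ * g * h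
    obtain ⟨x, y, himg, hdet⟩ := normalizes_isImg hg'n
    obtain ⟨q, k, hqk⟩ := lin_factor x y hdet
    obtain ⟨e, he, -, heimg⟩ := hQ q
    set u := g' * e⁻¹ with hu
    have huI : u ∈ SUG F 5 := mul_mem hg' (inv_mem he.2)
    -- `u` acts as a transvection
    have huimg : IsImg hm u (unip k) := by
      intro i v
      obtain ⟨w, hw⟩ := linQ_surjective q v
      obtain ⟨a, ha⟩ := himg 0 w
      obtain ⟨b, hb⟩ := heimg 0 w
      rw [hw] at hb
      rw [hqk w, hw] at ha
      refine ⟨i - b + a, ?_⟩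
      have hsplit : heis hm i v.1 v.2 = heis hm (i - b) 0 0 * heis hm b v.1 v.2 := by
        rw [heis_mul]; simp
      have h1 : u * heis hm b v.1 v.2 * u⁻¹ = heis hm a (unip k v).1 (unip k v).2 := by
        rw [← hb, ← ha, hu]; group
      have h2 : u * heis hm (i - b) 0 0 * u⁻¹ = heis hm (i - b) 0 0 := by
        rw [← scalar_comm (heis_central hm _) u, mul_inv_cancel_right]
      rw [hsplit, show u * (heis hm (i - b) 0 0 * heis hm b v.1 v.2) * u⁻¹ =
        (u * heis hm (i - b) 0 0 * u⁻¹) * (u * heis hm b v.1 v.2 * u⁻¹) by group, h1, h2, heis_mul]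
      simp
    have hk0 : k = 0 := by
      have hu3 : u ^ 3 ∈ heisGroup hm := by
        refine hkernel _ (pow_mem huI 3) ?_
        intro i v
        obtain ⟨i', hi'⟩ := (huimg.comp (huimg.comp huimg)) i v
        refine ⟨i', ?_⟩
        rw [show u ^ 3 = u * (u * u) by rw [pow_succ, pow_succ, pow_one, mul_assoc]]
        simp only [Function.comp_apply, unip_cube] at hi'
        exact hi'
      have hp : IsPGroup 3 (heisGroup hm) :=
        IsPGroup.of_card (n := 3) (by rw [card_heisGroup]; norm_num)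
      have hpu : IsPGroup 3 (Subgroup.zpowers u) := by
        have h81 : orderOf u ∣ 3 ^ 4 := orderOf_dvd_of_pow_eq_one (by
          have h27 : (⟨u ^ 3, hu3⟩ : heisGroup hm) ^ 27 = 1 := by
            rw [← card_heisGroup hm]; exact pow_card_eq_one'
          have := congrArg Subtype.val h27
          simpa [← pow_mul] using this)
        obtain ⟨n, -, hn⟩ := (Nat.dvd_prime_pow Nat.prime_three).1 h81
        exact IsPGroup.of_card (n := n) (by rw [Nat.card_zpowers, hn])
      have hsub : Subgroup.zpowers u ≤ Subgroup.normalizer (heisGroup hm : Set (GL (Fin 3) F)) := by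
        rw [Subgroup.zpowers_le, Subgroup.mem_normalizer_iff]
        have hfwd : ∀ x ∈ heisGroup hm, u * x * u⁻¹ ∈ heisGroup hm := by
          rintro _ ⟨i, j, l, rfl⟩
          obtain ⟨i', hi'⟩ := huimg i (j, l)
          exact ⟨_, _, _, hi'.symm⟩
        refine fun x => ⟨hfwd x, fun hx => ?_⟩
        obtain ⟨i, j, l, hijl⟩ := hx
        have huu : u ^ 2 * (u * x * u⁻¹) * (u ^ 2)⁻¹ ∈ heisGroup hm := by
          have := hfwd _ (hfwd _ ⟨i, j, l, hijl⟩)
          convert this using 1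
          simp [pow_succ, mul_assoc]
        have hid : u ^ 3 * x * (u ^ 3)⁻¹ ∈ heisGroup hm := by
          convert huu using 1
          simp [pow_succ, mul_assoc]
        have := mul_mem (mul_mem (inv_mem hu3) hid) hu3
        convert this using 1
        group
      have hsup := hp.to_sup_of_normal_left' hpu hsub
      obtain ⟨n, hn⟩ := IsPGroup.iff_card.1 hsup
      have hle : heisGroup hm ⊔ Subgroup.zpowers u ≤ SUG F 5 :=
        sup_le (heisGroup_le hm) (Subgroup.zpowers_le.2 huI)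
      have hdvd := Subgroup.card_dvd_of_le hle
      rw [hn, hcard] at hdvd
      have hn3 : n ≤ 3 := by
        by_contra hn4
        have : 3 ^ 4 ∣ 378000 := (pow_dvd_pow 3 (by omega)).trans hdvd
        norm_num at this
      have heq := Subgroup.eq_of_le_of_card_ge (le_sup_left : heisGroup hm ≤ heisGroup hm ⊔ Subgroup.zpowers u)
        (by rw [hn, card_heisGroup]; exact (Nat.pow_le_pow_right (by norm_num) hn3).trans (by norm_num))
      have hu' : u ∈ heisGroup hm :=
        heq ▸ (le_sup_right (a := heisGroup hm)) (Subgroup.mem_zpowers u)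
      obtain ⟨a, b, c, habc⟩ := hu'
      exact unip_zero k fun v => huimg.unique (habc ▸ heis_isImg hm a b c) v
    subst hk0
    have huR : u ∈ heisGroup hm := hkernel u huI fun i v => by
      obtain ⟨i', hi'⟩ := huimg i v
      exact ⟨i', by rwa [unip_zero'] at hi'⟩
    have := mul_mem (hheis huR).1 he.1
    rwa [hu, inv_mul_cancel_right] at this
  · obtain ⟨i, j, k, hijk⟩ := hnorm _ hs _ ⟨0, 1, 0, rfl⟩
    rw [show h⁻¹ * (h * glOf hm symSMat symS_unitary * h⁻¹) * h = glOf hm symSMat symS_unitary by group,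
      eq_mul_inv_iff_mul_eq] at hijk
    have h1 := congrArg Units.val hijk
    rw [Units.val_mul, Units.val_mul, glOf_val, heis_val, heis_val, symR_base.2.1, ← toM_mmul hm.sq,
      ← toM_mmul hm.sq] at h1
    exact sym_witness i j k (hm.toM_injective h1).symm

end Cfsg.Agent.Aschbacher.SUThree
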