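import Cfsg.Agent.Lib.Aschbacher.LinearStructure
import Cfsg.Agent.Lib.Aschbacher.NonContainment

/-!
Small fields: frames for `q ≤ 4`, decompositions into planes and tensor factors of dimension two for `q = 2`
give other structures.
-/

set_option autoImplicit false

namespace Cfsg.Agent.Aschbacher

open Matrix
open scoped MatrixGroups Kronecker

variable {n : ℕ} {F : Type*} [Field F] [Fintype F]

omit [Fintype F] in
/-- A basis spanning the members of a decomposition into lines. -/
theorem exists_basis_of_lines {t : ℕ} {D : Fin t → Submodule F (Fin n → F)}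
    (hD : Geo.IsMDecomposition 1 D) {H : Subgroup (GL (Fin n) F)}
    (hle : H ≤ Geo.decompositionStabilizer D) :
    ∃ b : Module.Basis (Fin n) F (Fin n → F), ∀ g ∈ H, ∃ σ : Equiv.Perm (Fin n), ∀ i,
      ∃ c : F, (g : Matrix (Fin n) (Fin n) F) *ᵥ b i = c • b (σ i) := by
  obtain rfl : n = t := by simpa using card_eq_of_isMDecomposition hD
  choose w hw hw0 using fun i => (Submodule.ne_bot_iff (D i)).1 fun h => by
    have h1 := hD.finrank_eq i
    rw [h, finrank_bot] at h1
    exact zero_ne_one h1
  have hspan : ∀ i, D i = Submodule.span F {w i} := fun i =>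
    (Submodule.eq_of_le_of_finrank_le (Submodule.span_le.2 (by simpa using hw i))
      (by rw [hD.finrank_eq, finrank_span_singleton (hw0 i)])).symm
  have hli : LinearIndependent F w := iSupIndep.linearIndependent D hD.indep hw hw0
  have hsp : ⊤ ≤ Submodule.span F (Set.range w) := by
    rw [← hD.iSup_eq_top, Submodule.span_range_eq_iSup]
    exact iSup_mono fun i => (hspan i).le
  refine ⟨Module.Basis.mk hli hsp, fun g hg => ?_⟩
  obtain ⟨σ, hσ⟩ := hle hg
  refine ⟨σ, fun i => ?_⟩
  have h1 : (g : Matrix (Fin n) (Fin n) F) *ᵥ w i ∈ D (σ i) := by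
    rw [← hσ i]
    exact Submodule.mem_map.2 ⟨w i, hw i, Matrix.toLin'_apply _ _⟩
  rw [hspan] at h1
  obtain ⟨c, hc⟩ := Submodule.mem_span_singleton.1 h1
  exact ⟨c, by simp [hc]⟩

/-- Frames over fields with at most four elements. -/
theorem lines_small (hn : 2 ≤ n) (hq : Fintype.card F ≤ 4) {t : ℕ} {D : Fin t → Submodule F (Fin n → F)}
    (hD : Geo.IsMDecomposition 1 D) {H : Subgroup (GL (Fin n) F)}
    (hle : H ≤ Geo.decompositionStabilizer D) :
    (∃ W : Submodule F (Fin n → F), W ≠ ⊥ ∧ W ≠ ⊤ ∧ H ≤ Geo.subspaceStabilizer W) ∨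
    (∃ Q, Odd (Fintype.card F) ∧ Geo.IsNondegenerateQuadraticForm Q ∧ H ≤ Geo.quadSimilarityGroup Q) ∨
    (∃ σ f, Geo.IsUnitaryForm σ f ∧ H ≤ Geo.similarityGroup f) := by
  classical
  obtain ⟨b, hb⟩ := exists_basis_of_lines hD hle
  have h2q : 1 < Fintype.card F := Fintype.one_lt_card
  obtain ⟨p, hpC⟩ := CharP.exists F
  have := hpC
  obtain ⟨e, hpp, hcard⟩ := FiniteField.card F p
  have : Fact p.Prime := ⟨hpp⟩
  rcases (show Fintype.card F = 2 ∨ Fintype.card F = 3 ∨ Fintype.card F = 4 by omega) with hq2 | hq3 | hq4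
  · -- the sum of the basis is fixed
    refine Or.inl ⟨Submodule.span F {∑ i, b i}, fun h => ?_, fun h => ?_, fun g hg => ?_⟩
    · rw [Submodule.span_singleton_eq_bot] at h
      have h1 := congrArg (fun u => b.repr u ⟨0, by omega⟩) h
      simp [Finsupp.single_apply] at h1
    · have h1 := congrArg (fun W : Submodule F (Fin n → F) => Module.finrank F W) h
      simp only [finrank_top, Module.finrank_fintype_fun_eq_card, Fintype.card_fin] at h1
      have h3 := finrank_span_le_card (R := F) ({∑ i, b i} : Set (Fin n → F))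
      simp at h3
      omega
    · refine mem_subspaceStabilizer fun w hw => ?_
      obtain ⟨c, rfl⟩ := Submodule.mem_span_singleton.1 hw
      obtain ⟨σ, hσ⟩ := hb g hg
      choose a ha using hσ
      have hone : ∀ i, a i = 1 := fun i => by
        have h1 := FiniteField.pow_card_sub_one_eq_one (a i) (frame_coeff_ne_zero b (ha i))
        rw [hq2] at h1
        simpa using h1
      refine Submodule.mem_span_singleton.2 ⟨c, ?_⟩
      rw [Matrix.mulVec_smul, Matrix.mulVec_sum]
      congr 1
      conv_lhs => rw [← Equiv.sum_comp σ]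
      exact Finset.sum_congr rfl fun i _ => by rw [ha, hone, one_smul]
  · have hodd : Odd (Fintype.card F) := by rw [hq3]; decide
    refine Or.inr (Or.inl ⟨fun v => basisForm b (RingHom.id F) v v, hodd,
      basisQuad_spec b (two_ne_zero_of_odd hodd), fun g hg => ?_⟩)
    obtain ⟨π, hπ⟩ := hb g hg
    choose c hc using hπ
    refine ⟨1, fun v => ?_⟩
    rw [Units.val_one, one_mul]
    exact basisForm_preserved b _ hc (fun i => by
      have h1 := FiniteField.pow_card_sub_one_eq_one (c i) (frame_coeff_ne_zero b (hc i))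
      rw [hq3] at h1
      simpa [pow_two] using h1) v v
  · have hp2 : p = 2 := by
      have hdvd : p ∣ 2 ^ 2 := by
        rw [show (2 : ℕ) ^ 2 = 4 from rfl, ← hq4, hcard]
        exact dvd_pow_self _ e.pos.ne'
      exact (Nat.prime_dvd_prime_iff_eq hpp Nat.prime_two).1 (hpp.dvd_of_dvd_pow hdvd)
    subst hp2
    have hne : frob (F := F) 2 1 ≠ RingEquiv.refl F := by
      intro h
      obtain ⟨a, ha⟩ := exists_pow_ne_self (F := F) 2 (d := 1) one_pos (by omega)
      exact ha (by simpa [frob_apply] using RingEquiv.congr_fun h a)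
    refine Or.inr (Or.inr ⟨frob 2 1, _,
      basisForm_isUnitary b (frob 2 1) hne (frob_involutive 2 (by rw [hq4]; rfl)), fun g hg => ?_⟩)
    obtain ⟨π, hπ⟩ := hb g hg
    choose c hc using hπ
    refine ⟨1, fun u v => ?_⟩
    rw [Units.val_one, one_mul]
    refine basisForm_preserved b _ hc (fun i => ?_) u v
    have h1 := FiniteField.pow_card_sub_one_eq_one (c i) (frame_coeff_ne_zero b (hc i))
    rw [hq4] at h1
    show c i * frob 2 1 (c i) = 1
    rw [frob_apply, ← pow_succ']
    exact h1

theorem eq_zero_or_one_of_card_two (hq : Fintype.card F = 2) (a : F) : a = 0 ∨ a = 1 := by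
  rcases eq_or_ne a 0 with h | h
  · exact Or.inl h
  · have h1 := FiniteField.pow_card_sub_one_eq_one a h
    rw [hq] at h1
    exact Or.inr (by simpa using h1)

theorem two_eq_zero_of_card_two (hq : Fintype.card F = 2) : (2 : F) = 0 := by
  by_contra h
  have := odd_card_of_two_ne_zero h
  rw [hq] at this
  exact absurd this (by decide)

/-- Decompositions into planes over `F_2` carry a symplectic form. -/
theorem planes_two (hq : Fintype.card F = 2) {t : ℕ} {D : Fin t → Submodule F (Fin n → F)}
    (hD : Geo.IsMDecomposition 2 D) {H : Subgroup (GL (Fin n) F)}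
    (hle : H ≤ Geo.decompositionStabilizer D) :
    ∃ f, Geo.IsSymplecticForm f ∧ H ≤ Geo.similarityGroup f := by
  classical
  have h2 := two_eq_zero_of_card_two hq
  have hI : DirectSum.IsInternal D :=
    DirectSum.isInternal_submodule_of_iSupIndep_of_iSup_eq_top hD.indep hD.iSup_eq_top
  let bD : ∀ i, Module.Basis (Fin 2) F (D i) := fun i =>
    (Module.finBasis F (D i)).reindex (finCongr (hD.finrank_eq i))
  let b : Module.Basis (Fin t × Fin 2) F (Fin n → F) :=
    (hI.collectedBasis bD).reindex (Equiv.sigmaEquivProd _ _)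
  have hbmem : ∀ p, b p ∈ D p.1 := fun p => by
    simp only [b, Module.Basis.reindex_apply]
    exact hI.collectedBasis_mem bD ((Equiv.sigmaEquivProd (Fin t) (Fin 2)).symm p)
  have hspan : ∀ i, ∀ u ∈ D i, ∃ a c : F, u = a • b (i, 0) + c • b (i, 1) := by
    intro i u hu
    refine ⟨(bD i).repr ⟨u, hu⟩ 0, (bD i).repr ⟨u, hu⟩ 1, ?_⟩
    have h1 := congrArg Subtype.val ((bD i).sum_repr ⟨u, hu⟩)
    rw [Fin.sum_univ_two] at h1
    have hb : ∀ c, b (i, c) = (bD i c : Fin n → F) := fun c => by
      simp [b, DirectSum.IsInternal.collectedBasis_coe]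
      rfl
    rw [hb, hb]
    simpa using h1.symm
  let r : Fin t × Fin 2 → (Fin n → F) → F := fun p u => b.repr u p
  let f : (Fin n → F) → (Fin n → F) → F := fun u v =>
    ∑ i, (r (i, 0) u * r (i, 1) v + r (i, 1) u * r (i, 0) v)
  have hbil : Geo.IsBilinearForm f := by
    refine ⟨fun x y v => ?_, fun c x v => ?_, fun v x y => ?_, fun c v x => ?_⟩
    · simp only [f, r, map_add, Finsupp.add_apply, ← Finset.sum_add_distrib]
      exact Finset.sum_congr rfl fun i _ => by ring
    · simp only [f, r, map_smul, Finsupp.smul_apply, smul_eq_mul, Finset.mul_sum]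
      exact Finset.sum_congr rfl fun i _ => by ring
    · simp only [f, r, map_add, Finsupp.add_apply, ← Finset.sum_add_distrib]
      exact Finset.sum_congr rfl fun i _ => by ring
    · simp only [f, r, map_smul, Finsupp.smul_apply, smul_eq_mul, Finset.mul_sum]
      exact Finset.sum_congr rfl fun i _ => by ring
  have hsymm : ∀ u v, f u v = f v u := fun u v => Finset.sum_congr rfl fun i _ => by ring
  have hfb : ∀ i a j c, f (b (i, a)) (b (j, c)) = if i = j ∧ a ≠ c then 1 else 0 := by
    intro i a j c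
    simp only [f, r, Module.Basis.repr_self]
    rw [Finset.sum_eq_single i (fun k _ hk => by simp [Finsupp.single_apply, Ne.symm hk])
      (fun h => absurd (Finset.mem_univ i) h)]
    by_cases hij : i = j
    · subst hij
      fin_cases a <;> fin_cases c <;> simp
    · simp [Finsupp.single_apply, hij]
  have hsymp : Geo.IsSymplecticForm f := by
    refine ⟨hbil, fun v w => ?_, fun v => ?_, fun v hv => ?_⟩
    · rw [hsymm v w]
      linear_combination (f w v) * h2
    · exact Finset.sum_eq_zero fun i _ => by linear_combination (r (i, 0) v * r (i, 1) v) * h2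
    · obtain ⟨⟨i, a⟩, hia⟩ : ∃ p, b.repr v p ≠ 0 := by
        by_contra hc
        push Not at hc
        exact hv (b.repr.injective (Finsupp.ext fun p => by simpa using hc p))
      have key : f v (b (i, a + 1)) = b.repr v (i, a) := by
        simp only [f, r, Module.Basis.repr_self]
        rw [Finset.sum_eq_single i (fun k _ hk => by simp [Ne.symm hk])
          (fun h => absurd (Finset.mem_univ i) h)]
        fin_cases a <;> simp
      exact ⟨⟨b (i, a + 1), by rw [hsymm, key]; exact hia⟩, ⟨b (i, a + 1), by rw [key]; exact hia⟩⟩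
  refine ⟨f, hsymp, fun g hg => ⟨1, ?_⟩⟩
  obtain ⟨σ, hσ⟩ := hle hg
  let G : (Fin n → F) →ₗ[F] (Fin n → F) := Matrix.toLin' (g : Matrix (Fin n) (Fin n) F)
  have hGD : ∀ i, ∀ u ∈ D i, G u ∈ D (σ i) := fun i u hu => by
    rw [← hσ i]; exact Submodule.mem_map_of_mem hu
  have hcross : ∀ i j, i ≠ j → ∀ u ∈ D i, ∀ v ∈ D j, f u v = 0 := by
    intro i j hij u hu v hv
    obtain ⟨a, c, rfl⟩ := hspan i u hu
    obtain ⟨a', c', rfl⟩ := hspan j v hv
    simp [hbil.add_left, hbil.smul_left, hbil.add_right, hbil.smul_right, hfb, hij]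
  have hin : ∀ i, ∀ u ∈ D i, ∀ v ∈ D i, u ≠ 0 → v ≠ 0 → u ≠ v → f u v = 1 := by
    intro i u hu v hv hu0 hv0 huv
    obtain ⟨a, c, rfl⟩ := hspan i u hu
    obtain ⟨a', c', rfl⟩ := hspan i v hv
    have hval : f (a • b (i, 0) + c • b (i, 1)) (a' • b (i, 0) + c' • b (i, 1)) = a * c' + c * a' := by
      simp only [hbil.add_left, hbil.smul_left, hbil.add_right, hbil.smul_right, hfb]
      simp
    rw [hval]
    rcases eq_zero_or_one_of_card_two hq a with rfl | rfl <;>
      rcases eq_zero_or_one_of_card_two hq c with rfl | rfl <;>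
      rcases eq_zero_or_one_of_card_two hq a' with rfl | rfl <;>
      rcases eq_zero_or_one_of_card_two hq c' with rfl | rfl <;>
      first
      | exact absurd rfl huv
      | (simp at hu0; done)
      | (simp at hv0; done)
      | (simp; done)
  have hbasis : ∀ p p', f (G (b p)) (G (b p')) = f (b p) (b p') := by
    rintro ⟨i, a⟩ ⟨j, c⟩
    rw [hfb]
    by_cases hij : i = j
    · subst hij
      by_cases hac : a = c
      · subst hac
        rw [if_neg (by simp), hsymp.alternating]
      · rw [if_pos ⟨rfl, hac⟩]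
        have hne : ∀ p, G (b p) ≠ 0 := fun p h =>
          b.ne_zero p ((mulVec_eq_zero_iff g).1 (by simpa [G] using h))
        refine hin (σ i) _ (hGD i _ (hbmem (i, a))) _ (hGD i _ (hbmem (i, c))) (hne _) (hne _) fun h => hac ?_
        exact congrArg Prod.snd (b.injective (mulVec_injective g (by simpa [G] using h)))
    · rw [if_neg (fun h => hij h.1)]
      exact hcross (σ i) (σ j) (fun h => hij (σ.injective h)) _ (hGD i _ (hbmem (i, a))) _ (hGD j _ (hbmem (j, c)))
  let B : (Fin n → F) →ₗ[F] (Fin n → F) →ₗ[F] F :=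
    LinearMap.mk₂ F f hbil.add_left hbil.smul_left hbil.add_right hbil.smul_right
  have h1 : B.compl₁₂ G G = B := b.ext fun p => b.ext fun p' => hbasis p p'
  intro u v
  rw [Units.val_one, one_mul]
  exact LinearMap.congr_fun₂ h1 u v

/-- A tensor factor of dimension two over `F_2` gives a field of degree two. -/
theorem tensor_two (hq : Fintype.card F = 2) {k : ℕ} [NeZero k] (e : Fin n ≃ Fin 2 × Fin k)
    (P : GL (Fin n) F) :
    ∃ K : Subalgebra F (Matrix (Fin n) (Fin n) F), Geo.IsFieldSubalgebra 2 K ∧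
      Geo.tensorProductSubgroup 2 k e P ≤ Geo.subalgebraNormalizer K := by
  classical
  have h2 := two_eq_zero_of_card_two hq
  let w : Matrix (Fin 2) (Fin 2) F := !![0, 1; 1, 1]
  have hww : w * w = w + 1 := by
    ext i j
    fin_cases i <;> fin_cases j <;> simp [w, Matrix.mul_apply, Fin.sum_univ_two]
  have hconj : ∀ A : Matrix (Fin 2) (Fin 2) F, A.det ≠ 0 → A * w = w * A ∨ A * w = (w + 1) * A := by
    intro A hA
    rw [Matrix.det_fin_two] at hA
    have hent : ∀ i j, A i j = 0 ∨ A i j = 1 := fun i j => eq_zero_or_one_of_card_two hq _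
    have hAe : A = !![A 0 0, A 0 1; A 1 0, A 1 1] := Matrix.eta_fin_two A
    have h3 : (1 : F) + 1 = 0 := by rw [← h2]; norm_num
    rcases hent 0 0 with h00 | h00 <;> rcases hent 0 1 with h01 | h01 <;> rcases hent 1 0 with h10 | h10 <;>
      rcases hent 1 1 with h11 | h11 <;> rw [h00, h01, h10, h11] at hA hAe <;>
      first
      | (simp at hA; done)
      | (left; rw [hAe]; done)
      | (left; rw [hAe]; ext i j; fin_cases i <;> fin_cases j <;>
          simp [w, Matrix.mul_apply, Fin.sum_univ_two, h3]; done)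
      | (right; rw [hAe]; ext i j; fin_cases i <;> fin_cases j <;>
          simp [w, Matrix.mul_apply, Fin.sum_univ_two, h3]; done)
  set X : Matrix (Fin n) (Fin n) F := coordEquiv e P (kronOne 2 k w) with hX
  have hXX : X * X = X + 1 := by
    rw [hX, ← map_mul, ← map_mul, hww, map_add, map_one, map_add, map_one]
  let S : Submodule F (Matrix (Fin n) (Fin n) F) := Submodule.span F {1, X}
  have hmulS : ∀ a b, a ∈ S → b ∈ S → a * b ∈ S := by
    intro a b ha hb
    obtain ⟨a1, a2, rfl⟩ := Submodule.mem_span_pair.1 ha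
    obtain ⟨b1, b2, rfl⟩ := Submodule.mem_span_pair.1 hb
    refine Submodule.mem_span_pair.2 ⟨a1 * b1 + a2 * b2, a1 * b2 + a2 * b1 + a2 * b2, ?_⟩
    simp only [add_mul, mul_add, smul_mul_assoc, mul_smul_comm, one_mul, mul_one, hXX]
    module
  let K : Subalgebra F (Matrix (Fin n) (Fin n) F) :=
    S.toSubalgebra (Submodule.subset_span (by simp)) hmulS
  have hK : ∀ a, a ∈ K ↔ ∃ x y : F, x • 1 + y • X = a := fun a => Submodule.mem_span_pair
  have hXne : ∀ c : F, X ≠ c • 1 := by
    intro c hc
    rw [hX, ← map_one (coordEquiv e P), ← map_smul] at hc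
    have h1 := congrFun (congrFun ((coordEquiv e P).injective hc) (0, 0)) (1, 0)
    simp [kronOne, w] at h1
  refine ⟨K, ⟨?_, ?_, ?_⟩, ?_⟩
  · intro a ha b hb
    obtain ⟨x, y, rfl⟩ := (hK a).1 ha
    obtain ⟨x', y', rfl⟩ := (hK b).1 hb
    simp only [add_mul, mul_add, smul_mul_assoc, mul_smul_comm, one_mul, mul_one]
    module
  · intro a ha hne
    obtain ⟨x, y, rfl⟩ := (hK a).1 ha
    have h3 : X * X + X = 1 := by
      rw [hXX, add_right_comm, ← two_smul F X, h2, zero_smul, zero_add]
    rcases eq_zero_or_one_of_card_two hq x with rfl | rfl <;>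
      rcases eq_zero_or_one_of_card_two hq y with rfl | rfl
    · simp at hne
    · refine ⟨X + 1, (hK _).2 ⟨1, 1, by simp [add_comm]⟩, ?_⟩
      simp [mul_add, h3]
    · exact ⟨1, K.one_mem, by simp⟩
    · refine ⟨X, (hK _).2 ⟨0, 1, by simp⟩, ?_⟩
      simp [add_mul, add_comm X (X * X), h3]
  · show Module.finrank F S = 2
    have hli : LinearIndependent F ![(1 : Matrix (Fin n) (Fin n) F), X] := by
      rw [LinearIndependent.pair_iff]
      intro s t' hst
      rcases eq_or_ne t' 0 with rfl | ht
      · refine ⟨?_, rfl⟩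
        rw [zero_smul, add_zero] at hst
        have h1 := congrFun (congrFun hst (e.symm (0, 0))) (e.symm (0, 0))
        simpa using h1
      · exact absurd (show X = (-(t'⁻¹ * s)) • 1 by
          rw [neg_smul, eq_neg_iff_add_eq_zero, mul_smul, ← inv_smul_smul₀ ht X, ← smul_add,
            add_comm, hst, smul_zero]) (hXne _)
    have h4 := finrank_span_eq_card hli
    rw [Matrix.range_cons_cons_empty, Fintype.card_fin] at h4
    exact h4
  · rintro _ ⟨_, ⟨g, ⟨a, b, hab⟩, rfl⟩, rfl⟩
    refine mem_subalgebraNormalizer fun κ hκ => ?_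
    obtain ⟨x, y, rfl⟩ := (hK κ).1 hκ
    rw [show (MulAut.conj P).toMonoidHom ((Geo.glReindex e.symm).toMonoidHom g) = coordGL e P g from
      (coordGL_eq e P g).symm]
    have hinv : ((g⁻¹ : GL (Fin 2 × Fin k) F) : Matrix (Fin 2 × Fin k) (Fin 2 × Fin k) F) =
        ((a⁻¹ : GL (Fin 2) F) : Matrix (Fin 2) (Fin 2) F) ⊗ₖ
          ((b⁻¹ : GL (Fin k) F) : Matrix (Fin k) (Fin k) F) := by
      refine Units.inv_eq_of_mul_eq_one_right ?_
      rw [hab, ← Matrix.mul_kronecker_mul, Units.mul_inv, Units.mul_inv, Matrix.one_kronecker_one]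
    have hgX : (coordGL e P g).val * X * ((coordGL e P g)⁻¹).val =
        coordEquiv e P (kronOne 2 k ((a : Matrix (Fin 2) (Fin 2) F) * w *
          ((a⁻¹ : GL (Fin 2) F) : Matrix (Fin 2) (Fin 2) F))) := by
      rw [← map_inv, coordGL_val, coordGL_val, hX, ← map_mul, ← map_mul]
      congr 1
      show _ * (w ⊗ₖ (1 : Matrix (Fin k) (Fin k) F)) * _ = _ ⊗ₖ (1 : Matrix (Fin k) (Fin k) F)
      rw [hab, hinv, ← Matrix.mul_kronecker_mul, ← Matrix.mul_kronecker_mul, mul_one, Units.mul_inv]
    have hmem : (coordGL e P g).val * X * ((coordGL e P g)⁻¹).val ∈ K := by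
      rw [hgX]
      rcases hconj a (Matrix.GeneralLinearGroup.det a).ne_zero with h | h <;>
        rw [h, mul_assoc, Units.mul_inv, mul_one]
      · exact (hK _).2 ⟨0, 1, by simp [hX]⟩
      · exact (hK _).2 ⟨1, 1, by rw [map_add, map_one, map_add, map_one, ← hX]; simp [add_comm]⟩
    rw [mul_add, add_mul, mul_smul_comm, mul_smul_comm, smul_mul_assoc, smul_mul_assoc, mul_one,
      Units.mul_inv]
    exact K.add_mem (K.smul_mem K.one_mem x) (K.smul_mem hmem y)

end Cfsg.Agent.Aschbacher
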