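import Cfsg.Agent.Lib.Aschbacher.UnitaryBasic

/-!
`SU` lies in no subfield group and normalises no symplectic type group; a group fixing a Hermitian and a
bilinear form is realised over the fixed field.
-/

set_option autoImplicit false

namespace Cfsg.Agent.Aschbacher

open Matrix
open scoped MatrixGroups

variable {ι : Type} [Fintype ι] [DecidableEq ι] {F : Type*} [Field F] [Fintype F]
  {q : ℕ} {σ : F ≃+* F} {f : (ι → F) → (ι → F) → F}

/-- The fixed field of `σ`. -/
def fixedField (σ : F ≃+* F) : Subfield F :=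
  RingHom.eqLocusField σ.toRingHom (RingHom.id F)

omit [Fintype F] in
theorem mem_fixedField {x : F} : x ∈ fixedField σ ↔ σ x = x := Iff.rfl

theorem Herm.fixedField_ne_top (h : Herm q σ f) : fixedField σ ≠ ⊤ := by
  intro htop
  obtain ⟨z, hz⟩ := h.exists_ne
  exact hz (mem_fixedField.1 (htop.ge (Subfield.mem_top z)))

/-- An absolutely irreducible group of isometries fixing a non-degenerate bilinear form is realised over the
fixed field of `σ`. -/
theorem Herm.realisable_of_bilinear (h : Herm q σ f)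
    [Nonempty ι] {N : Subgroup (GL ι F)} (hN : AbsIrr N) (hfN : Geo.FixesForm (Geo.matrixSet N) f)
    {B : (ι → F) → (ι → F) → F} (hB : Geo.IsBilinearForm B) (hBnd : Geo.IsNondegenerateForm B)
    (hBN : Geo.FixesForm (Geo.matrixSet N) B) :
    Geo.RealisableOver (fixedField σ) (Geo.matrixSet N) := by
  classical
  let b : Module.Basis ι F (ι → F) := Pi.basisFun F ι
  -- every linear functional is `f · w` for some `w`
  have hsurj : ∀ v, ∃ w, ∀ u, f u w = B u v := by
    intro v
    let Φ : (ι → F) → (ι → F) := fun w i => f (b i) w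
    have hΦ : Function.Injective Φ := by
      intro w w' hw
      by_contra hne
      obtain ⟨u, hu⟩ := (h.form.nondegenerate _ (sub_ne_zero.2 hne)).1
      let φ : (ι → F) →ₗ[F] F :=
        { toFun := fun u => f u (w - w'), map_add' := fun x y => h.sesq.add_left x y _
          map_smul' := fun c x => h.sesq.smul_left c x _ }
      apply hu
      show φ u = 0
      rw [← b.sum_repr u, map_sum]
      refine Finset.sum_eq_zero fun i _ => ?_
      rw [map_smul, show φ (b i) = 0 from ?_, smul_zero]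
      show f (b i) (w - w') = 0
      rw [sub_eq_add_neg, ← neg_one_smul F w', h.sesq.add_right, h.sesq.smul_right, map_neg, map_one,
        show f (b i) w = f (b i) w' from congrFun hw i]
      ring
    obtain ⟨w, hw⟩ := (Finite.injective_iff_surjective.1 hΦ) fun i => B (b i) v
    refine ⟨w, fun u => ?_⟩
    let φ : (ι → F) →ₗ[F] F :=
      { toFun := fun u => f u w, map_add' := fun x y => h.sesq.add_left x y _
        map_smul' := fun c x => h.sesq.smul_left c x _ }
    let ψ : (ι → F) →ₗ[F] F :=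
      { toFun := fun u => B u v, map_add' := fun x y => hB.add_left x y v
        map_smul' := fun c x => hB.smul_left c x v }
    exact LinearMap.congr_fun (show φ = ψ from b.ext fun i => congrFun hw i) u
  choose J hJ' using hsurj
  have hJ : ∀ u v, f u (J v) = B u v := fun u v => hJ' v u
  have hext : ∀ {v w : ι → F}, (∀ u, f u v = f u w) → v = w := by
    intro v w hvw
    by_contra hne
    obtain ⟨u, hu⟩ := (h.form.nondegenerate _ (sub_ne_zero.2 hne)).1
    exact hu (by
      rw [sub_eq_add_neg, ← neg_one_smul F w, h.sesq.add_right, h.sesq.smul_right, map_neg, map_one,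
        hvw u]
      ring)
  have hJadd : ∀ v w, J (v + w) = J v + J w := fun v w =>
    hext fun u => by rw [hJ, h.sesq.add_right, hJ, hJ, hB.add_right]
  have hJsmul : ∀ (c : F) v, J (c • v) = σ c • J v := fun c v => hext fun u => by
    rw [hJ, h.sesq.smul_right, hJ, hB.smul_right]
    show c * B u v = σ (σ c) * B u v
    rw [h.form.involutive]
  have hJx : ∀ x ∈ N, ∀ v, J ((x : Matrix ι ι F) *ᵥ v) = (x : Matrix ι ι F) *ᵥ J v := by
    intro x hx v
    refine hext fun u => ?_
    obtain ⟨u, rfl⟩ : ∃ w, (x : Matrix ι ι F) *ᵥ w = u := ⟨_, mulVec_inv x u⟩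
    rw [hJ, hBN _ ⟨x, hx, rfl⟩, hfN _ ⟨x, hx, rfl⟩, hJ]
  let L : (ι → F) →ₗ[F] (ι → F) :=
    { toFun := fun v => J (J v)
      map_add' := fun x y => by rw [hJadd, hJadd]
      map_smul' := fun c x => by rw [hJsmul, hJsmul, h.form.involutive, RingHom.id_apply] }
  obtain ⟨l, hl⟩ := hN.2 (LinearMap.toMatrix' L) (by
    rintro s ⟨x, hx, rfl⟩
    refine Matrix.ext_of_mulVec_single fun i => ?_
    simp only [← Matrix.mulVec_mulVec, LinearMap.toMatrix'_mulVec]
    show J (J _) = (x : Matrix ι ι F) *ᵥ J (J _)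
    rw [hJx x hx, hJx x hx])
  have hJJ : ∀ v, J (J v) = l • v := by
    intro v
    have := congrArg (· *ᵥ v) hl
    simpa [Matrix.smul_mulVec, LinearMap.toMatrix'_mulVec, L] using this
  have hJinj : ∀ v, J v = 0 → v = 0 := by
    intro v hv
    by_contra h0
    obtain ⟨u, hu⟩ := (hBnd v h0).1
    exact hu (by rw [← hJ, hv, h.zero_right])
  obtain ⟨i₀⟩ := ‹Nonempty ι›
  have hl0 : l ≠ 0 := by
    rintro rfl
    exact b.ne_zero i₀ (hJinj _ (hJinj _ (by rw [hJJ, zero_smul])))
  have hlσ : σ l = l := by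
    have h1 : σ l • J (b i₀) = l • J (b i₀) := by rw [← hJsmul, ← hJJ, hJJ]
    exact smul_left_injective F (fun h0 => b.ne_zero i₀ (hJinj _ h0)) h1
  obtain ⟨μ, hμ⟩ := h.exists_norm (inv_ne_zero hl0) (by rw [map_inv₀, hlσ])
  let J' : (ι → F) → (ι → F) := fun v => μ • J v
  have hJ'add : ∀ v w, J' (v + w) = J' v + J' w := fun v w => by simp only [J', hJadd, smul_add]
  have hJ'smul : ∀ (c : F) v, J' (c • v) = σ c • J' v := fun c v => by
    show μ • J (c • v) = σ c • μ • J v
    rw [hJsmul]
    exact smul_comm _ _ _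
  have hJ'J' : ∀ v, J' (J' v) = v := fun v => by
    simp only [J', hJsmul, hJJ, smul_smul]
    rw [show μ * (σ μ * l) = 1 by rw [← mul_assoc, hμ, inv_mul_cancel₀ hl0], one_smul]
  let S : Set (ι → F) := {v | J' v = v}
  have hS : Submodule.span F S = ⊤ := by
    refine top_le_iff.1 fun v _ => ?_
    obtain ⟨z, hz⟩ := h.exists_ne
    have h1 : v + J' v ∈ Submodule.span F S := Submodule.subset_span (by
      show J' (v + J' v) = v + J' v
      rw [hJ'add, hJ'J', add_comm])
    have h2 : z • v + σ z • J' v ∈ Submodule.span F S := Submodule.subset_span (by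
      show J' (z • v + σ z • J' v) = _
      rw [hJ'add, hJ'smul, hJ'smul, hJ'J', h.form.involutive, add_comm])
    have h3 := Submodule.sub_mem _ h2 (Submodule.smul_mem _ (σ z) h1)
    rw [smul_add, add_sub_add_right_eq_sub, ← sub_smul] at h3
    exact (Submodule.smul_mem_iff _ (sub_ne_zero.2 (Ne.symm hz))).1 h3
  obtain ⟨t, htS, hts, hli⟩ := exists_linearIndependent F S
  let bt : Module.Basis t F (ι → F) :=
    Module.Basis.mk hli (by rw [Subtype.range_coe_subtype, Set.ofPred_mem_eq, hts, hS])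
  haveI : Fintype t := FiniteDimensional.fintypeBasisIndex bt
  let e : Module.Basis ι F (ι → F) := bt.reindex (bt.indexEquiv (Pi.basisFun F ι))
  have heS : ∀ i, J' (e i) = e i := fun i => by
    rw [Module.Basis.reindex_apply, Module.Basis.mk_apply]
    exact htS ((bt.indexEquiv (Pi.basisFun F ι)).symm i).2
  refine realisableOver_of_basis e fun x hx i j => mem_fixedField.2 ?_
  set w := (x : Matrix ι ι F) *ᵥ e j with hw
  have hwS : J' w = w := by
    show μ • J w = w
    rw [hw, hJx x hx, ← Matrix.mulVec_smul]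
    exact congrArg _ (heS j)
  let φ : (ι → F) →+ (ι → F) :=
    { toFun := J', map_zero' := by simpa using hJ'smul 0 0, map_add' := hJ'add }
  have h1 : φ w = ∑ k, σ (e.repr w k) • e k := by
    conv_lhs => rw [← e.sum_repr w, map_sum]
    exact Finset.sum_congr rfl fun k _ => by
      show J' _ = _
      rw [hJ'smul, heS]
  have h2 := congrArg (fun u => e.repr u i) (h1.symm.trans hwS)
  simpa [map_sum, Finsupp.single_apply] using h2

omit [Fintype F] in
/-- A unipotent `1 + R` with `R² = 0 ≠ R` proportional to a matrix over `F₀` has all entries in `F₀`. -/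
theorem entries_mem_of_unipotent [Finite F] {F₀ : Subfield F} {T M : Matrix ι ι F} {c : F}
    (hM : ∀ i j, M i j ∈ F₀) (hT : T = c • M) (hc : c ≠ 0) (hsq : (T - 1) * (T - 1) = 0)
    (hne : T - 1 ≠ 0) : ∀ i j, (T - 1) i j ∈ F₀ := by
  classical
  subst hT
  have hMM : M * M = (2 * c⁻¹) • M - (c⁻¹ * c⁻¹) • (1 : Matrix ι ι F) := by
    have h1 : (c * c) • (M * M) - (2 * c) • M + 1 = 0 := by
      rw [← hsq, sub_mul, mul_sub, one_mul, mul_one, smul_mul_assoc, mul_smul_comm, smul_smul, two_mul,
        add_smul]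
      abel
    calc M * M = (c⁻¹ * c⁻¹) • ((c * c) • (M * M)) := by
          rw [smul_smul, show c⁻¹ * c⁻¹ * (c * c) = 1 by field_simp, one_smul]
      _ = (c⁻¹ * c⁻¹) • ((2 * c) • M - 1) := by
          rw [show (c * c) • (M * M) = (2 * c) • M - 1 by linear_combination (norm := abel) h1]
      _ = _ := by
          rw [smul_sub, smul_smul]
          congr 2
          field_simp
  have hMMmem : ∀ i j, (M * M) i j ∈ F₀ := fun i j => by
    rw [Matrix.mul_apply]
    exact sum_mem fun k _ => mul_mem (hM i k) (hM k j)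
  have hent : ∀ i j, (M * M) i j = 2 * c⁻¹ * M i j - c⁻¹ * c⁻¹ * (if i = j then 1 else 0) := by
    intro i j; rw [hMM]; simp [Matrix.one_apply]
  have h2c : 2 * c⁻¹ ∈ F₀ := by
    by_cases hoff : ∃ i j, i ≠ j ∧ M i j ≠ 0
    · obtain ⟨i, j, hij, hne'⟩ := hoff
      have h1 := hent i j
      rw [if_neg hij, mul_zero, sub_zero] at h1
      rw [show 2 * c⁻¹ = (M * M) i j * (M i j)⁻¹ by rw [h1]; field_simp]
      exact mul_mem (hMMmem i j) (inv_mem (hM i j))
    · push Not at hoff
      obtain ⟨i, j, hij⟩ : ∃ i j, M i i ≠ M j j := by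
        by_contra hcon
        push Not at hcon
        apply hne
        rcases isEmpty_or_nonempty ι with hι | ⟨⟨i₀⟩⟩
        · exact Subsingleton.elim _ _
        have hMs : M = M i₀ i₀ • (1 : Matrix ι ι F) := by
          ext i j
          by_cases hij : i = j
          · subst hij; simp [hcon i i₀]
          · simp [hij, hoff i j hij]
        rw [hMs, smul_smul, ← one_smul F (1 : Matrix ι ι F), smul_smul, mul_one, ← sub_smul] at hsq ⊢
        rw [smul_mul_assoc, mul_smul_comm, smul_smul, one_mul, smul_eq_zero] at hsq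
        rcases hsq with h0 | h0
        · rw [mul_self_eq_zero.1 h0, zero_smul]
        · exact absurd (congrFun (congrFun h0 i₀) i₀) (by simp)
      have h1 := hent i i
      have h2 := hent j j
      simp only [if_true] at h1 h2
      rw [show 2 * c⁻¹ = ((M * M) i i - (M * M) j j) * (M i i - M j j)⁻¹ by
        rw [h1, h2]; field_simp [sub_ne_zero.2 hij]; ring]
      exact mul_mem (sub_mem (hMMmem i i) (hMMmem j j)) (inv_mem (sub_mem (hM i i) (hM j j)))
  intro i j
  rw [Matrix.sub_apply, Matrix.smul_apply, smul_eq_mul]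
  refine sub_mem (mul_mem ?_ (hM i j)) (by rw [Matrix.one_apply]; split <;> simp [zero_mem, one_mem])
  by_cases h2 : (2 : F) = 0
  · have hcc : c⁻¹ * c⁻¹ ∈ F₀ := by
      have h1 := hent i i
      rw [if_pos rfl, mul_one, h2, zero_mul, zero_mul, zero_sub] at h1
      rw [eq_neg_iff_add_eq_zero, add_eq_zero_iff_neg_eq] at h1
      exact h1 ▸ neg_mem (hMMmem i i)
    haveI : Fintype F₀ := Fintype.ofFinite _
    haveI : CharP F 2 := CharTwo.of_one_ne_zero_of_two_eq_zero one_ne_zero h2
    haveI : CharP F₀ 2 := charP_of_injective_ringHom (f := F₀.subtype) Subtype.val_injective 2 |>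
      fun _ => ⟨fun x => by
        rw [← CharP.cast_eq_zero_iff F 2 x]
        exact ⟨fun hx => by simpa using congrArg F₀.subtype hx,
          fun hx => Subtype.ext (by simpa using hx)⟩⟩
    obtain ⟨y, hy⟩ := FiniteField.isSquare_of_char_two (F := F₀) (ringChar.eq F₀ 2) ⟨_, hcc⟩
    have hy' : (y : F) * y = c⁻¹ * c⁻¹ := (congrArg Subtype.val hy).symm
    have : c⁻¹ = (y : F) := by
      rcases mul_self_eq_mul_self_iff.1 hy' with h3 | h3
      · exact h3.symm
      · rw [h3, CharTwo.neg_eq]
    rw [← inv_inv c, this]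
    exact inv_mem y.2
  · rw [show c = 2 * (2 * c⁻¹)⁻¹ by field_simp]
    exact mul_mem (ofNat_mem F₀ 2) (inv_mem h2c)

theorem Herm.specialUnitary_not_le_subfieldSubgroup (h : Herm q σ f) {b : Module.Basis ι F (ι → F)}
    (hb : Orthonormal f b) (hι : 3 ≤ Fintype.card ι) {F₀ : Subfield F} {r : ℕ} (hr : r.Prime)
    (hcard : Fintype.card F = Nat.card F₀ ^ r) (P : GL ι F) :
    ¬ unitarySL f ≤ Geo.subfieldSubgroup F₀ P := by
  classical
  intro hle
  obtain ⟨e⟩ : Nonempty (Fin (Fintype.card ι) ≃ ι) := ⟨(Fintype.equivFin ι).symm⟩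
  let i := e ⟨0, by omega⟩
  let j := e ⟨1, by omega⟩
  let k := e ⟨2, by omega⟩
  have hij : i ≠ j := fun h' => by simpa [Fin.ext_iff] using e.injective h'
  have hik : i ≠ k := fun h' => by simpa [Fin.ext_iff] using e.injective h'
  have hjk : j ≠ k := fun h' => by simpa [Fin.ext_iff] using e.injective h'
  obtain ⟨c, hc0, hc⟩ := h.exists_antifixed
  -- `r v d` is the matrix `u ↦ d f(u, v) v`
  have hR : ∀ (v : ι → F), f v v = 0 → v ≠ 0 → ∀ d : F, d + σ d = 0 → d ≠ 0 →
      ∃ R : Matrix ι ι F, (∀ u, R *ᵥ u = (d * f u v) • v) ∧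
        ∀ a b, (((P⁻¹ : GL ι F) : Matrix ι ι F) * R * (P : Matrix ι ι F)) a b ∈ F₀ := by
    intro v hv hv0 d hd hd0
    obtain ⟨g, hg, hgu⟩ := h.exists_transvection hv hd
    obtain ⟨s, hs, hsg⟩ := hle hg
    obtain ⟨g₀', hg₀, z, hz, hgz⟩ := Subgroup.mem_sup_of_normal_right.1 hs
    obtain ⟨g₀, rfl⟩ := hg₀
    obtain ⟨l, hl⟩ := (Geo.mem_scalars_iff z).1 hz
    refine ⟨(g : Matrix ι ι F) - 1, fun u => by
      rw [Matrix.sub_mulVec, hgu, Matrix.one_mulVec, add_sub_cancel_left], ?_⟩
    have hsval : (s : Matrix ι ι F) =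
        ((P⁻¹ : GL ι F) : Matrix ι ι F) * (g : Matrix ι ι F) * (P : Matrix ι ι F) := by
      rw [← hsg]; simp [mul_assoc]
    have hsl : (s : Matrix ι ι F) = (l : F) • (g₀ : Matrix ι ι F₀).map F₀.subtype := by
      rw [← hgz, Units.val_mul, hl, Matrix.mul_smul, mul_one]; rfl
    have hsub : ((P⁻¹ : GL ι F) : Matrix ι ι F) * ((g : Matrix ι ι F) - 1) * (P : Matrix ι ι F) =
        (s : Matrix ι ι F) - 1 := by
      rw [mul_sub, sub_mul, hsval, mul_one, Units.inv_mul]
    rw [hsub]
    refine entries_mem_of_unipotent (fun a b => ((g₀ : Matrix ι ι F₀) a b).2) hsl l.ne_zero ?_ ?_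
    · rw [← hsub]
      have h2 : ((g : Matrix ι ι F) - 1) * ((g : Matrix ι ι F) - 1) = 0 := by
        refine Matrix.ext_of_mulVec_single fun i => ?_
        generalize (Pi.single i (1 : F) : ι → F) = u
        rw [← Matrix.mulVec_mulVec, Matrix.zero_mulVec]
        simp only [Matrix.sub_mulVec, hgu, Matrix.one_mulVec, add_sub_cancel_left, h.sesq.smul_left,
          hv, mul_zero, zero_smul]
      calc _ = ((P⁻¹ : GL ι F) : Matrix ι ι F) * (((g : Matrix ι ι F) - 1) *
            ((P : Matrix ι ι F) * ((P⁻¹ : GL ι F) : Matrix ι ι F)) * ((g : Matrix ι ι F) - 1)) *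
            (P : Matrix ι ι F) := by noncomm_ring
        _ = 0 := by rw [← Units.val_mul, mul_inv_cancel, Units.val_one, mul_one, h2]; simp
    · rw [← hsub]
      intro h0
      obtain ⟨w, hw⟩ := (h.form.nondegenerate v hv0).1
      have h1 : (g : Matrix ι ι F) - 1 = 0 := by
        have := congrArg (fun m => (P : Matrix ι ι F) * m * ((P⁻¹ : GL ι F) : Matrix ι ι F)) h0
        simpa [← mul_assoc, ← Units.val_mul, mul_assoc ((g : Matrix ι ι F) - 1)] using this
      have h2 := congrArg (· *ᵥ w) h1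
      simp only [Matrix.sub_mulVec, hgu, Matrix.one_mulVec, add_sub_cancel_left, Matrix.zero_mulVec,
        smul_eq_zero] at h2
      exact h2.elim (mul_ne_zero hd0 hw) hv0
  obtain ⟨a, ha⟩ := h.exists_norm_neg_one
  have hiso : ∀ i j, i ≠ j → ∀ x, x * σ x = -1 →
      f (isoVec b i j x) (isoVec b i j x) = 0 ∧ isoVec b i j x ≠ 0 := by
    intro i j hij x hx
    refine ⟨h.isoVec_isotropic hb hij hx, fun hv => ?_⟩
    have := congrArg (fun u => b.repr u i) hv
    simp [isoVec, Finsupp.single_apply, hij.symm] at this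
  -- the fixed field lies in `F₀`
  have hfix : ∀ x : F, σ x = x → x ∈ F₀ := by
    intro x hx
    by_cases hx0 : x = 0
    · rw [hx0]; exact zero_mem _
    obtain ⟨R, hRu, hRmem⟩ := hR _ (hiso i j hij a ha).1 (hiso i j hij a ha).2 c hc hc0
    obtain ⟨R', hR'u, hR'mem⟩ := hR _ (hiso i j hij a ha).1 (hiso i j hij a ha).2 (x * c)
      (by rw [map_mul, hx, ← mul_add, hc, mul_zero]) (mul_ne_zero hx0 hc0)
    have hR' : R' = x • R := Matrix.ext_of_mulVec_single fun l => by
      rw [hR'u, Matrix.smul_mulVec, hRu, smul_smul]; ring_nf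
    set T := ((P⁻¹ : GL ι F) : Matrix ι ι F) * R * (P : Matrix ι ι F) with hTdef
    obtain ⟨s, t, hst⟩ : ∃ s t, T s t ≠ 0 := by
      by_contra hcon
      push Not at hcon
      obtain ⟨w, hw⟩ := (h.form.nondegenerate _ (hiso i j hij a ha).2).1
      have hR0 : R = 0 := by
        have h1 : T = 0 := Matrix.ext hcon
        have := congrArg (fun m => (P : Matrix ι ι F) * m * ((P⁻¹ : GL ι F) : Matrix ι ι F)) h1
        simpa [T, ← mul_assoc, ← Units.val_mul, mul_assoc R] using this
      have h2 := hRu w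
      rw [hR0, Matrix.zero_mulVec, eq_comm, smul_eq_zero] at h2
      exact h2.elim (mul_ne_zero hc0 hw) (hiso i j hij a ha).2
    have h1 := hR'mem s t
    rw [hR', Matrix.mul_smul, Matrix.smul_mul, ← hTdef, Matrix.smul_apply, smul_eq_mul] at h1
    rw [show x = x * T s t * (T s t)⁻¹ by field_simp]
    exact mul_mem h1 (inv_mem (hRmem s t))
  -- hence `|F₀| = q`
  have hq := one_lt_q h.card
  haveI : Fintype F₀ := Fintype.ofFinite _
  have hcard0 : q ≤ Fintype.card F₀ := by
    obtain ⟨g, hg⟩ := IsCyclic.exists_ofOrder_eq_natCard (α := Fˣ)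
    rw [Nat.card_units, Nat.card_eq_fintype_card, h.card,
      show q ^ 2 - 1 = (q + 1) * (q - 1) by rw [← Nat.sq_sub_sq, one_pow]] at hg
    have hgf : σ ((g : F) ^ (q + 1)) = (g : F) ^ (q + 1) := by
      rw [h.apply_eq, ← pow_mul, show (q + 1) * q = (q + 1) + (q + 1) * (q - 1) by
        zify [hq.le]; ring, pow_add, ← hg, ← Units.val_pow_eq_pow_val g (orderOf g),
        pow_orderOf_eq_one, Units.val_one, mul_one]
    let u : F₀ˣ := Units.mk0 ⟨_, hfix _ hgf⟩ fun h0 =>
      pow_ne_zero (q + 1) g.ne_zero (congrArg Subtype.val h0)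
    have h1 : g ^ ((q + 1) * orderOf u) = 1 := by
      refine Units.ext ?_
      have := congrArg (fun v : F₀ˣ => ((v : F₀) : F)) (pow_orderOf_eq_one u)
      simp only [Units.val_pow_eq_pow_val, Units.val_one, OneMemClass.coe_one, SubmonoidClass.coe_pow,
        u, Units.val_mk0] at this
      rw [Units.val_pow_eq_pow_val, pow_mul, Units.val_one]
      exact this
    have h2 := Nat.le_of_dvd (orderOf_pos u)
      (Nat.dvd_of_mul_dvd_mul_left (by omega) (hg ▸ orderOf_dvd_of_pow_eq_one h1))
    have h3 := orderOf_le_card_univ (x := u)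
    rw [Fintype.card_units] at h3
    omega
  rw [Nat.card_eq_fintype_card, h.card] at hcard
  have hr2 : r = 2 := by
    by_contra hne
    have h1 := Nat.pow_le_pow_left hcard0 r
    have h3 := Nat.pow_lt_pow_right hq (show 2 < r by have := hr.two_le; omega)
    omega
  subst hr2
  have hF0 : Fintype.card F₀ = q := (Nat.pow_left_injective two_ne_zero hcard).symm
  have hσ0 : ∀ x ∈ F₀, σ x = x := fun x hx => by
    have := congrArg Subtype.val (FiniteField.pow_card (⟨x, hx⟩ : F₀))
    rw [hF0, SubmonoidClass.coe_pow] at this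
    rw [h.apply_eq]
    exact this
  -- the triple product
  obtain ⟨ζ, hζ, -, hζ2⟩ := h.exists_norm_one_gen
  suffices key : ∀ y, y * σ y = -1 → (a * a * σ y) ^ 2 = 1 by
    have h1 := key a ha
    have h2 := key (a * ζ) (by rw [map_mul, mul_mul_mul_comm, ha, hζ, mul_one])
    rw [map_mul, ← mul_assoc, mul_pow, h1, one_mul] at h2
    have h3 : ζ ^ 2 * σ ζ ^ 2 = 1 := by rw [← mul_pow, hζ, one_pow]
    exact hζ2 (by rwa [h2, mul_one] at h3)
  intro y hy
  obtain ⟨v1, hv1⟩ : ∃ v, v = isoVec b i j a := ⟨_, rfl⟩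
  obtain ⟨v2, hv2⟩ : ∃ v, v = isoVec b i k y := ⟨_, rfl⟩
  obtain ⟨v3, hv3⟩ : ∃ v, v = isoVec b j k a := ⟨_, rfl⟩
  obtain ⟨R1, hR1, hR1m⟩ := hR v1 (hv1 ▸ (hiso i j hij a ha).1) (hv1 ▸ (hiso i j hij a ha).2) c hc hc0
  obtain ⟨R2, hR2, hR2m⟩ := hR v2 (hv2 ▸ (hiso i k hik y hy).1) (hv2 ▸ (hiso i k hik y hy).2) c hc hc0
  obtain ⟨R3, hR3, hR3m⟩ := hR v3 (hv3 ▸ (hiso j k hjk a ha).1) (hv3 ▸ (hiso j k hjk a ha).2) c hc hc0
  have htr : Matrix.trace (R1 * R2 * R3) ∈ F₀ := by
    have h1 : Matrix.trace (R1 * R2 * R3) = Matrix.trace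
        ((((P⁻¹ : GL ι F) : Matrix ι ι F) * R1 * (P : Matrix ι ι F)) *
          (((P⁻¹ : GL ι F) : Matrix ι ι F) * R2 * (P : Matrix ι ι F)) *
          (((P⁻¹ : GL ι F) : Matrix ι ι F) * R3 * (P : Matrix ι ι F))) := by
      rw [← Matrix.trace_units_conj' P (R1 * R2 * R3)]
      congr 1
      simp [mul_assoc]
    rw [h1, Matrix.trace]
    refine sum_mem fun l _ => ?_
    rw [Matrix.diag_apply, Matrix.mul_apply]
    refine sum_mem fun m _ => mul_mem ?_ (hR3m _ _)
    rw [Matrix.mul_apply]
    exact sum_mem fun o _ => mul_mem (hR1m _ _) (hR2m _ _)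
  let φ : (ι → F) →ₗ[F] F :=
    { toFun := fun u => c * f u v3
      map_add' := fun x y => by rw [h.sesq.add_left, mul_add]
      map_smul' := fun s x => by rw [h.sesq.smul_left, RingHom.id_apply, smul_eq_mul]; ring }
  obtain ⟨w, hw⟩ := exists_dotProduct_eq φ
  have htr2 : Matrix.trace (R1 * R2 * R3) = (c * c * c) * (a * a * σ y) := by
    have h1 : R1 * R2 * R3 = Matrix.vecMulVec ((c * f v2 v1 * (c * f v3 v2)) • v1) w :=
      Matrix.ext_of_mulVec_single fun l => by
        generalize (Pi.single l (1 : F) : ι → F) = u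
        rw [Matrix.vecMulVec_mulVec, op_smul_eq_smul, ← hw, ← Matrix.mulVec_mulVec, hR3,
          Matrix.mulVec_smul, ← Matrix.mulVec_mulVec, hR2, Matrix.mulVec_smul, hR1]
        simp only [smul_smul, φ, LinearMap.coe_mk, AddHom.coe_mk]
        congr 1
        ring
    rw [h1, Matrix.trace_vecMulVec, dotProduct_comm, ← hw]
    show c * f ((c * f v2 v1 * (c * f v3 v2)) • v1) v3 = _
    rw [h.sesq.smul_left, hv1, hv2, hv3, h.isoVec_form hb, h.isoVec_form hb, h.isoVec_form hb]
    simp only [if_true, hij, hik, hjk, hij.symm, hik.symm, hjk.symm, if_false, mul_zero, mul_one,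
      add_zero, zero_add]
    ring
  have hfixed := hσ0 _ (htr2 ▸ htr)
  have hσc : σ c = -c := eq_neg_of_add_eq_zero_left (by rwa [add_comm])
  rw [map_mul, map_mul, map_mul, hσc] at hfixed
  have hσP : σ (a * a * σ y) = -(a * a * σ y) := by
    refine mul_left_cancel₀ (mul_ne_zero (mul_ne_zero hc0 hc0) hc0) ?_
    linear_combination -hfixed
  have hn : (a * a * σ y) * σ (a * a * σ y) = -1 := by
    simp only [map_mul, h.form.involutive]
    linear_combination (a * σ a * (y * σ y)) * ha - (y * σ y) * ha + hy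
  rw [hσP] at hn
  linear_combination -hn

theorem Herm.not_normalized (h : Herm q σ f) {b : Module.Basis ι F (ι → F)} (hb : Orthonormal f b)
    (hι : 5 ≤ Fintype.card ι) {N : Subgroup (GL ι F)} {ω : F} (hN : SymplecticData N ω) (hNa : AbsIrr N) :
    ¬ unitarySL f ≤ Geo.subgroupNormalizer N := by
  classical
  intro hle
  have hp := hN.symplecticType.prime
  obtain ⟨cc, hcc0, hcc⟩ := h.exists_antifixed
  obtain ⟨a, ha⟩ := h.exists_norm_neg_one
  obtain ⟨i, j, hij⟩ := Fintype.exists_pair_of_one_lt_card hp.one_lt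
  set v := isoVec b i j a with hvdef
  have hv0 : v ≠ 0 := by
    intro hv
    have := congrArg (fun u => b.repr u i) hv
    simp [v, isoVec, Finsupp.single_apply, hij.symm] at this
  have hv : f v v = 0 := h.isoVec_isotropic hb hij ha
  obtain ⟨g, hg, hgu⟩ := h.exists_transvection hv hcc
  obtain ⟨x, hx, hxv⟩ : ∃ x ∈ N, ∀ l : F, (x : Matrix ι ι F) *ᵥ v ≠ l • v := by
    by_contra hcon
    push Not at hcon
    rcases irr_iff.1 hNa.1 (Submodule.span F {v}) (fun x hx w hw => by
      obtain ⟨d, rfl⟩ := Submodule.mem_span_singleton.1 hw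
      obtain ⟨l, hl⟩ := hcon x hx
      rw [Matrix.mulVec_smul, hl]
      exact Submodule.smul_mem _ _ (Submodule.smul_mem _ _ (Submodule.mem_span_singleton_self v)))
      with h0 | h0
    · exact hv0 (by simpa using h0)
    · have := finrank_span_singleton (K := F) hv0
      rw [h0, finrank_top, Module.finrank_fintype_fun_eq_card] at this
      omega
  set c := g * x * g⁻¹ * x⁻¹ with hcdef
  have hcN : c ∈ N := N.mul_mem ((Subgroup.mem_normalizer_iff.1 (hle hg) x).1 hx) (N.inv_mem hx)
  -- `c` fixes a subspace of dimension at least two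
  let φ : (ι → F) →ₗ[F] F :=
    { toFun := fun u => f u v, map_add' := fun x y => h.sesq.add_left x y v
      map_smul' := fun r x => h.sesq.smul_left r x v }
  let L : (ι → F) →ₗ[F] F × F := φ.prod (φ.comp (Matrix.toLin' ((x⁻¹ : GL ι F) : Matrix ι ι F)))
  have hfixc : ∀ u ∈ LinearMap.ker L, (c : Matrix ι ι F) *ᵥ u = u := by
    intro u hu
    have hu' : L u = 0 := hu
    have h1 : f u v = 0 := congrArg Prod.fst hu'
    have h2 : f (((x⁻¹ : GL ι F) : Matrix ι ι F) *ᵥ u) v = 0 := by
      simpa [L, φ] using congrArg Prod.snd hu'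
    have hginv : ∀ w, f w v = 0 → ((g⁻¹ : GL ι F) : Matrix ι ι F) *ᵥ w = w := fun w hw => by
      conv_lhs => rw [show w = (g : Matrix ι ι F) *ᵥ w by rw [hgu, hw, mul_zero, zero_smul, add_zero]]
      exact inv_mulVec g w
    rw [hcdef, mulVec_mul, mulVec_mul, mulVec_mul, hginv _ h2, mulVec_inv, hgu, h1, mul_zero, zero_smul,
      add_zero]
  have hker : 2 ≤ Module.finrank F (LinearMap.ker L) := by
    have h1 := LinearMap.finrank_range_add_finrank_ker L
    have h2 := Submodule.finrank_le (LinearMap.range L)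
    simp [Module.finrank_fintype_fun_eq_card] at h1 h2
    omega
  obtain ⟨u, hu, hu0⟩ := (Submodule.ne_bot_iff (LinearMap.ker L)).1 (fun h0 => by
    rw [h0, finrank_bot] at hker; omega)
  by_cases hcc' : ∀ y ∈ N, c * y = y * c
  · -- then `g` and `x` commute
    obtain ⟨l, hl⟩ := (Geo.mem_scalars_iff c).1 (hNa.scalar_of_comm hcc')
    have h1 := hfixc u hu
    rw [hl, Matrix.smul_mulVec, Matrix.one_mulVec] at h1
    have hl1 : (l : F) = 1 := smul_left_injective F hu0 (by simpa using h1)
    have hgx : g * x = x * g := by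
      have hc1 : c = 1 := Units.ext (by rw [hl, hl1, one_smul, Units.val_one])
      rw [hcdef, mul_inv_eq_one, mul_inv_eq_iff_eq_mul] at hc1
      exact hc1
    obtain ⟨w, hw⟩ := (h.form.nondegenerate v hv0).1
    have h2 := congrArg (fun m : GL ι F => (m : Matrix ι ι F) *ᵥ w) hgx
    simp only [mulVec_mul, hgu, Matrix.mulVec_add, Matrix.mulVec_smul, add_right_inj] at h2
    refine hxv ((cc * f w v)⁻¹ * (cc * f ((x : Matrix ι ι F) *ᵥ w) v)) ?_
    rw [mul_smul, h2, smul_smul, inv_mul_cancel₀ (mul_ne_zero hcc0 hw), one_smul]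
  · push Not at hcc'
    obtain ⟨y, hy, hcy⟩ := hcc'
    obtain ⟨d, hd⟩ := (Geo.mem_scalars_iff _).1 (hN.commutator_mem c hcN y hy)
    have hcy' : (c : Matrix ι ι F) * y = (d : F) • ((y : Matrix ι ι F) * c) := by
      rw [← Units.val_mul, ← Units.val_mul, show c * y = c * y * c⁻¹ * y⁻¹ * (y * c) by group,
        Units.val_mul, hd, smul_mul_assoc, one_mul]
    have hd1 : (d : F) ≠ 1 := fun h1 => hcy (Units.ext (by simpa [h1] using hcy'))
    have hcn : c ^ Fintype.card ι = 1 := by
      have h1 := Monoid.pow_exponent_eq_one (⟨c, hcN⟩ : N)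
      rw [hN.symplecticType.exponent_eq, Nat.coprime_two_left.2 (hp.odd_of_ne_two (by omega)),
        mul_one] at h1
      simpa using congrArg Subtype.val h1
    have hdn : (d : F) ^ Fintype.card ι = 1 := by
      have h1 := commute_pow_mul hcy' (Fintype.card ι)
      rw [← Units.val_pow_eq_pow_val, hcn, Units.val_one, one_mul, mul_one] at h1
      have h2 : ((d : F) ^ Fintype.card ι - 1) • (y : Matrix ι ι F) = 0 := by
        rw [sub_smul, ← h1, one_smul, sub_self]
      haveI : Nonempty ι := Fintype.card_pos_iff.1 (by omega)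
      exact sub_eq_zero.1 ((smul_eq_zero.1 h2).resolve_right y.ne_zero)
    have hprim : IsPrimitiveRoot (d : F) (Fintype.card ι) := by
      haveI : Fact (Fintype.card ι).Prime := ⟨hp⟩
      rw [IsPrimitiveRoot.iff_orderOf, orderOf_eq_prime hdn hd1]
    let B : Fin (Fintype.card ι) → (ι → F) := fun m => ((y : Matrix ι ι F) ^ (m : ℕ)) *ᵥ u
    have hB : ∀ m : ℕ, (c : Matrix ι ι F) *ᵥ (((y : Matrix ι ι F) ^ m) *ᵥ u) =
        (d : F) ^ m • (((y : Matrix ι ι F) ^ m) *ᵥ u) := by
      intro m
      induction m with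
      | zero => simpa using hfixc u hu
      | succ m ih =>
        rw [pow_succ', ← Matrix.mulVec_mulVec, Matrix.mulVec_mulVec _ (c : Matrix ι ι F), hcy',
          Matrix.smul_mulVec, ← Matrix.mulVec_mulVec, ih, Matrix.mulVec_smul, smul_smul, ← pow_succ']
    have hli : LinearIndependent F B :=
      Module.End.eigenvectors_linearIndependent' (Matrix.toLin' (c : Matrix ι ι F))
        (fun m : Fin (Fintype.card ι) => (d : F) ^ (m : ℕ))
        (fun m m' hm => Fin.ext (hprim.pow_inj m.2 m'.2 hm)) B fun m =>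
        ⟨by rw [Module.End.mem_eigenspace_iff, Matrix.toLin'_apply]; exact hB m, fun h0 => hu0 (by
          simp only [B] at h0
          rw [← Units.val_pow_eq_pow_val] at h0
          exact (mulVec_eq_zero_iff _).1 h0)⟩
    haveI : Nonempty (Fin (Fintype.card ι)) := ⟨⟨0, by omega⟩⟩
    let bB := basisOfLinearIndependentOfCardEqFinrank hli
      (by rw [Fintype.card_fin, Module.finrank_fintype_fun_eq_card])
    have hbB : ∀ m, bB m = B m := fun m => by simp [bB]
    have hle1 : LinearMap.ker L ≤ Submodule.span F {u} := by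
      intro w hw
      have h1 := hfixc w hw
      have h2 : ∀ m, bB.repr w m * ((d : F) ^ (m : ℕ) - 1) = 0 := by
        intro m
        have h3 : bB.repr ((c : Matrix ι ι F) *ᵥ w) m = bB.repr w m := by rw [h1]
        conv_lhs at h3 => rw [← bB.sum_repr w, Matrix.mulVec_sum]
        simp only [Matrix.mulVec_smul, hbB, B, hB, smul_smul] at h3
        simp only [show ∀ k : Fin (Fintype.card ι), ((y : Matrix ι ι F) ^ (k : ℕ)) *ᵥ u = bB k from
          fun k => (hbB k).symm] at h3
        simp [map_sum, Finsupp.single_apply] at h3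
        linear_combination h3
      rw [← bB.sum_repr w]
      refine Submodule.sum_mem _ fun m _ => ?_
      by_cases hm : (m : ℕ) = 0
      · rw [hbB]; simp only [B, hm, pow_zero, Matrix.one_mulVec]
        exact Submodule.smul_mem _ _ (Submodule.mem_span_singleton_self u)
      · rw [(mul_eq_zero.1 (h2 m)).resolve_right
          (sub_ne_zero.2 (hprim.pow_ne_one_of_pos_of_lt hm m.2)), zero_smul]
        exact zero_mem _
    have := (Submodule.finrank_mono hle1).trans_eq (finrank_span_singleton hu0)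
    omega

end Cfsg.Agent.Aschbacher
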