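import Cfsg.Agent.Lib.Aschbacher.SymplecticType

/-!
The structure of an irreducible subgroup of `SL` of odd prime degree: monomial or field case, symplectic
type, or almost simple modulo scalars with absolutely irreducible perfect socle.
-/

set_option autoImplicit false

namespace Cfsg.Agent.Aschbacher

open Matrix
open scoped MatrixGroups commutatorElement

variable {ι : Type} [Fintype ι] [DecidableEq ι] {F : Type*} [Field F]

theorem normalIn_iff_map {G : Type*} [Group G] {H N : Subgroup G} :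
    NormalIn H N ↔ ∀ h ∈ H, N.map (MulAut.conj h).toMonoidHom ≤ N := by
  constructor
  · rintro hn h hh _ ⟨x, hx, rfl⟩
    exact hn h hh x hx
  · exact fun hn h hh x hx => hn h hh ⟨x, hx, rfl⟩

theorem NormalIn.commutator {G : Type*} [Group G] {H N : Subgroup G} (hn : NormalIn H N) :
    NormalIn H ⁅N, N⁆ := by
  rw [normalIn_iff_map] at hn ⊢
  intro h hh
  rw [Subgroup.map_commutator]
  exact Subgroup.commutator_mono (hn h hh) (hn h hh)

theorem NormalIn.sup {G : Type*} [Group G] {H N M : Subgroup G} (hn : NormalIn H N)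
    (hm : NormalIn H M) : NormalIn H (N ⊔ M) := by
  rw [normalIn_iff_map] at hn hm ⊢
  intro h hh
  rw [Subgroup.map_sup]
  exact sup_le_sup (hn h hh) (hm h hh)

theorem conj_scalar {z : GL ι F} (hz : z ∈ Geo.scalars ι F) (g : GL ι F) : g * z * g⁻¹ = z := by
  rw [← scalar_comm hz g, mul_inv_cancel_right]

theorem normalIn_of_le_scalars {H Z : Subgroup (GL ι F)} (hZ : Z ≤ Geo.scalars ι F) : NormalIn H Z :=
  fun h _ z hz => by rw [conj_scalar (hZ hz)]; exact hz

/-- Modulo scalars, commutators of a group generated by pairwise commuting elements vanish. -/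
theorem commutator_closure_le_scalars {S : Set (GL ι F)}
    (hS : ∀ a ∈ S, ∀ b ∈ S, a * b * a⁻¹ * b⁻¹ ∈ Geo.scalars ι F) :
    ⁅Subgroup.closure S, Subgroup.closure S⁆ ≤ Geo.scalars ι F := by
  let π := QuotientGroup.mk' (Geo.scalars ι F)
  rw [← QuotientGroup.ker_mk' (Geo.scalars ι F), ← Subgroup.map_eq_bot_iff, Subgroup.map_commutator,
    MonoidHom.map_closure, Subgroup.commutator_eq_bot_iff_le_centralizer, Subgroup.centralizer_closure,
    Subgroup.closure_le]
  rintro _ ⟨a, ha, rfl⟩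
  rw [SetLike.mem_coe, Subgroup.mem_centralizer_iff]
  rintro _ ⟨b, hb, rfl⟩
  rw [← map_mul, ← map_mul, eq_comm]
  refine QuotientGroup.eq.2 ?_
  have h3 := Geo.scalars_normal.conj_mem _ (hS a ha b hb) ((b * a)⁻¹)
  have h4 := (Geo.scalars ι F).inv_mem h3
  convert h4 using 1
  group

/-- An element centralising a group modulo scalars centralises its commutator subgroup. -/
theorem commute_of_mem_commutator {T : Subgroup (GL ι F)} {t : GL ι F}
    (ht : ∀ a ∈ T, t * a * t⁻¹ * a⁻¹ ∈ Geo.scalars ι F) : ∀ d ∈ ⁅T, T⁆, t * d = d * t := by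
  have hle : ⁅T, T⁆ ≤ Subgroup.centralizer {t} := by
    rw [Subgroup.commutator_le]
    intro a ha b hb
    rw [Subgroup.mem_centralizer_singleton_iff]
    obtain ⟨za, hza, ea⟩ : ∃ z ∈ Geo.scalars ι F, t * a * t⁻¹ = z * a := ⟨_, ht a ha, by group⟩
    obtain ⟨zb, hzb, eb⟩ : ∃ z ∈ Geo.scalars ι F, t * b * t⁻¹ = z * b := ⟨_, ht b hb, by group⟩
    have key : t * ⁅a, b⁆ * t⁻¹ = ⁅a, b⁆ := by
      rw [← MulAut.conj_apply, map_commutatorElement, MulAut.conj_apply, MulAut.conj_apply, ea, eb,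
        commutatorElement_def, commutatorElement_def, _root_.mul_inv_rev, _root_.mul_inv_rev]
      have c1 := scalar_comm hza
      have c2 := scalar_comm hzb
      calc za * a * (zb * b) * (a⁻¹ * za⁻¹) * (b⁻¹ * zb⁻¹)
          = za * (a * zb) * b * a⁻¹ * za⁻¹ * b⁻¹ * zb⁻¹ := by group
        _ = za * (zb * a) * b * a⁻¹ * za⁻¹ * b⁻¹ * zb⁻¹ := by rw [c2 a]
        _ = za * zb * (a * b * a⁻¹) * za⁻¹ * b⁻¹ * zb⁻¹ := by group
        _ = za * zb * (za⁻¹ * (a * b * a⁻¹)) * b⁻¹ * zb⁻¹ := by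
          rw [scalar_comm (inv_mem hza) (a * b * a⁻¹)]; group
        _ = za * zb * za⁻¹ * (a * b * a⁻¹ * b⁻¹ * zb⁻¹) := by group
        _ = za * zb * za⁻¹ * (zb⁻¹ * (a * b * a⁻¹ * b⁻¹)) := by
          rw [scalar_comm (inv_mem hzb) (a * b * a⁻¹ * b⁻¹)]
        _ = a * b * a⁻¹ * b⁻¹ := by rw [c1 zb]; group
    have := congrArg (· * t) key
    simp only [inv_mul_cancel_right] at this
    exact this.symm
  intro d hd
  exact (Subgroup.mem_centralizer_singleton_iff.1 (hle hd)).symm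

/-- The data of the almost simple case. -/
structure SimpleCore (H P : Subgroup (GL ι F)) : Prop where
  le : P ≤ H
  normal : NormalIn H P
  absIrred : AbsIrr P
  perfect : ⁅P, P⁆ = P
  simple : IsSimpleGroup (P ⧸ (Geo.scalars ι F).subgroupOf P)
  nonabelian : ¬ IsMulCommutative (P ⧸ (Geo.scalars ι F).subgroupOf P)
  centralizer_scalar : ∀ h ∈ H, (∀ x ∈ P, h * x * h⁻¹ * x⁻¹ ∈ Geo.scalars ι F) → h ∈ Geo.scalars ι F

theorem SimpleCore.isResidualCore {H P : Subgroup (GL ι F)} (h : SimpleCore H P)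
    (hsub : ∀ F₀ : Subfield F, F₀ ≠ ⊤ → ¬ Geo.RealisableOver F₀ (Geo.matrixSet P)) :
    Geo.IsResidualCore H P :=
  ⟨h.le, h.normal, h.perfect, h.simple, h.nonabelian, h.centralizer_scalar, h.absIrred, hsub⟩

set_option maxHeartbeats 1000000 in
/-- The trichotomy for an irreducible subgroup of `SL` of odd prime degree. -/
theorem structure_theorem [Finite F] (hp : (Fintype.card ι).Prime) (hodd : Odd (Fintype.card ι))
    {H : Subgroup (GL ι F)} (hSL : H ≤ Geo.specialLinear ι F) (hirr : Irr H) :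
    (∃ A, A ≤ H ∧ NormalIn H A ∧ ¬ A ≤ Geo.scalars ι F ∧ (Frame H A ∨ FieldCase H A)) ∨
    (∃ N ω, N ≤ H ∧ NormalIn H N ∧ AbsIrr N ∧ SymplecticData N ω) ∨
    (∃ P, SimpleCore H P) := by
  classical
  by_cases hA : ∃ A, A ≤ H ∧ NormalIn H A ∧ ¬ A ≤ Geo.scalars ι F ∧ (Frame H A ∨ FieldCase H A)
  · exact Or.inl hA
  refine Or.inr ?_
  push Not at hA
  -- normal subgroups are scalar or absolutely irreducible
  have hnorm : ∀ A, A ≤ H → NormalIn H A → ¬ A ≤ Geo.scalars ι F → AbsIrr A := by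
    intro A hle hn hns
    rcases trichotomy hp hirr hn with h | ⟨-, h | h | h⟩
    · exact h
    · exact absurd h hns
    · exact absurd h (hA A hle hn hns).1
    · exact absurd h (hA A hle hn hns).2
  have hab : ∀ A, A ≤ H → NormalIn H A → Abelian A → A ≤ Geo.scalars ι F := by
    intro A hle hn ha
    by_contra hns
    exact hns ((hnorm A hle hn hns).le_scalars_of_abelian ha)
  set Z := H ⊓ Geo.scalars ι F with hZ
  haveI hZn : Z.Normal :=
    ⟨fun z hz g => by rw [conj_scalar hz.2 g]; exact hz⟩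
  have hHns : ¬ H ≤ Geo.scalars ι F := fun h => not_irr_of_le_scalars hp.two_le h hirr
  let S : Set (Subgroup (GL ι F)) :=
    {N | N ≤ H ∧ NormalIn H N ∧ ¬ N ≤ Geo.scalars ι F ∧ Z ≤ N}
  obtain ⟨N, ⟨hNH, hNn, hNs, hZN⟩, hNmin⟩ := wellFounded_lt.has_min S
    ⟨H, le_rfl, fun h hh x hx => H.mul_mem (H.mul_mem hh hx) (H.inv_mem hh), hHns, inf_le_left⟩
  have hNabs : AbsIrr N := hnorm N hNH hNn hNs
  by_cases hcl : ⁅N, N⁆ ≤ Geo.scalars ι F
  · obtain ⟨ω, hω⟩ := symplecticData hp hodd (hNH.trans hSL) hNn hNH hNabs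
      (fun x hx y hy => hcl (Subgroup.commutator_mem_commutator hx hy)) hab
    exact Or.inl ⟨N, ω, hNH, hNn, hNabs, hω⟩
  refine Or.inr ?_
  set P := ⁅N, N⁆ with hP
  have hPN : P ≤ N := by
    rw [hP, Subgroup.commutator_le]
    intro a ha b hb
    exact N.mul_mem (N.mul_mem (N.mul_mem ha hb) (N.inv_mem ha)) (N.inv_mem hb)
  have hPn : NormalIn H P := hNn.commutator
  -- a normal subgroup of `H` inside `N`, not scalar, generates `N` with `Z`
  have hgen : ∀ K, K ≤ N → NormalIn H K → ¬ K ≤ Geo.scalars ι F → K ⊔ Z = N := by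
    intro K hKN hKn hKs
    have hle : K ⊔ Z ≤ N := sup_le hKN hZN
    rcases lt_or_eq_of_le hle with h | h
    · exact absurd h (hNmin _ ⟨hle.trans hNH, hKn.sup (normalIn_of_le_scalars inf_le_right),
        fun hs => hKs (le_sup_left.trans hs), le_sup_right⟩)
    · exact h
  have hcomm_le : ∀ K, K ⊔ Z = N → ⁅N, N⁆ ≤ ⁅K, K⁆ := by
    intro K hK
    rw [Subgroup.commutator_le]
    intro a ha b hb
    rw [← hK] at ha hb
    obtain ⟨p, hp', z, hz, rfl⟩ := Subgroup.mem_sup_of_normal_right.1 ha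
    obtain ⟨p', hp'', z', hz', rfl⟩ := Subgroup.mem_sup_of_normal_right.1 hb
    have c1 := scalar_comm hz.2
    have c2 := scalar_comm hz'.2
    have : ⁅p * z, p' * z'⁆ = ⁅p, p'⁆ := by
      rw [commutatorElement_def, commutatorElement_def, _root_.mul_inv_rev, _root_.mul_inv_rev]
      calc p * z * (p' * z') * (z⁻¹ * p⁻¹) * (z'⁻¹ * p'⁻¹)
          = p * (z * (p' * z')) * z⁻¹ * p⁻¹ * z'⁻¹ * p'⁻¹ := by group
        _ = p * ((p' * z') * z) * z⁻¹ * p⁻¹ * z'⁻¹ * p'⁻¹ := by rw [c1]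
        _ = p * p' * (z' * p⁻¹) * z'⁻¹ * p'⁻¹ := by group
        _ = p * p' * (p⁻¹ * z') * z'⁻¹ * p'⁻¹ := by rw [c2]
        _ = p * p' * p⁻¹ * p'⁻¹ := by group
    rw [this]
    exact Subgroup.commutator_mem_commutator hp' hp''
  have hperf : ⁅P, P⁆ = P :=
    le_antisymm (Subgroup.commutator_mono hPN hPN) (hcomm_le P (hgen P hPN hPn hcl))
  have hPabs : AbsIrr P := hnorm P (hPN.trans hNH) hPn hcl
  have hPH : P ≤ H := hPN.trans hNH
  -- normal subgroups of `P` containing its scalars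
  have hsimple : ∀ T, T ≤ P → NormalIn P T → P ⊓ Geo.scalars ι F ≤ T → ¬ T ≤ Geo.scalars ι F →
      T = P := by
    intro T hTP hTn hTc hTs
    let S' : Set (Subgroup (GL ι F)) :=
      {U | U ≤ P ∧ NormalIn P U ∧ P ⊓ Geo.scalars ι F ≤ U ∧ ¬ U ≤ Geo.scalars ι F}
    by_contra hne
    have hTlt : T < P := lt_of_le_of_ne hTP hne
    obtain ⟨U, ⟨⟨hUP, hUn, hUc, hUs⟩, hUne⟩, hUmin⟩ :=
      wellFounded_lt.has_min {U | U ∈ S' ∧ U < P} ⟨T, ⟨hTP, hTn, hTc, hTs⟩, hTlt⟩
    let cj : GL ι F → Subgroup (GL ι F) := fun h => U.map (MulAut.conj h).toMonoidHom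
    have hcjP : ∀ h ∈ H, cj h ≤ P := by
      rintro h hh _ ⟨u, hu, rfl⟩
      exact hPn h hh u (hUP hu)
    have hcjn : ∀ h ∈ H, NormalIn P (cj h) := by
      rintro h hh p hp' _ ⟨u, hu, rfl⟩
      refine ⟨(h⁻¹ * p * h) * u * (h⁻¹ * p * h)⁻¹, hUn _ ?_ u hu, ?_⟩
      · simpa using hPn h⁻¹ (H.inv_mem hh) p hp'
      · simp [mul_assoc]
    have hinter : ∀ h ∈ H, cj h = U ∨ U ⊓ cj h ≤ Geo.scalars ι F := by
      intro h hh
      by_contra hcon
      push Not at hcon
      have hmem : U ⊓ cj h ∈ S' := ⟨inf_le_left.trans hUP,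
        fun p hp' x hx => ⟨hUn p hp' x hx.1, hcjn h hh p hp' x hx.2⟩,
        le_inf hUc fun z hz => ⟨z, hUc hz, conj_scalar hz.2 h⟩, hcon.2⟩
      rcases lt_or_eq_of_le (inf_le_left : U ⊓ cj h ≤ U) with hlt | heq
      · exact hUmin _ ⟨hmem, hlt.trans hUne⟩ hlt
      · exact hcon.1 (Subgroup.eq_of_le_of_card_ge (inf_eq_left.1 heq)
          (Nat.card_congr (U.equivMapOfInjective _ (MulAut.conj h).injective).toEquiv).symm.le).symm
    -- some conjugate differs from `U`
    obtain ⟨h₀, hh₀, hdiff⟩ : ∃ h ∈ H, cj h ≠ U := by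
      by_contra hcon
      push Not at hcon
      have hUH : NormalIn H U := normalIn_iff_map.2 fun h hh => (hcon h hh).le
      exact (not_le_of_gt hUne) ((hcomm_le U (hgen U (hUP.trans hPN) hUH hUs)).trans
        (by rw [Subgroup.commutator_le]; exact fun a ha b hb =>
          U.mul_mem (U.mul_mem (U.mul_mem ha hb) (U.inv_mem ha)) (U.inv_mem hb)))
    have hdis : U ⊓ cj h₀ ≤ Geo.scalars ι F := (hinter h₀ hh₀).resolve_left hdiff
    by_cases hD : ⁅U, U⁆ ≤ Geo.scalars ι F
    · let C : Set (GL ι F) := {g | ∃ h ∈ H, g ∈ cj h}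
      have hCn : NormalIn H (Subgroup.closure C) := by
        rw [normalIn_iff_map]
        intro g hg
        rw [MonoidHom.map_closure, Subgroup.closure_le]
        rintro _ ⟨x, ⟨h, hh, u, hu, rfl⟩, rfl⟩
        exact Subgroup.subset_closure ⟨g * h, H.mul_mem hg hh, u, hu, by simp [mul_assoc]⟩
      have hCN : Subgroup.closure C ≤ N :=
        (Subgroup.closure_le _).2 fun x ⟨h, hh, hx⟩ => hPN (hcjP h hh hx)
      have hCs : ¬ Subgroup.closure C ≤ Geo.scalars ι F := fun hs => hUs fun u hu =>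
        hs (Subgroup.subset_closure ⟨1, H.one_mem, u, hu, by simp⟩)
      refine hcl ((hcomm_le _ (hgen _ hCN hCn hCs)).trans (commutator_closure_le_scalars ?_))
      rintro _ ⟨h, hh, u, hu, rfl⟩ _ ⟨h', hh', u', hu', rfl⟩
      have hw : h⁻¹ * h' ∈ H := H.mul_mem (H.inv_mem hh) hh'
      suffices hs : u * ((h⁻¹ * h') * u' * (h⁻¹ * h')⁻¹) * u⁻¹ *
          ((h⁻¹ * h') * u' * (h⁻¹ * h')⁻¹)⁻¹ ∈ Geo.scalars ι F by
        have := Geo.scalars_normal.conj_mem _ hs h
        convert this using 1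
        simp [mul_assoc]
      have hv : (h⁻¹ * h') * u' * (h⁻¹ * h')⁻¹ ∈ cj (h⁻¹ * h') := ⟨u', hu', rfl⟩
      generalize (h⁻¹ * h') * u' * (h⁻¹ * h')⁻¹ = v at hv ⊢
      rcases hinter _ hw with he | hd
      · exact hD (Subgroup.commutator_mem_commutator hu (he ▸ hv))
      · refine hd ⟨?_, ?_⟩
        · have := hUn v (hcjP _ hw hv) _ (U.inv_mem hu)
          simpa [mul_assoc] using U.mul_mem hu this
        · have := hcjn _ hw u (hUP hu) v hv
          exact (cj (h⁻¹ * h')).mul_mem this ((cj _).inv_mem hv)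
    · -- `⁅U, U⁆` is centralised by `cj h₀`
      have hDU : ⁅U, U⁆ ≤ U := by
        rw [Subgroup.commutator_le]
        exact fun a ha b hb => U.mul_mem (U.mul_mem (U.mul_mem ha hb) (U.inv_mem ha)) (U.inv_mem hb)
      have hcent : ∀ t ∈ cj h₀, ∀ d ∈ ⁅U, U⁆, t * d = d * t := fun t ht =>
        commute_of_mem_commutator fun a ha => hdis
          ⟨U.mul_mem (hUn t (hcjP h₀ hh₀ ht) a ha) (U.inv_mem ha),
            by
              have := hcjn h₀ hh₀ a (hUP ha) t⁻¹ ((cj h₀).inv_mem ht)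
              simpa [mul_assoc] using (cj h₀).mul_mem ht this⟩
      rcases trichotomy hp hPabs.1 (NormalIn.commutator hUn) with hDabs | ⟨hDab, -⟩
      · apply hUs
        intro u hu
        have hmem : h₀ * u * h₀⁻¹ ∈ cj h₀ := ⟨u, hu, rfl⟩
        have hsc := hDabs.scalar_of_comm (hcent _ hmem)
        have := Geo.scalars_normal.conj_mem _ hsc h₀⁻¹
        simpa [mul_assoc] using this
      · have hle : ⁅U, U⁆ ⊔ (P ⊓ Geo.scalars ι F) ≤ U := sup_le hDU hUc
        have hmem : ⁅U, U⁆ ⊔ (P ⊓ Geo.scalars ι F) ∈ S' := ⟨hle.trans hUP,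
          (NormalIn.commutator hUn).sup (normalIn_of_le_scalars inf_le_right), le_sup_right,
          fun hs => hD (le_sup_left.trans hs)⟩
        rcases lt_or_eq_of_le hle with hlt | heq
        · exact hUmin _ ⟨hmem, hlt.trans hUne⟩ hlt
        · refine hD ((Subgroup.commutator_mono heq.ge heq.ge).trans ?_)
          rw [Subgroup.sup_eq_closure]
          refine commutator_closure_le_scalars ?_
          rintro a ha b hb
          have hz : a * b = b * a := by
            rcases ha with ha | ha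
            · rcases hb with hb | hb
              · exact hDab a ha b hb
              · exact (scalar_comm hb.2 a).symm
            · exact scalar_comm ha.2 b
          rw [hz, mul_inv_cancel_right, mul_inv_cancel]
          exact one_mem _
  refine ⟨P, hPH, hPn, hPabs, hperf, ?_, ?_, ?_⟩
  · haveI : ((Geo.scalars ι F).subgroupOf P).Normal := inferInstance
    haveI : Nontrivial (P ⧸ (Geo.scalars ι F).subgroupOf P) :=
      QuotientGroup.nontrivial_iff.2 fun h => hcl (Subgroup.subgroupOf_eq_top.1 h)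
    refine ⟨fun K hK => ?_⟩
    set K' := K.comap (QuotientGroup.mk' ((Geo.scalars ι F).subgroupOf P)) with hK'
    by_cases hs : K'.map P.subtype ≤ Geo.scalars ι F
    · refine Or.inl (eq_bot_iff.2 fun q hq => ?_)
      obtain ⟨x, rfl⟩ := QuotientGroup.mk'_surjective _ q
      exact Subgroup.mem_bot.2 ((QuotientGroup.eq_one_iff x).2 (hs ⟨x, hq, rfl⟩))
    · refine Or.inr (eq_top_iff.2 fun q _ => ?_)
      obtain ⟨x, rfl⟩ := QuotientGroup.mk'_surjective _ q
      have hT := hsimple (K'.map P.subtype) (Subgroup.map_subtype_le K') ?_ ?_ hs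
      · obtain ⟨y, hy, hxy⟩ := (hT.ge x.2 : (x : GL ι F) ∈ K'.map P.subtype)
        obtain rfl : y = x := Subtype.ext hxy
        exact hy
      · rintro p hp' _ ⟨y, hy, rfl⟩
        exact ⟨⟨p, hp'⟩ * y * (⟨p, hp'⟩ : P)⁻¹, (inferInstance : K'.Normal).conj_mem y hy _, rfl⟩
      · rintro z ⟨hz, hz'⟩
        refine ⟨⟨z, hz⟩, ?_, rfl⟩
        show QuotientGroup.mk' _ (⟨z, hz⟩ : P) ∈ K
        have h1 : QuotientGroup.mk' ((Geo.scalars ι F).subgroupOf P) (⟨z, hz⟩ : P) = 1 :=
          (QuotientGroup.eq_one_iff _).2 hz'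
        rw [h1]
        exact K.one_mem
  · intro hc
    apply hcl
    show P ≤ Geo.scalars ι F
    rw [← hperf, Subgroup.commutator_le]
    intro a ha b hb
    have h1 := hc.is_comm.comm (QuotientGroup.mk' ((Geo.scalars ι F).subgroupOf P) ⟨a, ha⟩)
      (QuotientGroup.mk' _ ⟨b, hb⟩)
    rw [← commutatorElement_eq_one_iff_mul_comm, ← map_commutatorElement, QuotientGroup.mk'_apply,
      QuotientGroup.eq_one_iff] at h1
    exact h1
  · intro h hh hcent
    refine hPabs.scalar_of_comm fun x hx => ?_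
    exact commute_of_mem_commutator hcent x (hperf.symm ▸ hx)

end Cfsg.Agent.Aschbacher
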