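import Cfsg.Agent.Lib.Aschbacher.FormSymplectic
import Cfsg.Agent.Lib.MaxCl.Symplectic

/-!
The symplectic outcomes are members of the geometric classes.
-/

set_option autoImplicit false

namespace Cfsg.Agent.Aschbacher

open Matrix
open scoped MatrixGroups

theorem symplectic_structure {F : Type*} [Field F] [Fintype F] (m : ℕ) (hm : 1 ≤ m)
    (H : Subgroup (GL (Fin m ⊕ Fin m) F)) (hH : H ≤ spGL m F) :
    (∃ M, Geo.InSymplecticClass m F M ∧ H ≤ M) ∨ Geo.InSymplecticResidualClass H := by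
  have hc : Fintype.card (Fin m ⊕ Fin m) = 2 * m := by
    rw [Fintype.card_sum, Fintype.card_fin]; omega
  cases symp_outcome (by omega) (MaxCl.sympForm_isSymplectic m F) hH with
  | totallySingular W h0 hts hle =>
    exact Or.inl ⟨_, Or.inl <| Or.inl ⟨W, h0, hts, rfl⟩, le_inf hle hH⟩
  | nondegenerate W h0 hnd hdim hle =>
    exact Or.inl ⟨_, Or.inl <| Or.inr <| Or.inl ⟨W, h0, hnd, by omega, rfl⟩, le_inf hle hH⟩
  | decomposition t k D hD hle =>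
    exact Or.inl ⟨_, Or.inl <| Or.inr <| Or.inr <| Or.inl ⟨t, k, D, hD, rfl⟩, le_inf hle hH⟩
  | pair k D hodd hk hD hts hle =>
    obtain rfl : k = m := by omega
    exact Or.inl ⟨_, Or.inl <| Or.inr <| Or.inr <| Or.inr <| Or.inl ⟨D, hodd, hD, hts, rfl⟩, le_inf hle hH⟩
  | symplecticField r K hr hK hsa halt hle =>
    exact Or.inl ⟨_, Or.inr <| Or.inl ⟨r, K, hr, hK, hsa, halt, rfl⟩, le_inf hle hH⟩
  | unitaryField K hodd hK hcl hns hle =>
    exact Or.inl ⟨_, Or.inr <| Or.inr <| Or.inl ⟨K, hodd, hK, hcl, hns, rfl⟩, le_inf hle hH⟩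
  | tensor n₁ n₂ e P f₁ f₂ hodd h3 hf₁ hf₂ hstr hle =>
    exact Or.inl ⟨_, Or.inr <| Or.inr <| Or.inr <| Or.inl
      ⟨n₁, n₂, e, P, f₁, f₂, hodd, h3, hf₁, hf₂, hstr, rfl⟩, le_inf hle hH⟩
  | subfield F₀ r P ζ hr hcard hζ hrat hle =>
    exact Or.inl ⟨_, Or.inl <| Or.inr <| Or.inr <| Or.inr <| Or.inr <| Or.inl
      ⟨F₀, r, P, ζ, hr, hcard, hζ, hrat, rfl⟩, le_inf hle hH⟩
  | symplecticType R p k _ hR habs hsim hp hodd hF hcard hcentre hminus hle =>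
    exact Or.inl ⟨_, Or.inl <| Or.inr <| Or.inr <| Or.inr <| Or.inr <| Or.inr <| Or.inl
      ⟨R, p, k, hR, habs, hsim, hp, hodd, hF, hcard, hcentre, hminus, rfl⟩, le_inf hle hH⟩
  | orthogonal Q heven hQ hpol hle =>
    exact Or.inl ⟨_, Or.inl <| Or.inr <| Or.inr <| Or.inr <| Or.inr <| Or.inr <| Or.inr
      ⟨Q, heven, hQ, hpol, rfl⟩, le_inf hle hH⟩
  | tensorPower k t e P f₁ hodd ht ht3 hex hf₁ hstr hle =>
    exact Or.inl ⟨_, Or.inr <| Or.inr <| Or.inr <| Or.inr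
      ⟨k, t, e, P, f₁, hodd, ht, ht3, hex, hf₁, hstr, rfl⟩, le_inf hle hH⟩
  | residual hres => exact Or.inr hres

end Cfsg.Agent.Aschbacher
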