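import Cfsg.Agent.Lib.Aschbacher.Clifford

/-!
An absolutely irreducible group of class two of odd prime degree `n` inside `SL` is extraspecial of order
`n^3` and exponent `n`, monomial with entries powers of a primitive `n`-th root of unity.
-/

set_option autoImplicit false

namespace Cfsg.Agent.Aschbacher

open Matrix
open scoped MatrixGroups

variable {ι : Type} [Fintype ι] [DecidableEq ι] {F : Type*} [Field F]

theorem not_irr_of_le_scalars (hι : 2 ≤ Fintype.card ι) {N : Subgroup (GL ι F)}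
    (h : N ≤ Geo.scalars ι F) : ¬ Irr N := by
  intro hirr
  obtain ⟨i⟩ : Nonempty ι := Fintype.card_pos_iff.1 (by omega)
  let v : ι → F := Pi.single i 1
  have hv : v ≠ 0 := fun hv => by simpa [v] using congrFun hv i
  rcases irr_iff.1 hirr (Submodule.span F {v}) (fun x hx w hw => by
    obtain ⟨c, hc⟩ := (Geo.mem_scalars_iff x).1 (h hx)
    rw [hc, Matrix.smul_mulVec, Matrix.one_mulVec]
    exact Submodule.smul_mem _ _ hw) with h0 | h0
  · exact hv (by simpa using h0)
  · have := finrank_span_singleton (K := F) hv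
    rw [h0, finrank_top, Module.finrank_fintype_fun_eq_card] at this
    omega

theorem det_eq_one {g : GL ι F} (h : g ∈ Geo.specialLinear ι F) : (g : Matrix ι ι F).det = 1 := by
  have : Matrix.GeneralLinearGroup.det g = 1 := h
  simpa [Matrix.GeneralLinearGroup.val_det_apply] using congrArg Units.val this

theorem commute_pow_mul {R : Type*} [Ring R] [Algebra F R] {x y : R} {ω : F}
    (h : x * y = ω • (y * x)) (k : ℕ) : x ^ k * y = ω ^ k • (y * x ^ k) := by
  induction k with
  | zero => simp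
  | succ k ih =>
    rw [pow_succ, mul_assoc, h, mul_smul_comm, ← mul_assoc, ih, smul_mul_assoc, smul_smul, mul_assoc,
      ← pow_succ']

/-- If `x y = ω y x` for a primitive `n`-th root of unity `ω`, `n = card ι` odd, and `det x = 1`, then
`x ^ n = 1`. -/
theorem pow_card_eq_one (hodd : Odd (Fintype.card ι)) {ω : F}
    (hω : IsPrimitiveRoot ω (Fintype.card ι)) {x y : Matrix ι ι F} (hx : x.det = 1) (hy : y.det ≠ 0)
    (h : x * y = ω • (y * x)) : x ^ Fintype.card ι = 1 := by
  classical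
  set n := Fintype.card ι with hn
  have hnpos : 0 < n := hodd.pos
  haveI : Nonempty ι := Fintype.card_pos_iff.1 hnpos
  let L := AlgebraicClosure F
  let em : F →+* L := algebraMap F L
  suffices hs : (x.map em) ^ n = 1 by
    apply Matrix.map_injective em.injective
    show (x ^ n).map em = (1 : Matrix ι ι F).map em
    rw [Matrix.map_one _ (map_zero _) (map_one _), ← hs]
    exact map_pow em.mapMatrix x n
  set X := x.map em
  set Y := y.map em
  have hXY : X * Y = em ω • (Y * X) := by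
    rw [← Matrix.map_mul, ← Matrix.map_mul, h]
    exact Matrix.map_smul' _ _ _ (fun a b => map_mul em a b)
  have hωL : IsPrimitiveRoot (em ω) n := hω.map_of_injective em.injective
  generalize em ω = ζ at hXY hωL
  have hYinj : Function.Injective (Y *ᵥ ·) := by
    apply Matrix.mulVec_injective_iff_isUnit.2
    rw [Matrix.isUnit_iff_isUnit_det, isUnit_iff_ne_zero]
    show (y.map em).det ≠ 0
    rw [← RingHom.mapMatrix_apply, ← RingHom.map_det]
    exact fun h0 => hy (em.injective (by rw [h0, map_zero]))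
  obtain ⟨l, hl⟩ := Module.End.exists_eigenvalue (Matrix.toLin' X)
  obtain ⟨v, hv, hv0⟩ := hl.exists_hasEigenvector
  rw [Module.End.mem_eigenspace_iff, Matrix.toLin'_apply] at hv
  have hl0 : l ≠ 0 := by
    rintro rfl
    have hdet : X.det ≠ 0 := by
      show (x.map em).det ≠ 0
      rw [← RingHom.mapMatrix_apply, ← RingHom.map_det, hx, map_one]
      exact one_ne_zero
    exact hv0 (Matrix.eq_zero_of_mulVec_eq_zero hdet (by rw [hv, zero_smul]))
  let w : Fin n → (ι → L) := fun i => (Y ^ (i : ℕ)) *ᵥ v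
  have hw : ∀ k : ℕ, X *ᵥ ((Y ^ k) *ᵥ v) = (ζ ^ k * l) • ((Y ^ k) *ᵥ v) := by
    intro k
    induction k with
    | zero => simp [hv]
    | succ k ih =>
      rw [pow_succ', ← Matrix.mulVec_mulVec, Matrix.mulVec_mulVec _ X, hXY, Matrix.smul_mulVec,
        ← Matrix.mulVec_mulVec, ih, Matrix.mulVec_smul, smul_smul]
      congr 1
      ring
  have hwne : ∀ k : ℕ, (Y ^ k) *ᵥ v ≠ 0 := by
    intro k
    induction k with
    | zero => simpa using hv0
    | succ k ih =>
      rw [pow_succ', ← Matrix.mulVec_mulVec]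
      exact fun h0 => ih (hYinj (h0.trans (Matrix.mulVec_zero _).symm))
  have hinj : Function.Injective fun i : Fin n => ζ ^ (i : ℕ) * l := fun i j hij =>
    Fin.ext (hωL.pow_inj i.2 j.2 (mul_right_cancel₀ hl0 hij))
  have hli : LinearIndependent L w :=
    Module.End.eigenvectors_linearIndependent' (Matrix.toLin' X) _ hinj w fun i =>
      ⟨by rw [Module.End.mem_eigenspace_iff, Matrix.toLin'_apply]; exact hw i, hwne i⟩
  haveI : Nonempty (Fin n) := ⟨⟨0, hnpos⟩⟩
  let bw := basisOfLinearIndependentOfCardEqFinrank hli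
    (by rw [Fintype.card_fin, Module.finrank_fintype_fun_eq_card])
  have hbw : ∀ i, bw i = w i := fun i => by simp [bw]
  have hmat : LinearMap.toMatrix bw bw (Matrix.toLin' X) =
      Matrix.diagonal fun i : Fin n => ζ ^ (i : ℕ) * l := by
    ext i j
    rw [LinearMap.toMatrix_apply, Matrix.toLin'_apply, hbw, hw, map_smul,
      show (Y ^ (j : ℕ)) *ᵥ v = bw j from (hbw j).symm,
      Module.Basis.repr_self, Finsupp.smul_single, Finsupp.single_apply, Matrix.diagonal_apply]
    by_cases hij : j = i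
    · subst hij; simp
    · simp [hij, Ne.symm hij]
  have hdet : l ^ n = 1 := by
    have h1 : X.det = ∏ i : Fin n, ζ ^ (i : ℕ) * l := by
      rw [← Matrix.det_diagonal, ← hmat, LinearMap.det_toMatrix, LinearMap.det_toLin']
    rw [Finset.prod_mul_distrib, Finset.prod_const, Finset.card_univ, Fintype.card_fin,
      Finset.prod_pow_eq_pow_sum, Fin.sum_univ_eq_sum_range (fun i => i), Finset.sum_range_id] at h1
    have hX : X.det = 1 := by
      show (x.map em).det = 1
      rw [← RingHom.mapMatrix_apply, ← RingHom.map_det, hx, map_one]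
    obtain ⟨m, hm⟩ := hodd
    rw [hX, show n * (n - 1) / 2 = n * m by
      rw [show n - 1 = 2 * m by omega, mul_left_comm, Nat.mul_div_cancel_left _ two_pos],
      pow_mul, hωL.pow_eq_one, one_pow, one_mul] at h1
    exact h1.symm
  have hpow : ∀ k i, (X ^ k) *ᵥ w i = (ζ ^ (i : ℕ) * l) ^ k • w i := by
    intro k i
    induction k with
    | zero => simp
    | succ k ih =>
      rw [pow_succ', ← Matrix.mulVec_mulVec, ih, Matrix.mulVec_smul, hw, smul_smul, ← pow_succ]
  refine Matrix.toLin'.injective (bw.ext fun i => ?_)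
  rw [Matrix.toLin'_apply, Matrix.toLin'_apply, Matrix.one_mulVec, hbw, hpow, mul_pow, ← pow_mul,
    mul_comm (i : ℕ), pow_mul, hωL.pow_eq_one, one_pow, one_mul, hdet, one_smul]

/-- Data of a symplectic type group of odd prime degree. -/
structure SymplecticData (N : Subgroup (GL ι F)) (ω : F) : Prop where
  primitive : IsPrimitiveRoot ω (Fintype.card ι)
  card_eq : Nat.card N = Fintype.card ι ^ 3
  card_center : Nat.card (Subgroup.center N) = Fintype.card ι
  symplecticType : Geo.IsSymplecticTypeGroup (Fintype.card ι) N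
  commutator_mem : ∀ x ∈ N, ∀ y ∈ N, x * y * x⁻¹ * y⁻¹ ∈ Geo.scalars ι F
  monomial : ∃ b : Module.Basis ι F (ι → F), (∀ x ∈ N, ∃ π : Equiv.Perm ι, ∃ k : ι → ℕ,
      ∀ i, (x : Matrix ι ι F) *ᵥ b i = ω ^ k i • b (π i)) ∧
    ∃ x ∈ N, ∃ l : ι → F, Function.Injective l ∧ ∀ i, (x : Matrix ι ι F) *ᵥ b i = l i • b i

theorem symplecticData [Finite F] (hp : (Fintype.card ι).Prime) (hodd : Odd (Fintype.card ι))
    {H N : Subgroup (GL ι F)} (hSL : N ≤ Geo.specialLinear ι F) (hn : NormalIn H N) (hle : N ≤ H)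
    (hN : AbsIrr N) (hcl : ∀ x ∈ N, ∀ y ∈ N, x * y * x⁻¹ * y⁻¹ ∈ Geo.scalars ι F)
    (hab : ∀ A : Subgroup (GL ι F), A ≤ H → NormalIn H A → Abelian A → A ≤ Geo.scalars ι F) :
    ∃ ω, SymplecticData N ω := by
  classical
  set n := Fintype.card ι with hn'
  haveI : Fact n.Prime := ⟨hp⟩
  haveI : NeZero n := ⟨hp.ne_zero⟩
  haveI hne : Nonempty ι := Fintype.card_pos_iff.1 hp.pos
  have hcom : ∀ g ∈ N, ∀ h ∈ N, ∃ c : F, c ^ n = 1 ∧
      (g : Matrix ι ι F) * h = c • ((h : Matrix ι ι F) * g) := by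
    intro g hg h hh
    obtain ⟨c, hc⟩ := (Geo.mem_scalars_iff _).1 (hcl g hg h hh)
    refine ⟨c, ?_, ?_⟩
    · have h1 := congrArg Matrix.det hc
      rw [Matrix.det_smul, Matrix.det_one, mul_one] at h1
      rw [← hn'] at h1
      rw [← h1, det_eq_one (mul_mem (mul_mem (mul_mem (hSL hg) (hSL hh)) (inv_mem (hSL hg)))
        (inv_mem (hSL hh)))]
    · rw [← Units.val_mul, ← Units.val_mul, show g * h = g * h * g⁻¹ * h⁻¹ * (h * g) by group,
        Units.val_mul, hc, smul_mul_assoc, one_mul]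
  obtain ⟨x, hx, y, hy, hxy⟩ : ∃ x ∈ N, ∃ y ∈ N, x * y ≠ y * x := by
    by_contra hcon
    push Not at hcon
    exact not_irr_of_le_scalars hp.two_le (hN.le_scalars_of_abelian hcon) hN.1
  obtain ⟨ω, hω1, hxy'⟩ := hcom x hx y hy
  have hω : IsPrimitiveRoot ω n := by
    rw [IsPrimitiveRoot.iff_orderOf, orderOf_eq_prime hω1]
    rintro rfl
    exact hxy (Units.ext (by simpa using hxy'))
  have hω0 : ω ≠ 0 := hω.ne_zero hp.ne_zero
  have hnF : (n : F) ≠ 0 := hω.neZero'.ne
  have hdet : ∀ g ∈ N, (g : Matrix ι ι F).det = 1 := fun g hg => det_eq_one (hSL hg)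
  -- every element has order dividing `n`
  have hexp : ∀ g ∈ N, g ^ n = 1 := by
    intro g hg
    refine Units.ext ?_
    rw [Units.val_pow_eq_pow_val, Units.val_one]
    by_cases hc : ∀ h ∈ N, g * h = h * g
    · obtain ⟨c, hc⟩ := (Geo.mem_scalars_iff g).1 (hN.scalar_of_comm hc)
      have h1 := hdet g hg
      rw [hc, Matrix.det_smul, Matrix.det_one, mul_one] at h1
      rw [hc, smul_pow, one_pow, hn', h1, one_smul]
    · push Not at hc
      obtain ⟨h, hh, hgh⟩ := hc
      obtain ⟨c, hc1, hc2⟩ := hcom g hg h hh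
      have hcp : IsPrimitiveRoot c n := by
        rw [IsPrimitiveRoot.iff_orderOf, orderOf_eq_prime hc1]
        rintro rfl
        exact hgh (Units.ext (by simpa using hc2))
      exact pow_card_eq_one hodd hcp (hdet g hg) (by rw [hdet h hh]; exact one_ne_zero) hc2
  set X : Matrix ι ι F := (x : Matrix ι ι F) with hX
  set Y : Matrix ι ι F := (y : Matrix ι ι F) with hY
  have hXn : X ^ n = 1 := by rw [hX, ← Units.val_pow_eq_pow_val, hexp x hx, Units.val_one]
  have hYn : Y ^ n = 1 := by rw [hY, ← Units.val_pow_eq_pow_val, hexp y hy, Units.val_one]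
  have hXYk : ∀ (k : ℕ) (v : ι → F) (l : F), X *ᵥ v = l • v →
      X *ᵥ ((Y ^ k) *ᵥ v) = (ω ^ k * l) • ((Y ^ k) *ᵥ v) := by
    intro k v l hv
    induction k with
    | zero => simp [hv]
    | succ k ih =>
      rw [pow_succ', ← Matrix.mulVec_mulVec, Matrix.mulVec_mulVec _ X, hxy', Matrix.smul_mulVec,
        ← Matrix.mulVec_mulVec, ih, Matrix.mulVec_smul, smul_smul]
      congr 1
      ring
  -- an eigenvector of `x` with eigenvalue one
  obtain ⟨v, hv0, hv⟩ : ∃ v : ι → F, v ≠ 0 ∧ X *ᵥ v = v := by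
    obtain ⟨i⟩ := hne
    let P : ℕ → (ι → F) := fun k => ∑ j ∈ Finset.range n, (ω ^ k) ^ j • (X ^ j *ᵥ Pi.single i 1)
    have hP : ∀ k, ω ^ k • (X *ᵥ P k) = P k := by
      intro k
      simp only [P, Matrix.mulVec_sum, Matrix.mulVec_smul, Finset.smul_sum, smul_smul,
        Matrix.mulVec_mulVec, ← pow_succ']
      have h1 := Finset.sum_range_succ (fun j => (ω ^ k) ^ j • (X ^ j *ᵥ Pi.single i (1 : F))) n
      have h2 := Finset.sum_range_succ' (fun j => (ω ^ k) ^ j • (X ^ j *ᵥ Pi.single i (1 : F))) n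
      rw [h1] at h2
      rw [hXn, ← pow_mul ω, mul_comm k, pow_mul, hω1, one_pow, pow_zero, pow_zero] at h2
      exact (add_right_cancel h2).symm
    obtain ⟨k, hk, hk0⟩ : ∃ k < n, P k ≠ 0 := by
      by_contra hcon
      push Not at hcon
      have hsum : ∑ k ∈ Finset.range n, P k = (n : F) • (Pi.single i 1 : ι → F) := by
        simp only [P]
        rw [Finset.sum_comm, Finset.sum_eq_single 0]
        · simp [Nat.cast_smul_eq_nsmul, Matrix.col_apply]
          ext i'
          simp [Matrix.one_apply, Pi.single_apply]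
        · intro j hj hj0
          rw [← Finset.sum_smul]
          convert zero_smul F _
          have hne1 : ω ^ j ≠ 1 := hω.pow_ne_one_of_pos_of_lt hj0 (Finset.mem_range.1 hj)
          have := geom_sum_mul (ω ^ j) n
          rw [← pow_mul, mul_comm j, pow_mul, hω1, one_pow, sub_self, mul_eq_zero] at this
          rw [← this.resolve_right (sub_ne_zero.2 hne1)]
          exact Finset.sum_congr rfl fun k _ => by rw [← pow_mul, ← pow_mul, mul_comm]
        · simp [hp.ne_zero]
      rw [Finset.sum_eq_zero fun k hk => hcon k (Finset.mem_range.1 hk)] at hsum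
      exact hnF (by simpa using congrFun hsum.symm i)
    refine ⟨(Y ^ k) *ᵥ P k, ?_, ?_⟩
    · intro h0
      apply hk0
      have := congrArg ((Y ^ (n - k)) *ᵥ ·) h0
      simpa [Matrix.mulVec_mulVec, ← pow_add, Nat.sub_add_cancel hk.le, hYn] using this
    · have hl : X *ᵥ P k = (ω ^ k)⁻¹ • P k := by
        conv_rhs => rw [← hP k, smul_smul, inv_mul_cancel₀ (pow_ne_zero _ hω0), one_smul]
      rw [hXYk k _ _ hl, mul_inv_cancel₀ (pow_ne_zero _ hω0), one_smul]
  let b' : Fin n → (ι → F) := fun i => (Y ^ (i : ℕ)) *ᵥ v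
  have hb'x : ∀ i : Fin n, X *ᵥ b' i = ω ^ (i : ℕ) • b' i := fun i => by
    rw [hXYk i v 1 (by rw [hv, one_smul]), mul_one]
  have hb'ne : ∀ i, b' i ≠ 0 := fun i h0 => hv0 <| by
    have := congrArg ((Y ^ (n - i)) *ᵥ ·) h0
    simpa [b', Matrix.mulVec_mulVec, ← pow_add, Nat.sub_add_cancel i.2.le, hYn] using this
  have hli : LinearIndependent F b' :=
    Module.End.eigenvectors_linearIndependent' (Matrix.toLin' X) (fun i : Fin n => ω ^ (i : ℕ))
      (fun i j h => Fin.ext (hω.pow_inj i.2 j.2 h)) b'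
      fun i => ⟨by rw [Module.End.mem_eigenspace_iff, Matrix.toLin'_apply]; exact hb'x i, hb'ne i⟩
  haveI : Nonempty (Fin n) := ⟨0⟩
  let b := basisOfLinearIndependentOfCardEqFinrank hli
    (by rw [Fintype.card_fin, Module.finrank_fintype_fun_eq_card])
  have hb : ∀ i, b i = b' i := fun i => by simp [b]
  have hωmod : ∀ k : ℕ, ω ^ (k % n) = ω ^ k := fun k => (pow_eq_pow_mod k hω1).symm
  have hby : ∀ (t : ℕ) (i : Fin n), (Y ^ t) *ᵥ b i = b ⟨((i : ℕ) + t) % n, Nat.mod_lt _ hp.pos⟩ := by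
    intro t i
    rw [hb, hb, Matrix.mulVec_mulVec, ← pow_add, add_comm t]
    simp only [b']
    rw [← pow_eq_pow_mod _ hYn]
  have hbx : ∀ (s : ℕ) (i : Fin n), (X ^ s) *ᵥ b i = ω ^ ((i : ℕ) * s) • b i := by
    intro s i
    induction s with
    | zero => simp
    | succ s ih =>
      rw [pow_succ', ← Matrix.mulVec_mulVec, ih, Matrix.mulVec_smul, hb, hb'x, smul_smul,
        ← pow_add, Nat.mul_succ]
  -- the elements `ω^k y^t x^s`
  let σc : Fˣ →* GL ι F := Units.map (Matrix.scalar ι : F →+* Matrix ι ι F).toMonoidHom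
  let ω' : GL ι F := σc (Units.mk0 ω hω0)
  have hω'val : ∀ k : ℕ, ((ω' ^ k : GL ι F) : Matrix ι ι F) = ω ^ k • (1 : Matrix ι ι F) := by
    intro k
    rw [Units.val_pow_eq_pow_val]
    show Matrix.scalar ι ω ^ k = _
    rw [← map_pow, Matrix.scalar_apply, ← Matrix.smul_one_eq_diagonal]
  have hω'N : ω' ∈ N := by
    have : ω' = x * y * x⁻¹ * y⁻¹ := by
      rw [eq_mul_inv_iff_mul_eq, eq_mul_inv_iff_mul_eq]
      refine Units.ext ?_
      rw [Units.val_mul, Units.val_mul, Units.val_mul, mul_assoc, hxy',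
        show (ω' : Matrix ι ι F) = ω • 1 by simpa using hω'val 1, smul_mul_assoc, one_mul]
    rw [this]
    exact mul_mem (mul_mem (mul_mem hx hy) (inv_mem hx)) (inv_mem hy)
  let el : Fin n × Fin n × Fin n → N := fun p => ⟨ω' ^ (p.1 : ℕ) * y ^ (p.2.1 : ℕ) * x ^ (p.2.2 : ℕ),
    mul_mem (mul_mem (pow_mem hω'N _) (pow_mem hy _)) (pow_mem hx _)⟩
  have hel : ∀ p i, ((el p : GL ι F) : Matrix ι ι F) *ᵥ b i = ω ^ ((p.1 : ℕ) + (i : ℕ) * (p.2.2 : ℕ)) •
      b ⟨((i : ℕ) + (p.2.1 : ℕ)) % n, Nat.mod_lt _ hp.pos⟩ := by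
    rintro ⟨k, t, s⟩ i
    simp only [el, Units.val_mul, hω'val, Units.val_pow_eq_pow_val, ← Matrix.mulVec_mulVec]
    simp only [← hX, ← hY, hbx, Matrix.mulVec_smul, hby, Matrix.smul_mulVec, Matrix.one_mulVec,
      smul_smul, ← pow_add, add_comm]
  have hel_inj : Function.Injective el := by
    rintro ⟨k, t, s⟩ ⟨k', t', s'⟩ h
    have key : ∀ i : Fin n, ((i : ℕ) + (t : ℕ)) % n = ((i : ℕ) + (t' : ℕ)) % n ∧
        ω ^ ((k : ℕ) + (i : ℕ) * (s : ℕ)) = ω ^ ((k' : ℕ) + (i : ℕ) * (s' : ℕ)) := by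
      intro i
      have h1 := (hel ⟨k, t, s⟩ i).symm.trans (h ▸ hel ⟨k', t', s'⟩ i)
      simp only at h1
      have h2 := congrArg (fun w => b.repr w) h1
      simp only [map_smul, Module.Basis.repr_self, Finsupp.smul_single, smul_eq_mul, mul_one] at h2
      rcases Finsupp.single_eq_single_iff _ _ _ _ |>.1 h2 with ⟨ha, hb⟩ | ⟨ha, -⟩
      · exact ⟨congrArg Fin.val ha, hb⟩
      · exact absurd ha (pow_ne_zero _ hω0)
    obtain ⟨h0, h0'⟩ := key 0
    simp only [Fin.val_zero, zero_add, zero_mul, add_zero, Nat.mod_eq_of_lt t.2, Nat.mod_eq_of_lt t'.2]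
      at h0 h0'
    obtain rfl : t = t' := Fin.ext h0
    obtain rfl : k = k' := Fin.ext (hω.pow_inj k.2 k'.2 h0')
    obtain ⟨-, h1⟩ := key ⟨1, hp.one_lt⟩
    simp only [one_mul, pow_add] at h1
    obtain rfl : s = s' := Fin.ext (hω.pow_inj s.2 s'.2 (mul_left_cancel₀ (pow_ne_zero _ hω0) h1))
    rfl
  have hel_surj : Function.Surjective el := by
    rintro ⟨z, hz⟩
    set Z : Matrix ι ι F := (z : Matrix ι ι F) with hZ
    obtain ⟨ca, hca, hxz⟩ := hcom x hx z hz
    obtain ⟨cb, hcb, hyz⟩ := hcom y hy z hz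
    obtain ⟨a, ha, rfl⟩ := hω.eq_pow_of_pow_eq_one hca
    obtain ⟨c, hc, rfl⟩ := hω.eq_pow_of_pow_eq_one hcb
    rw [← hX, ← hZ] at hxz
    rw [← hY, ← hZ] at hyz
    -- `z b₀` is a multiple of `b a`, and this determines `z`
    have hz0 : X *ᵥ (Z *ᵥ b 0) = ω ^ a • (Z *ᵥ b 0) := by
      rw [Matrix.mulVec_mulVec, hxz, Matrix.smul_mulVec, ← Matrix.mulVec_mulVec]
      congr 1
      have h1 := hbx 1 0
      simp at h1
      rw [h1]
    have hrepr : ∀ j, b.repr (Z *ᵥ b 0) j * (ω ^ (j : ℕ) - ω ^ a) = 0 := by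
      intro j
      have h1 : b.repr (X *ᵥ (Z *ᵥ b 0)) j = ω ^ (j : ℕ) * b.repr (Z *ᵥ b 0) j := by
        conv_lhs => rw [← b.sum_repr (Z *ᵥ b 0), Matrix.mulVec_sum]
        simp only [Matrix.mulVec_smul]
        have h2 : ∀ i, X *ᵥ b i = ω ^ (i : ℕ) • b i := fun i => by simpa using hbx 1 i
        simp only [h2, smul_smul, map_sum, map_smul, Module.Basis.repr_self, Finsupp.smul_single,
          smul_eq_mul, mul_one, Finsupp.finsetSum_apply]
        rw [Finset.sum_eq_single j] <;> simp +contextual [Finsupp.single_apply, mul_comm]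
      rw [hz0, map_smul, Finsupp.smul_apply, smul_eq_mul] at h1
      linear_combination -h1
    have hzb0 : ∃ d : F, Z *ᵥ b 0 = d • b ⟨a, ha⟩ := by
      refine ⟨b.repr (Z *ᵥ b 0) ⟨a, ha⟩, ?_⟩
      conv_lhs => rw [← b.sum_repr (Z *ᵥ b 0)]
      refine Finset.sum_eq_single _ (fun j _ hj => ?_) (by simp)
      rcases mul_eq_zero.1 (hrepr j) with h1 | h1
      · rw [h1, zero_smul]
      · exact absurd (Fin.ext (hω.pow_inj j.2 ha (sub_eq_zero.1 h1))) hj
    obtain ⟨d, hd⟩ := hzb0
    have hzY : ∀ i : ℕ, Z * Y ^ i = (ω ^ c)⁻¹ ^ i • (Y ^ i * Z) := by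
      have h1 : Z * Y = (ω ^ c)⁻¹ • (Y * Z) := by
        rw [hyz, smul_smul, inv_mul_cancel₀ (pow_ne_zero _ hω0), one_smul]
      intro i
      induction i with
      | zero => simp
      | succ i ih =>
        rw [pow_succ, ← mul_assoc, ih, smul_mul_assoc, mul_assoc, h1, mul_smul_comm, smul_smul,
          ← mul_assoc, ← pow_succ, ← pow_succ]
    have hzb : ∀ i : Fin n, Z *ᵥ b i =
        ((ω ^ c)⁻¹ ^ (i : ℕ) * d) • b ⟨(a + (i : ℕ)) % n, Nat.mod_lt _ hp.pos⟩ := by
      intro i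
      have h1 : b i = (Y ^ (i : ℕ)) *ᵥ b 0 := by
        rw [hby]
        congr 1
        exact Fin.ext (by simp [Nat.mod_eq_of_lt i.2])
      rw [h1, Matrix.mulVec_mulVec, hzY, Matrix.smul_mulVec, ← Matrix.mulVec_mulVec, hd,
        Matrix.mulVec_smul, hby, smul_smul]
    -- compare with `el (0, a, n - c)`
    let e0 : N := el (0, ⟨a, ha⟩, ⟨(n - c) % n, Nat.mod_lt _ hp.pos⟩)
    have hd0 : d ≠ 0 := by
      rintro rfl
      rw [zero_smul] at hd
      exact b.ne_zero 0 ((mulVec_eq_zero_iff z).1 hd)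
    have hmat : Z = d • ((e0 : GL ι F) : Matrix ι ι F) := by
      refine Matrix.toLin'.injective (b.ext fun i => ?_)
      rw [Matrix.toLin'_apply, Matrix.toLin'_apply, Matrix.smul_mulVec, hzb, hel, smul_smul,
        Fin.val_zero, zero_add, add_comm a]
      congr 1
      rw [mul_comm, mul_comm (i : ℕ)]
      congr 1
      rw [pow_mul, hωmod, inv_pow, inv_eq_of_mul_eq_one_left]
      rw [← mul_pow, ← pow_add, Nat.sub_add_cancel hc.le, hω1, one_pow]
    have hdn : d ^ n = 1 := by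
      have h1 := congrArg Matrix.det hmat
      rw [hdet z hz, Matrix.det_smul, hdet _ e0.2, mul_one] at h1
      exact h1.symm
    obtain ⟨k, hk, rfl⟩ := hω.eq_pow_of_pow_eq_one hdn
    refine ⟨(⟨k, hk⟩, ⟨a, ha⟩, ⟨(n - c) % n, Nat.mod_lt _ hp.pos⟩), Subtype.ext (Units.ext ?_)⟩
    rw [← hZ, hmat]
    simp only [e0, el, Units.val_mul, hω'val, Fin.val_zero, pow_zero, one_smul, smul_mul_assoc, one_mul]
  have hbij : Function.Bijective el := ⟨hel_inj, hel_surj⟩
  have hcard : Nat.card N = n ^ 3 := by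
    rw [← Nat.card_congr (Equiv.ofBijective el hbij)]
    simp
    ring
  have hcenter : Nat.card (Subgroup.center N) = n := by
    let cm : Fin n → Subgroup.center N := fun k => ⟨⟨ω' ^ (k : ℕ), pow_mem hω'N _⟩,
      Subgroup.mem_center_iff.2 fun g => Subtype.ext
        (scalar_comm (pow_mem (show ω' ∈ Geo.scalars ι F from ⟨_, rfl⟩) _) (g : GL ι F)).symm⟩
    refine (Nat.card_congr (Equiv.ofBijective cm ⟨?_, ?_⟩)).symm.trans (by simp)
    · intro i j hij
      have h1 := congrArg (fun g : Subgroup.center N => (((g : N) : GL ι F) : Matrix ι ι F)) hij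
      simp only [cm, hω'val] at h1
      obtain ⟨i₀⟩ := hne
      exact Fin.ext (hω.pow_inj i.2 j.2 (by simpa using congrFun (congrFun h1 i₀) i₀))
    · rintro ⟨⟨g, hg⟩, hgc⟩
      obtain ⟨c, hc⟩ := (Geo.mem_scalars_iff g).1 (hN.scalar_of_comm fun h hh =>
        (congrArg Subtype.val (Subgroup.mem_center_iff.1 hgc ⟨h, hh⟩)).symm)
      have h1 := hdet g hg
      rw [hc, Matrix.det_smul, Matrix.det_one, mul_one] at h1
      obtain ⟨k, hk, hkc⟩ := hω.eq_pow_of_pow_eq_one h1
      refine ⟨⟨k, hk⟩, Subtype.ext (Subtype.ext (Units.ext ?_))⟩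
      simp only [cm, hω'val, hkc, hc]
  refine ⟨ω, hω, hcard, hcenter, ⟨hp, ?_, ?_, ?_⟩, hcl, ?_⟩
  · intro g
    exact ⟨1, Subtype.ext (by simpa using hexp g g.2)⟩
  · intro A hA hAc
    let A' : Subgroup (GL ι F) := A.map N.subtype
    have hA' : A' ≤ Geo.scalars ι F := by
      refine hab A' (Subgroup.map_le_iff_le_comap.2 fun g _ => hle g.2) ?_ ?_
      · intro h hh g hg
        obtain ⟨a, ha, rfl⟩ := hg
        let f : N ≃* N :=
          { toFun := fun z => ⟨h * z * h⁻¹, hn h hh z z.2⟩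
            invFun := fun z => ⟨h⁻¹ * z * h, by simpa using hn h⁻¹ (H.inv_mem hh) z z.2⟩
            left_inv := fun z => Subtype.ext (by simp [mul_assoc])
            right_inv := fun z => Subtype.ext (by simp [mul_assoc])
            map_mul' := fun z w => Subtype.ext (by simp [mul_assoc]) }
        refine ⟨f a, ?_, rfl⟩
        have := hA.fixed f
        rw [← this] at ha
        exact ha
      · rintro g ⟨a, ha, rfl⟩ g' ⟨a', ha', rfl⟩
        exact congrArg (fun z : A => ((z : N) : GL ι F)) (mul_comm' (⟨a, ha⟩ : A) ⟨a', ha'⟩)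
    haveI : IsCyclic (Geo.scalars ι F) :=
      isCyclic_of_surjective (σc.rangeRestrict) σc.rangeRestrict_surjective
    let emb : A →* Geo.scalars ι F :=
      { toFun := fun a => ⟨((a : N) : GL ι F), hA' ⟨a, a.2, rfl⟩⟩
        map_one' := rfl
        map_mul' := fun _ _ => rfl }
    exact isCyclic_of_injective emb fun a b hab =>
      Subtype.ext (Subtype.ext (congrArg (fun z : Geo.scalars ι F => (z : GL ι F)) hab))
  · have hg2 : Nat.gcd 2 n = 1 := Nat.coprime_two_left.2 hodd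
    rw [hg2, mul_one]
    rcases hp.eq_one_or_self_of_dvd _ (Monoid.exponent_dvd_of_forall_pow_eq_one fun g : N =>
      Subtype.ext (by simpa using hexp g g.2)) with h1 | h1
    · exfalso
      apply hxy
      have := Monoid.exp_eq_one_iff.1 h1
      exact congrArg Subtype.val (Subsingleton.elim ((⟨x, hx⟩ : N) * ⟨y, hy⟩) (⟨y, hy⟩ * ⟨x, hx⟩))
    · exact h1
  · let e : Fin n ≃ ι := (Fintype.equivFin ι).symm
    refine ⟨b.reindex e, fun z hz => ?_, x, hx, fun i => ω ^ ((e.symm i : Fin n) : ℕ),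
      fun i j hij => e.symm.injective (Fin.ext (hω.pow_inj (e.symm i).2 (e.symm j).2 hij)),
      fun i => by rw [Module.Basis.reindex_apply, hb]; exact hb'x _⟩
    obtain ⟨⟨k, t, s⟩, hel'⟩ := hel_surj ⟨z, hz⟩
    refine ⟨(e.symm.trans (Equiv.addRight t)).trans e, fun i => (k : ℕ) + ((e.symm i : Fin n) : ℕ) * (s : ℕ),
      fun i => ?_⟩
    rw [Module.Basis.reindex_apply, Module.Basis.reindex_apply,
      show z = (el ⟨k, t, s⟩ : GL ι F) by rw [hel'], hel]
    simp [Fin.add_def]

end Cfsg.Agent.Aschbacher
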