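import Cfsg.Agent.Lib.Aschbacher.Basic

/-!
`SL` lies in none of the proper geometric stabilisers: witnesses by transvections.
-/

set_option autoImplicit false

namespace Cfsg.Agent.Aschbacher

open Matrix
open scoped MatrixGroups

variable {ι : Type} [Fintype ι] [DecidableEq ι] {F : Type*} [Field F]

/-- A functional as a dot product. -/
theorem exists_dotProduct_eq (φ : (ι → F) →ₗ[F] F) : ∃ a : ι → F, ∀ u, φ u = a ⬝ᵥ u := by
  refine ⟨fun i => φ (Pi.single i 1), fun u => ?_⟩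
  conv_lhs => rw [pi_eq_sum_univ' u]
  simp [dotProduct, mul_comm]

/-- For `z ∈ U`, `w ∉ U` there is a transvection of determinant one fixing `U` pointwise and adding `z`
to `w`. -/
theorem exists_transvection {U : Submodule F (ι → F)} {z w : ι → F} (hz : z ∈ U) (hw : w ∉ U) :
    ∃ (g : GL ι F) (φ : (ι → F) →ₗ[F] F), g ∈ Geo.specialLinear ι F ∧
      (∀ u, (g : Matrix ι ι F) *ᵥ u = u + φ u • z) ∧ (∀ u ∈ U, φ u = 0) ∧ φ w = 1 := by
  obtain ⟨ψ, hψw, hψU⟩ := Submodule.exists_dual_map_eq_bot_of_notMem hw inferInstance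
  have hU : ∀ u ∈ U, ψ u = 0 := fun u hu => by
    have := Submodule.mem_map_of_mem (f := ψ) hu
    rwa [hψU, Submodule.mem_bot] at this
  obtain ⟨a, ha⟩ := exists_dotProduct_eq ((ψ w)⁻¹ • ψ)
  simp only [LinearMap.smul_apply, smul_eq_mul] at ha
  have haz : a ⬝ᵥ z = 0 := by rw [← ha, hU z hz, mul_zero]
  have hsq : Matrix.vecMulVec z a * Matrix.vecMulVec z a = (0 : Matrix ι ι F) := by
    rw [Matrix.vecMulVec_mul_vecMulVec, haz, zero_smul, Matrix.vecMulVec_zero]
  have hdet : (1 + Matrix.vecMulVec z a : Matrix ι ι F).det = 1 := by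
    rw [Matrix.vecMulVec_eq Unit, Matrix.det_one_add_replicateCol_mul_replicateRow, haz, add_zero]
  refine ⟨⟨1 + Matrix.vecMulVec z a, 1 - Matrix.vecMulVec z a, ?_, ?_⟩, (ψ w)⁻¹ • ψ,
    Units.ext ?_, fun u => ?_, fun u hu => by simp [hU u hu], by simp [inv_mul_cancel₀ hψw]⟩
  · rw [add_mul, mul_sub, mul_sub, one_mul, one_mul, mul_one, hsq, sub_zero, sub_add_cancel]
  · rw [sub_mul, mul_add, mul_add, one_mul, one_mul, mul_one, hsq, add_zero, add_sub_cancel_right]
  · exact hdet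
  · show (1 + Matrix.vecMulVec z a) *ᵥ u = _
    rw [Matrix.add_mulVec, Matrix.one_mulVec, Matrix.vecMulVec_mulVec, op_smul_eq_smul,
      LinearMap.smul_apply, smul_eq_mul, ha]

theorem specialLinear_not_le_subspaceStabilizer {W : Submodule F (ι → F)} (h0 : W ≠ ⊥)
    (h1 : W ≠ ⊤) : ¬ Geo.specialLinear ι F ≤ Geo.subspaceStabilizer W := by
  intro hle
  obtain ⟨w, hw, hw0⟩ := (Submodule.ne_bot_iff W).1 h0
  obtain ⟨z, -, hz⟩ := SetLike.exists_of_lt (lt_top_iff_ne_top.2 h1)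
  have hwU : w ∉ Submodule.span F {z} := by
    intro h
    obtain ⟨c, rfl⟩ := Submodule.mem_span_singleton.1 h
    have hc : c ≠ 0 := by rintro rfl; simp at hw0
    exact hz (by simpa [smul_smul, inv_mul_cancel₀ hc] using W.smul_mem c⁻¹ hw)
  obtain ⟨g, φ, hg, hgu, -, hφw⟩ := exists_transvection (Submodule.mem_span_singleton_self z) hwU
  have := ((hle hg) w).1 hw
  change (g : Matrix ι ι F) *ᵥ w ∈ W at this
  rw [hgu, hφw, one_smul] at this
  exact hz (by simpa using W.sub_mem this hw)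

theorem specialLinear_not_le_frameStabilizer (hι : 2 ≤ Fintype.card ι) (b : Module.Basis ι F (ι → F)) :
    ¬ ∀ g ∈ Geo.specialLinear ι F, ∀ i, ∃ (j : ι) (c : F), (g : Matrix ι ι F) *ᵥ b i = c • b j := by
  intro hall
  obtain ⟨i, j, hij⟩ := Fintype.exists_pair_of_one_lt_card hι
  have hw : b i ∉ Submodule.span F {b j} := by
    intro h
    obtain ⟨c, hc⟩ := Submodule.mem_span_singleton.1 h
    simpa [Finsupp.single_apply, hij, hij.symm] using congrArg (fun u => b.repr u i) hc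
  obtain ⟨g, φ, hg, hgu, -, hφw⟩ := exists_transvection (Submodule.mem_span_singleton_self (b j)) hw
  obtain ⟨k, c, hk⟩ := hall g hg i
  rw [hgu, hφw, one_smul] at hk
  have h1 := congrArg (fun u => b.repr u i) hk
  have h2 := congrArg (fun u => b.repr u j) hk
  simp [Finsupp.single_apply, hij, hij.symm] at h1 h2
  obtain rfl : k = i := by
    by_contra hne
    simp [hne] at h1
  simp [hij] at h2

theorem specialLinear_not_le_subalgebraNormalizer (hι : 3 ≤ Fintype.card ι)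
    {K : Subalgebra F (Matrix ι ι F)} {r : ℕ} (hr : 2 ≤ r) (hK : Geo.IsFieldSubalgebra r K) :
    ¬ Geo.specialLinear ι F ≤ Geo.subalgebraNormalizer K := by
  intro hle
  have hne : Nonempty ι := Fintype.card_pos_iff.1 (by omega)
  obtain ⟨k, hk, hkns⟩ : ∃ k ∈ K, ∀ c : F, k ≠ c • (1 : Matrix ι ι F) := by
    by_contra hcon
    push Not at hcon
    have hbot : K = ⊥ := by
      refine eq_bot_iff.2 fun k hk => ?_
      obtain ⟨c, rfl⟩ := hcon k hk
      exact Algebra.mem_bot.2 ⟨c, by rw [Algebra.algebraMap_eq_smul_one]⟩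
    have := hK.finrank_eq
    rw [hbot, Subalgebra.finrank_bot] at this
    omega
  have hinj : ∀ m ∈ K, ∀ u : ι → F, u ≠ 0 → m *ᵥ u = 0 → m = 0 := by
    intro m hm u hu0 hmu
    by_contra h0
    obtain ⟨m', hm', hmm⟩ := hK.inv m hm h0
    have hmm' : m' * m = 1 := by rw [hK.comm _ hm' _ hm, hmm]
    apply hu0
    rw [← Matrix.one_mulVec u, ← hmm', ← Matrix.mulVec_mulVec, hmu, Matrix.mulVec_zero]
  obtain ⟨i₀⟩ := hne
  let z : ι → F := Pi.single i₀ 1
  have hz0 : z ≠ 0 := fun h => by simpa [z] using congrFun h i₀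
  have hkz : k *ᵥ z ∉ Submodule.span F {z} := by
    intro h
    obtain ⟨c, hc⟩ := Submodule.mem_span_singleton.1 h
    exact hkns c (sub_eq_zero.1 (hinj (k - c • 1)
      (K.sub_mem hk (K.smul_mem K.one_mem c)) z hz0
      (by rw [Matrix.sub_mulVec, Matrix.smul_mulVec, Matrix.one_mulVec, hc, sub_self])))
  obtain ⟨g, φ, hg, hgu, hφU, hφw⟩ :=
    exists_transvection (Submodule.mem_span_singleton_self z) hkz
  have hm : (g : Matrix ι ι F) * k * ((g⁻¹ : GL ι F) : Matrix ι ι F) ∈ K := (hle hg k).1 hk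
  -- a non-zero vector killed by `φ` and `φ ∘ k`
  obtain ⟨u, hu, hu0⟩ : ∃ u, (φ u = 0 ∧ φ (k *ᵥ u) = 0) ∧ u ≠ 0 := by
    let L : (ι → F) →ₗ[F] F × F := φ.prod (φ.comp (Matrix.toLin' k))
    have hker : LinearMap.ker L ≠ ⊥ := by
      intro h
      have h1 := LinearMap.finrank_le_finrank_of_injective (LinearMap.ker_eq_bot.1 h)
      simp [Module.finrank_fintype_fun_eq_card] at h1
      omega
    obtain ⟨u, hu, hu0⟩ := (Submodule.ne_bot_iff _).1 hker
    have hu' : L u = 0 := hu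
    refine ⟨u, ⟨congrArg Prod.fst hu', ?_⟩, hu0⟩
    simpa [L] using congrArg Prod.snd hu'
  have hgfix : ((g⁻¹ : GL ι F) : Matrix ι ι F) *ᵥ u = u := by
    conv_lhs => rw [show u = (g : Matrix ι ι F) *ᵥ u by rw [hgu, hu.1, zero_smul, add_zero]]
    exact inv_mulVec g u
  have hzero := hinj _ (K.sub_mem hm hk) u hu0 (by
    rw [Matrix.sub_mulVec, ← Matrix.mulVec_mulVec, ← Matrix.mulVec_mulVec, hgfix, hgu, hu.2,
      zero_smul, add_zero, sub_self])
  rw [sub_eq_zero] at hzero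
  have h1 : (g : Matrix ι ι F) * k = k * (g : Matrix ι ι F) := by
    calc (g : Matrix ι ι F) * k
        = (g : Matrix ι ι F) * k * ((g⁻¹ : GL ι F) : Matrix ι ι F) * (g : Matrix ι ι F) := by
          rw [mul_assoc _ _ (g : Matrix ι ι F), ← Units.val_mul, inv_mul_cancel, Units.val_one, mul_one]
      _ = k * (g : Matrix ι ι F) := by rw [hzero]
  have h2 := congrArg (· *ᵥ z) h1
  simp only [← Matrix.mulVec_mulVec] at h2
  rw [hgu, hgu, hφU z (Submodule.mem_span_singleton_self z), zero_smul, add_zero, hφw, one_smul] at h2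
  exact hz0 (by simpa using h2)

theorem specialLinear_not_le_subfieldSubgroup (hι : 2 ≤ Fintype.card ι) {F₀ : Subfield F}
    (hF₀ : F₀ ≠ ⊤) (P : GL ι F) :
    ¬ Geo.specialLinear ι F ≤ Geo.subfieldSubgroup F₀ P := by
  intro hle
  obtain ⟨i, j, hij⟩ := Fintype.exists_pair_of_one_lt_card hι
  obtain ⟨a, -, ha⟩ := SetLike.exists_of_lt (lt_top_iff_ne_top.2 hF₀)
  let t : GL ι F := Matrix.SpecialLinearGroup.toGL (Matrix.SpecialLinearGroup.transvection hij a)
  have ht : (MulAut.conj P) t ∈ Geo.specialLinear ι F := by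
    show Matrix.GeneralLinearGroup.det (P * t * P⁻¹) = 1
    rw [map_mul, map_mul, map_inv, mul_comm, inv_mul_cancel_left]
    exact Units.ext (Matrix.SpecialLinearGroup.transvection hij a).2
  obtain ⟨s, hs, hst⟩ := hle ht
  obtain rfl : s = t := (MulAut.conj P).injective hst
  obtain ⟨g, hg, c, hc, hgc⟩ := Subgroup.mem_sup_of_normal_right.1 hs
  obtain ⟨g₀, rfl⟩ := hg
  obtain ⟨d, hd⟩ := (Geo.mem_scalars_iff c).1 hc
  have hent : ∀ k l, (t : Matrix ι ι F) k l = (g₀ : Matrix ι ι F₀) k l * (d : F) := by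
    intro k l
    rw [← hgc, Units.val_mul, hd, Matrix.mul_smul, mul_one, Matrix.smul_apply, smul_eq_mul, mul_comm]
    rfl
  have h1 := hent i i
  have h2 := hent i j
  simp [t, Matrix.SpecialLinearGroup.transvection_coe, hij, hij.symm] at h1 h2
  apply ha
  have hd0 : (d : F) = ((g₀ : Matrix ι ι F₀) i i : F)⁻¹ := eq_inv_of_mul_eq_one_right h1.symm
  rw [h2, hd0]
  exact mul_mem (SetLike.coe_mem _) (inv_mem (SetLike.coe_mem _))

end Cfsg.Agent.Aschbacher
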