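import Cfsg.Agent.Lib.Aschbacher.FormUnitary
import Cfsg.Prelude.Def_GeometricClasses

/-!
The unitary outcomes are members of the geometric classes.
-/

set_option autoImplicit false

namespace Cfsg.Agent.Aschbacher

open Matrix
open scoped MatrixGroups

theorem hermForm_standard {n q : ℕ} (hn : 0 < n) {F : Type*} [Field F] [Fintype F]
    (hF : Fintype.card F = q ^ 2) :
    ∃ σ : F ≃+* F, Herm q σ (hermForm n F q) ∧
      Orthonormal (hermForm n F q) (Pi.basisFun F (Fin n)) := by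
  obtain ⟨p, k, hp, hpC, hk, hq, hcard⟩ := exists_frob hF
  haveI := hpC
  haveI : Fact p.Prime := ⟨hp⟩
  set σ : F ≃+* F := frob p k
  have hσ : ∀ a : F, σ a = a ^ q := fun a => by rw [hq]; exact frob_apply p k a
  have hne : σ ≠ RingEquiv.refl F := by
    intro h
    obtain ⟨a, ha⟩ := exists_pow_ne_self (F := F) p hk
      (by rw [hcard]; exact Nat.pow_lt_pow_right hp.one_lt (by omega))
    exact ha (by simpa [σ, frob_apply] using RingEquiv.congr_fun h a)
  have hq0 : 0 < q := by linarith [one_lt_q hF]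
  refine ⟨σ, ⟨hF, hσ, ⟨hne, frob_involutive p hcard, fun x y v => ?_, fun c x v => ?_, fun v w => ?_,
    fun v hv => ?_⟩⟩, fun i j => ?_⟩
  · simp [hermForm, add_mul, Finset.sum_add_distrib]
  · simp [hermForm, Finset.mul_sum, mul_assoc]
  · simp only [hermForm, map_sum, map_mul]
    refine Finset.sum_congr rfl fun i _ => ?_
    rw [← hσ, ← hσ, frob_involutive p hcard, mul_comm]
  · obtain ⟨i, hi⟩ := Function.ne_iff.1 hv
    exact ⟨⟨Pi.single i 1, by simpa [hermForm, Pi.single_apply, ite_mul] using pow_ne_zero q hi⟩,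
      ⟨Pi.single i 1, by
        simp [hermForm, Pi.single_apply, ite_pow, zero_pow hq0.ne', mul_ite]
        exact hi⟩⟩
  · simp [hermForm, Pi.basisFun_apply, Pi.single_apply, ite_pow, zero_pow hq0.ne', eq_comm]

theorem unitary_structure {F : Type*} [Field F] [Fintype F] (n q : ℕ) (hF : Fintype.card F = q ^ 2) (hn : 3 ≤ n)
    (H : Subgroup (GL (Fin n) F)) (hH : H ≤ GU n F q) :
    (∃ M, Geo.InUnitaryClass n F q M ∧ H ≤ M) ∨ Geo.InUnitaryResidualClass H := by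
  have : NeZero n := ⟨by omega⟩
  obtain ⟨σ, hh, -⟩ := hermForm_standard (n := n) (by omega) hF
  cases unitary_outcome hh hn hH with
  | totallySingular W h0 hts hle =>
    exact Or.inl ⟨_, Or.inl <| Or.inl ⟨W, h0, hts, rfl⟩, le_inf hle hH⟩
  | nondegenerate W h0 hnd hdim hle =>
    exact Or.inl ⟨_, Or.inl <| Or.inr <| Or.inl ⟨W, h0, hnd, by simpa using hdim, rfl⟩, le_inf hle hH⟩
  | decomposition t k D hD hle =>
    exact Or.inl ⟨_, Or.inl <| Or.inr <| Or.inr <| Or.inl ⟨t, k, D, hD, rfl⟩, le_inf hle hH⟩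
  | pair k D hk hD hts hle =>
    exact Or.inl ⟨_, Or.inl <| Or.inr <| Or.inr <| Or.inr <| Or.inl ⟨k, D, by simpa using hk, hD, hts, rfl⟩,
      le_inf hle hH⟩
  | field r K hr hodd hK hcl hle =>
    exact Or.inl ⟨_, Or.inr <| Or.inl ⟨r, K, hr, hodd, hK, hcl, rfl⟩, le_inf hle hH⟩
  | tensor n₁ n₂ e P f₁ f₂ h2 hlt hf₁ hf₂ hstr hle =>
    exact Or.inl ⟨_, Or.inr <| Or.inr <| Or.inl ⟨n₁, n₂, e, P, f₁, f₂, h2, hlt, hf₁, hf₂, hstr, rfl⟩,
      le_inf hle hH⟩
  | tensorPower k t e P f₁ hk ht hex hf₁ hstr hle =>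
    exact Or.inl ⟨_, Or.inr <| Or.inr <| Or.inr ⟨k, t, e, P, f₁, hk, ht, hex, hf₁, hstr, rfl⟩, le_inf hle hH⟩
  | subfield F₀ r P hr hodd hcard hrat hle =>
    exact Or.inl ⟨_, Or.inl <| Or.inr <| Or.inr <| Or.inr <| Or.inr <| Or.inl
      ⟨F₀, r, P, hr, hodd, hcard, hrat, rfl⟩, le_inf hle hH⟩
  | subfieldOrth F₀ P hodd hcard hrat hle =>
    exact Or.inl ⟨_, Or.inl <| Or.inr <| Or.inr <| Or.inr <| Or.inr <| Or.inr <| Or.inl
      ⟨F₀, P, hodd, hcard, hrat, rfl⟩, le_inf hle hH⟩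
  | subfieldSymp F₀ P ζ heven hcard hζ hζq hrat hvan hle =>
    exact Or.inl ⟨_, Or.inl <| Or.inr <| Or.inr <| Or.inr <| Or.inr <| Or.inr <| Or.inr <| Or.inl
      ⟨F₀, P, ζ, by simpa using heven, hcard, hζ, hζq, hrat, hvan, rfl⟩, le_inf hle hH⟩
  | symplecticType r R p e k hdim hR habs hsim hrp hmin hcase hle =>
    exact Or.inl ⟨_, Or.inl <| Or.inr <| Or.inr <| Or.inr <| Or.inr <| Or.inr <| Or.inr <| Or.inr
      ⟨r, R, p, e, k, hR, habs, hsim, hrp, hmin, hcase, rfl⟩, le_inf hle hH⟩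
  | residual hres => exact Or.inr hres

end Cfsg.Agent.Aschbacher
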