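import Cfsg.Agent.Lib.Aschbacher.Common

/-!
Hermitian forms over `F_{q²}`: isotropic vectors, transvections in `SU`, and witnesses that `SU` lies in
none of the proper geometric stabilisers.
-/

set_option autoImplicit false

namespace Cfsg.Agent.Aschbacher

open Matrix
open scoped MatrixGroups

variable {ι : Type} [Fintype ι] [DecidableEq ι] {F : Type*} [Field F]

/-- A non-degenerate Hermitian form for `x ↦ x ^ q` on a field of order `q ^ 2`. -/
structure Herm [Fintype F] (q : ℕ) (σ : F ≃+* F) (f : (ι → F) → (ι → F) → F) : Prop where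
  card : Fintype.card F = q ^ 2
  apply_eq : ∀ a : F, σ a = a ^ q
  form : Geo.IsUnitaryForm σ f

/-- An orthonormal basis. -/
def Orthonormal (f : (ι → F) → (ι → F) → F) (b : Module.Basis ι F (ι → F)) : Prop :=
  ∀ i j, f (b i) (b j) = if i = j then 1 else 0

/-- The special unitary group of `f`. -/
def unitarySL (f : (ι → F) → (ι → F) → F) : Subgroup (GL ι F) :=
  preserving (glToMat ι F) f ⊓ Geo.specialLinear ι F

theorem mem_preserving {f : (ι → F) → (ι → F) → F} {g : GL ι F} :
    g ∈ preserving (glToMat ι F) f ↔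
      ∀ u v, f ((g : Matrix ι ι F) *ᵥ u) ((g : Matrix ι ι F) *ᵥ v) = f u v :=
  Iff.rfl

theorem one_lt_q [Fintype F] {q : ℕ} (h : Fintype.card F = q ^ 2) : 1 < q := by
  have h2 := Fintype.one_lt_card (α := F)
  rw [h] at h2
  by_contra hq
  have := Nat.pow_le_pow_left (Nat.le_of_not_lt hq) 2
  omega

theorem exists_frob [Fintype F] {q : ℕ} (h : Fintype.card F = q ^ 2) :
    ∃ p k : ℕ, p.Prime ∧ CharP F p ∧ 0 < k ∧ q = p ^ k ∧ Fintype.card F = p ^ (2 * k) := by
  obtain ⟨p, hpC⟩ := CharP.exists F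
  haveI := hpC
  obtain ⟨e, hp, he⟩ := FiniteField.card F p
  obtain ⟨k, -, hk⟩ := (Nat.dvd_prime_pow hp).1 (show q ∣ p ^ (e : ℕ) from
    he ▸ h ▸ dvd_pow_self q two_ne_zero)
  have hk0 : 0 < k := by
    rcases Nat.eq_zero_or_pos k with rfl | h0
    · have := one_lt_q h; rw [hk] at this; simp at this
    · exact h0
  exact ⟨p, k, hp, hpC, hk0, hk, by rw [h, hk, ← pow_mul, mul_comm]⟩

variable [Fintype F] {q : ℕ} {σ : F ≃+* F} {f : (ι → F) → (ι → F) → F}

theorem Herm.sesq (h : Herm q σ f) : IsSesq σ.toRingHom f := IsSesq.of_unitary h.form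

theorem Herm.zero_left (h : Herm q σ f) (v : ι → F) : f 0 v = 0 := h.sesq.zero_left v

theorem Herm.zero_right (h : Herm q σ f) (v : ι → F) : f v 0 = 0 := h.sesq.zero_right v

theorem Herm.eq_zero_comm (h : Herm q σ f) {u v : ι → F} (huv : f u v = 0) : f v u = 0 := by
  rw [h.form.herm, huv, map_zero]

theorem Herm.repr_eq (h : Herm q σ f) {b : Module.Basis ι F (ι → F)} (hb : Orthonormal f b)
    (u : ι → F) (i : ι) : f u (b i) = b.repr u i := by
  let φ : (ι → F) →ₗ[F] F :=
    { toFun := fun u => f u (b i), map_add' := fun x y => h.sesq.add_left x y _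
      map_smul' := fun c x => h.sesq.smul_left c x _ }
  show φ u = _
  conv_lhs => rw [← b.sum_repr u, map_sum]
  rw [Finset.sum_eq_single i]
  · rw [map_smul, smul_eq_mul, show φ (b i) = 1 from (hb i i).trans (if_pos rfl), mul_one]
  · intro j _ hj
    rw [map_smul, smul_eq_mul, show φ (b j) = 0 from (hb j i).trans (if_neg hj), mul_zero]
  · simp

/-- A fixed non-zero element is a norm. -/
theorem Herm.exists_norm (h : Herm q σ f) {x : F} (hx0 : x ≠ 0) (hx : σ x = x) :
    ∃ a : F, a * σ a = x := by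
  have hq := one_lt_q h.card
  obtain ⟨g, hg⟩ := IsCyclic.exists_ofOrder_eq_natCard (α := Fˣ)
  rw [Nat.card_units, Nat.card_eq_fintype_card, h.card] at hg
  have hgen : ∀ y : Fˣ, y ∈ Subgroup.zpowers g := by
    intro y
    have : Subgroup.zpowers g = ⊤ := Subgroup.eq_top_of_card_eq _ (by
      rw [Nat.card_zpowers, hg, Nat.card_units, Nat.card_eq_fintype_card, h.card])
    rw [this]; trivial
  obtain ⟨s, hs⟩ := mem_powers_iff_mem_zpowers.2 (hgen (Units.mk0 x hx0))
  simp only at hs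
  have hsx : (g : F) ^ s = x := by simpa using congrArg Units.val hs
  have h1 : g ^ (s * (q - 1)) = 1 := by
    have h2 : x ^ (q - 1) = 1 := by
      have h3 : x ^ (q - 1) * x = 1 * x := by
        rw [← pow_succ, Nat.sub_add_cancel hq.le, one_mul, ← h.apply_eq, hx]
      exact mul_right_cancel₀ hx0 h3
    exact Units.ext (by rw [Units.val_pow_eq_pow_val, pow_mul, hsx, h2, Units.val_one])
  have hd := orderOf_dvd_of_pow_eq_one h1
  rw [hg, show q ^ 2 - 1 = (q + 1) * (q - 1) by rw [← Nat.sq_sub_sq, one_pow]] at hd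
  obtain ⟨m, hm⟩ := Nat.dvd_of_mul_dvd_mul_right (by omega) hd
  refine ⟨(g : F) ^ m, ?_⟩
  rw [h.apply_eq, ← pow_succ', ← pow_mul, mul_comm m, ← hm, hsx]

theorem Herm.exists_ne (h : Herm q σ f) : ∃ z : F, σ z ≠ z := by
  by_contra hcon
  push Not at hcon
  exact h.form.ne_refl (RingEquiv.ext hcon)

theorem Herm.exists_antifixed (h : Herm q σ f) : ∃ c : F, c ≠ 0 ∧ c + σ c = 0 := by
  obtain ⟨z, hz⟩ := h.exists_ne
  exact ⟨z - σ z, sub_ne_zero.2 (Ne.symm hz), by rw [map_sub, h.form.involutive]; ring⟩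

/-- An element of norm one and order `q + 1`. -/
theorem Herm.exists_norm_one_gen (h : Herm q σ f) :
    ∃ z : F, z * σ z = 1 ∧ z ≠ 1 ∧ z ^ 2 ≠ 1 := by
  have hq := one_lt_q h.card
  obtain ⟨g, hg⟩ := IsCyclic.exists_ofOrder_eq_natCard (α := Fˣ)
  rw [Nat.card_units, Nat.card_eq_fintype_card, h.card,
    show q ^ 2 - 1 = (q + 1) * (q - 1) by rw [← Nat.sq_sub_sq, one_pow]] at hg
  have hne : ∀ m, 0 < m → m < q + 1 → ((g : F) ^ (q - 1)) ^ m ≠ 1 := by
    intro m hm hlt h1
    have h2 : g ^ ((q - 1) * m) = 1 :=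
      Units.ext (by rw [Units.val_pow_eq_pow_val, pow_mul, h1, Units.val_one])
    have h3 := orderOf_dvd_of_pow_eq_one h2
    rw [hg, mul_comm (q - 1)] at h3
    have := Nat.le_of_dvd hm (Nat.dvd_of_mul_dvd_mul_right (by omega) h3)
    omega
  refine ⟨(g : F) ^ (q - 1), ?_, by simpa using hne 1 one_pos (by omega), hne 2 two_pos (by omega)⟩
  rw [h.apply_eq, ← pow_succ', ← pow_mul, mul_comm (q - 1), ← hg, ← Units.val_pow_eq_pow_val,
    pow_orderOf_eq_one, Units.val_one]

theorem Herm.exists_norm_neg_one (h : Herm q σ f) : ∃ a : F, a * σ a = -1 :=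
  h.exists_norm (by simp) (by simp)

/-- The isotropic vector `b i + a b j`. -/
noncomputable def isoVec (b : Module.Basis ι F (ι → F)) (i j : ι) (a : F) : ι → F := b i + a • b j

theorem Herm.isoVec_form (h : Herm q σ f) {b : Module.Basis ι F (ι → F)} (hb : Orthonormal f b)
    (i j k l : ι) (a c : F) :
    f (isoVec b i j a) (isoVec b k l c) =
      (if i = k then 1 else 0) + σ c * (if i = l then 1 else 0) + a * (if j = k then 1 else 0) +
        a * σ c * (if j = l then 1 else 0) := by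
  have hb' : ∀ i j, f (b i) (b j) = if i = j then 1 else 0 := hb
  simp only [isoVec, h.sesq.add_left, h.sesq.add_right, h.sesq.smul_left, h.sesq.smul_right, hb',
    RingEquiv.toRingHom_eq_coe, RingHom.coe_coe]
  ring

theorem Herm.isoVec_isotropic (h : Herm q σ f) {b : Module.Basis ι F (ι → F)} (hb : Orthonormal f b)
    {i j : ι} (hij : i ≠ j) {a : F} (ha : a * σ a = -1) :
    f (isoVec b i j a) (isoVec b i j a) = 0 := by
  rw [h.isoVec_form hb]
  simp only [hij, hij.symm, if_true, if_false, mul_zero, mul_one, add_zero, ha]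
  ring

/-- Transvections in the special unitary group. -/
theorem Herm.exists_transvection (h : Herm q σ f) {v : ι → F} (hv : f v v = 0) {c : F}
    (hc : c + σ c = 0) :
    ∃ g : GL ι F, g ∈ unitarySL f ∧ (∀ u, (g : Matrix ι ι F) *ᵥ u = u + (c * f u v) • v) := by
  let φ : (ι → F) →ₗ[F] F :=
    { toFun := fun u => c * f u v
      map_add' := fun x y => by rw [h.sesq.add_left, mul_add]
      map_smul' := fun r x => by rw [h.sesq.smul_left, RingHom.id_apply, smul_eq_mul]; ring }
  obtain ⟨a, ha⟩ := exists_dotProduct_eq φ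
  have haz : a ⬝ᵥ v = 0 := by rw [← ha]; show c * f v v = 0; rw [hv, mul_zero]
  have hsq : Matrix.vecMulVec v a * Matrix.vecMulVec v a = (0 : Matrix ι ι F) := by
    rw [Matrix.vecMulVec_mul_vecMulVec, haz, zero_smul, Matrix.vecMulVec_zero]
  have hdet : (1 + Matrix.vecMulVec v a : Matrix ι ι F).det = 1 := by
    rw [Matrix.vecMulVec_eq Unit, Matrix.det_one_add_replicateCol_mul_replicateRow, haz, add_zero]
  have hmul : ∀ u, (1 + Matrix.vecMulVec v a : Matrix ι ι F) *ᵥ u = u + (c * f u v) • v := by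
    intro u
    rw [Matrix.add_mulVec, Matrix.one_mulVec, Matrix.vecMulVec_mulVec, op_smul_eq_smul, ← ha]
    rfl
  refine ⟨⟨1 + Matrix.vecMulVec v a, 1 - Matrix.vecMulVec v a, ?_, ?_⟩,
    ⟨fun u w => ?_, Units.ext hdet⟩, hmul⟩
  · rw [add_mul, mul_sub, mul_sub, one_mul, one_mul, mul_one, hsq, sub_zero, sub_add_cancel]
  · rw [sub_mul, mul_add, mul_add, one_mul, one_mul, mul_one, hsq, add_zero, add_sub_cancel_right]
  · show f ((1 + Matrix.vecMulVec v a) *ᵥ u) ((1 + Matrix.vecMulVec v a) *ᵥ w) = f u w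
    rw [hmul, hmul]
    simp only [h.sesq.add_left, h.sesq.add_right, h.sesq.smul_left, h.sesq.smul_right,
      RingEquiv.toRingHom_eq_coe, RingHom.coe_coe, map_mul, hv, mul_zero, add_zero]
    rw [← h.form.herm v w]
    linear_combination (f u v * f v w) * hc

theorem Herm.norm_neg_one_ne_zero {a : F} (ha : a * σ a = -1) : a ≠ 0 := by
  rintro rfl
  simp at ha

theorem Herm.specialUnitary_not_le_subspaceStabilizer (h : Herm q σ f)
    {b : Module.Basis ι F (ι → F)} (hb : Orthonormal f b) (hι : 3 ≤ Fintype.card ι)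
    {W : Submodule F (ι → F)} (h0 : W ≠ ⊥) (h1 : W ≠ ⊤) :
    ¬ unitarySL f ≤ Geo.subspaceStabilizer W := by
  classical
  intro hle
  obtain ⟨c, hc0, hc⟩ := h.exists_antifixed
  obtain ⟨a, ha⟩ := h.exists_norm_neg_one
  obtain ⟨z, hz, hz1, -⟩ := h.exists_norm_one_gen
  have ha' : (a * z) * σ (a * z) = -1 := by
    rw [map_mul, mul_mul_mul_comm, ha, hz, mul_one]
  have ha0 : a ≠ 0 := Herm.norm_neg_one_ne_zero ha
  -- each isotropic vector lies in `W` or is orthogonal to `W`
  have hcases : ∀ i j, i ≠ j → ∀ x, x * σ x = -1 →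
      isoVec b i j x ∈ W ∨ ∀ w ∈ W, f w (isoVec b i j x) = 0 := by
    intro i j hij x hx
    obtain ⟨g, hg, hgu⟩ := h.exists_transvection (h.isoVec_isotropic hb hij hx) hc
    by_contra hcon
    push Not at hcon
    obtain ⟨hnW, w, hw, hwne⟩ := hcon
    have := ((hle hg) w).1 hw
    change (g : Matrix ι ι F) *ᵥ w ∈ W at this
    rw [hgu] at this
    have h2 : (c * f w (isoVec b i j x)) • isoVec b i j x ∈ W := by simpa using W.sub_mem this hw
    exact hnW ((Submodule.smul_mem_iff W (mul_ne_zero hc0 hwne)).1 h2)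
  have hedge : ∀ i j x k l y, i ≠ j → x * σ x = -1 → k ≠ l → y * σ y = -1 →
      f (isoVec b i j x) (isoVec b k l y) ≠ 0 → (isoVec b i j x ∈ W ↔ isoVec b k l y ∈ W) := by
    intro i j x k l y hij hx hkl hy hne
    constructor <;> intro hm
    · exact (hcases k l hkl y hy).resolve_right fun hh => hne (hh _ hm)
    · exact (hcases i j hij x hx).resolve_right fun hh => hne (h.eq_zero_comm (hh _ hm))
  -- moves
  have hmove1 : ∀ i j k x y, i ≠ j → i ≠ k → j ≠ k → x * σ x = -1 → y * σ y = -1 →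
      (isoVec b i j x ∈ W ↔ isoVec b i k y ∈ W) := fun i j k x y hij hik hjk hx hy =>
    hedge _ _ _ _ _ _ hij hx hik hy (by rw [h.isoVec_form hb]; simp [hik, hij.symm, hjk])
  have hmove2 : ∀ i j k x y, i ≠ j → k ≠ j → i ≠ k → x * σ x = -1 → y * σ y = -1 →
      (isoVec b i j x ∈ W ↔ isoVec b k j y ∈ W) := fun i j k x y hij hkj hik hx hy =>
    hedge _ _ _ _ _ _ hij hx hkj hy (by
      rw [h.isoVec_form hb]
      simp [hik, hij, hkj.symm, Herm.norm_neg_one_ne_zero hx, Herm.norm_neg_one_ne_zero hy])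
  have hthird : ∀ i j : ι, ∃ k, k ≠ i ∧ k ≠ j := by
    intro i j
    have hlt : ({i, j} : Finset ι).card < (Finset.univ : Finset ι).card := by
      rw [Finset.card_univ]
      exact lt_of_le_of_lt Finset.card_le_two (by omega)
    obtain ⟨k, -, hk⟩ := Finset.exists_mem_notMem_of_card_lt_card hlt
    exact ⟨k, by simp_all⟩
  have hall : ∀ i j k l x y, i ≠ j → k ≠ l → x * σ x = -1 → y * σ y = -1 →
      (isoVec b i j x ∈ W ↔ isoVec b k l y ∈ W) := by
    have hsame : ∀ i j x y, i ≠ j → x * σ x = -1 → y * σ y = -1 →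
        (isoVec b i j x ∈ W ↔ isoVec b i j y ∈ W) := by
      intro i j x y hij hx hy
      obtain ⟨k, hki, hkj⟩ := hthird i j
      exact (hmove1 i j k x x hij hki.symm hkj.symm hx hx).trans
        (hmove1 i k j x y hki.symm hij hkj hx hy)
    have hfirst : ∀ i j l x y, i ≠ j → i ≠ l → x * σ x = -1 → y * σ y = -1 →
        (isoVec b i j x ∈ W ↔ isoVec b i l y ∈ W) := by
      intro i j l x y hij hil hx hy
      by_cases hjl : j = l
      · subst hjl; exact hsame i j x y hij hx hy
      · exact hmove1 i j l x y hij hil hjl hx hy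
    intro i j k l x y hij hkl hx hy
    by_cases hik : i = k
    · subst hik; exact hfirst i j l x y hij hkl hx hy
    · obtain ⟨m, hmi, hmk⟩ := hthird i k
      exact ((hfirst i j m x x hij hmi.symm hx hx).trans
        (hmove2 i m k x x hmi.symm hmk.symm hik hx hx)).trans (hfirst k m l x y hmk.symm hkl hx hy)
  obtain ⟨i₀, j₀, hij₀⟩ := Fintype.exists_pair_of_one_lt_card (show 1 < Fintype.card ι by omega)
  have hspan : ∀ V : Submodule F (ι → F),
      (∀ i j, i ≠ j → ∀ x, x * σ x = -1 → isoVec b i j x ∈ V) → V = ⊤ := by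
    intro V hV
    refine top_le_iff.1 (b.span_eq ▸ Submodule.span_le.2 ?_)
    rintro _ ⟨i, rfl⟩
    obtain ⟨j, hji, -⟩ := hthird i i
    have h2 := hV i j hji.symm a ha
    have h3 := hV i j hji.symm (a * z) ha'
    simp only [isoVec] at h2 h3
    have h4 := V.sub_mem h3 h2
    rw [add_sub_add_left_eq_sub, ← sub_smul] at h4
    have hne : a * z - a ≠ 0 := by
      rw [← mul_sub_one]; exact mul_ne_zero ha0 (sub_ne_zero.2 hz1)
    have h5 := (Submodule.smul_mem_iff V hne).1 h4
    simpa using V.sub_mem h2 (V.smul_mem a h5)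
  by_cases hin : isoVec b i₀ j₀ a ∈ W
  · exact h1 (hspan W fun i j hij x hx => (hall i₀ j₀ i j a x hij₀ hij ha hx).1 hin)
  · let V : Submodule F (ι → F) :=
      { carrier := {u | ∀ w ∈ W, f w u = 0}
        zero_mem' := fun w _ => h.zero_right w
        add_mem' := fun {u v} hu hv w hw => by rw [h.sesq.add_right, hu w hw, hv w hw, add_zero]
        smul_mem' := fun r u hu w hw => by rw [h.sesq.smul_right, hu w hw, mul_zero] }
    have hV : V = ⊤ := hspan V fun i j hij x hx => (hcases i j hij x hx).resolve_left fun hm =>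
      hin ((hall i₀ j₀ i j a x hij₀ hij ha hx).2 hm)
    obtain ⟨w, hw, hw0⟩ := (Submodule.ne_bot_iff W).1 h0
    obtain ⟨u, hu⟩ := (h.form.nondegenerate w hw0).2
    exact hu ((hV.ge (Submodule.mem_top : u ∈ ⊤)) w hw)

theorem Herm.specialUnitary_not_le_subalgebraNormalizer (h : Herm q σ f)
    {b : Module.Basis ι F (ι → F)} (hb : Orthonormal f b) (hι : 3 ≤ Fintype.card ι)
    {K : Subalgebra F (Matrix ι ι F)} {r : ℕ} (hr : 2 ≤ r) (hK : Geo.IsFieldSubalgebra r K) :
    ¬ unitarySL f ≤ Geo.subalgebraNormalizer K := by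
  intro hle
  haveI : Nonempty ι := Fintype.card_pos_iff.1 (by omega)
  obtain ⟨k, hk, hkns⟩ : ∃ k ∈ K, ∀ c : F, k ≠ c • (1 : Matrix ι ι F) := by
    by_contra hcon
    push Not at hcon
    have hbot : K = ⊥ := by
      refine eq_bot_iff.2 fun k hk => ?_
      obtain ⟨c, rfl⟩ := hcon k hk
      exact Algebra.mem_bot.2 ⟨c, by rw [Algebra.algebraMap_eq_smul_one]⟩
    have := hK.finrank_eq
    rw [hbot, Subalgebra.finrank_bot] at this
    omega
  have hinj : ∀ m ∈ K, ∀ u : ι → F, u ≠ 0 → m *ᵥ u = 0 → m = 0 := by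
    intro m hm u hu0 hmu
    by_contra h0
    obtain ⟨m', hm', hmm⟩ := hK.inv m hm h0
    have hmm' : m' * m = 1 := by rw [hK.comm _ hm' _ hm, hmm]
    apply hu0
    rw [← Matrix.one_mulVec u, ← hmm', ← Matrix.mulVec_mulVec, hmu, Matrix.mulVec_zero]
  obtain ⟨i, j, hij⟩ := Fintype.exists_pair_of_one_lt_card (show 1 < Fintype.card ι by omega)
  obtain ⟨c, hc0, hc⟩ := h.exists_antifixed
  obtain ⟨a, ha⟩ := h.exists_norm_neg_one
  set v := isoVec b i j a
  have hv0 : v ≠ 0 := by
    intro hv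
    have := congrArg (fun u => b.repr u i) hv
    simp [v, isoVec, Finsupp.single_apply, hij.symm] at this
  obtain ⟨g, hg, hgu⟩ := h.exists_transvection (h.isoVec_isotropic hb hij ha) hc
  have hm : (g : Matrix ι ι F) * k * ((g⁻¹ : GL ι F) : Matrix ι ι F) ∈ K := (hle hg k).1 hk
  obtain ⟨u, ⟨hu1, hu2⟩, hu0⟩ : ∃ u, (f u v = 0 ∧ f (k *ᵥ u) v = 0) ∧ u ≠ 0 := by
    let φ : (ι → F) →ₗ[F] F :=
      { toFun := fun u => f u v, map_add' := fun x y => h.sesq.add_left x y v
        map_smul' := fun r x => h.sesq.smul_left r x v }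
    let L : (ι → F) →ₗ[F] F × F := φ.prod (φ.comp (Matrix.toLin' k))
    have hker : LinearMap.ker L ≠ ⊥ := by
      intro h'
      have h1 := LinearMap.finrank_le_finrank_of_injective (LinearMap.ker_eq_bot.1 h')
      simp [Module.finrank_fintype_fun_eq_card] at h1
      omega
    obtain ⟨u, hu, hu0⟩ := (Submodule.ne_bot_iff _).1 hker
    have hu' : L u = 0 := hu
    exact ⟨u, ⟨congrArg Prod.fst hu', by simpa [L, φ] using congrArg Prod.snd hu'⟩, hu0⟩
  have hgfix : ((g⁻¹ : GL ι F) : Matrix ι ι F) *ᵥ u = u := by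
    conv_lhs => rw [show u = (g : Matrix ι ι F) *ᵥ u by rw [hgu, hu1, mul_zero, zero_smul, add_zero]]
    exact inv_mulVec g u
  have hzero := hinj _ (K.sub_mem hm hk) u hu0 (by
    rw [Matrix.sub_mulVec, ← Matrix.mulVec_mulVec, ← Matrix.mulVec_mulVec, hgfix, hgu, hu2, mul_zero,
      zero_smul, add_zero, sub_self])
  rw [sub_eq_zero] at hzero
  have h1 : (g : Matrix ι ι F) * k = k * (g : Matrix ι ι F) := by
    calc (g : Matrix ι ι F) * k
        = (g : Matrix ι ι F) * k * ((g⁻¹ : GL ι F) : Matrix ι ι F) * (g : Matrix ι ι F) := by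
          rw [mul_assoc _ _ (g : Matrix ι ι F), ← Units.val_mul, inv_mul_cancel, Units.val_one, mul_one]
      _ = k * (g : Matrix ι ι F) := by rw [hzero]
  obtain ⟨w, hw⟩ := (h.form.nondegenerate v hv0).1
  have h2 := congrArg (· *ᵥ w) h1
  simp only [← Matrix.mulVec_mulVec] at h2
  rw [hgu, hgu, Matrix.mulVec_add, add_right_inj, Matrix.mulVec_smul] at h2
  set l := (c * f w v)⁻¹ * (c * f (k *ᵥ w) v)
  have hkv : k *ᵥ v = l • v := by
    rw [mul_smul, h2, smul_smul, inv_mul_cancel₀ (mul_ne_zero hc0 hw), one_smul]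
  exact hkns l (sub_eq_zero.1 (hinj (k - l • 1) (K.sub_mem hk (K.smul_mem K.one_mem l)) v hv0
    (by rw [Matrix.sub_mulVec, Matrix.smul_mulVec, Matrix.one_mulVec, hkv, sub_self])))

/-- `SU` does not permute the lines of an orthonormal basis. -/
theorem Herm.specialUnitary_not_le_frameStabilizer (h : Herm q σ f)
    {b : Module.Basis ι F (ι → F)} (hb : Orthonormal f b) (hι : 3 ≤ Fintype.card ι)
    (hsmall : q = 2 → 4 ≤ Fintype.card ι) :
    ¬ ∀ g ∈ unitarySL f, ∀ i, ∃ (j : ι) (d : F), (g : Matrix ι ι F) *ᵥ b i = d • b j := by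
  classical
  intro hall
  -- an isotropic vector of support at least three
  suffices hex : ∃ (v : ι → F) (i j k : ι), i ≠ j ∧ i ≠ k ∧ j ≠ k ∧ f v v = 0 ∧ b.repr v i ≠ 0 ∧
      b.repr v j ≠ 0 ∧ b.repr v k ≠ 0 by
    obtain ⟨v, i, j, k, hij, hik, hjk, hv, hvi, hvj, hvk⟩ := hex
    obtain ⟨c, hc0, hc⟩ := h.exists_antifixed
    obtain ⟨g, hg, hgu⟩ := h.exists_transvection hv hc
    obtain ⟨l, d, hd⟩ := hall g hg i
    rw [hgu] at hd
    have hfv : c * f (b i) v ≠ 0 := by
      refine mul_ne_zero hc0 fun h0 => hvi ?_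
      rw [← h.repr_eq hb]
      exact h.eq_zero_comm h0
    have hj := congrArg (fun u => b.repr u j) hd
    have hk := congrArg (fun u => b.repr u k) hd
    simp [Finsupp.single_apply, hij, hik, hfv] at hj hk
    by_cases hlj : l = j
    · subst hlj
      simp [hjk, hvk, hc0] at hk
      exact hfv (by rw [hk, mul_zero])
    · simp [hlj, hvj, hc0] at hj
      exact hfv (by rw [hj, mul_zero])
  obtain ⟨e⟩ : Nonempty (Fin (Fintype.card ι) ≃ ι) := ⟨(Fintype.equivFin ι).symm⟩
  let i := e ⟨0, by omega⟩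
  let j := e ⟨1, by omega⟩
  let k := e ⟨2, by omega⟩
  have hij : i ≠ j := fun h' => by simpa [Fin.ext_iff] using e.injective h'
  have hik : i ≠ k := fun h' => by simpa [Fin.ext_iff] using e.injective h'
  have hjk : j ≠ k := fun h' => by simpa [Fin.ext_iff] using e.injective h'
  by_cases hx : ∃ x : F, σ x = x ∧ x ≠ 0 ∧ x ≠ -1
  · obtain ⟨x, hx, hx0, hx1⟩ := hx
    have hy0 : -1 - x ≠ 0 := fun h0 => hx1 (sub_eq_zero.1 h0).symm
    obtain ⟨a, ha⟩ := h.exists_norm hx0 hx
    obtain ⟨a', ha'⟩ := h.exists_norm hy0 (by rw [map_sub, map_neg, map_one, hx])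
    have ha0 : a ≠ 0 := by rintro rfl; simp at ha; exact hx0 ha.symm
    have ha'0 : a' ≠ 0 := by rintro rfl; simp at ha'; exact hy0 ha'.symm
    refine ⟨b i + a • b j + a' • b k, i, j, k, hij, hik, hjk, ?_, ?_, ?_, ?_⟩
    · have hb' : ∀ i j, f (b i) (b j) = if i = j then 1 else 0 := hb
      simp only [h.sesq.add_left, h.sesq.add_right, h.sesq.smul_left, h.sesq.smul_right, hb',
        RingEquiv.toRingHom_eq_coe, RingHom.coe_coe, if_true, hij, hik, hjk, hij.symm, hik.symm,
        hjk.symm, if_false, mul_zero, mul_one, add_zero, zero_add]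
      linear_combination ha + ha'
    all_goals simp [Finsupp.single_apply, hij, hik, hjk, hij.symm, hik.symm, hjk.symm, ha0, ha'0]
  · push Not at hx
    have hq2 : q = 2 := by
      by_contra hq2
      obtain ⟨g, hg⟩ := IsCyclic.exists_ofOrder_eq_natCard (α := Fˣ)
      rw [Nat.card_units, Nat.card_eq_fintype_card, h.card] at hg
      have hq1 := one_lt_q h.card
      have hfix : σ ((g : F) ^ (q + 1)) = (g : F) ^ (q + 1) := by
        rw [h.apply_eq, ← pow_mul, show (q + 1) * q = (q + 1) + (q ^ 2 - 1) by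
          have hq4 : 1 ≤ q ^ 2 := Nat.one_le_pow _ _ (by omega)
          zify [hq4]; ring, pow_add, ← hg, ← Units.val_pow_eq_pow_val g (orderOf g),
          pow_orderOf_eq_one, Units.val_one, mul_one]
      have hg1 := hx _ hfix (pow_ne_zero _ g.ne_zero)
      have h2 : g ^ ((q + 1) * 2) = 1 := Units.ext (by
        rw [Units.val_pow_eq_pow_val, pow_mul, hg1, neg_one_sq, Units.val_one])
      have h3 := orderOf_dvd_of_pow_eq_one h2
      rw [hg, show q ^ 2 - 1 = (q + 1) * (q - 1) by rw [← Nat.sq_sub_sq, one_pow]] at h3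
      have h4 := Nat.le_of_dvd two_pos (Nat.dvd_of_mul_dvd_mul_left (by omega) h3)
      have : q = 3 := by omega
      subst this
      -- `q = 3`: the fixed element `1` is not `-1`
      have := hx 1 (map_one _) one_ne_zero
      have h5 : (2 : F) = 0 := by rw [← one_add_one_eq_two]; nth_rewrite 1 [this]; ring
      exact two_ne_zero_of_odd (F := F) (by rw [h.card]; decide) h5
    have hι4 := hsmall hq2
    let l := e ⟨3, by omega⟩
    have hil : i ≠ l := fun h' => by simpa [Fin.ext_iff] using e.injective h'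
    have hjl : j ≠ l := fun h' => by simpa [Fin.ext_iff] using e.injective h'
    have hkl : k ≠ l := fun h' => by simpa [Fin.ext_iff] using e.injective h'
    have h2 : (1 : F) + 1 = 0 := by
      have h1 := hx 1 (map_one _) one_ne_zero
      nth_rewrite 1 [h1]; ring
    refine ⟨b i + b j + b k + b l, i, j, k, hij, hik, hjk, ?_, ?_, ?_, ?_⟩
    · have hb' : ∀ i j, f (b i) (b j) = if i = j then 1 else 0 := hb
      simp only [h.sesq.add_left, h.sesq.add_right, hb', if_true, hij, hik, hjk, hij.symm, hik.symm,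
        hjk.symm, hil, hjl, hkl, hil.symm, hjl.symm, hkl.symm, if_false, add_zero, zero_add]
      linear_combination h2 + h2
    all_goals simp [Finsupp.single_apply, hij, hik, hjk, hij.symm, hik.symm, hjk.symm, hil.symm,
      hjl.symm, hkl.symm]

end Cfsg.Agent.Aschbacher
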