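import Cfsg.Agent.Lib.Aschbacher.FormCases
import Cfsg.Agent.Lib.Aschbacher.UnitaryBasic

/-!
Hermitian forms for Aschbacher's theorem: scaling, orthonormal bases, changes of coordinates.
-/

set_option autoImplicit false
set_option linter.unusedSectionVars false

namespace Cfsg.Agent.Aschbacher

open Matrix
open scoped MatrixGroups Kronecker

variable {ι : Type} [Fintype ι] [DecidableEq ι] {F : Type*} [Field F]

/-- Hilbert 90 inside a subfield stable under `σ`, unless `σ` is trivial there and `l = -1`. -/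
theorem exists_twist_scale {σ : F ≃+* F} (hinv : ∀ a, σ (σ a) = a) {F₀ : Subfield F}
    (hσ : ∀ x ∈ F₀, σ x ∈ F₀) {l : F} (hl : l ∈ F₀) (hl1 : l * σ l = 1)
    (hcase : l ≠ -1 ∨ ∃ w ∈ F₀, σ w ≠ w) : ∃ μ ∈ F₀, μ ≠ 0 ∧ σ μ * l = μ := by
  obtain ⟨w, hw, hw0⟩ : ∃ w ∈ F₀, w + l * σ w ≠ 0 := by
    by_cases h1 : l = -1
    · obtain ⟨w, hw, hne⟩ := hcase.resolve_left (not_not.2 h1)
      exact ⟨w, hw, fun h0 => hne (by rw [h1] at h0; linear_combination -h0)⟩
    · exact ⟨1, one_mem _, fun h0 => h1 (by rw [map_one, mul_one] at h0; linear_combination h0)⟩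
  refine ⟨w + l * σ w, add_mem hw (mul_mem hl (hσ w hw)), hw0, ?_⟩
  rw [map_add, map_mul, hinv]
  linear_combination w * hl1

theorem exists_herm_scale {σ : F ≃+* F} (hne : σ ≠ RingEquiv.refl F) (hinv : ∀ a, σ (σ a) = a) {l : F}
    (hl1 : l * σ l = 1) : ∃ μ : F, μ ≠ 0 ∧ σ μ * l = μ := by
  obtain ⟨μ, -, h⟩ := exists_twist_scale hinv (F₀ := ⊤) (fun _ _ => Subfield.mem_top _) (Subfield.mem_top l) hl1
    (Or.inr (by
      by_contra hcon
      push Not at hcon
      exact hne (RingEquiv.ext fun a => hcon a (Subfield.mem_top a))))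
  exact ⟨μ, h⟩

theorem isUnitaryFormPow_of_form {σ : F ≃+* F} {q : ℕ} (hσ : ∀ a : F, σ a = a ^ q)
    {f : (ι → F) → (ι → F) → F} (hf : Geo.IsUnitaryForm σ f) : Geo.IsUnitaryFormPow q f :=
  ⟨hf.add_left, hf.smul_left, fun v w => by rw [hf.herm, hσ], hf.nondegenerate⟩

section Coord

variable {σ : F ≃+* F} {ε : F} {f : (ι → F) → (ι → F) → F} {κ : Type} [Fintype κ] [DecidableEq κ]
  (e : ι ≃ κ) (P : GL ι F) (T : GL κ F)

theorem changeCoord_mulVec (x : κ → F) :
    ((P * Geo.glReindex e.symm T : GL ι F) : Matrix ι ι F) *ᵥ (x ∘ e) =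
      (P : Matrix ι ι F) *ᵥ (((T : Matrix κ κ F) *ᵥ x) ∘ e) := by
  rw [mulVec_mul]
  congr 1
  show (Matrix.reindex e.symm e.symm (T : Matrix κ κ F)) *ᵥ (x ∘ e) = _
  rw [Matrix.reindex_apply, Equiv.symm_symm, Matrix.submatrix_mulVec_equiv]
  simp [Function.comp_def]

theorem coordGL_changeCoord (X : GL κ F) :
    coordGL e (P * Geo.glReindex e.symm T) X = coordGL e P (T * X * T⁻¹) := by
  rw [coordGL_eq, coordGL_eq, map_mul, map_mul, map_inv]
  group

theorem RefForm.coordGram_changeCoord (h : RefForm σ ε f) :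
    coordGram f e (P * Geo.glReindex e.symm T) =
      (T : Matrix κ κ F)ᵀ * coordGram f e P * (T : Matrix κ κ F).map σ := by
  ext i j
  have h1 : coordForm f e (P * Geo.glReindex e.symm T) (Pi.single i 1) (Pi.single j 1) =
      matForm σ.toRingHom ((T : Matrix κ κ F)ᵀ * coordGram f e P * (T : Matrix κ κ F).map σ.toRingHom)
        (Pi.single i 1) (Pi.single j 1) := by
    rw [← matForm_conj, ← coordForm_eq h]
    show f _ _ = f _ _
    rw [changeCoord_mulVec, changeCoord_mulVec]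
  rw [matForm_single_one] at h1
  exact h1

end Coord

variable [Fintype F] {q : ℕ} {σ : F ≃+* F} {f : (ι → F) → (ι → F) → F}

theorem Herm.exists_ne_zero (hh : Herm q σ f) {W : Submodule F (ι → F)} (hW : Geo.IsNondegenerateOn f W)
    (h0 : W ≠ ⊥) : ∃ p ∈ W, f p p ≠ 0 := by
  by_contra hno
  push Not at hno
  obtain ⟨x, hx, hx0⟩ := Submodule.exists_mem_ne_zero_of_ne_bot h0
  obtain ⟨y, hy, hxy⟩ := (hW x hx hx0).2
  obtain ⟨z, hz⟩ := hh.exists_ne
  have hs := hh.sesq
  have key : ∀ a : F, a * f x y + σ (a * f x y) = 0 := by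
    intro a
    have h1 := hno _ (W.add_mem (W.smul_mem a hx) hy)
    rw [hs.add_left, hs.add_right, hs.add_right, hno _ (W.smul_mem a hx), hno y hy, hs.smul_left,
      hs.smul_right, hh.form.herm y x] at h1
    rw [map_mul]
    have h2 : a * f x y + σ a * σ (f x y) = 0 := by
      show a * f x y + σ.toRingHom a * σ (f x y) = 0
      linear_combination h1
    exact h2
  have k1 := key (f x y)⁻¹
  have k2 := key (z * (f x y)⁻¹)
  rw [inv_mul_cancel₀ hxy, map_one] at k1
  rw [inv_mul_cancel_right₀ hxy] at k2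
  exact hz (by linear_combination k2 - z * k1)

theorem Herm.exists_orthonormal_family (hh : Herm q σ f) :
    ∀ (k : ℕ) (W : Submodule F (ι → F)), Geo.IsNondegenerateOn f W → Module.finrank F W = k →
      ∃ v : Fin k → ι → F, (∀ r, v r ∈ W) ∧ ∀ r s, f (v r) (v s) = if r = s then 1 else 0 := by
  have h := RefForm.of_unitary hh.form
  intro k
  induction k with
  | zero => intro W _ _; exact ⟨Fin.elim0, fun r => r.elim0, fun r => r.elim0⟩
  | succ k ih =>
    intro W hW hd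
    obtain ⟨p, hp, hp0⟩ := hh.exists_ne_zero hW fun h0 => by rw [h0, finrank_bot] at hd; omega
    obtain ⟨a, ha⟩ := hh.exists_norm (inv_ne_zero hp0) (by rw [map_inv₀, ← hh.form.herm])
    have hpp : f (a • p) (a • p) = 1 := by
      rw [h.sesq.smul_left, h.sesq.smul_right]
      show a * (σ a * f p p) = 1
      rw [← mul_assoc, ha, inv_mul_cancel₀ hp0]
    have hp' : a • p ∈ W := W.smul_mem a hp
    set u := a • p
    let lin : (ι → F) →ₗ[F] F :=
      { toFun := fun x => f x u, map_add' := fun x y => h.sesq.add_left x y u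
        map_smul' := fun c x => h.sesq.smul_left c x u }
    let W' := W ⊓ LinearMap.ker lin
    have hmem : ∀ x, x ∈ W' ↔ x ∈ W ∧ f x u = 0 := fun x => Iff.rfl
    have hd' : Module.finrank F W' = k := by
      have h1 := Submodule.finrank_sup_add_finrank_inf_eq W (LinearMap.ker lin)
      have h2 := Submodule.finrank_le (W ⊔ LinearMap.ker lin)
      have h3 := LinearMap.finrank_range_add_finrank_ker lin
      have h4 := Submodule.finrank_le (LinearMap.range lin)
      rw [Module.finrank_self] at h4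
      have h5 : Module.finrank F W' < Module.finrank F W :=
        Submodule.finrank_lt_finrank_of_lt (lt_of_le_of_ne inf_le_left fun heq => by
          have h6 := ((hmem u).1 (heq.symm ▸ hp' : u ∈ W')).2
          rw [hpp] at h6
          exact one_ne_zero h6)
      show Module.finrank F ↥(W ⊓ LinearMap.ker lin) = k
      have h7 : Module.finrank F ↥(W ⊓ LinearMap.ker lin) < Module.finrank F W := h5
      omega
    have hnd : Geo.IsNondegenerateOn f W' := by
      intro w hw hw0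
      obtain ⟨hwW, hwu⟩ := (hmem w).1 hw
      obtain ⟨x, hx, hxw⟩ := (hW w hwW hw0).2
      have hx' : x - f x u • u ∈ W' := (hmem _).2 ⟨W.sub_mem hx (W.smul_mem _ hp'), by
        rw [h.sub_left, h.sesq.smul_left, hpp, mul_one, sub_self]⟩
      have hne : f w (x - f x u • u) ≠ 0 := by
        rwa [h.sub_right, h.sesq.smul_right, hwu, mul_zero, sub_zero]
      exact ⟨⟨_, hx', fun h0 => hne (h.eq_zero_comm h0)⟩, ⟨_, hx', hne⟩⟩
    obtain ⟨v, hv, hvv⟩ := ih W' hnd hd'
    refine ⟨Fin.cons u v, fun r => ?_, fun r s => ?_⟩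
    · refine Fin.cases ?_ (fun i => ?_) r
      · exact hp'
      · rw [Fin.cons_succ]; exact ((hmem _).1 (hv i)).1
    · refine Fin.cases ?_ (fun i => ?_) r <;> refine Fin.cases ?_ (fun j => ?_) s
      · simpa using hpp
      · simpa [(Fin.succ_ne_zero _).symm] using h.eq_zero_comm ((hmem _).1 (hv j)).2
      · simpa using ((hmem _).1 (hv i)).2
      · simpa using hvv i j

/-- A Hermitian matrix is congruent to the identity. -/
theorem Herm.exists_congr_one (hh : Herm q σ f) {d : ℕ} {G : Matrix (Fin d) (Fin d) F} (hG : G.det ≠ 0)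
    (hherm : (G.map σ)ᵀ = G) :
    ∃ T : GL (Fin d) F, (T : Matrix (Fin d) (Fin d) F)ᵀ * G * (T : Matrix (Fin d) (Fin d) F).map σ = 1 := by
  have hd : Herm q σ (matForm σ.toRingHom G) :=
    ⟨hh.card, hh.apply_eq, matForm_unitary σ hh.form.ne_refl hh.form.involutive hG hherm⟩
  obtain ⟨v, -, hv⟩ := hd.exists_orthonormal_family d ⊤ (fun w _ hw0 =>
    ⟨(hd.form.nondegenerate w hw0).1.imp fun x hx => ⟨Submodule.mem_top, hx⟩,
      (hd.form.nondegenerate w hw0).2.imp fun x hx => ⟨Submodule.mem_top, hx⟩⟩)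
    (by rw [finrank_top, Module.finrank_fintype_fun_eq_card, Fintype.card_fin])
  set T : Matrix (Fin d) (Fin d) F := Matrix.of fun i j => v j i
  have hcol : ∀ j, T *ᵥ Pi.single j 1 = v j := fun j => by
    rw [Matrix.mulVec_single_one]; rfl
  have h1 : Tᵀ * G * T.map σ.toRingHom = 1 := by
    ext i j
    have h2 := hv i j
    rw [← hcol i, ← hcol j, matForm_conj, matForm_single_one] at h2
    rw [h2, Matrix.one_apply]
  have hdet : IsUnit T.det := by
    have h2 := congrArg Matrix.det h1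
    rw [Matrix.det_mul, Matrix.det_mul, Matrix.det_transpose, Matrix.det_one, mul_assoc] at h2
    exact IsUnit.of_mul_eq_one _ h2
  obtain ⟨u, hu⟩ := (Matrix.isUnit_iff_isUnit_det T).2 hdet
  exact ⟨u, by rw [hu]; exact h1⟩

/-- Both factors of a tensor decomposition become Hermitian, then orthonormal. -/
theorem Herm.exists_tensor_coord (hh : Herm q σ f) {d k : ℕ} [NeZero d] [NeZero k]
    (e : ι ≃ Fin d × Fin k) (P : GL ι F) {G₁ : Matrix (Fin d) (Fin d) F} {G₂ : Matrix (Fin k) (Fin k) F}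
    {l : F} (hd₁ : G₁.det ≠ 0) (hd₂ : G₂.det ≠ 0) (hl : l * σ l = 1) (h₁ : (G₁.map σ)ᵀ = l • G₁)
    (h₂ : ∀ p p', G₂ p' p = 1 * l * σ (G₂ p p')) (hgram : coordGram f e P = G₁ ⊗ₖ G₂) :
    ∃ P' : GL ι F, coordGram f e P' = 1 ⊗ₖ 1 ∧
      Geo.tensorProductSubgroup d k e P ≤ Geo.tensorProductSubgroup d k e P' := by
  obtain ⟨μ, hμ, hμl⟩ := exists_herm_scale hh.form.ne_refl hh.form.involutive hl
  have hA : ((μ • G₁).map σ)ᵀ = μ • G₁ := by
    rw [show (μ • G₁).map σ = σ μ • G₁.map σ from Matrix.ext fun i j => map_mul σ _ _, Matrix.transpose_smul,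
      h₁, smul_smul, hμl]
  have hB : ((μ⁻¹ • G₂).map σ)ᵀ = μ⁻¹ • G₂ := by
    have hl0 : l ≠ 0 := left_ne_zero_of_mul_eq_one hl
    ext p p'
    show σ (μ⁻¹ * G₂ p' p) = μ⁻¹ * G₂ p p'
    rw [h₂ p' p, one_mul, map_mul, map_inv₀]
    have h4 : σ μ ≠ 0 := (map_ne_zero σ).2 hμ
    field_simp
    linear_combination -σ (G₂ p' p) * hμl
  have hdA : (μ • G₁).det ≠ 0 := by rw [Matrix.det_smul]; exact mul_ne_zero (pow_ne_zero _ hμ) hd₁
  have hdB : (μ⁻¹ • G₂).det ≠ 0 := by
    rw [Matrix.det_smul]; exact mul_ne_zero (pow_ne_zero _ (inv_ne_zero hμ)) hd₂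
  obtain ⟨T₁, hT₁⟩ := hh.exists_congr_one hdA hA
  obtain ⟨T₂, hT₂⟩ := hh.exists_congr_one hdB hB
  let T : GL (Fin d × Fin k) F :=
    ⟨(T₁ : Matrix (Fin d) (Fin d) F) ⊗ₖ (T₂ : Matrix (Fin k) (Fin k) F),
      ((T₁⁻¹ : GL (Fin d) F) : Matrix (Fin d) (Fin d) F) ⊗ₖ ((T₂⁻¹ : GL (Fin k) F) : Matrix (Fin k) (Fin k) F),
      by rw [← Matrix.mul_kronecker_mul, Units.mul_inv, Units.mul_inv, Matrix.one_kronecker_one],
      by rw [← Matrix.mul_kronecker_mul, Units.inv_mul, Units.inv_mul, Matrix.one_kronecker_one]⟩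
  refine ⟨P * Geo.glReindex e.symm T, ?_, ?_⟩
  · rw [(RefForm.of_unitary hh.form).coordGram_changeCoord, hgram]
    show ((T₁ : Matrix (Fin d) (Fin d) F) ⊗ₖ (T₂ : Matrix (Fin k) (Fin k) F))ᵀ * (G₁ ⊗ₖ G₂) * _ = _
    have h3 : (T : Matrix (Fin d × Fin k) (Fin d × Fin k) F).map σ =
        (T₁ : Matrix (Fin d) (Fin d) F).map σ ⊗ₖ (T₂ : Matrix (Fin k) (Fin k) F).map σ := by
      ext x y; simp [T]
    rw [h3, ← Matrix.kroneckerMap_transpose, ← Matrix.mul_kronecker_mul, ← Matrix.mul_kronecker_mul,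
      ← hT₁, ← hT₂, mul_smul_comm, smul_mul_assoc, mul_smul_comm, smul_mul_assoc, Matrix.smul_kronecker,
      Matrix.kronecker_smul, smul_smul, mul_inv_cancel₀ hμ, one_smul]
  · intro g hg
    obtain ⟨g₀, a, b, rfl, hab⟩ := exists_of_mem_tensorProductSubgroup hg
    rw [show g₀ = T * (T⁻¹ * g₀ * T) * T⁻¹ by group, ← coordGL_changeCoord]
    refine mem_tensorProductSubgroup _ _ ⟨T₁⁻¹ * a * T₁, T₂⁻¹ * b * T₂, ?_⟩
    simp only [Units.val_mul, hab, T, Units.inv_mk, Matrix.mul_kronecker_mul]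

end Cfsg.Agent.Aschbacher
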