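import Cfsg.Agent.Lib.Aschbacher.UnitTwoTwo
import Cfsg.Agent.Lib.CharInt.Burnside
import Cfsg.Agent.Lib.Forms.Herm

/-!
Tensor powers of unitary planes are realised over the fixed field; tensor powers of unitary three-spaces
over four elements have no perfect irreducible subgroups.
-/

set_option autoImplicit false
set_option linter.unusedSectionVars false

namespace Cfsg.Agent.Aschbacher

open Matrix
open scoped MatrixGroups commutatorElement

variable {ι : Type} [Fintype ι] [DecidableEq ι] {F : Type*} [Field F] [Fintype F] {q : ℕ} {σ : F ≃+* F}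
  {f : (ι → F) → (ι → F) → F}

/-- The map from products of factors. -/
def powerHom {d t : ℕ} (e : ι ≃ (Fin t → Fin d)) (B : GL ι F) (N' : Subgroup (GL (Fin d) F)) :
    (Fin t → N') →* GL ι F :=
  ((coordGL e B).toMonoidHom.comp pureGL).comp (MonoidHom.compLeft N'.subtype (Fin t))

theorem powerHom_val {d t : ℕ} (e : ι ≃ (Fin t → Fin d)) (B : GL ι F) (N' : Subgroup (GL (Fin d) F))
    (X : Fin t → N') : (powerHom e B N' X : Matrix ι ι F) =
      coordEquiv e B (pureMat fun i => ((X i : GL (Fin d) F) : Matrix (Fin d) (Fin d) F)) := rfl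

theorem PowerData.le_powerHom {ε : F} {h : RefForm σ ε f} {H P : Subgroup (GL ι F)} {d t : ℕ}
    {L : Fin t → Subgroup (GL ι F)} {e : ι ≃ (Fin t → Fin d)} {B : GL ι F} {N' : Subgroup (GL (Fin d) F)}
    {G : Matrix (Fin d) (Fin d) F} {c l : F} (hd : PowerData h H P L e B N' G c l) (i : Fin t) :
    L i ≤ (powerHom e B N').range := by
  intro x hx
  obtain ⟨X, hX, hXx⟩ := hd.gen i x hx
  refine ⟨Pi.mulSingle i ⟨X, hX⟩, Units.ext ?_⟩
  rw [powerHom_val, ← hXx, slotHom_apply]
  refine congrArg (fun M => coordEquiv e B (pureMat M)) (funext fun j => ?_)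
  by_cases hj : j = i
  · subst hj; simp
  · simp [hj]

theorem PowerData.realisable_two (hh : Herm q σ f) [Nonempty ι] {H P : Subgroup (GL ι F)} {t : ℕ}
    {L : Fin t → Subgroup (GL ι F)} {e : ι ≃ (Fin t → Fin 2)} {B : GL ι F} {N' : Subgroup (GL (Fin 2) F)}
    {G : Matrix (Fin 2) (Fin 2) F} {c l : F}
    (hd : PowerData (RefForm.of_unitary hh.form) H P L e B N' G c l) (hc : CommutingData H P L) :
    ∃ F₁ : Subfield F, F₁ ≠ ⊤ ∧ Geo.RealisableOver F₁ (Geo.matrixSet P) := by
  classical
  refine ⟨fixedOf σ, fixedOf_ne_top hh.form.ne_refl,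
    hc.absIrr.realisable_of_trace σ (fun x hx => ?_) fun a ha => ha⟩
  have hle : P ≤ (powerHom e B N').range := hc.gen.trans (iSup_le hd.le_powerHom)
  have h1 : P ≤ Subgroup.map (powerHom e B N')
      (⁅(⊤ : Subgroup (Fin t → N')), ⊤⁆ : Subgroup (Fin t → N')) := by
    rw [Subgroup.map_commutator, ← MonoidHom.range_eq_map]
    exact hc.perfect.ge.trans (Subgroup.commutator_mono hle hle)
  obtain ⟨X, hX, rfl⟩ := h1 hx
  have hdet : ∀ i, ((X i : GL (Fin 2) F) : Matrix (Fin 2) (Fin 2) F).det = 1 := by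
    intro i
    let ψ : (Fin t → N') →* Fˣ :=
      (Matrix.GeneralLinearGroup.det.comp N'.subtype).comp (Pi.evalMonoidHom (fun _ => N') i)
    have hker : ⁅(⊤ : Subgroup (Fin t → N')), ⊤⁆ ≤ ψ.ker := by
      rw [Subgroup.commutator_le]
      intro a _ b _
      rw [MonoidHom.mem_ker, map_commutatorElement, commutatorElement_eq_one_iff_mul_comm, mul_comm]
    exact congrArg Units.val (hker hX)
  rw [powerHom_val, coordEquiv_apply, Matrix.trace_units_conj]
  have htr : ((pureMat fun i => ((X i : GL (Fin 2) F) : Matrix (Fin 2) (Fin 2) F)).submatrix e e).trace =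
      ∏ i, ((X i : GL (Fin 2) F) : Matrix (Fin 2) (Fin 2) F).trace := by
    simp only [Matrix.trace, Matrix.diag, Matrix.submatrix_apply]
    rw [Equiv.sum_comp e (fun x => pureMat (fun i => ((X i : GL (Fin 2) F) : Matrix (Fin 2) (Fin 2) F)) x x),
      Fintype.prod_sum]
    exact Finset.sum_congr rfl fun x _ => pureMat_apply _ _ _
  rw [htr, map_prod]
  exact Finset.prod_congr rfl fun i _ =>
    trace_fixed_of_det_one σ hd.det (hd.fix _ (X i).2) (hdet i)

theorem PowerData.three_false {ε : F} {h : RefForm σ ε f} (hh : Herm 2 σ f) [Nonempty ι]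
    {H P : Subgroup (GL ι F)} {t : ℕ} {L : Fin t → Subgroup (GL ι F)} {e : ι ≃ (Fin t → Fin 3)} {B : GL ι F}
    {N' : Subgroup (GL (Fin 3) F)} {G : Matrix (Fin 3) (Fin 3) F} {c l : F}
    (hd : PowerData h H P L e B N' G c l) (hc : CommutingData H P L) : False := by
  classical
  obtain ⟨μ, hμ, hμl⟩ := exists_herm_scale hh.form.ne_refl hh.form.involutive hd.norm
  have hherm : ((μ • G).map σ)ᵀ = μ • G := by
    rw [show (μ • G).map σ = σ μ • G.map σ from Matrix.ext fun i j => map_mul σ _ _, Matrix.transpose_smul,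
      hd.herm, smul_smul, hμl]
  obtain ⟨T, hT⟩ := hh.exists_congr_one
    (by rw [Matrix.det_smul]; exact mul_ne_zero (pow_ne_zero _ hμ) hd.det) hherm
  let ψ : N' →* GU 3 F 2 :=
    ((MulAut.conj T⁻¹).toMonoidHom.comp N'.subtype).codRestrict _ fun X => by
      have h1 := hd.fix _ X.2
      set Y : Matrix (Fin 3) (Fin 3) F := ((X : GL (Fin 3) F) : Matrix (Fin 3) (Fin 3) F)
      set Z : GL (Fin 3) F := (MulAut.conj T⁻¹).toMonoidHom.comp N'.subtype X with hZ
      have hTZ : (T : Matrix (Fin 3) (Fin 3) F) * (Z : Matrix (Fin 3) (Fin 3) F) =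
          Y * (T : Matrix (Fin 3) (Fin 3) F) := by
        rw [hZ]
        show (T : Matrix (Fin 3) (Fin 3) F) * ((T⁻¹ * (X : GL (Fin 3) F) * T⁻¹⁻¹ : GL (Fin 3) F) :
          Matrix (Fin 3) (Fin 3) F) = _
        rw [inv_inv, Units.val_mul, Units.val_mul, ← mul_assoc, ← mul_assoc, Units.mul_inv, one_mul]
      have h2 : (Z : Matrix (Fin 3) (Fin 3) F)ᵀ * (Z : Matrix (Fin 3) (Fin 3) F).map σ = 1 := by
        have h3 : (Z : Matrix (Fin 3) (Fin 3) F)ᵀ * ((T : Matrix (Fin 3) (Fin 3) F)ᵀ * (μ • G) *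
            (T : Matrix (Fin 3) (Fin 3) F).map σ) * (Z : Matrix (Fin 3) (Fin 3) F).map σ =
            (T : Matrix (Fin 3) (Fin 3) F)ᵀ * (μ • G) * (T : Matrix (Fin 3) (Fin 3) F).map σ := by
          have h4 : (T : Matrix (Fin 3) (Fin 3) F).map σ * (Z : Matrix (Fin 3) (Fin 3) F).map σ =
              Y.map σ * (T : Matrix (Fin 3) (Fin 3) F).map σ := by rw [← Matrix.map_mul, hTZ, Matrix.map_mul]
          calc _ = ((T : Matrix (Fin 3) (Fin 3) F) * (Z : Matrix (Fin 3) (Fin 3) F))ᵀ * (μ • G) *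
                ((T : Matrix (Fin 3) (Fin 3) F).map σ * (Z : Matrix (Fin 3) (Fin 3) F).map σ) := by
                rw [Matrix.transpose_mul]; simp only [mul_assoc]
            _ = (T : Matrix (Fin 3) (Fin 3) F)ᵀ * (μ • (Yᵀ * G * Y.map σ)) *
                (T : Matrix (Fin 3) (Fin 3) F).map σ := by
                rw [hTZ, h4, Matrix.transpose_mul]
                simp only [mul_smul_comm, smul_mul_assoc, mul_assoc]
            _ = _ := by rw [h1]
        rwa [hT, mul_one] at h3
      intro u v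
      have h5 := unitary_mem_of_eq h2 u v
      have e1 : ∀ a b : Fin 3 → F, matForm σ.toRingHom 1 a b = hermForm 3 F 2 a b := fun a b => by
        simp [matForm, hermForm, dotProduct, hh.apply_eq]
      rw [e1, e1] at h5
      exact h5
  have hinj : Function.Injective ψ := fun a b hab => Subtype.ext ((MulAut.conj T⁻¹).injective
    (congrArg Subtype.val hab))
  have hcard : Nat.card (GU 3 F 2) = 2 ^ 3 * 3 ^ 4 := by
    rw [Forms.card_GU hh.card]
    simp [Finset.prod_range_succ, Nat.even_iff]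
  have hGU : Group.IsSolvable (GU 3 F 2) := CharInt.isSolvable_of_card_eq Nat.prime_two Nat.prime_three hcard
  have hN' : Group.IsSolvable N' := Group.isSolvable_of_isSolvable_injective hinj
  refine not_perfect_of_solvable hc.perfect (fun h0 => hc.not_scalar (h0 ▸ bot_le)) hc.gen
    (isSolvable_iSup_commuting L (fun i => ?_) hc.comm)
  let θ : GL (Fin 3) F →* GL ι F :=
    (coordGL e B).toMonoidHom.comp (Units.map (slotHom (F := F) (m := 3) i : _ →* _))
  have : Group.IsSolvable (N'.map θ) := Group.isSolvable_of_surjective (θ.subgroupMap_surjective N')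
  have hle : L i ≤ N'.map θ := fun x hx => by
    obtain ⟨X, hX, hXx⟩ := hd.gen i x hx
    exact ⟨X, hX, Units.ext hXx⟩
  exact Group.isSolvable_of_isSolvable_injective (Subgroup.inclusion_injective hle)

end Cfsg.Agent.Aschbacher
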