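import Cfsg.Agent.Lib.Aschbacher.UnitFormTools
import Cfsg.Agent.Lib.Aschbacher.OddDim

/-!
Subfield groups inside unitary groups: the three rational structures.
-/

set_option autoImplicit false
set_option linter.unusedSectionVars false

namespace Cfsg.Agent.Aschbacher

open Matrix
open scoped MatrixGroups

variable {ι : Type} [Fintype ι] [DecidableEq ι] {F : Type*} [Field F]

theorem subfieldSubgroup_scalar_mul {F₀ : Subfield F} {z : GL ι F} (hz : z ∈ Geo.scalars ι F) (P : GL ι F) :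
    Geo.subfieldSubgroup F₀ (z * P) = Geo.subfieldSubgroup F₀ P := by
  unfold Geo.subfieldSubgroup
  congr 1
  ext x : 1
  show z * P * x * (z * P)⁻¹ = P * x * P⁻¹
  rw [show z * P * x * (z * P)⁻¹ = z * (P * x * P⁻¹) * z⁻¹ by group, scalar_comm hz, mul_inv_cancel_right]

theorem scalarUnit_exists {a : F} (ha : a ≠ 0) :
    ∃ z : GL ι F, z ∈ Geo.scalars ι F ∧ (z : Matrix ι ι F) = a • 1 := by
  refine ⟨⟨a • 1, a⁻¹ • 1, ?_, ?_⟩, mem_scalars_of_smul_one (c := a) rfl, rfl⟩
  · rw [smul_mul_smul_comm, mul_inv_cancel₀ ha, one_smul, mul_one]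
  · rw [smul_mul_smul_comm, inv_mul_cancel₀ ha, one_smul, mul_one]

variable [Fintype F] {q : ℕ} {σ : F ≃+* F} {f : (ι → F) → (ι → F) → F}

theorem Herm.moves_subfield (hh : Herm q σ f) {F₀ : Subfield F} {r : ℕ} (hr : Odd r)
    (hcard : Fintype.card F = Nat.card F₀ ^ r) : ∃ w ∈ F₀, σ w ≠ w := by
  by_contra hcon
  push Not at hcon
  have : Fintype F₀ := Fintype.ofFinite _
  let φ : F ≃ₐ[F₀] F := AlgEquiv.ofRingEquiv (f := σ) (fun x => hcon x x.2)
  have hrank : Module.finrank F₀ F = r := by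
    have h1 := Module.card_eq_pow_finrank (K := F₀) (V := F)
    rw [hcard, Nat.card_eq_fintype_card] at h1
    exact Nat.pow_right_injective (Fintype.one_lt_card (α := F₀)) h1.symm
  have : IsGalois F₀ F := inferInstance
  have h2 : φ ^ 2 = 1 := AlgEquiv.ext fun x => by
    rw [pow_two, AlgEquiv.mul_apply]; exact hh.form.involutive x
  have h3 : orderOf φ ∣ r := by
    rw [← hrank, ← IsGalois.card_aut_eq_finrank]; exact orderOf_dvd_natCard φ
  have h4 : orderOf φ = 1 := by
    rcases (Nat.dvd_prime Nat.prime_two).1 (orderOf_dvd_of_pow_eq_one h2) with h | h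
    · exact h
    · rw [h] at h3; exact absurd (even_iff_two_dvd.2 h3) (Nat.not_even_iff_odd.2 hr)
  exact hh.form.ne_refl (RingEquiv.ext fun x => AlgEquiv.congr_fun (orderOf_eq_one_iff.1 h4) x)

theorem Herm.fixes_subfield_two (hh : Herm q σ f) {F₀ : Subfield F}
    (hcard : Fintype.card F = Nat.card F₀ ^ 2) {x : F} (hx : x ∈ F₀) : σ x = x := by
  have : Fintype F₀ := Fintype.ofFinite _
  have hq : q = Nat.card F₀ := by
    rw [hh.card] at hcard
    exact Nat.pow_left_injective two_ne_zero hcard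
  rw [hh.apply_eq, hq, Nat.card_eq_fintype_card]
  exact congrArg Subtype.val (FiniteField.pow_card (⟨x, hx⟩ : F₀))

theorem Herm.odd_q_iff (hh : Herm q σ f) : Odd (Fintype.card F) ↔ Odd q := by
  rw [hh.card, Nat.odd_pow_iff two_ne_zero]

/-- An absolutely irreducible normal subgroup realised over a proper subfield gives one of the three subfield
structures of the unitary class. -/
theorem Herm.subfield_cases [Nonempty ι] (hh : Herm q σ f) (hι : 2 ≤ Fintype.card ι)
    {N H : Subgroup (GL ι F)} (hN : AbsIrr N) (hfN : N ≤ preserving (glToMat ι F) f) (hn : NormalIn H N)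
    {F₁ : Subfield F} (hF₁ : F₁ ≠ ⊤) (hreal : Geo.RealisableOver F₁ (Geo.matrixSet N)) :
    (∃ (F₀ : Subfield F) (r : ℕ) (P : GL ι F), r.Prime ∧ Odd r ∧ Fintype.card F = Nat.card F₀ ^ r ∧
        Geo.IsFormRationalStructure f F₀ 1 P ∧ H ≤ Geo.subfieldSubgroup F₀ P) ∨
    (∃ (F₀ : Subfield F) (P : GL ι F), Odd q ∧ Fintype.card F = Nat.card F₀ ^ 2 ∧
        Geo.IsFormRationalStructure f F₀ 1 P ∧ H ≤ Geo.subfieldSubgroup F₀ P) ∨
    (∃ (F₀ : Subfield F) (P : GL ι F) (ζ : F), Even (Fintype.card ι) ∧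
        Fintype.card F = Nat.card F₀ ^ 2 ∧ ζ ≠ 0 ∧ ζ + ζ ^ q = 0 ∧ Geo.IsFormRationalStructure f F₀ ζ P ∧
        (∀ u : ι → F, (∀ i, u i ∈ F₀) → f ((P : Matrix ι ι F) *ᵥ u) ((P : Matrix ι ι F) *ᵥ u) = 0) ∧
        H ≤ Geo.subfieldSubgroup F₀ P) := by
  classical
  have h := RefForm.of_unitary hh.form
  obtain ⟨B, hB⟩ := hreal
  obtain ⟨F₀, r, hle, hr, hcard⟩ := exists_prime_index hF₁
  obtain ⟨P, c, hc0, hP, hrat, hstr, hN₁, hN₁p⟩ :=
    h.exists_rational hN hfN hn (F₀ := F₀) ⟨B, fun s hs i j => hle (hB s hs i j)⟩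
  set A := coordGram f (Equiv.refl ι) P with hA
  have hσF₀ : ∀ x ∈ F₀, σ x ∈ F₀ := fun x hx => by rw [hh.apply_eq]; exact pow_mem hx q
  have hsw : ∀ i j, A j i = σ (A i j) := fun i j => by
    rw [hA, coordGram_swap h, one_mul]
  have hAdet : A.det ≠ 0 := coordGram_det h (Equiv.refl ι) P
  obtain ⟨i₀, j₀, hne⟩ : ∃ i j, A i j ≠ 0 := by
    by_contra hcon
    push Not at hcon
    exact hAdet (by rw [show A = 0 from Matrix.ext hcon, Matrix.det_zero])
  have hσc : σ c ≠ 0 := (map_ne_zero σ).2 hc0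
  set t := c / σ c with ht
  have htF : t ∈ F₀ := by
    have e : t = c * A j₀ i₀ / σ (c * A i₀ j₀) := by
      rw [ht, map_mul, ← hsw, mul_div_mul_right]
      rw [hsw]
      exact (map_ne_zero σ).2 hne
    rw [e]
    exact div_mem (hrat j₀ i₀) (hσF₀ _ (hrat i₀ j₀))
  have ht1 : t * σ t = 1 := by
    rw [ht, map_div₀, hh.form.involutive]; field_simp
  -- scaling the form into the rational structure
  have scale : (t ≠ -1 ∨ ∃ w ∈ F₀, σ w ≠ w) → ∃ P' : GL ι F,
      Geo.IsFormRationalStructure f F₀ 1 P' ∧ H ≤ Geo.subfieldSubgroup F₀ P' := by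
    intro hcase
    obtain ⟨μ, hμF, hμ, hμt⟩ := exists_twist_scale hh.form.involutive hσF₀ (hσF₀ t htF)
      (by rw [hh.form.involutive, mul_comm]; exact ht1)
      (hcase.imp_left fun hne' h0 => hne' (by
        have := congrArg σ h0
        rwa [hh.form.involutive, map_neg, map_one] at this))
    have hfix : σ (μ * c) = μ * c := by
      have h1 : σ μ = μ * t := by linear_combination t * hμt - σ μ * ht1
      rw [map_mul, h1, ht, mul_assoc, div_mul_cancel₀ _ hσc]
    obtain ⟨a, ha⟩ := hh.exists_norm (mul_ne_zero hμ hc0) hfix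
    have ha0 : a ≠ 0 := left_ne_zero_of_mul (ha ▸ mul_ne_zero hμ hc0 : a * σ a ≠ 0)
    obtain ⟨z, hz, hza⟩ := scalarUnit_exists (ι := ι) ha0
    refine ⟨z * P, fun u v hu hv => ?_, by rw [subfieldSubgroup_scalar_mul hz]; exact hP⟩
    rw [Units.val_mul, hza, smul_mul_assoc, one_mul, Matrix.smul_mulVec, Matrix.smul_mulVec,
      h.sesq.smul_left, h.sesq.smul_right, one_mul]
    show a * (σ a * f ((P : Matrix ι ι F) *ᵥ u) ((P : Matrix ι ι F) *ᵥ v)) ∈ F₀
    rw [← mul_assoc, ha, mul_assoc]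
    exact mul_mem hμF (hstr u v hu hv)
  rcases hr.eq_two_or_odd' with rfl | hodd
  swap
  · obtain ⟨P', h1, h2⟩ := scale (Or.inr (hh.moves_subfield hodd hcard))
    exact Or.inl ⟨F₀, r, P', hr, hodd, hcard, h1, h2⟩
  have hfix2 := fun x (hx : x ∈ F₀) => hh.fixes_subfield_two hcard hx
  by_cases hcase : Odd q ∧ t ≠ -1
  · obtain ⟨P', h1, h2⟩ := scale (Or.inl hcase.2)
    exact Or.inr <| Or.inl ⟨F₀, P', hcase.1, hcard, h1, h2⟩
  have htt : t = -1 := by
    by_contra htne
    have heven : ¬ Odd (Fintype.card F) := fun ho => hcase ⟨hh.odd_q_iff.1 ho, htne⟩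
    have h2 : (2 : F) = 0 := by
      by_contra h2; exact heven (odd_card_of_two_ne_zero h2)
    rw [hfix2 t htF] at ht1
    rcases mul_self_eq_one_iff.1 ht1 with h1 | h1
    · exact htne (by rw [h1]; linear_combination h2)
    · exact htne h1
  have hσc' : σ c = -c := by
    have h1 : c = t * σ c := by rw [ht, div_mul_cancel₀ _ hσc]
    rw [htt] at h1
    linear_combination h1
  have hBskew : ∀ i j, c * A j i = -(c * A i j) := by
    intro i j
    have h1 := hfix2 _ (hrat i j)
    rw [map_mul, hσc', ← hsw] at h1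
    linear_combination -h1
  set C : Matrix ι ι F := c • A with hC
  have hCdet : C.det ≠ 0 := by rw [hC, Matrix.det_smul]; exact mul_ne_zero (pow_ne_zero _ hc0) hAdet
  have hskew : Cᵀ = -C := Matrix.ext fun i j => hBskew i j
  have hdiag : ∀ i, C i i = 0 := by
    intro i
    by_cases h2 : (2 : F) = 0
    · refine diag_eq_zero_of_irr h2 hι (hskew.trans (Matrix.ext fun i j => ?_))
        (S := Geo.matrixSet (N.map (MulAut.conj P⁻¹).toMonoidHom))
        (fun K hK => irr_iff.1 hN₁.1 K fun x hx v hv => hK _ ⟨x, hx, rfl⟩ v hv) ?_ i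
      · rw [Matrix.neg_apply]; linear_combination -(C i j * h2)
      · rintro _ ⟨x, hx, rfl⟩
        refine ⟨1, ?_⟩
        obtain ⟨hmem, hinv⟩ := hN₁p x hx
        rw [one_smul, hC, mul_smul_comm, smul_mul_assoc]
        congr 1
        refine Eq.trans ?_ hinv
        congr 1
        exact Matrix.ext fun k l => (hfix2 _ (hmem k l)).symm
    · have h1 : C i i = - C i i := congrFun (congrFun hskew i) i
      exact (mul_eq_zero.1 (show (2 : F) * C i i = 0 by linear_combination h1)).resolve_left h2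
  have hS := matForm_symplectic hCdet hskew hdiag
  refine Or.inr <| Or.inr ⟨F₀, P, c, ?_, hcard, hc0, by rw [← hh.apply_eq, hσc', add_neg_cancel], hstr,
    fun u hu => ?_, hP⟩
  · by_contra hodd
    exact no_symplectic (Nat.not_even_iff_odd.1 hodd) hS
  · have h1 := coordForm_eq h (Equiv.refl ι) P u u
    simp only [coordForm, Equiv.coe_refl, Function.comp_id] at h1
    rw [h1, ← hA]
    have h2 : matForm id C u u = 0 := hS.alternating u
    rw [hC, matForm_smul] at h2
    have h3 : matForm σ.toRingHom A u u = matForm id A u u := by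
      simp only [matForm, Function.id_comp]
      rw [show (σ.toRingHom : F → F) ∘ u = u from funext fun i => hfix2 _ (hu i)]
    rw [h3]
    exact (mul_eq_zero.1 h2).resolve_left hc0

end Cfsg.Agent.Aschbacher
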