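import Cfsg.Agent.Lib.Aschbacher.UnitSubfield

/-!
Tensor products and powers of unitary planes are realised over the fixed field.
-/

set_option autoImplicit false
set_option linter.unusedSectionVars false

namespace Cfsg.Agent.Aschbacher

open Matrix
open scoped MatrixGroups Kronecker

variable {F : Type*} [Field F]

theorem trace_fixed_of_det_one (σ : F ≃+* F) {X G : Matrix (Fin 2) (Fin 2) F} (hG : G.det ≠ 0)
    (hX : Xᵀ * G * X.map σ = G) (hdet : X.det = 1) : σ X.trace = X.trace := by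
  have hu : IsUnit G.det := isUnit_iff_ne_zero.2 hG
  have hXu : IsUnit Xᵀ.det := by rw [Matrix.det_transpose, hdet]; exact isUnit_one
  have h2 : G * X.map σ = (Xᵀ)⁻¹ * G := by
    conv_rhs => rw [← hX, mul_assoc Xᵀ, Matrix.nonsing_inv_mul_cancel_left _ _ hXu]
  have h3 : X.map σ = G⁻¹ * ((Xᵀ)⁻¹ * G) := by
    rw [← h2, Matrix.nonsing_inv_mul_cancel_left _ _ hu]
  calc σ X.trace = (X.map σ).trace := by simp [Matrix.trace, map_sum]
    _ = ((Xᵀ)⁻¹).trace := by rw [h3, Matrix.trace_mul_comm, mul_assoc, Matrix.mul_nonsing_inv _ hu, mul_one]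
    _ = X.trace := by
      rw [Matrix.inv_def, Matrix.det_transpose, hdet, Ring.inverse_one, one_smul, Matrix.adjugate_fin_two]
      simp [Matrix.trace_fin_two, add_comm]

theorem kronecker_trace {m k : Type} [Fintype m] [Fintype k] (A : Matrix m m F) (B : Matrix k k F) :
    (A ⊗ₖ B).trace = A.trace * B.trace := Matrix.trace_kronecker A B

/-- `SU₂` for the form with Gram matrix one. -/
def unitTwo (σ : F ≃+* F) : Subgroup (GL (Fin 2) F) :=
  preserving (glToMat (Fin 2) F) (matForm σ.toRingHom 1) ⊓ Geo.specialLinear (Fin 2) F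

theorem unitary_eq_of_mem {d : ℕ} {σ : F ≃+* F} {X : GL (Fin d) F}
    (hX : X ∈ preserving (glToMat (Fin d) F) (matForm σ.toRingHom 1)) :
    (X : Matrix (Fin d) (Fin d) F)ᵀ * (X : Matrix (Fin d) (Fin d) F).map σ = 1 := by
  ext i j
  have h1 := RefForm.mem_isometry.1 hX (Pi.single i 1) (Pi.single j 1)
  rw [matForm_conj, matForm_single_one, matForm_single_one, mul_one] at h1
  exact h1

theorem unitary_mem_of_eq {d : ℕ} {σ : F ≃+* F} {X : GL (Fin d) F}
    (hX : (X : Matrix (Fin d) (Fin d) F)ᵀ * (X : Matrix (Fin d) (Fin d) F).map σ = 1) :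
    X ∈ preserving (glToMat (Fin d) F) (matForm σ.toRingHom 1) := fun u v => by
  show matForm σ.toRingHom 1 ((X : Matrix (Fin d) (Fin d) F) *ᵥ u) ((X : Matrix (Fin d) (Fin d) F) *ᵥ v) = _
  rw [matForm_conj, mul_one]
  exact congrArg (fun M => matForm σ.toRingHom M u v) hX

theorem similitude_conj {d : ℕ} {σ : F ≃+* F} {a X : GL (Fin d) F} {μ : F}
    (ha : (a : Matrix (Fin d) (Fin d) F)ᵀ * (a : Matrix (Fin d) (Fin d) F).map σ = μ • 1) (hμ : μ ≠ 0)
    (hX : (X : Matrix (Fin d) (Fin d) F)ᵀ * (X : Matrix (Fin d) (Fin d) F).map σ = 1) :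
    ((a * X * a⁻¹ : GL (Fin d) F) : Matrix (Fin d) (Fin d) F)ᵀ *
      ((a * X * a⁻¹ : GL (Fin d) F) : Matrix (Fin d) (Fin d) F).map σ = 1 := by
  set A := (a : Matrix (Fin d) (Fin d) F)
  set A' := ((a⁻¹ : GL (Fin d) F) : Matrix (Fin d) (Fin d) F)
  have hAA : A * A' = 1 := a.mul_inv
  have hinv : A'ᵀ * A'.map σ = μ⁻¹ • 1 := by
    have hm : A.map σ * A'.map σ = 1 := by
      rw [← Matrix.map_mul, hAA, Matrix.map_one _ (map_zero σ) (map_one σ)]
    have h1 : A'ᵀ * (Aᵀ * A.map σ) * A'.map σ = 1 := by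
      rw [← mul_assoc, ← Matrix.transpose_mul, hAA, Matrix.transpose_one, one_mul, hm]
    rw [ha, mul_smul_comm, mul_one, smul_mul_assoc] at h1
    calc A'ᵀ * A'.map σ = μ⁻¹ • (μ • (A'ᵀ * A'.map σ)) := by rw [smul_smul, inv_mul_cancel₀ hμ, one_smul]
      _ = μ⁻¹ • 1 := by rw [h1]
  rw [Units.val_mul, Units.val_mul, Matrix.transpose_mul, Matrix.transpose_mul, Matrix.map_mul, Matrix.map_mul]
  calc A'ᵀ * ((X : Matrix (Fin d) (Fin d) F)ᵀ * Aᵀ) *
        (A.map σ * (X : Matrix (Fin d) (Fin d) F).map σ * A'.map σ)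
      = A'ᵀ * ((X : Matrix (Fin d) (Fin d) F)ᵀ * (Aᵀ * A.map σ) * (X : Matrix (Fin d) (Fin d) F).map σ) *
          A'.map σ := by simp only [mul_assoc]
    _ = 1 := by
      rw [ha, mul_smul_comm, mul_one, smul_mul_assoc, hX, mul_smul_comm, mul_one, smul_mul_assoc, hinv,
        smul_smul, mul_inv_cancel₀ hμ, one_smul]

variable {ι : Type} [Fintype ι] [DecidableEq ι] [Fintype F] {q : ℕ} {σ : F ≃+* F}
  {f : (ι → F) → (ι → F) → F}

theorem Herm.unitTwo_span (hh : Herm q σ f) : spanMat (unitTwo σ) = ⊤ := by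
  classical
  obtain ⟨z, hz, -, hz2⟩ := hh.exists_norm_one_gen
  set w := σ z
  have hzw : z ≠ w := fun h0 => hz2 (by rw [pow_two]; conv_lhs => arg 2; rw [h0]
                                        exact hz)
  let D : GL (Fin 2) F := ⟨!![z, 0; 0, w], !![w, 0; 0, z],
    by ext i j; fin_cases i <;> fin_cases j <;> simp [Matrix.mul_apply, Fin.sum_univ_two, hz, mul_comm w z],
    by ext i j; fin_cases i <;> fin_cases j <;> simp [Matrix.mul_apply, Fin.sum_univ_two, hz, mul_comm w z]⟩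
  let W : GL (Fin 2) F := ⟨!![0, 1; -1, 0], !![0, -1; 1, 0],
    by ext i j; fin_cases i <;> fin_cases j <;> simp [Matrix.mul_apply, Fin.sum_univ_two],
    by ext i j; fin_cases i <;> fin_cases j <;> simp [Matrix.mul_apply, Fin.sum_univ_two]⟩
  have hσw : σ w = z := hh.form.involutive z
  have hD : D ∈ unitTwo σ := ⟨unitary_mem_of_eq (by
    ext i j; fin_cases i <;> fin_cases j <;>
      simp [D, Matrix.mul_apply, Fin.sum_univ_two, hσw, hz, mul_comm w z, w]),
    Units.ext (by simp [D, Matrix.det_fin_two, hz])⟩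
  have hW : W ∈ unitTwo σ := ⟨unitary_mem_of_eq (by
    ext i j; fin_cases i <;> fin_cases j <;> simp [W, Matrix.mul_apply, Fin.sum_univ_two]),
    Units.ext (by simp [W, Matrix.det_fin_two])⟩
  have hDm : (D : Matrix (Fin 2) (Fin 2) F) ∈ algOf (unitTwo σ) := mem_algOf.2 (mem_spanMat hD)
  have hWm : (W : Matrix (Fin 2) (Fin 2) F) ∈ algOf (unitTwo σ) := mem_algOf.2 (mem_spanMat hW)
  set E : Matrix (Fin 2) (Fin 2) F := (z - w)⁻¹ • ((D : Matrix (Fin 2) (Fin 2) F) - w • 1) with hE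
  have hEe : E = !![1, 0; 0, 0] := by
    ext i j
    fin_cases i <;> fin_cases j <;> simp [hE, D, inv_mul_cancel₀ (sub_ne_zero.2 hzw)]
  have hEm : E ∈ algOf (unitTwo σ) :=
    Subalgebra.smul_mem _ (Subalgebra.sub_mem _ hDm (Subalgebra.smul_mem _ (one_mem _) _)) _
  refine eq_top_iff.2 fun M _ => mem_algOf.1 ?_
  have e : M = M 0 0 • E + M 0 1 • (E * (W : Matrix (Fin 2) (Fin 2) F)) +
      (-M 1 0) • ((W : Matrix (Fin 2) (Fin 2) F) * E) + M 1 1 • (1 - E) := by
    rw [hEe]
    ext i j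
    fin_cases i <;> fin_cases j <;> simp [W, Matrix.mul_apply, Fin.sum_univ_two]
  rw [e]
  exact add_mem (add_mem (add_mem (Subalgebra.smul_mem _ hEm _) (Subalgebra.smul_mem _ (mul_mem hEm hWm) _))
    (Subalgebra.smul_mem _ (mul_mem hWm hEm) _)) (Subalgebra.smul_mem _ (sub_mem (one_mem _) hEm) _)

/-- Two unitary planes: an absolutely irreducible subgroup of isometries with traces in the fixed field,
normalised by every isometry in the tensor stabiliser. -/
theorem Herm.two_two (hh : Herm q σ f) [Nonempty ι] {H : Subgroup (GL ι F)}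
    (hH : H ≤ preserving (glToMat ι F) f) (e : ι ≃ Fin 2 × Fin 2) (P : GL ι F)
    (hgram : coordGram f e P = 1 ⊗ₖ 1) (hle : H ≤ Geo.tensorProductSubgroup 2 2 e P) :
    ∃ N : Subgroup (GL ι F), AbsIrr N ∧ N ≤ preserving (glToMat ι F) f ∧ NormalIn H N ∧
      ∃ F₁ : Subfield F, F₁ ≠ ⊤ ∧ Geo.RealisableOver F₁ (Geo.matrixSet N) := by
  classical
  have h := RefForm.of_unitary hh.form
  let T := unitTwo σ
  let kr : T × T →* GL (Fin 2 × Fin 2) F :=
    { toFun := fun x =>
        { val := (x.1 : GL (Fin 2) F).val ⊗ₖ (x.2 : GL (Fin 2) F).val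
          inv := ((x.1 : GL (Fin 2) F)⁻¹).val ⊗ₖ ((x.2 : GL (Fin 2) F)⁻¹).val
          val_inv := by rw [← Matrix.mul_kronecker_mul, Units.mul_inv, Units.mul_inv, Matrix.one_kronecker_one]
          inv_val := by rw [← Matrix.mul_kronecker_mul, Units.inv_mul, Units.inv_mul, Matrix.one_kronecker_one] }
      map_one' := Units.ext (by simp)
      map_mul' := fun x y => Units.ext (by simp [Matrix.mul_kronecker_mul]) }
  let θ : T × T →* GL ι F := (coordGL e P).toMonoidHom.comp kr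
  have hθ : ∀ x : T × T, (θ x : Matrix ι ι F) =
      coordEquiv e P ((x.1 : GL (Fin 2) F).val ⊗ₖ (x.2 : GL (Fin 2) F).val) := fun x => rfl
  set N := θ.range with hN
  have hiso : N ≤ preserving (glToMat ι F) f := by
    rintro _ ⟨x, rfl⟩ u v
    obtain ⟨u, rfl⟩ := exists_coord_vec e P u
    obtain ⟨v, rfl⟩ := exists_coord_vec e P v
    show f ((θ x : Matrix ι ι F) *ᵥ _) ((θ x : Matrix ι ι F) *ᵥ _) = coordForm f e P u v
    rw [hθ, coordEquiv_mulVec, coordEquiv_mulVec]
    show coordForm f e P _ _ = _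
    rw [coordForm_eq h, coordForm_eq h, matForm_conj, hgram, Matrix.one_kronecker_one, mul_one]
    refine congrArg (fun M => matForm σ.toRingHom M u v) ?_
    have h3 : ((x.1 : GL (Fin 2) F).val ⊗ₖ (x.2 : GL (Fin 2) F).val).map σ.toRingHom =
        (x.1 : GL (Fin 2) F).val.map σ ⊗ₖ (x.2 : GL (Fin 2) F).val.map σ := by ext; simp
    rw [h3, ← Matrix.kroneckerMap_transpose, ← Matrix.mul_kronecker_mul, unitary_eq_of_mem x.1.2.1,
      unitary_eq_of_mem x.2.2.1, Matrix.one_kronecker_one]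
  have habs : AbsIrr N := by
    refine absIrr_of_spanMat (eq_top_iff.2 fun M _ => ?_)
    obtain ⟨M, rfl⟩ := (coordEquiv e P).surjective M
    have key : ∀ A ∈ spanMat T, ∀ B ∈ spanMat T, coordEquiv e P (A ⊗ₖ B) ∈ spanMat N := by
      intro A hA
      induction hA using Submodule.span_induction with
      | mem a ha =>
        obtain ⟨a, ha, rfl⟩ := ha
        intro B hB
        induction hB using Submodule.span_induction with
        | mem b hb =>
          obtain ⟨b, hb, rfl⟩ := hb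
          exact mem_spanMat (x := θ (⟨a, ha⟩, ⟨b, hb⟩)) ⟨_, rfl⟩
        | zero => rw [Matrix.kronecker_zero, map_zero]; exact Submodule.zero_mem _
        | add x y _ _ ihx ihy => rw [Matrix.kronecker_add, map_add]; exact Submodule.add_mem _ ihx ihy
        | smul c x _ ihx => rw [Matrix.kronecker_smul, map_smul]; exact Submodule.smul_mem _ c ihx
      | zero => intro B _; rw [Matrix.zero_kronecker, map_zero]; exact Submodule.zero_mem _
      | add x y _ _ ihx ihy =>
        intro B hB; rw [Matrix.add_kronecker, map_add]; exact Submodule.add_mem _ (ihx B hB) (ihy B hB)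
      | smul c x _ ihx =>
        intro B hB; rw [Matrix.smul_kronecker, map_smul]; exact Submodule.smul_mem _ c (ihx B hB)
    have e1 : M = ∑ x, ∑ y, M x y • (Matrix.single x.1 y.1 (1 : F) ⊗ₖ Matrix.single x.2 y.2 1) := by
      conv_lhs => rw [Matrix.matrix_eq_sum_single M]
      refine Finset.sum_congr rfl fun x _ => Finset.sum_congr rfl fun y _ => ?_
      rw [Matrix.single_kronecker_single, Matrix.smul_single, mul_one, smul_eq_mul, mul_one]
    rw [e1, map_sum]
    refine Submodule.sum_mem _ fun x _ => ?_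
    rw [map_sum]
    refine Submodule.sum_mem _ fun y _ => ?_
    rw [map_smul]
    refine Submodule.smul_mem _ _ (key _ ?_ _ ?_) <;> · rw [hh.unitTwo_span]; trivial
  refine ⟨N, habs, hiso, ?_, fixedOf σ, fixedOf_ne_top hh.form.ne_refl,
    habs.realisable_of_trace σ ?_ fun a ha => ha⟩
  · rintro g hg _ ⟨x, rfl⟩
    obtain ⟨g₀, a, b, rfl, hab⟩ := exists_of_mem_tensorProductSubgroup (hle hg)
    have h1 : (1 : Matrix (Fin 2) (Fin 2) F) ≠ 0 := one_ne_zero
    obtain ⟨⟨ν, hν⟩, ⟨μ, hμ⟩⟩ := h.tensor_similitude hgram h1 h1 (hH hg) hab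
    rw [mul_one] at hν hμ
    have hne : ∀ (c : GL (Fin 2) F) (m : F),
        (c : Matrix (Fin 2) (Fin 2) F)ᵀ * (c : Matrix (Fin 2) (Fin 2) F).map σ = m • 1 → m ≠ 0 := by
      intro c m hc h0
      rw [h0, zero_smul] at hc
      have h2 := congrArg Matrix.det hc
      have hd : (c : Matrix (Fin 2) (Fin 2) F).det ≠ 0 := (c.isUnit.map Matrix.detMonoidHom).ne_zero
      rw [Matrix.det_mul, Matrix.det_transpose, Matrix.det_zero, show
        ((c : Matrix (Fin 2) (Fin 2) F).map σ).det = σ (c : Matrix (Fin 2) (Fin 2) F).det from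
          (σ.toRingHom.map_det _).symm] at h2
      exact mul_ne_zero hd ((map_ne_zero σ).2 hd) h2
    have hsl : ∀ (c : GL (Fin 2) F) (X : GL (Fin 2) F), X ∈ Geo.specialLinear (Fin 2) F →
        c * X * c⁻¹ ∈ Geo.specialLinear (Fin 2) F := fun c X hX =>
      (MonoidHom.normal_ker (Matrix.GeneralLinearGroup.det (n := Fin 2) (R := F))).conj_mem X hX c
    refine ⟨(⟨a * x.1 * a⁻¹, unitary_mem_of_eq (similitude_conj hμ (hne a μ hμ) (unitary_eq_of_mem x.1.2.1)),
        hsl a x.1 x.1.2.2⟩,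
      ⟨b * x.2 * b⁻¹, unitary_mem_of_eq (similitude_conj hν (hne b ν hν) (unitary_eq_of_mem x.2.2.1)),
        hsl b x.2 x.2.2.2⟩), ?_⟩
    have hg0 : (g₀⁻¹ : GL (Fin 2 × Fin 2) F).val = (a⁻¹ : GL (Fin 2) F).val ⊗ₖ (b⁻¹ : GL (Fin 2) F).val := by
      refine Units.inv_eq_of_mul_eq_one_right ?_
      rw [hab, ← Matrix.mul_kronecker_mul, Units.mul_inv, Units.mul_inv, Matrix.one_kronecker_one]
    show coordGL e P (kr _) = coordGL e P g₀ * coordGL e P (kr x) * (coordGL e P g₀)⁻¹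
    rw [← map_inv, ← map_mul, ← map_mul]
    refine congrArg _ (Units.ext ?_)
    show ((a * x.1 * a⁻¹ : GL (Fin 2) F).val ⊗ₖ (b * x.2 * b⁻¹ : GL (Fin 2) F).val) = _
    simp only [Units.val_mul, hg0, hab, Matrix.mul_kronecker_mul]
    rfl
  · rintro _ ⟨x, rfl⟩
    have ht : ∀ y : T, σ (y : GL (Fin 2) F).val.trace = (y : GL (Fin 2) F).val.trace := fun y =>
      trace_fixed_of_det_one σ (G := 1) (by rw [Matrix.det_one]; exact one_ne_zero)
        (by rw [mul_one]; exact unitary_eq_of_mem y.2.1) (det_eq_one y.2.2)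
    have htr : (θ x : Matrix ι ι F).trace = (x.1 : GL (Fin 2) F).val.trace * (x.2 : GL (Fin 2) F).val.trace := by
      rw [hθ, coordEquiv_apply, Matrix.trace_units_conj, ← kronecker_trace]
      exact Equiv.sum_comp e fun i => ((x.1 : GL (Fin 2) F).val ⊗ₖ (x.2 : GL (Fin 2) F).val) i i
    rw [htr, map_mul, ht, ht]

end Cfsg.Agent.Aschbacher
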