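import Cfsg.Agent.Lib.Aschbacher.UnitaryRational

/-!
Aschbacher's theorem for `SU_n(q)`, `n` an odd prime (`unitary_prime` for `n ≥ 5`).
-/

set_option autoImplicit false

namespace Cfsg.Agent.Aschbacher

open Matrix
open scoped MatrixGroups

theorem hermForm_herm {n q : ℕ} (hn : 0 < n) {F : Type*} [Field F] [Fintype F]
    (hF : Fintype.card F = q ^ 2) :
    ∃ σ : F ≃+* F, Herm q σ (hermForm n F q) ∧
      Orthonormal (hermForm n F q) (Pi.basisFun F (Fin n)) := by
  obtain ⟨p, k, hp, hpC, hk, hq, hcard⟩ := exists_frob hF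
  haveI := hpC
  haveI : Fact p.Prime := ⟨hp⟩
  set σ : F ≃+* F := frob p k
  have hσ : ∀ a : F, σ a = a ^ q := fun a => by rw [hq]; exact frob_apply p k a
  have hne : σ ≠ RingEquiv.refl F := by
    intro h
    obtain ⟨a, ha⟩ := exists_pow_ne_self (F := F) p hk
      (by rw [hcard]; exact Nat.pow_lt_pow_right hp.one_lt (by omega))
    exact ha (by simpa [σ, frob_apply] using RingEquiv.congr_fun h a)
  have hq0 : 0 < q := by linarith [one_lt_q hF]
  refine ⟨σ, ⟨hF, hσ, ⟨hne, frob_involutive p hcard, fun x y v => ?_, fun c x v => ?_, fun v w => ?_,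
    fun v hv => ?_⟩⟩, fun i j => ?_⟩
  · simp [hermForm, add_mul, Finset.sum_add_distrib]
  · simp [hermForm, Finset.mul_sum, mul_assoc]
  · simp only [hermForm, map_sum, map_mul]
    refine Finset.sum_congr rfl fun i _ => ?_
    rw [← hσ, ← hσ, frob_involutive p hcard, mul_comm]
  · obtain ⟨i, hi⟩ := Function.ne_iff.1 hv
    exact ⟨⟨Pi.single i 1, by simpa [hermForm, Pi.single_apply, ite_mul] using pow_ne_zero q hi⟩,
      ⟨Pi.single i 1, by
        simp [hermForm, Pi.single_apply, ite_pow, zero_pow hq0.ne', mul_ite]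
        exact hi⟩⟩
  · simp [hermForm, Pi.basisFun_apply, Pi.single_apply, ite_pow, zero_pow hq0.ne', eq_comm]

section Lemmas

variable {n : ℕ} {F : Type*} [Field F] [Fintype F] {q : ℕ} {σ : F ≃+* F}
  {f : (Fin n → F) → (Fin n → F) → F}

theorem Herm.frame_orthogonal (h : Herm q σ f) (hn : n.Prime) (hodd : Odd n)
    {H A : Subgroup (GL (Fin n) F)} (hHf : H ≤ preserving (glToMat (Fin n) F) f) (hirr : Irr H)
    (hAH : A ≤ H) {b : Module.Basis (Fin n) F (Fin n → F)}
    (hdiag : ∀ x ∈ A, ∀ i, ∃ c : F, (x : Matrix (Fin n) (Fin n) F) *ᵥ b i = c • b i)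
    (hperm : ∀ g ∈ H, ∃ π : Equiv.Perm (Fin n), ∀ i, ∃ c : F,
      (g : Matrix (Fin n) (Fin n) F) *ᵥ b i = c • b (π i))
    (hinj : ∀ i j, (∀ x ∈ A, ∃ c : F, (x : Matrix (Fin n) (Fin n) F) *ᵥ b i = c • b i ∧
      (x : Matrix (Fin n) (Fin n) F) *ᵥ b j = c • b j) → i = j) :
    ∃ b' : Module.Basis (Fin n) F (Fin n → F), Orthonormal f b' ∧
      ∀ g ∈ H, ∃ π : Equiv.Perm (Fin n), ∀ i, ∃ c : F,
        (g : Matrix (Fin n) (Fin n) F) *ᵥ b' i = c • b' (π i) := by
  classical
  haveI : NeZero n := ⟨hn.ne_zero⟩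
  -- every vector has a unique partner
  have hex : ∀ i, ∃ j, f (b i) (b j) ≠ 0 := by
    intro i
    by_contra hcon
    push Not at hcon
    obtain ⟨u, hu⟩ := (h.form.nondegenerate (b i) (b.ne_zero i)).2
    let φ : (Fin n → F) →+ F :=
      { toFun := f (b i), map_zero' := h.zero_right _, map_add' := h.sesq.add_right _ }
    apply hu
    show φ u = 0
    rw [← b.sum_repr u, map_sum]
    exact Finset.sum_eq_zero fun j _ => by
      show f (b i) (b.repr u j • b j) = 0
      rw [h.sesq.smul_right, hcon, mul_zero]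
  have huniq : ∀ i j j', f (b i) (b j) ≠ 0 → f (b i) (b j') ≠ 0 → j = j' := by
    intro i j j' hj hj'
    refine hinj j j' fun x hx => ?_
    obtain ⟨a, ha⟩ := hdiag x hx i
    obtain ⟨c, hc⟩ := hdiag x hx j
    obtain ⟨c', hc'⟩ := hdiag x hx j'
    have h1 : a * σ c = 1 := by
      have := (hHf (hAH hx)) (b i) (b j)
      change f ((x : Matrix (Fin n) (Fin n) F) *ᵥ b i) ((x : Matrix (Fin n) (Fin n) F) *ᵥ b j) = _ at this
      rw [ha, hc, h.sesq.smul_left, h.sesq.smul_right, ← mul_assoc] at this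
      exact (mul_eq_right₀ hj).1 this
    have h2 : a * σ c' = 1 := by
      have := (hHf (hAH hx)) (b i) (b j')
      change f ((x : Matrix (Fin n) (Fin n) F) *ᵥ b i) ((x : Matrix (Fin n) (Fin n) F) *ᵥ b j') = _ at this
      rw [ha, hc', h.sesq.smul_left, h.sesq.smul_right, ← mul_assoc] at this
      exact (mul_eq_right₀ hj').1 this
    have : c = c' := σ.injective (mul_left_cancel₀ (left_ne_zero_of_mul_eq_one h1) (h1.trans h2.symm))
    exact ⟨c, hc, this ▸ hc'⟩
  choose τ hτ using hex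
  have hττ : Function.Involutive τ := fun i => huniq (τ i) (τ (τ i)) i (hτ (τ i))
    fun h0 => hτ i (h.eq_zero_comm h0)
  obtain ⟨i₀, hi₀⟩ : ∃ i₀, τ i₀ = i₀ :=
    Equiv.Perm.exists_fixed_point_of_prime (p := 2) (n := 1)
      (fun h2 => (Nat.not_even_iff_odd.2 hodd) (even_iff_two_dvd.2 (by simpa using h2)))
      (σ := hττ.toPerm τ) (by rw [pow_one, pow_two]; exact Equiv.ext fun i => hττ i)
  let S : Set (Fin n → F) := {v | ∃ g ∈ H, v = (g : Matrix (Fin n) (Fin n) F) *ᵥ b i₀}
  have hS : Submodule.span F S = ⊤ := by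
    refine (irr_iff.1 hirr _ ?_).resolve_left ?_
    · intro g hg w hw
      induction hw using Submodule.span_induction with
      | mem x hx =>
        obtain ⟨k, hk, rfl⟩ := hx
        exact Submodule.subset_span ⟨g * k, H.mul_mem hg hk, (mulVec_mul g k _).symm⟩
      | zero => rw [Matrix.mulVec_zero]; exact Submodule.zero_mem _
      | add x y _ _ ihx ihy => rw [Matrix.mulVec_add]; exact Submodule.add_mem _ ihx ihy
      | smul c x _ ih => rw [Matrix.mulVec_smul]; exact Submodule.smul_mem _ c ih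
    · intro h0
      have : b i₀ ∈ Submodule.span F S := Submodule.subset_span ⟨1, H.one_mem, by simp⟩
      exact b.ne_zero i₀ ((Submodule.mem_bot F).1 (h0 ▸ this))
  have hfix : ∀ i, τ i = i := by
    intro i
    by_contra hne
    -- all translates avoid the line of `b i`
    have hle : Submodule.span F S ≤ Submodule.span F (b '' {j | j ≠ i}) := by
      rw [Submodule.span_le]
      rintro _ ⟨g, hg, rfl⟩
      obtain ⟨π, hπ⟩ := hperm g hg
      obtain ⟨c, hc⟩ := hπ i₀
      rw [hc]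
      refine Submodule.smul_mem _ _ (Submodule.subset_span ⟨π i₀, fun he => hne ?_, rfl⟩)
      have h1 : f (b (π i₀)) (b (π i₀)) ≠ 0 := by
        intro h0
        have h2 := (hHf hg) (b i₀) (b i₀)
        change f ((g : Matrix (Fin n) (Fin n) F) *ᵥ b i₀) ((g : Matrix (Fin n) (Fin n) F) *ᵥ b i₀) = _
          at h2
        rw [hc, h.sesq.smul_left, h.sesq.smul_right, h0, mul_zero, mul_zero] at h2
        exact hτ i₀ (by rw [hi₀]; exact h2.symm)
      rw [he] at h1
      exact huniq i (τ i) i (hτ i) h1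
    rw [hS] at hle
    exact b.linearIndependent.notMem_span_image (by simp) (hle Submodule.mem_top : b i ∈ _)
  have horth : ∀ i j, f (b i) (b j) ≠ 0 ↔ i = j := by
    intro i j
    refine ⟨fun hne => ?_, fun he => he ▸ (by simpa [hfix] using hτ i)⟩
    rw [← hfix i]
    exact huniq i (τ i) j (hτ i) hne
  have hμ : ∀ i, ∃ μ : Fˣ, (μ : F) * σ μ * f (b i) (b i) = 1 := by
    intro i
    have h0 : f (b i) (b i) ≠ 0 := (horth i i).2 rfl
    obtain ⟨a, ha⟩ := h.exists_norm (inv_ne_zero h0) (by rw [map_inv₀, ← h.form.herm])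
    have ha0 : a ≠ 0 := by rintro rfl; rw [zero_mul] at ha; exact inv_ne_zero h0 ha.symm
    exact ⟨Units.mk0 a ha0, by rw [Units.val_mk0, ha, inv_mul_cancel₀ h0]⟩
  choose μ hμ using hμ
  refine ⟨b.unitsSMul μ, fun i j => ?_, fun g hg => ?_⟩
  · rw [Module.Basis.unitsSMul_apply, Module.Basis.unitsSMul_apply, Units.smul_def, Units.smul_def,
      h.sesq.smul_left, h.sesq.smul_right]
    by_cases hij : i = j
    · subst hij
      rw [if_pos rfl, ← mul_assoc]
      exact hμ i
    · rw [if_neg hij, not_ne_iff.1 (mt (horth i j).1 hij), mul_zero, mul_zero]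
  · obtain ⟨π, hπ⟩ := hperm g hg
    refine ⟨π, fun i => ?_⟩
    obtain ⟨c, hc⟩ := hπ i
    refine ⟨(μ i : F) * c * ((μ (π i) : F))⁻¹, ?_⟩
    rw [Module.Basis.unitsSMul_apply, Module.Basis.unitsSMul_apply, Units.smul_def, Units.smul_def,
      Matrix.mulVec_smul, hc, smul_smul, smul_smul, mul_assoc, inv_mul_cancel₀ (μ (π i)).ne_zero,
      mul_one]

theorem Herm.lines_isNondegenerate (h : Herm q σ f) (hn : 2 ≤ n)
    {b : Module.Basis (Fin n) F (Fin n → F)} (hb : Orthonormal f b) :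
    Geo.IsNondegenerateMDecomposition f 1 (lines b) where
  decomp := lines_isMDecomposition hn b
  nondegenerate i := by
    intro w hw hw0
    obtain ⟨c, rfl⟩ := Submodule.mem_span_singleton.1 hw
    have hc : c ≠ 0 := by rintro rfl; simp at hw0
    have h1 : f (b i) (b i) = 1 := (hb i i).trans (if_pos rfl)
    refine ⟨⟨b i, Submodule.mem_span_singleton_self _, ?_⟩,
      ⟨b i, Submodule.mem_span_singleton_self _, ?_⟩⟩
    · rw [h.sesq.smul_right, h1, mul_one]; simpa using hc
    · rw [h.sesq.smul_left, h1, mul_one]; exact hc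
  orthogonal i j hij := by
    intro u hu v hv
    obtain ⟨c, rfl⟩ := Submodule.mem_span_singleton.1 hu
    obtain ⟨d, rfl⟩ := Submodule.mem_span_singleton.1 hv
    rw [h.sesq.smul_left, h.sesq.smul_right, (hb i j).trans (if_neg hij), mul_zero, mul_zero]

/-- The centralising field of a group of isometries is closed under adjoints. -/
theorem Herm.adjointClosed {ι : Type} [Fintype ι] [DecidableEq ι] {f : (ι → F) → (ι → F) → F}
    (h : Herm q σ f) {b : Module.Basis ι F (ι → F)} (hb : Orthonormal f b)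
    {A : Subgroup (GL ι F)} (hA : A ≤ preserving (glToMat ι F) f)
    {K : Subalgebra F (Matrix ι ι F)} {r : ℕ} (hK : Geo.IsFieldSubalgebra r K)
    (hAK : ∀ x ∈ A, (x : Matrix ι ι F) ∈ K)
    (hcent : ∀ M : Matrix ι ι F, (∀ x ∈ A, (x : Matrix ι ι F) * M = M * x) → M ∈ K) :
    Geo.IsAdjointClosedFor f K := by
  intro k hk
  let L : (ι → F) →ₗ[F] (ι → F) :=
    { toFun := fun v => ∑ i, σ (f (k *ᵥ b i) v) • b i
      map_add' := fun x y => by
        simp only [h.sesq.add_right, map_add, add_smul, Finset.sum_add_distrib]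
      map_smul' := fun c x => by
        simp only [h.sesq.smul_right, map_mul, RingHom.id_apply, Finset.smul_sum, smul_smul]
        refine Finset.sum_congr rfl fun i _ => ?_
        show (σ (σ c) * _) • _ = _
        rw [h.form.involutive] }
  have hL : ∀ u v, f (k *ᵥ u) v = f u (L v) := by
    intro u v
    let φ : (ι → F) →+ F :=
      { toFun := fun w => f u w, map_zero' := h.zero_right u, map_add' := h.sesq.add_right u }
    let ψ : (ι → F) →ₗ[F] F :=
      { toFun := fun w => f (k *ᵥ w) v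
        map_add' := fun x y => by rw [Matrix.mulVec_add, h.sesq.add_left]
        map_smul' := fun c x => by rw [Matrix.mulVec_smul, h.sesq.smul_left]; rfl }
    show ψ u = φ (L v)
    simp only [L, LinearMap.coe_mk, AddHom.coe_mk, map_sum]
    conv_lhs => rw [← b.sum_repr u, map_sum]
    refine Finset.sum_congr rfl fun i _ => ?_
    show _ = f u (σ (f (k *ᵥ b i) v) • b i)
    rw [h.sesq.smul_right, h.repr_eq hb, map_smul, smul_eq_mul]
    show _ * f (k *ᵥ b i) v = σ (σ _) * _
    rw [h.form.involutive, mul_comm]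
  refine ⟨LinearMap.toMatrix' L, hcent _ fun x hx => ?_, fun u v => by
    rw [LinearMap.toMatrix'_mulVec]; exact hL u v⟩
  refine Matrix.ext_of_mulVec_single fun i => ?_
  simp only [← Matrix.mulVec_mulVec, LinearMap.toMatrix'_mulVec]
  generalize (Pi.single i (1 : F) : ι → F) = v
  by_contra hne
  obtain ⟨u, hu⟩ := (h.form.nondegenerate _ (sub_ne_zero.2 hne)).1
  apply hu
  obtain ⟨u, rfl⟩ : ∃ w, (x : Matrix ι ι F) *ᵥ w = u := ⟨_, mulVec_inv x u⟩
  rw [sub_eq_add_neg, ← neg_one_smul F (L _), h.sesq.add_right, h.sesq.smul_right, ← hL]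
  have hkx : k *ᵥ ((x : Matrix ι ι F) *ᵥ u) = (x : Matrix ι ι F) *ᵥ (k *ᵥ u) := by
    rw [Matrix.mulVec_mulVec, Matrix.mulVec_mulVec, hK.comm _ hk _ (hAK x hx)]
  have hxf : ∀ u v, f ((x : Matrix ι ι F) *ᵥ u) ((x : Matrix ι ι F) *ᵥ v) = f u v := hA hx
  rw [hkx, hxf, hxf, hL]
  simp

end Lemmas

theorem unitary_prime_general {n : ℕ} (hn : n.Prime) (hn3 : 3 ≤ n) {F : Type*} [Field F] [Fintype F] (q : ℕ)
    (hF : Fintype.card F = q ^ 2) (H : Subgroup (GL (Fin n) F))
    (hH : Geo.IsMaximalIn (GU n F q ⊓ Geo.specialLinear (Fin n) F) H) (hframe2 : q = 2 → 4 ≤ n)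
    (hnorm : ∀ (N : Subgroup (GL (Fin n) F)) (ω : F), SymplecticData N ω → AbsIrr N →
      ¬ unitarySL (hermForm n F q) ≤ Geo.subgroupNormalizer N) :
    let I := GU n F q ⊓ Geo.specialLinear (Fin n) F
    let f := hermForm n F q
    (∃ W : Submodule F (Fin n → F), W ≠ ⊥ ∧ Geo.IsTotallySingularFor f W ∧
        H = Geo.subspaceStabilizer W ⊓ I) ∨
    (∃ W : Submodule F (Fin n → F), W ≠ ⊥ ∧ Geo.IsNondegenerateOn f W ∧
        2 * Module.finrank F W < n ∧ H = Geo.subspaceStabilizer W ⊓ I) ∨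
    (∃ D : Fin n → Submodule F (Fin n → F), Geo.IsNondegenerateMDecomposition f 1 D ∧
        H = Geo.decompositionStabilizer D ⊓ I) ∨
    (∃ K : Subalgebra F (Matrix (Fin n) (Fin n) F), Geo.IsFieldSubalgebra n K ∧
        Geo.IsAdjointClosedFor f K ∧ (∃ x ∈ H, (x : Matrix (Fin n) (Fin n) F) ∈ K ∧
          x ∉ Geo.scalars (Fin n) F) ∧ H = Geo.subalgebraNormalizer K ⊓ I) ∨
    (∃ (F₀ : Subfield F) (r : ℕ) (P : GL (Fin n) F), r.Prime ∧ Odd r ∧
        Fintype.card F = Nat.card F₀ ^ r ∧ Geo.IsFormRationalStructure f F₀ 1 P ∧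
        H = Geo.subfieldSubgroup F₀ P ⊓ I) ∨
    (Odd q ∧ ∃ (F₀ : Subfield F) (P : GL (Fin n) F), Fintype.card F = Nat.card F₀ ^ 2 ∧
        Geo.IsFormRationalStructure f F₀ 1 P ∧ H = Geo.subfieldSubgroup F₀ P ⊓ I) ∨
    (∃ (p k : ℕ) (R : Subgroup (GL (Fin n) F)), p.Prime ∧ CharP F p ∧ q = p ^ k ∧ 0 < k ∧
        2 * k ∣ n - 1 ∧ n ∣ p ^ k + 1 ∧ (∀ d, 0 < d → d < 2 * k → ¬ n ∣ p ^ d - 1) ∧
        Geo.IsSymplecticTypeGroup n R ∧
        Geo.ActsAbsolutelyIrreducibly (Geo.matrixSet R) ∧ R ≤ GU n F q ∧ Nat.card R = n ^ 3 ∧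
        Nat.card (Subgroup.center R) = n ∧ R ≤ H ∧ H = Geo.subgroupNormalizer R ⊓ I) ∨
    Geo.InUnitaryResidualClass H := by
  classical
  intro I f
  haveI : NeZero n := ⟨hn.ne_zero⟩
  obtain ⟨σ, h', hb'⟩ := hermForm_herm (n := n) hn.pos hF
  have h : Herm q σ f := h'
  have hb : Orthonormal f (Pi.basisFun F (Fin n)) := hb'
  have hodd : Odd n := hn.odd_of_ne_two (by omega)
  have hp : (Fintype.card (Fin n)).Prime := by rwa [Fintype.card_fin]
  have hodd' : Odd (Fintype.card (Fin n)) := by rwa [Fintype.card_fin]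
  have hι : 3 ≤ Fintype.card (Fin n) := by rw [Fintype.card_fin]; omega
  have hHI : H ≤ I := hH.1.le
  have hHf : H ≤ preserving (glToMat (Fin n) F) f := hHI.trans inf_le_left
  have hSL : H ≤ Geo.specialLinear (Fin n) F := hHI.trans inf_le_right
  have hI : unitarySL f = I := rfl
  have fix : ∀ {P : Subgroup (GL (Fin n) F)}, P ≤ H → Geo.FixesForm (Geo.matrixSet P) f := by
    rintro P hP s ⟨x, hx, rfl⟩ u v
    exact hHf (hP hx) u v
  have hmax : ∀ {M : Subgroup (GL (Fin n) F)}, H ≤ M → ¬ unitarySL f ≤ M → H = M ⊓ I :=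
    fun hle hnot => eq_inf_of_maximal hH hle hnot
  -- subfield case
  have hsub : ∀ {P : Subgroup (GL (Fin n) F)} (F₁ : Subfield F), P ≤ H → AbsIrr P → NormalIn H P →
      F₁ ≠ ⊤ → Geo.RealisableOver F₁ (Geo.matrixSet P) →
      (∃ (F₀ : Subfield F) (r : ℕ) (P : GL (Fin n) F), r.Prime ∧ Odd r ∧
        Fintype.card F = Nat.card F₀ ^ r ∧ Geo.IsFormRationalStructure f F₀ 1 P ∧
        H = Geo.subfieldSubgroup F₀ P ⊓ I) ∨
      (Odd q ∧ ∃ (F₀ : Subfield F) (P : GL (Fin n) F), Fintype.card F = Nat.card F₀ ^ 2 ∧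
        Geo.IsFormRationalStructure f F₀ 1 P ∧ H = Geo.subfieldSubgroup F₀ P ⊓ I) := by
    rintro P F₁ hPH hPa hPn hF₁ ⟨B, hB⟩
    obtain ⟨F₀, r, hle, hr, hcard⟩ := exists_prime_index hF₁
    obtain ⟨Q, hQle, hQform, hQodd⟩ := h.exists_formRational hodd' (by omega) hPa (fix hPH) hPn hr hcard
      (fun s hs i j => hle (hB s hs i j))
    have heq := hmax hQle (h.specialUnitary_not_le_subfieldSubgroup hb hι hr hcard Q)
    by_cases hr2 : r = 2
    · subst hr2
      exact Or.inr ⟨hQodd rfl, F₀, Q, hcard, hQform, heq⟩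
    · exact Or.inl ⟨F₀, r, Q, hr, hr.odd_of_ne_two hr2, hcard, hQform, heq⟩
  by_cases hirr : Irr H
  swap
  · -- reducible
    rw [irr_iff] at hirr
    push Not at hirr
    obtain ⟨W, hW, hW0, hW1⟩ := hirr
    let V : Submodule F (Fin n → F) :=
      { carrier := {u | ∀ w ∈ W, f u w = 0}
        zero_mem' := fun w _ => h.zero_left w
        add_mem' := fun {u v} hu hv w hw => by rw [h.sesq.add_left, hu w hw, hv w hw, add_zero]
        smul_mem' := fun r u hu w hw => by rw [h.sesq.smul_left, hu w hw, mul_zero] }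
    have hV : Invariant H V := by
      intro g hg u hu w hw
      have h1 : f ((g : Matrix (Fin n) (Fin n) F) *ᵥ u)
          ((g : Matrix (Fin n) (Fin n) F) *ᵥ (((g⁻¹ : GL (Fin n) F) : Matrix (Fin n) (Fin n) F) *ᵥ w)) =
          f u (((g⁻¹ : GL (Fin n) F) : Matrix (Fin n) (Fin n) F) *ᵥ w) := hHf hg _ _
      rw [mulVec_inv] at h1
      rw [h1]
      exact hu _ (hW g⁻¹ (H.inv_mem hg) w hw)
    by_cases hWV : W ⊓ V = ⊥
    · -- non-degenerate
      have hWnd : Geo.IsNondegenerateOn f W := by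
        intro w hw hw0
        have : ∃ x ∈ W, f w x ≠ 0 := by
          by_contra hcon
          push Not at hcon
          have : w ∈ W ⊓ V := ⟨hw, hcon⟩
          rw [hWV, Submodule.mem_bot] at this
          exact hw0 this
        obtain ⟨x, hx, hne⟩ := this
        exact ⟨⟨x, hx, fun h0 => hne (h.eq_zero_comm h0)⟩, x, hx, hne⟩
      let bW := Module.finBasis F W
      let L : (Fin n → F) →ₗ[F] (Fin (Module.finrank F W) → F) :=
        { toFun := fun u i => f u (bW i)
          map_add' := fun x y => funext fun i => h.sesq.add_left x y _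
          map_smul' := fun c x => funext fun i => h.sesq.smul_left c x _ }
      have hker : LinearMap.ker L ≤ V := by
        intro u hu w hw
        let φ : W →+ F :=
          { toFun := fun w => f u w, map_zero' := h.zero_right u
            map_add' := fun a b => h.sesq.add_right u a b }
        show φ ⟨w, hw⟩ = 0
        rw [← bW.sum_repr ⟨w, hw⟩, map_sum]
        refine Finset.sum_eq_zero fun i _ => ?_
        show f u ((bW.repr ⟨w, hw⟩ i) • (bW i : Fin n → F)) = 0
        rw [h.sesq.smul_right, show f u (bW i) = 0 from congrFun (show L u = 0 from hu) i, mul_zero]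
      have hdim : n ≤ Module.finrank F W + Module.finrank F V := by
        have h1 := LinearMap.finrank_range_add_finrank_ker L
        have h2 := Submodule.finrank_le (LinearMap.range L)
        have h3 := Submodule.finrank_mono hker
        simp [Module.finrank_fintype_fun_eq_card] at h1 h2
        omega
      have hsum : Module.finrank F W + Module.finrank F V = n := by
        have h1 := Submodule.finrank_sup_add_finrank_inf_eq W V
        have h2 := Submodule.finrank_le (W ⊔ V)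
        rw [hWV, finrank_bot, add_zero] at h1
        rw [Module.finrank_fintype_fun_eq_card, Fintype.card_fin] at h2
        omega
      by_cases hsmall : 2 * Module.finrank F W < n
      · exact Or.inr (Or.inl ⟨W, hW0, hWnd, hsmall,
          hmax (fun g hg => mem_subspaceStabilizer (hW g hg))
            (h.specialUnitary_not_le_subspaceStabilizer hb hι hW0 hW1)⟩)
      have hV0 : V ≠ ⊥ := by
        intro h0
        rw [h0, finrank_bot, add_zero] at hsum
        exact hW1 (Submodule.eq_top_of_finrank_eq (by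
          rw [Module.finrank_fintype_fun_eq_card, Fintype.card_fin, hsum]))
      have hV1 : V ≠ ⊤ := by
        intro h0
        rw [h0, inf_top_eq] at hWV
        exact hW0 hWV
      have hsup : W ⊔ V = ⊤ := Submodule.eq_top_of_finrank_eq (by
        have h1 := Submodule.finrank_sup_add_finrank_inf_eq W V
        rw [hWV, finrank_bot, add_zero, hsum] at h1
        rw [h1, Module.finrank_fintype_fun_eq_card, Fintype.card_fin])
      have hVnd : Geo.IsNondegenerateOn f V := by
        intro v hv hv0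
        have : ∃ x ∈ V, f v x ≠ 0 := by
          by_contra hcon
          push Not at hcon
          obtain ⟨u, hu⟩ := (h.form.nondegenerate v hv0).2
          obtain ⟨a, ha, c, hc, rfl⟩ := Submodule.mem_sup.1 (hsup.ge (Submodule.mem_top : u ∈ ⊤))
          exact hu (by rw [h.sesq.add_right, hv a ha, hcon c hc, add_zero])
        obtain ⟨x, hx, hne⟩ := this
        exact ⟨⟨x, hx, fun h0 => hne (h.eq_zero_comm h0)⟩, x, hx, hne⟩
      refine Or.inr (Or.inl ⟨V, hV0, hVnd, ?_, hmax (fun g hg => mem_subspaceStabilizer (hV g hg))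
        (h.specialUnitary_not_le_subspaceStabilizer hb hι hV0 hV1)⟩)
      obtain ⟨m, hm⟩ := hodd
      omega
    · refine Or.inl ⟨W ⊓ V, hWV, fun u hu v hv => hu.2 v hv.1,
        hmax (fun g hg => mem_subspaceStabilizer ((hW.inf hV) g hg))
          (h.specialUnitary_not_le_subspaceStabilizer hb hι hWV ?_)⟩
      exact fun h0 => hW1 (top_le_iff.1 (h0 ▸ inf_le_left))
  right; right
  rcases structure_theorem hp hodd' hSL hirr with
    ⟨A, hAH, hAn, hAs, hframe | hfield⟩ | ⟨N, ω, hNH, hNn, hNa, hN⟩ | ⟨P, hP⟩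
  · -- monomial
    obtain ⟨b₀, hdiag, hperm, hinj⟩ := hframe
    obtain ⟨b', hb', hperm'⟩ := h.frame_orthogonal hn hodd hHf hirr hAH hdiag hperm hinj
    refine Or.inl ⟨lines b', h.lines_isNondegenerate hn.two_le hb',
      hmax (fun g hg => mem_decompositionStabilizer_lines b' (hperm' g hg)) fun hle => ?_⟩
    refine h.specialUnitary_not_le_frameStabilizer hb' hι (fun hq => by rw [Fintype.card_fin]; exact hframe2 hq) fun g hg i => ?_
    obtain ⟨π, hπ⟩ := hle hg
    have h1 : (g : Matrix (Fin n) (Fin n) F) *ᵥ b' i ∈ lines b' (π i) := by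
      rw [← hπ i]
      exact Submodule.mem_map.2 ⟨b' i, Submodule.mem_span_singleton_self _, Matrix.toLin'_apply _ _⟩
    obtain ⟨c, hc⟩ := Submodule.mem_span_singleton.1 h1
    exact ⟨π i, c, hc.symm⟩
  · -- field
    obtain ⟨K, hK, hHK, hAK, hcent⟩ := hfield
    rw [Fintype.card_fin] at hK
    obtain ⟨x, hxA, hxs⟩ := SetLike.not_le_iff_exists.1 hAs
    exact Or.inr (Or.inl ⟨K, hK, h.adjointClosed hb (hAH.trans hHf) hK hAK hcent,
      ⟨x, hAH hxA, hAK x hxA, hxs⟩,
      hmax hHK (h.specialUnitary_not_le_subalgebraNormalizer hb hι hn.two_le hK)⟩)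
  · -- symplectic type
    rcases hN.field_cases with ⟨F₁, hF₁, hreal⟩ | hgen
    · rcases hsub F₁ hNH hNa hNn hF₁ hreal with h' | h'
      · exact Or.inr (Or.inr (Or.inl h'))
      · exact Or.inr (Or.inr (Or.inr (Or.inl h')))
    obtain ⟨p, k, hpp, hpC, hk, hq, hcard⟩ := exists_frob hF
    haveI := hpC
    haveI : Fact p.Prime := ⟨hpp⟩
    obtain ⟨hdvd, hmin, hnp⟩ := hN.minimal hcard hgen
    rw [Fintype.card_fin] at hdvd hmin hnp
    have hed := minimal_dvd p hn hnp (by omega) hdvd hmin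
    -- a non-trivial scalar in `N` has norm one
    have hnq : n ∣ p ^ k + 1 := by
      haveI : Fact n.Prime := ⟨hn⟩
      have hcc : Nat.card (Subgroup.center N) = n := by simpa using hN.card_center
      haveI : Nontrivial (Subgroup.center N) :=
        Finite.one_lt_card_iff_nontrivial.1 (hcc.symm ▸ hn.one_lt)
      obtain ⟨⟨z, hzc⟩, hz1⟩ := exists_ne (1 : Subgroup.center N)
      obtain ⟨c, hc⟩ := (Geo.mem_scalars_iff (z : GL (Fin n) F)).1 (hNa.scalar_of_comm fun x hx =>
        (congrArg Subtype.val (Subgroup.mem_center_iff.1 hzc ⟨x, hx⟩)).symm)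
      have hcn : (c : F) ^ n = 1 := by
        have h1 := det_eq_one (hSL (hNH z.2))
        rwa [hc, Matrix.det_smul, Matrix.det_one, mul_one, Fintype.card_fin] at h1
      have hc1 : (c : F) ≠ 1 := fun h1 => hz1 (Subtype.ext (Subtype.ext (Units.ext (by
        rw [hc, h1, one_smul]; rfl))))
      have hnorm : (c : F) ^ (p ^ k + 1) = 1 := by
        have h1 : f (((z : GL (Fin n) F) : Matrix (Fin n) (Fin n) F) *ᵥ Pi.basisFun F (Fin n) 0)
            (((z : GL (Fin n) F) : Matrix (Fin n) (Fin n) F) *ᵥ Pi.basisFun F (Fin n) 0) =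
            f (Pi.basisFun F (Fin n) 0) (Pi.basisFun F (Fin n) 0) := hHf (hNH z.2) _ _
        rw [hc, Matrix.smul_mulVec, Matrix.one_mulVec, h.sesq.smul_left, h.sesq.smul_right,
          (hb 0 0).trans (if_pos rfl), mul_one] at h1
        rw [pow_succ', ← hq, ← h.apply_eq]
        exact h1
      exact orderOf_eq_prime hcn hc1 ▸ orderOf_dvd_of_pow_eq_one hnorm
    refine Or.inr (Or.inr (Or.inr (Or.inr (Or.inl ⟨p, k, N, hpp, hpC, hq, hk, hed, hnq, hmin,
      by simpa using hN.symplecticType, hNa, hNH.trans hHf, by simpa using hN.card_eq,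
      by simpa using hN.card_center, hNH,
      hmax (fun g hg => ?_) (hnorm N ω hN hNa)⟩))))
    show g ∈ Subgroup.normalizer (N : Set (GL (Fin n) F))
    rw [Subgroup.mem_normalizer_iff]
    exact fun x => ⟨fun hx => hNn g hg x hx, fun hx => by
      simpa [mul_assoc] using hNn g⁻¹ (H.inv_mem hg) _ hx⟩
  · -- almost simple
    by_cases hF₁ : ∃ F₁ : Subfield F, F₁ ≠ ⊤ ∧ Geo.RealisableOver F₁ (Geo.matrixSet P)
    · obtain ⟨F₁, h1, h2⟩ := hF₁
      rcases hsub F₁ hP.le hP.absIrred hP.normal h1 h2 with h' | h'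
      · exact Or.inr (Or.inr (Or.inl h'))
      · exact Or.inr (Or.inr (Or.inr (Or.inl h')))
    push Not at hF₁
    refine Or.inr (Or.inr (Or.inr (Or.inr (Or.inr ⟨P, hP.isResidualCore hF₁, ?_,
      fun ⟨g, hg, _⟩ => no_symplectic hodd' hg⟩))))
    rintro ⟨Q, hQ, hQP⟩
    refine hF₁ (fixedField σ) h.fixedField_ne_top (h.realisable_of_bilinear hP.absIrred
      (fix hP.le) hQ.polar_bilinear hQ.nondegenerate fun s hs u v => ?_)
    simp only [QuadraticMap.polar, ← Matrix.mulVec_add, hQP s hs]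

theorem unitary_prime {n : ℕ} (hn : n.Prime) (hn5 : 5 ≤ n) {F : Type*} [Field F] [Fintype F] (q : ℕ)
    (hF : Fintype.card F = q ^ 2) (H : Subgroup (GL (Fin n) F))
    (hH : Geo.IsMaximalIn (GU n F q ⊓ Geo.specialLinear (Fin n) F) H) :
    let I := GU n F q ⊓ Geo.specialLinear (Fin n) F
    let f := hermForm n F q
    (∃ W : Submodule F (Fin n → F), W ≠ ⊥ ∧ Geo.IsTotallySingularFor f W ∧
        H = Geo.subspaceStabilizer W ⊓ I) ∨
    (∃ W : Submodule F (Fin n → F), W ≠ ⊥ ∧ Geo.IsNondegenerateOn f W ∧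
        2 * Module.finrank F W < n ∧ H = Geo.subspaceStabilizer W ⊓ I) ∨
    (∃ D : Fin n → Submodule F (Fin n → F), Geo.IsNondegenerateMDecomposition f 1 D ∧
        H = Geo.decompositionStabilizer D ⊓ I) ∨
    (∃ K : Subalgebra F (Matrix (Fin n) (Fin n) F), Geo.IsFieldSubalgebra n K ∧
        Geo.IsAdjointClosedFor f K ∧ (∃ x ∈ H, (x : Matrix (Fin n) (Fin n) F) ∈ K ∧
          x ∉ Geo.scalars (Fin n) F) ∧ H = Geo.subalgebraNormalizer K ⊓ I) ∨
    (∃ (F₀ : Subfield F) (r : ℕ) (P : GL (Fin n) F), r.Prime ∧ Odd r ∧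
        Fintype.card F = Nat.card F₀ ^ r ∧ Geo.IsFormRationalStructure f F₀ 1 P ∧
        H = Geo.subfieldSubgroup F₀ P ⊓ I) ∨
    (Odd q ∧ ∃ (F₀ : Subfield F) (P : GL (Fin n) F), Fintype.card F = Nat.card F₀ ^ 2 ∧
        Geo.IsFormRationalStructure f F₀ 1 P ∧ H = Geo.subfieldSubgroup F₀ P ⊓ I) ∨
    (∃ (p k : ℕ) (R : Subgroup (GL (Fin n) F)), p.Prime ∧ CharP F p ∧ q = p ^ k ∧ 0 < k ∧
        2 * k ∣ n - 1 ∧ n ∣ p ^ k + 1 ∧ (∀ d, 0 < d → d < 2 * k → ¬ n ∣ p ^ d - 1) ∧
        Geo.IsSymplecticTypeGroup n R ∧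
        Geo.ActsAbsolutelyIrreducibly (Geo.matrixSet R) ∧ R ≤ GU n F q ∧ Nat.card R = n ^ 3 ∧
        Nat.card (Subgroup.center R) = n ∧ H = Geo.subgroupNormalizer R ⊓ I) ∨
    Geo.InUnitaryResidualClass H := by
  intro I f
  haveI : NeZero n := ⟨hn.ne_zero⟩
  obtain ⟨σ, h', hb'⟩ := hermForm_herm (n := n) hn.pos hF
  have h : Herm q σ f := h'
  rcases unitary_prime_general hn (by omega) q hF H hH (fun _ => by omega)
      (fun N ω hN hNa => h.not_normalized hb' (by rw [Fintype.card_fin]; exact hn5) hN hNa) with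
    h1 | h1 | h1 | h1 | h1 | h1 |
    ⟨p, k, R, hp, hpC, hq, hk, hed, hnq, hmin, hR, hRa, hRU, hc, hz, -, he⟩ | h1
  · exact Or.inl h1
  · exact Or.inr (Or.inl h1)
  · exact Or.inr (Or.inr (Or.inl h1))
  · exact Or.inr (Or.inr (Or.inr (Or.inl h1)))
  · exact Or.inr (Or.inr (Or.inr (Or.inr (Or.inl h1))))
  · exact Or.inr (Or.inr (Or.inr (Or.inr (Or.inr (Or.inl h1)))))
  · exact Or.inr (Or.inr (Or.inr (Or.inr (Or.inr (Or.inr (Or.inl
      ⟨p, k, R, hp, hpC, hq, hk, hed, hnq, hmin, hR, hRa, hRU, hc, hz, he⟩))))))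
  · exact Or.inr (Or.inr (Or.inr (Or.inr (Or.inr (Or.inr (Or.inr h1))))))

end Cfsg.Agent.Aschbacher
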